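import Cfsg.Statements.S0089
import Cfsg.Agent.H31.Avg
import Cfsg.Agent.Transfer.Frobenius

set_option autoImplicit false
open Cfsg

namespace Cfsg.Agent.S0089


/-- When all Sylow subgroups are abelian, the derived subgroup meets the centre trivially. -/
theorem result {G : Type*} [Group G] [Finite G] (h : ∀ p : ℕ, p.Prime → ∀ P : Sylow p G, IsMulCommutative P) : commutator G ⊓ Subgroup.center G = ⊥ := by
  rw [eq_bot_iff]
  intro z hz
  by_contra hz1
  have hz1' : z ≠ 1 := fun h => hz1 (by rw [h]; exact Subgroup.one_mem _)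
  have ho : orderOf z ≠ 1 := fun h => hz1' (orderOf_eq_one_iff.1 h)
  obtain ⟨p, hp, hpd⟩ := Nat.exists_prime_and_dvd ho
  haveI : Fact p.Prime := ⟨hp⟩
  set w := z ^ (orderOf z / p) with hw
  have how : orderOf w = p := orderOf_pow_orderOf_div (orderOf_pos z).ne' hpd
  have hwmem : w ∈ commutator G ⊓ Subgroup.center G := Subgroup.pow_mem _ hz _
  have hpg : IsPGroup p (Subgroup.zpowers w) := by
    apply IsPGroup.of_card (n := 1)
    rw [Nat.card_zpowers, pow_one, how]
  obtain ⟨P, hP⟩ := hpg.exists_le_sylow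
  have hbot := Cfsg.Agent.H31.abelian_hall_inf_commutator_inf_center (P : Subgroup G) (h p hp P)
    P.card_coprime_index
  have : w ∈ (P : Subgroup G) ⊓ commutator G ⊓ Subgroup.center G :=
    ⟨⟨hP (Subgroup.mem_zpowers w), hwmem.1⟩, hwmem.2⟩
  rw [hbot, Subgroup.mem_bot] at this
  rw [this, orderOf_one] at how
  exact hp.one_lt.ne how

end Cfsg.Agent.S0089
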