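import Cfsg.Statements.S1230
import Cfsg.Agent.H21.ElemTrans
import Cfsg.Agent.H21.RecogField
import Cfsg.Agent.H21.RecogSL2

set_option autoImplicit false
open Cfsg

namespace Cfsg.Agent.S1230

/-- Let G be a finite group with a Sylow 2-subgroup T that is neither cyclic nor normal, such that the centralizer of every involution is an elementary abelian 2-group. Then G ≅ PSL(2,F) for a finite field F with |F| = |T|. -/
theorem result {G : Type*} [Group G] [Finite G] (T : Sylow 2 G) (hnc : ¬ IsCyclic (T : Subgroup G)) (hnn : ¬ (T : Subgroup G).Normal) (hC : ∀ t : G, orderOf t = 2 → IsMulCommutative (Subgroup.centralizer ({t} : Set G)) ∧ ∀ c ∈ Subgroup.centralizer ({t} : Set G), c ^ 2 = 1) : ∃ (F : Type) (_ : Field F) (_ : Fintype F), Fintype.card F = Nat.card T ∧ Nonempty (G ≃* Matrix.ProjectiveSpecialLinearGroup (Fin 2) F) := by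
  classical
  have h : H21.ElemSetup T := ⟨hC, hnc, hnn⟩
  obtain ⟨g, hg⟩ : ∃ g : G, g ∉ H21.Hn T := by
    by_contra hc
    push Not at hc
    exact h.strEmb.1 ((Subgroup.eq_top_iff' _).2 hc)
  obtain ⟨u, hu, huH, -⟩ := h.exists_swap_involution (StrEmb.mk_one_ne_mk hg).symm
  obtain ⟨t₁, ht₁, ht₁1⟩ := h.exists_T_ne_one
  obtain ⟨F, fF, fF', τ, δ, hadd, hinj, hT, hTs, hD, hDs, hconj⟩ :=
    H21.exists_field_of_regular (T : Subgroup G) (H21.Dn T u)
    (fun a ha b hb => h.D_comm hu huH ha hb)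
    (fun d hd t ht => H21.ElemSetup.conj_mem_T (Subgroup.mem_inf.1 hd).1 ht) t₁ ht₁ ht₁1
    (fun t ht ht1 => h.exists_conj huH ht₁ ht₁1 ht ht1)
    (fun t ht ht1 d hd hdt => h.eq_one_of_commute huH ht ht1 hd (mul_inv_eq_iff_eq_mul.1 hdt))
  have hτ0 : τ 0 = 1 := by
    have := hadd 0 0
    rw [add_zero] at this
    exact (mul_eq_left.1 this.symm)
  haveI : CharP F 2 := by
    apply CharTwo.of_one_ne_zero_of_two_eq_zero one_ne_zero
    apply hinj
    rw [hτ0, ← one_add_one_eq_two, hadd]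
    have := h.cent.sq T (hT 1)
    rwa [pow_two] at this
  have hcard : Fintype.card F = Nat.card T := by
    rw [← Nat.card_eq_fintype_card]
    exact Nat.card_congr (Equiv.ofBijective (fun a => (⟨τ a, hT a⟩ : (T : Subgroup G)))
      ⟨fun a b hab => hinj (congrArg Subtype.val hab), fun t => by
        obtain ⟨a, ha⟩ := hTs t t.2
        exact ⟨a, Subtype.ext ha⟩⟩)
  have hu1 : (QuotientGroup.mk u : G ⧸ H21.Hn T) ≠ QuotientGroup.mk 1 :=
    (StrEmb.mk_one_ne_mk huH).symm
  have huo : u • (QuotientGroup.mk 1 : G ⧸ H21.Hn T) = QuotientGroup.mk u := StrEmb.smul_mk_one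
  obtain ⟨e⟩ := H21.nonempty_mulEquiv_sl2 (G := G) (Ω := G ⧸ H21.Hn T) (F := F) (QuotientGroup.mk 1)
    (QuotientGroup.mk u) τ δ u
    (fun b => H21.ElemSetup.H_smul_one (Subgroup.le_normalizer (hT b))) hadd
    (fun x hx => by
      obtain ⟨t, ht, htx⟩ := h.exists_T_smul hu huH hx
      obtain ⟨b, rfl⟩ := hTs t ht
      exact ⟨b, htx⟩)
    (fun b hb => by
      by_contra hb0
      exact hu1 (h.T_fix (hT b) (fun hc => hb0 (hinj (hc.trans hτ0.symm))) hb))
    hu1 (fun a => (StrEmb.mem_inf_conj_iff.1 (hD a)).1)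
    (fun a => (StrEmb.mem_inf_conj_iff.1 (hD a)).2) hconj huo (StrEmb.swap_symm hu huo)
    (fun a => h.inverts hu huH (hD a))
    (fun g hg => by
      obtain ⟨t, ht, d, hd, rfl⟩ := h.exists_mul huH (H21.ElemSetup.mem_H_of_smul_one hg)
      obtain ⟨b, rfl⟩ := hTs t ht
      obtain ⟨a, rfl⟩ := hDs d hd
      exact ⟨b, a, rfl⟩)
    (fun g hg => by
      apply h.sharp g (QuotientGroup.mk 1) (QuotientGroup.mk u) (t₁ • QuotientGroup.mk u) hu1.symm
        _ _ (hg _) (hg _) (hg _)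
      · intro hc
        have h1 := H21.ElemSetup.H_smul_one (T := T) (Subgroup.le_normalizer ht₁)
        have h2 := smul_left_cancel t₁ (h1.trans hc)
        exact hu1 h2.symm
      · intro hc
        exact hu1 (h.T_fix ht₁ ht₁1 hc.symm))
    (by rw [h.card_G, hcard])
  obtain ⟨e'⟩ := H21.nonempty_mulEquiv_psl2 (F := F)
  exact ⟨F, fF, fF', hcard, ⟨e.trans e'⟩⟩

end Cfsg.Agent.S1230
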