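import Cfsg.Statements.S4695
import Cfsg.Agent.Cyc.General
-- import your own Cfsg.Agent.* helpers here

set_option autoImplicit false
open Cfsg

namespace Cfsg.Agent.S4695

/-- Let p be a prime, M a maximal ideal of the algebraic integers containing p, and B a p-block of the finite group G whose defect group D is cyclic of order p^a with a ≥ 1. Let C = C_G(D), let b be a block of C inducing B, let T be the stabilizer of b in N_G(D) (the elements g of N_G(D) such that the g-conjugate of every member of b is again in b), and let e be the index of C in T (the inertial index of B). Then the p-regular rank of B (the dimension of the span of the restrictions of its members to the p-regular elements, classically the number l(B) of irreducible Brauer characters in B) equals e. -/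
theorem result {G : Type*} [Group G] [Finite G] (p : ℕ) [Fact p.Prime] (M : Ideal Cfsg.AlgInt) (hM : Cfsg.IsPModular p M) (D : Subgroup G) (hD : IsCyclic D) (a : ℕ) (ha : 1 ≤ a) (hDa : Nat.card D = p ^ a) (B : Set (Cfsg.IrrCharacter G)) (hB : Cfsg.IsPBlock M B) (hBD : Cfsg.IsDefectGroup p M B D) (b : Set (Cfsg.IrrCharacter (Subgroup.centralizer (D : Set G)))) (hind : Cfsg.IsInducedBlock M (Subgroup.centralizer (D : Set G)) b B) (T : Subgroup G) (hT : ∀ g : G, g ∈ T ↔ (g ∈ Subgroup.normalizer (D : Set G) ∧ ∀ θ ∈ b, ∀ θ' : Cfsg.IrrCharacter (Subgroup.centralizer (D : Set G)), (∀ h h' : Subgroup.centralizer (D : Set G), (h' : G) = g * h * g⁻¹ → (θ' : Subgroup.centralizer (D : Set G) → ℂ) h' = (θ : Subgroup.centralizer (D : Set G) → ℂ) h) → θ' ∈ b)) (e : ℕ) (he : (Subgroup.centralizer (D : Set G)).relIndex T = e) : Cfsg.blockRank p B = e := by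
  classical
  haveI := Fintype.ofFinite G
  have hMp := Blk.isPrime_of_isPModular hM
  have hb : Cfsg.IsPBlock M b := hind.1
  have hT' : ∀ g : G, g ∈ T ↔ (g ∈ Subgroup.normalizer (D : Set G) ∧
      Cfsg.StabilizesBlock (Subgroup.centralizer (D : Set G)) b g) := by
    intro g
    rw [hT]
    constructor
    · rintro ⟨h1, h2⟩; exact ⟨h1, (CycG.stabilizesBlock_iff' rfl h1).2 h2⟩
    · rintro ⟨h1, h2⟩; exact ⟨h1, (CycG.stabilizesBlock_iff' rfl h1).1 h2⟩
  obtain rfl := Star.mem_T_iff hb hT'
  obtain ⟨D₁, f, χ₁, hd, hcard, hidx, hrank, -⟩ := Cyc.exists_data hM hB hD ha hDa hBD hind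
  haveI : Fintype (Subgroup.centralizer (D₁ : Set G)) := Fintype.ofFinite _
  obtain ⟨ψ0, -⟩ := Blk.isPBlock_nonempty hB
  have hne : ∃ χ ∈ f, χ ≠ χ₁ := by
    by_contra hcon
    push_neg at hcon
    have h1 : f ⊆ {χ₁} := fun χ hχ => hcon χ hχ
    have h2 : Nat.card f ≤ 1 := by
      rw [Nat.card_coe_set_eq]
      exact (Set.ncard_le_ncard h1).trans (Set.ncard_singleton _).le
    rw [hcard, hDa] at h2
    have h3 : p ≤ p ^ a := Nat.le_self_pow (by omega) p
    have h4 := (Fact.out : p.Prime).one_lt
    omega
  obtain ⟨θ, ε, δ, hout, -⟩ := hd.main hM (by rw [hidx]; exact hrank) hne ψ0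
  rw [hout.rank, hidx, he]

end Cfsg.Agent.S4695
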