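import Cfsg.Statements.S0265
import Mathlib

set_option autoImplicit false
open Cfsg

namespace Cfsg.Agent.S0265

/-- |PGL_n(q)| = |SL_n(q)|: GL_n modulo its centre (the q-1 non-zero scalars) has the same order as the kernel of det. -/
theorem result {F : Type*} [Field F] [Fintype F] (n : ℕ) : Nat.card (Matrix.ProjGenLinGroup (Fin n) F) = Nat.card (Matrix.SpecialLinearGroup (Fin n) F) := by
  classical
  rcases Nat.eq_zero_or_pos n with rfl | hn
  · have h1 : Subsingleton (Matrix.ProjGenLinGroup (Fin 0) F) :=
      Matrix.ProjGenLinGroup.mk_surjective.subsingleton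
    have h2 : Subsingleton (Matrix.SpecialLinearGroup (Fin 0) F) := inferInstance
    rw [Nat.card_unique, Nat.card_unique]
  · have : Nonempty (Fin n) := ⟨⟨0, hn⟩⟩
    have e1 : Nat.card (Matrix.GeneralLinearGroup (Fin n) F) =
        Nat.card (Matrix.ProjGenLinGroup (Fin n) F) * Nat.card (Subgroup.center (Matrix.GeneralLinearGroup (Fin n) F)) :=
      Subgroup.card_eq_card_quotient_mul_card_subgroup _
    have e2 : Nat.card (Matrix.GeneralLinearGroup (Fin n) F) = Nat.card Fˣ * Nat.card (Matrix.GeneralLinearGroup.det : Matrix.GeneralLinearGroup (Fin n) F →* Fˣ).ker := by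
      rw [← Nat.card_congr (QuotientGroup.quotientKerEquivOfSurjective (Matrix.GeneralLinearGroup.det : Matrix.GeneralLinearGroup (Fin n) F →* Fˣ) Matrix.GeneralLinearGroup.det_surjective).toEquiv]
      exact Subgroup.card_eq_card_quotient_mul_card_subgroup _
    have e3 : Nat.card (Subgroup.center (Matrix.GeneralLinearGroup (Fin n) F)) = Nat.card Fˣ := by
      rw [Matrix.GeneralLinearGroup.center_eq_range_scalar]
      symm
      refine Nat.card_congr (Equiv.ofInjective _ ?_)
      intro a b h
      have := congrArg (fun g : Matrix.GeneralLinearGroup (Fin n) F => g.1 ⟨0, hn⟩ ⟨0, hn⟩) h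
      exact Units.ext (by simpa using this)
    have e4 : Nat.card (Matrix.GeneralLinearGroup.det : Matrix.GeneralLinearGroup (Fin n) F →* Fˣ).ker =
        Nat.card (Matrix.SpecialLinearGroup (Fin n) F) := by
      symm
      refine Nat.card_congr (Equiv.ofBijective (fun g => ⟨Matrix.SpecialLinearGroup.toGL g, by
        rw [MonoidHom.mem_ker]; apply Units.ext; simp⟩) ⟨?_, ?_⟩)
      · intro a b h
        exact Matrix.SpecialLinearGroup.toGL_injective (congrArg Subtype.val h)
      · rintro ⟨g, hg⟩
        refine ⟨⟨g.1, ?_⟩, ?_⟩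
        · have := congrArg Units.val hg
          simpa using this
        · apply Subtype.ext; apply Units.ext; rfl
    have hpos : 0 < Nat.card Fˣ := Nat.card_pos
    rw [e1, e3, e4] at e2
    have : Nat.card (Matrix.ProjGenLinGroup (Fin n) F) * Nat.card Fˣ = Nat.card (Matrix.SpecialLinearGroup (Fin n) F) * Nat.card Fˣ := by
      rw [e2, mul_comm]
    exact Nat.eq_of_mul_eq_mul_right hpos this

end Cfsg.Agent.S0265
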