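import Cfsg.Statements.S3869
import Cfsg.Agent.H64.Basic
import Cfsg.Agent.H64.Irred

set_option autoImplicit false
open Cfsg

namespace Cfsg.Agent.S3869

open Cfsg.Agent.H64

/-- Order of a minimal normal elementary abelian subgroup of prime index in a nonabelian group. -/
theorem card_eq {G : Type*} [Group G] [Finite G] {p q : ℕ} [hp : Fact p.Prime] (hq : q.Prime) (hpq : q ≠ p)
    (hna : ¬ IsMulCommutative G) (A : Subgroup G) [hAn : A.Normal] (hA : Cfsg.IsElementaryAbelian q A) (hidx : A.index = p)
    (hmin : ∀ B : Subgroup G, B.Normal → B ≤ A → B = ⊥ ∨ B = A) :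
    Nat.card ↥A = q ^ orderOf (q : ZMod p) ∧ (∀ t : G, t ∉ A → ∃ a ∈ A, t * a * t⁻¹ ≠ a) ∧
    (∀ t : G, t ∉ A → ∀ W : Subgroup G, W ≤ A → (∀ w ∈ W, t * w * t⁻¹ ∈ W) → W = ⊥ ∨ W = A) := by
  haveI : Fact q.Prime := ⟨hq⟩
  have hcomm : ∀ a ∈ A, ∀ b ∈ A, a * b = b * a := by
    intro a ha b hb
    exact congrArg Subtype.val (hA.1.is_comm.comm (⟨a, ha⟩ : A) ⟨b, hb⟩)
  have hcardQ : Nat.card (G ⧸ A) = p := hidx
  have hgen : ∀ t : G, t ∉ A → ∀ g : G, ∃ a ∈ A, ∃ n : ℤ, g = a * t ^ n := by
    intro t ht g
    have h1 : ((t : G) : G ⧸ A) ≠ 1 := by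
      rw [Ne, QuotientGroup.eq_one_iff]; exact ht
    have h2 : ((g : G) : G ⧸ A) ∈ Subgroup.zpowers ((t : G) : G ⧸ A) :=
      mem_zpowers_of_prime_card hcardQ h1
    obtain ⟨n, hn⟩ := Subgroup.mem_zpowers_iff.1 h2
    refine ⟨g * (t ^ n)⁻¹, ?_, n, by group⟩
    rw [← QuotientGroup.eq_one_iff, QuotientGroup.mk_mul, QuotientGroup.mk_inv, QuotientGroup.mk_zpow, hn,
      mul_inv_cancel]
  have hact : ∀ t : G, t ∉ A → ∃ a ∈ A, t * a * t⁻¹ ≠ a := by
    intro t ht
    by_contra hcon
    push Not at hcon
    apply hna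
    have hc : ∀ a ∈ A, ∀ n : ℤ, a * t ^ n = t ^ n * a := by
      intro a ha n
      have h1 : Commute t a := by
        have := hcon a ha
        rw [mul_inv_eq_iff_eq_mul] at this
        exact this
      exact (h1.zpow_left n).symm.eq
    refine ⟨⟨fun g h => ?_⟩⟩
    obtain ⟨a, ha, n, rfl⟩ := hgen t ht g
    obtain ⟨b, hb, m, rfl⟩ := hgen t ht h
    calc a * t ^ n * (b * t ^ m) = a * (t ^ n * b) * t ^ m := by group
      _ = a * (b * t ^ n) * t ^ m := by rw [hc b hb]
      _ = (a * b) * (t ^ n * t ^ m) := by group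
      _ = (b * a) * (t ^ m * t ^ n) := by rw [hcomm a ha b hb, ← zpow_add, ← zpow_add, add_comm]
      _ = b * (a * t ^ m) * t ^ n := by group
      _ = b * (t ^ m * a) * t ^ n := by rw [hc a ha]
      _ = b * t ^ m * (a * t ^ n) := by group
  have hirr : ∀ t : G, t ∉ A → ∀ W : Subgroup G, W ≤ A → (∀ w ∈ W, t * w * t⁻¹ ∈ W) → W = ⊥ ∨ W = A := by
    intro t ht W hWA hW
    apply hmin W _ hWA
    rw [← Subgroup.normalizer_eq_top_iff, eq_top_iff]
    intro g _
    obtain ⟨a, ha, n, rfl⟩ := hgen t ht g
    apply Subgroup.mul_mem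
    · rw [Subgroup.mem_normalizer_iff]
      intro h
      constructor
      · intro hh
        rw [hcomm a ha h (hWA hh)]; simpa using hh
      · intro hh
        have := hcomm a⁻¹ (A.inv_mem ha) _ (hWA hh)
        have e : h = a * h * a⁻¹ := by
          calc h = a⁻¹ * (a * h * a⁻¹) * a := by group
            _ = a * h * a⁻¹ := by rw [this]; group
        rw [e]; exact hh
    · apply Subgroup.zpow_mem
      rw [← map_conj_eq_self_iff]
      apply Subgroup.eq_of_le_of_card_ge
      · rintro _ ⟨w, hw, rfl⟩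
        exact hW w hw
      · rw [card_map_conj]
  have hAne : A ≠ ⊥ := by
    intro h
    apply hna
    have hc : Nat.card G = p := by
      rw [← hidx, h, Subgroup.index_bot]
    have := isCyclic_of_prime_card hc
    exact ⟨⟨fun a b => (IsCyclic.commGroup (α := G)).mul_comm a b⟩⟩
  obtain ⟨t, ht⟩ : ∃ t : G, t ∉ A := by
    by_contra hcon
    push Not at hcon
    have : A = ⊤ := by rw [eq_top_iff]; intro x _; exact hcon x
    rw [this, Subgroup.index_top] at hidx
    exact hp.out.one_lt.ne hidx
  have htp : t ^ p ∈ A := by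
    rw [← QuotientGroup.eq_one_iff, QuotientGroup.mk_pow, ← hcardQ]
    exact pow_card_eq_one'
  refine ⟨?_, hact, hirr⟩
  apply card_eq_of_irreducible_subgroup hpq hAne hcomm hA.2 (t := t) (fun a ha => hAn.conj_mem a ha t)
    _ (hact t ht) (hirr t ht)
  intro a ha
  rw [hcomm _ htp a ha]; group

/-- Let p and q be distinct primes and G a finite non-abelian group with a normal elementary abelian q-subgroup A that is a minimal normal subgroup of G and has index p. Then A has order q^e with e the multiplicative order of q modulo p, and G is minimal non-p-closed: its Sylow p-subgroups are not normal, while in every proper subgroup and in every proper quotient of G the Sylow p-subgroups are normal. -/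
theorem result {G : Type*} [Group G] [Finite G] {p q : ℕ} [Fact p.Prime] (hq : q.Prime) (hpq : q ≠ p)
    (hna : ¬ IsMulCommutative G) (A : Subgroup G) [A.Normal] (hA : Cfsg.IsElementaryAbelian q A) (hidx : A.index = p)
    (hmin : ∀ B : Subgroup G, B.Normal → B ≤ A → B = ⊥ ∨ B = A) :
    Nat.card ↥A = q ^ orderOf (q : ZMod p) ∧ ¬ Cfsg.IsPClosed p G ∧ (∀ H : Subgroup G, H ≠ ⊤ → Cfsg.IsPClosed p ↥H) ∧
      ∀ (N : Subgroup G) [N.Normal], N ≠ ⊥ → Cfsg.IsPClosed p (G ⧸ N) := by
  have hp : p.Prime := Fact.out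
  obtain ⟨hcard, hact, hirr⟩ := card_eq hq hpq hna A hA hidx hmin
  have hcomm : ∀ a ∈ A, ∀ b ∈ A, a * b = b * a := by
    intro a ha b hb
    exact congrArg Subtype.val (hA.1.is_comm.comm (⟨a, ha⟩ : A) ⟨b, hb⟩)
  have hcop : Nat.Coprime (Nat.card A) p := by
    rw [hcard]
    exact Nat.Coprime.pow_left _ ((Nat.coprime_primes hq hp).2 hpq)
  have hpA : ¬ p ∣ Nat.card A := by
    intro h
    have := Nat.Coprime.eq_one_of_dvd hcop.symm h
    exact hp.one_lt.ne' this
  have hcardG : Nat.card G = Nat.card A * p := by rw [← hidx]; exact (A.card_mul_index).symm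
  -- a subgroup of order p is not normal
  have hnotnormal : ∀ P : Subgroup G, P.Normal → P ⊓ A = ⊥ → P ≠ ⊥ → False := by
    intro P hPn hPA hP
    obtain ⟨⟨t, htP⟩, ht1'⟩ := Subgroup.ne_bot_iff_exists_ne_one.1 hP
    have ht1 : t ≠ 1 := fun h => ht1' (Subtype.ext h)
    have htA : t ∉ A := by
      intro h
      have : t ∈ P ⊓ A := ⟨htP, h⟩
      rw [hPA, Subgroup.mem_bot] at this
      exact ht1 this
    obtain ⟨a, ha, hne⟩ := hact t htA
    apply hne
    have hdis : Disjoint P A := disjoint_iff.2 hPA
    have := Subgroup.commute_of_normal_of_disjoint P A hPn inferInstance hdis t a htP ha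
    rw [this.eq]; group
  have hnc : ¬ Cfsg.IsPClosed p G := by
    intro h
    obtain ⟨P⟩ : Nonempty (Sylow p G) := inferInstance
    have hPn := h P
    have hPA : (P : Subgroup G) ⊓ A = ⊥ := by
      refine disjoint_iff.1 (Subgroup.disjoint_of_coprime_natCard ?_)
      obtain ⟨n, hn⟩ := (IsPGroup.iff_card.1 P.2)
      rw [hn]
      exact Nat.Coprime.pow_left _ hcop.symm
    apply hnotnormal P hPn hPA
    intro h1
    have h2 : p ∣ Nat.card (P : Subgroup G) := P.dvd_card_of_dvd_card (by rw [hcardG]; exact Dvd.intro_left _ rfl)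
    rw [h1, Subgroup.card_bot] at h2
    exact hp.one_lt.ne' (Nat.dvd_one.1 h2)
  refine ⟨hcard, hnc, ?_, ?_⟩
  · intro H hH Q
    by_cases hAH : A ≤ H
    · -- H = A
      have h1 : A.relIndex H * H.index = p := by rw [Subgroup.relIndex_mul_index hAH, hidx]
      have h2 : H.index ≠ 1 := by rw [Ne, Subgroup.index_eq_one]; exact hH
      have h3 : A.relIndex H = 1 := by
        rcases (Nat.dvd_prime hp).1 (Dvd.intro _ h1) with h | h
        · exact h
        · rw [h] at h1
          exact absurd (Nat.eq_of_mul_eq_mul_left hp.pos (h1.trans (mul_one p).symm)) h2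
      have h4 : H = A := le_antisymm (Subgroup.relIndex_eq_one.1 h3) hAH
      have h5 : (Q : Subgroup H) = ⊥ := by
        apply (Subgroup.card_eq_one).1
        obtain ⟨n, hn⟩ := IsPGroup.iff_card.1 Q.2
        rcases Nat.eq_zero_or_pos n with h | h
        · rw [hn, h, pow_zero]
        · exfalso
          apply hpA
          have h6 : p ∣ Nat.card (Q : Subgroup H) := by rw [hn]; exact dvd_pow_self _ h.ne'
          rw [← h4]
          exact h6.trans (Subgroup.card_subgroup_dvd_card _)
      rw [h5]; infer_instance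
    · by_cases hpH : p ∣ Nat.card H
      · obtain ⟨x, hx⟩ := exists_prime_orderOf_dvd_card' p hpH
        have hxA : (x : G) ∉ A := by
          intro h
          apply hpA
          have : orderOf (x : G) = p := by rw [Subgroup.orderOf_coe]; exact hx
          rw [← this]
          exact (Subgroup.orderOf_coe (⟨x, h⟩ : A)) ▸ orderOf_dvd_natCard _
        have hW := hirr x hxA (H ⊓ A) inf_le_right (by
          rintro w ⟨hw1, hw2⟩
          exact ⟨H.mul_mem (H.mul_mem x.2 hw1) (H.inv_mem x.2), Subgroup.Normal.conj_mem inferInstance _ hw2 _⟩)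
        rcases hW with hW | hW
        · -- |H| divides p
          have h1 : Nat.card H = A.relIndex H := by
            have := Subgroup.relIndex_mul_relIndex ⊥ (H ⊓ A) H bot_le inf_le_left
            rw [hW, Subgroup.relIndex_self, one_mul, Subgroup.relIndex_bot_left] at this
            rw [← Subgroup.inf_relIndex_right, inf_comm, hW, Subgroup.relIndex_bot_left]
          have h2 : Nat.card H ∣ p := by
            rw [h1, ← hidx]
            exact Subgroup.relIndex_dvd_index_of_normal A H
          have h3 : Nat.card H = p := (Nat.dvd_antisymm h2 hpH)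
          have h4 : IsPGroup p H := IsPGroup.of_card (n := 1) (by rw [h3, pow_one])
          have h5 : (Q : Subgroup H) = ⊤ := by
            have := Q.3 (Q := ⊤) (h4.to_subgroup ⊤) le_top
            exact this.symm
          rw [h5]; infer_instance
        · exact absurd (by rw [← hW]; exact inf_le_left) hAH
      · have h5 : (Q : Subgroup H) = ⊥ := by
          apply (Subgroup.card_eq_one).1
          obtain ⟨n, hn⟩ := IsPGroup.iff_card.1 Q.2
          rcases Nat.eq_zero_or_pos n with h | h
          · rw [hn, h, pow_zero]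
          · exfalso
            apply hpH
            have h6 : p ∣ Nat.card (Q : Subgroup H) := by rw [hn]; exact dvd_pow_self _ h.ne'
            exact h6.trans (Subgroup.card_subgroup_dvd_card _)
        rw [h5]; infer_instance
  · intro N hN hN1 Q
    rcases hmin (N ⊓ A) inferInstance inf_le_right with h | h
    · exact (hnotnormal N hN h hN1).elim
    · have hAN : A ≤ N := by rw [← h]; exact inf_le_left
      have h1 : Nat.card (G ⧸ N) ∣ p := by
        have : N.index ∣ p := by rw [← hidx]; exact Subgroup.index_dvd_of_le hAN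
        exact this
      have h4 : IsPGroup p (G ⧸ N) := by
        rcases (Nat.dvd_prime hp).1 h1 with h | h
        · exact IsPGroup.of_card (n := 0) (by rw [h, pow_zero])
        · exact IsPGroup.of_card (n := 1) (by rw [h, pow_one])
      have h5 : (Q : Subgroup (G ⧸ N)) = ⊤ := by
        have := Q.3 (Q := ⊤) (h4.to_subgroup ⊤) le_top
        exact this.symm
      rw [h5]; infer_instance

end Cfsg.Agent.S3869
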