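import Cfsg.Statements.S3868
import Cfsg.Agent.H64.PClosed
import Cfsg.Agent.S3869
import Cfsg.Agent.Solv.MinNormal

set_option autoImplicit false
open Cfsg

namespace Cfsg.Agent.S3868

open Cfsg.Agent.H64

/-- Structure of the non-simple minimal non-p-closed groups. Call a finite group p-closed when its Sylow p-subgroups are normal, and minimal non-p-closed when it is not p-closed but every proper subgroup and every proper quotient is. If such a group G is not simple, then there is a prime q ≠ p such that G has order p · q^e, where e is the multiplicative order of q modulo p, and G has a normal subgroup A of order q^e that is elementary abelian and is a minimal normal subgroup of G (so G is the semidirect product of A by a group of order p acting irreducibly). -/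
theorem result {G : Type*} [Group G] [Finite G] {p : ℕ} [Fact p.Prime]
    (hnc : ¬ Cfsg.IsPClosed p G) (hsub : ∀ H : Subgroup G, H ≠ ⊤ → Cfsg.IsPClosed p ↥H)
    (hquo : ∀ (N : Subgroup G) [N.Normal], N ≠ ⊥ → Cfsg.IsPClosed p (G ⧸ N)) (hns : ¬ IsSimpleGroup G) :
    ∃ q : ℕ, q.Prime ∧ q ≠ p ∧ Nat.card G = p * q ^ orderOf (q : ZMod p) ∧
      ∃ A : Subgroup G, A.Normal ∧ Nat.card ↥A = q ^ orderOf (q : ZMod p) ∧ Cfsg.IsElementaryAbelian q A ∧
        ∀ B : Subgroup G, B.Normal → B ≤ A → B = ⊥ ∨ B = A := by
  have hp : p.Prime := Fact.out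
  have hnn : ∀ P : Sylow p G, ¬ (P : Subgroup G).Normal := fun P hP => hnc (isPClosed_of_normal P hP)
  have hnt : Nontrivial G := by
    by_contra h
    rw [not_nontrivial_iff_subsingleton] at h
    obtain ⟨P⟩ : Nonempty (Sylow p G) := inferInstance
    apply hnn P
    have : (P : Subgroup G) = ⊥ := Subsingleton.elim _ _
    rw [this]; infer_instance
  obtain ⟨N, hN, hN1, hNt⟩ : ∃ N : Subgroup G, N.Normal ∧ N ≠ ⊥ ∧ N ≠ ⊤ := by
    by_contra hcon
    push Not at hcon
    apply hns
    refine { toNontrivial := hnt, eq_bot_or_eq_top_of_normal := ?_ }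
    intro H hH
    by_cases h : H = ⊥
    · exact Or.inl h
    · exact Or.inr (hcon H hH h)
  obtain ⟨A, hAn, hAN, hA1, hmin⟩ := Solv.exists_minimal_normal N hN hN1
  have hAt : A ≠ ⊤ := fun h => hNt (top_le_iff.1 (h ▸ hAN))
  -- (i)
  have hAP : ∀ P : Sylow p G, (P : Subgroup G) ⊔ A = ⊤ := by
    intro P
    by_contra hcon
    exact hnn P (normal_of_isPClosed P le_sup_left
      (normal_sup_of_quotient_isPClosed P A (hquo A hA1)) (hsub _ hcon))
  -- (ii)
  have hpA : ¬ p ∣ Nat.card A := by
    intro hdvd
    obtain ⟨S⟩ : Nonempty (Sylow p A) := inferInstance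
    have hSn : (S : Subgroup A).Normal := hsub A hAt S
    have hSc : (S : Subgroup A).Characteristic := S.characteristic_of_normal hSn
    have hSG : ((S : Subgroup A).map A.subtype).Normal := ConjAct.normal_of_characteristic_of_normal
    rcases hmin _ hSG (Subgroup.map_subtype_le _) with h | h
    · rw [Subgroup.map_eq_bot_iff_of_injective _ A.subtype_injective] at h
      have := S.dvd_card_of_dvd_card hdvd
      rw [h, Subgroup.card_bot] at this
      exact hp.one_lt.ne' (Nat.dvd_one.1 this)
    · have hAp : IsPGroup p A := by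
        have : IsPGroup p ((S : Subgroup A).map A.subtype) := S.2.map _
        rwa [h] at this
      obtain ⟨P⟩ : Nonempty (Sylow p G) := inferInstance
      have h1 : A ≤ P := hAp.le_sylow_of_normal P
      have h2 := hAP P
      rw [sup_eq_left.2 h1] at h2
      apply hnn P
      rw [h2]; infer_instance
  have hcop : Nat.Coprime (Nat.card A) p := (Nat.Coprime.symm ((Nat.Prime.coprime_iff_not_dvd hp).2 hpA))
  have hAinf : ∀ P : Subgroup G, IsPGroup p P → A ⊓ P = ⊥ := by
    intro P hP
    refine disjoint_iff.1 (Subgroup.disjoint_of_coprime_natCard ?_)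
    obtain ⟨n, hn⟩ := IsPGroup.iff_card.1 hP
    rw [hn]
    exact Nat.Coprime.pow_right _ hcop
  -- (iii) proper subgroups of a Sylow subgroup centralize A
  have hcent : ∀ P : Sylow p G, ∀ P0 : Subgroup G, P0 < P → ∀ a ∈ A, ∀ x ∈ P0, a * x = x * a := by
    intro P P0 hP0 a ha x hx
    have hne : A ⊔ P0 ≠ ⊤ := by
      intro h
      apply hP0.ne
      apply le_antisymm hP0.le
      intro y hy
      have hy2 : y ∈ A ⊔ P0 := by rw [h]; trivial
      obtain ⟨b, hb, z, hz, rfl⟩ := Subgroup.mem_sup_of_normal_left.1 hy2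
      have h3 : b ∈ A ⊓ (P : Subgroup G) := by
        refine ⟨hb, ?_⟩
        have := (P : Subgroup G).mul_mem hy ((P : Subgroup G).inv_mem (hP0.le hz))
        rw [mul_inv_cancel_right] at this
        exact this
      rw [hAinf _ P.2, Subgroup.mem_bot] at h3
      rw [h3, one_mul]; exact hz
    have hcl := hsub _ hne
    have hP0p : IsPGroup p (P0.subgroupOf (A ⊔ P0)) :=
      IsPGroup.comap_of_injective (P.2.to_le hP0.le) _ (Subgroup.subtype_injective _)
    obtain ⟨Q, hQ⟩ := hP0p.exists_le_sylow
    have hQn := hcl Q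
    have hx2 : x ∈ A ⊔ P0 := Subgroup.mem_sup_right hx
    have ha2 : a ∈ A ⊔ P0 := Subgroup.mem_sup_left ha
    have hxQ : (⟨x, hx2⟩ : (A ⊔ P0 : Subgroup G)) ∈ (Q : Subgroup (A ⊔ P0 : Subgroup G)) :=
      hQ (by rw [Subgroup.mem_subgroupOf]; exact hx)
    have haA : (⟨a, ha2⟩ : (A ⊔ P0 : Subgroup G)) ∈ A.subgroupOf (A ⊔ P0) := by
      rw [Subgroup.mem_subgroupOf]; exact ha
    have hinf : A.subgroupOf (A ⊔ P0) ⊓ (Q : Subgroup (A ⊔ P0 : Subgroup G)) = ⊥ := by
      rw [eq_bot_iff]
      rintro y ⟨hy1, hy2⟩
      have h4 : (y : G) ∈ A ⊓ ((Q : Subgroup (A ⊔ P0 : Subgroup G)).map (A ⊔ P0).subtype) :=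
        ⟨by simpa [Subgroup.mem_subgroupOf] using hy1, ⟨y, hy2, rfl⟩⟩
      rw [hAinf _ (Q.2.map _), Subgroup.mem_bot] at h4
      exact Subtype.ext h4
    have := commute_of_inf_eq_bot hinf (by rw [Subgroup.normalizer_eq_top]; exact le_top)
      (by rw [Subgroup.normalizer_eq_top]; exact le_top) haA hxQ
    exact congrArg Subtype.val this
  -- (iv)
  have hcardP : ∀ P : Sylow p G, Nat.card (P : Subgroup G) = p := by
    intro P
    have hP1 : (P : Subgroup G) ≠ ⊥ := by
      intro h
      apply hnn P; rw [h]; infer_instance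
    have : Nontrivial (P : Subgroup G) := (Subgroup.nontrivial_iff_ne_bot _).2 hP1
    have hcn : Nontrivial (Subgroup.center (P : Subgroup G)) := P.2.center_nontrivial
    have hcp : IsPGroup p (Subgroup.center (P : Subgroup G)) := P.2.to_subgroup _
    have hdvd : p ∣ Nat.card (Subgroup.center (P : Subgroup G)) := by
      obtain ⟨n, hn⟩ := IsPGroup.iff_card.1 hcp
      rw [hn]
      apply dvd_pow_self
      rintro rfl
      rw [pow_zero] at hn
      have := Finite.one_lt_card (α := Subgroup.center (P : Subgroup G))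
      omega
    obtain ⟨⟨⟨z, hzP⟩, hzc⟩, hz⟩ := exists_prime_orderOf_dvd_card' p hdvd
    have hzo : orderOf z = p := by
      rw [← hz]
      rw [← Subgroup.orderOf_coe, ← Subgroup.orderOf_coe]
    by_cases hcase : Subgroup.zpowers z = (P : Subgroup G)
    · rw [← hcase, Nat.card_zpowers, hzo]
    · exfalso
      have hlt : Subgroup.zpowers z < (P : Subgroup G) :=
        lt_of_le_of_ne (by rw [Subgroup.zpowers_le]; exact hzP) hcase
      have hzc' : z ∈ Subgroup.center G := by
        have hle : (⊤ : Subgroup G) ≤ Subgroup.centralizer ({z} : Set G) := by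
          rw [← hAP P, sup_le_iff]
          constructor
          · intro x hx
            rw [Subgroup.mem_centralizer_singleton_iff]
            exact congrArg Subtype.val (Subgroup.mem_center_iff.1 hzc ⟨x, hx⟩)
          · intro a ha
            rw [Subgroup.mem_centralizer_singleton_iff]
            exact hcent P _ hlt a ha z (Subgroup.mem_zpowers z)
        rw [Subgroup.mem_center_iff]
        intro g
        exact Subgroup.mem_centralizer_singleton_iff.1 (hle (Subgroup.mem_top g))
      have hzn : (Subgroup.zpowers z).Normal :=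
        Solv.normal_of_le_center (by rw [Subgroup.zpowers_le]; exact hzc')
      have h1 := normal_sup_of_quotient_isPClosed P (Subgroup.zpowers z) (hquo _ (by
        intro h
        rw [Subgroup.zpowers_eq_bot] at h
        rw [h, orderOf_one] at hzo
        exact hp.one_lt.ne hzo))
      rw [sup_eq_left.2 hlt.le] at h1
      exact hnn P h1
  obtain ⟨P⟩ : Nonempty (Sylow p G) := inferInstance
  -- A does not centralize P
  have hnc2 : ¬ A ≤ Subgroup.centralizer ((P : Subgroup G) : Set G) := by
    intro h
    apply hnn P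
    rw [← Subgroup.normalizer_eq_top_iff, eq_top_iff, ← hAP P]
    refine sup_le Subgroup.le_normalizer (h.trans ?_)
    exact Subgroup.centralizer_le_normalizer _
  -- (v)
  obtain ⟨q, hq, hqA⟩ : ∃ q : ℕ, q.Prime ∧ IsPGroup q A := by
    by_contra hcon
    push Not at hcon
    apply hnc2
    rw [← Subgroup.relIndex_eq_one]
    by_contra hne
    obtain ⟨q, hq, hdvd⟩ := Nat.exists_prime_and_dvd hne
    haveI : Fact q.Prime := ⟨hq⟩
    obtain ⟨Q⟩ : Nonempty (Sylow q A) := inferInstance
    set Q' := (Q : Subgroup A).map A.subtype with hQ'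
    set M := Subgroup.normalizer (Q' : Set G) with hM
    have hfr : M ⊔ A = ⊤ := Sylow.normalizer_sup_eq_top Q
    have hMt : M ≠ ⊤ := by
      intro h
      have hQn : Q'.Normal := Subgroup.normalizer_eq_top_iff.1 h
      rcases hmin Q' hQn (Subgroup.map_subtype_le _) with h1 | h1
      · rw [hQ', Subgroup.map_eq_bot_iff_of_injective _ A.subtype_injective] at h1
        have h2 : q ∣ Nat.card A := hdvd.trans (Subgroup.relIndex_dvd_card _ _)
        have := Q.dvd_card_of_dvd_card h2
        rw [h1, Subgroup.card_bot] at this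
        exact hq.one_lt.ne' (Nat.dvd_one.1 this)
      · have : IsPGroup q Q' := Q.2.map _
        rw [h1] at this
        exact hcon q hq this
    have hMi : ¬ p ∣ M.index := by
      have h1 : M.index = (A ⊓ M).relIndex A := by
        rw [← relIndex_sup_of_normal, sup_comm, hfr, Subgroup.relIndex_top_right]
      rw [h1]
      intro h
      exact hpA (h.trans (Subgroup.relIndex_dvd_card _ _))
    obtain ⟨g, hg⟩ := exists_sylow_conj_le P M hMi
    -- Q^{g⁻¹} centralized by P
    have h1 : ∀ x ∈ Q', ∀ y ∈ (P : Subgroup G), x * (g * y * g⁻¹) = (g * y * g⁻¹) * x := by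
      have hcl := hsub M hMt
      have hg' : ((g • P : Sylow p G) : Subgroup G) ≤ M := hg
      have h2 := le_normalizer_of_isPClosed (g • P) hg' hcl
      intro x hx y hy
      have hxM : x ∈ M := Subgroup.le_normalizer hx
      have hinf : (A ⊓ M) ⊓ ((g • P : Sylow p G) : Subgroup G) = ⊥ := by
        rw [eq_bot_iff, ← hAinf _ (g • P).2]
        exact inf_le_inf_right _ inf_le_left
      have hnorm : ((g • P : Sylow p G) : Subgroup G) ≤ Subgroup.normalizer ((A ⊓ M : Subgroup G) : Set G) := by
        intro z hz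
        rw [← map_conj_eq_self_iff, Subgroup.map_inf_eq _ _ _ (MulAut.conj z).injective]
        congr 1
        · rw [map_conj_eq_self_iff, Subgroup.normalizer_eq_top]; trivial
        · exact map_conj_eq_self_of_mem (hg' hz)
      exact commute_of_inf_eq_bot hinf (inf_le_right.trans h2) hnorm
        ⟨Subgroup.map_subtype_le _ hx, hxM⟩ (conj_mem_map_conj hy)
    have h3 : Q'.map (MulAut.conj g⁻¹).toMonoidHom ≤ A ⊓ Subgroup.centralizer ((P : Subgroup G) : Set G) := by
      intro x hx
      rw [mem_map_conj, inv_inv] at hx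
      refine ⟨?_, ?_⟩
      · have := hAn.conj_mem _ (Subgroup.map_subtype_le _ hx) g⁻¹
        simpa [mul_assoc] using this
      · show x ∈ Subgroup.centralizer ((P : Subgroup G) : Set G)
        rw [Subgroup.mem_centralizer_iff]
        intro y hy
        have h4 := h1 _ hx y hy
        have h5 : g * (x * y) * g⁻¹ = g * (y * x) * g⁻¹ := by
          calc g * (x * y) * g⁻¹ = g * x * g⁻¹ * (g * y * g⁻¹) := by group
            _ = (g * y * g⁻¹) * (g * x * g⁻¹) := h4
            _ = g * (y * x) * g⁻¹ := by group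
        have h6 := mul_left_cancel (mul_right_cancel h5)
        exact h6.symm
    have h4 : ¬ q ∣ (Subgroup.centralizer ((P : Subgroup G) : Set G)).relIndex A := by
      rw [← Subgroup.inf_relIndex_right, inf_comm]
      intro hd
      have h5 : Nat.card Q' * (Q : Subgroup A).index = Nat.card A := by
        rw [hQ', Subgroup.card_map_of_injective A.subtype_injective]
        exact Subgroup.card_mul_index _
      have h6 : Nat.card Q' ∣ Nat.card (A ⊓ Subgroup.centralizer ((P : Subgroup G) : Set G) : Subgroup G) := by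
        rw [← card_map_conj Q' g⁻¹]
        exact Subgroup.card_dvd_of_le h3
      obtain ⟨k, hk⟩ := h6
      have h7 : Nat.card (A ⊓ Subgroup.centralizer ((P : Subgroup G) : Set G) : Subgroup G) *
          (A ⊓ Subgroup.centralizer ((P : Subgroup G) : Set G)).relIndex A = Nat.card A := by
        have := Subgroup.relIndex_mul_relIndex ⊥ (A ⊓ Subgroup.centralizer ((P : Subgroup G) : Set G)) A bot_le inf_le_left
        rwa [Subgroup.relIndex_bot_left, Subgroup.relIndex_bot_left] at this
      rw [hk, ← h5, mul_assoc] at h7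
      have h8 := Nat.eq_of_mul_eq_mul_left (Nat.card_pos (α := Q')) h7
      exact Q.not_dvd_index (by rw [← h8]; exact Dvd.dvd.mul_left hd k)
    exact h4 hdvd
  haveI : Fact q.Prime := ⟨hq⟩
  have hAnt : Nontrivial A := (Subgroup.nontrivial_iff_ne_bot A).2 hA1
  have hqdvd : q ∣ Nat.card A := by
    obtain ⟨n, hn⟩ := IsPGroup.iff_card.1 hqA
    rw [hn]
    apply dvd_pow_self
    rintro rfl
    rw [pow_zero] at hn
    have := Finite.one_lt_card (α := A)
    omega
  have hqp : q ≠ p := by
    rintro rfl; exact hpA hqdvd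
  have hsolv : Group.IsSolvable A := by
    have := hqA.isNilpotent
    infer_instance
  obtain ⟨hAab, r, hr, hAr⟩ := Solv.minimal_normal_of_solvable A hsolv hA1 hmin
  have hrq : r = q := by
    obtain ⟨x, hx⟩ := exists_prime_orderOf_dvd_card' q hqdvd
    have h1 : orderOf x ∣ r := orderOf_dvd_of_pow_eq_one (Subtype.ext (hAr x x.2))
    rw [hx] at h1
    exact ((Nat.prime_dvd_prime_iff_eq hq hr).1 h1).symm
  rw [hrq] at hAr
  have hidx : A.index = p := by
    rw [← Subgroup.relIndex_top_right, ← hAP P, Subgroup.relIndex_sup_right]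
    rw [← Subgroup.inf_relIndex_right, hAinf _ P.2, Subgroup.relIndex_bot_left]
    exact hcardP P
  have hna : ¬ IsMulCommutative G := by
    intro h
    apply hnn P
    refine ⟨fun x hx g => ?_⟩
    rw [h.is_comm.comm g x, mul_inv_cancel_right]
    exact hx
  have hcardA := (S3869.card_eq hq hqp hna A ⟨hAab, hAr⟩ hidx hmin).1
  refine ⟨q, hq, hqp, ?_, A, hAn, hcardA, ⟨hAab, hAr⟩, hmin⟩
  rw [← hcardA, ← A.card_mul_index, hidx, mul_comm]

end Cfsg.Agent.S3868
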