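import Cfsg.Statements.S0493
import Cfsg.Agent.S0144
import Cfsg.Agent.S0499
import Cfsg.Agent.H17.Basic

set_option autoImplicit false
open Cfsg

namespace Cfsg.Agent.S0493

/-- A finite simple group of order at most 100 that is not cyclic has order 60. -/
theorem result {G : Type*} [Group G] [Finite G] [IsSimpleGroup G]
    (hG : ¬ IsCyclic G) (h : Nat.card G ≤ 100) : Nat.card G = 60 := by
  have hna : ¬ IsMulCommutative G := by
    intro hc
    have h1 := Group.is_simple_iff_prime_card.mp (inferInstance : IsSimpleGroup G)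
    haveI : Fact (Nat.card G).Prime := ⟨h1⟩
    exact hG (isCyclic_of_prime_card rfl)
  have hsol : ∀ p q a b : ℕ, p.Prime → q.Prime → Nat.card G ≠ p ^ a * q ^ b := by
    intro p q a b hp hq hc
    have h1 := Cfsg.Agent.S0144.result p q a b hp hq hc
    apply hna
    constructor
    constructor
    exact IsSimpleGroup.comm_iff_isSolvable.2 h1
  have h0 : 0 < Nat.card G := Nat.card_pos
  have h84 : Nat.card G ≠ 84 := by
    intro hc
    haveI : Fact (Nat.Prime 7) := ⟨by norm_num⟩
    have h1 := Cfsg.Agent.H17.card_sylow_mem (p := 7) (G := G) (k := 1) (m := 12) (by rw [hc]; norm_num) (by norm_num)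
    have h2 : (Nat.divisors 12).filter (· % 7 = 1) = {1} := by decide
    rw [h2, Finset.mem_singleton] at h1
    exact Cfsg.Agent.H17.card_sylow_ne_one hna (by rw [hc]; norm_num) h1
  by_cases h2 : Even (Nat.card G)
  · rcases Cfsg.Agent.S0499.result hna h2 with ⟨k, hk⟩ | ⟨k, hk⟩ | ⟨k, hk⟩
    · have hk8 : k ≤ 8 := by omega
      interval_cases k
      · omega
      · exact absurd hk (hsol 2 3 2 1 Nat.prime_two Nat.prime_three)
      · exact absurd hk (hsol 2 3 3 1 Nat.prime_two Nat.prime_three)
      · exact absurd hk (hsol 2 3 2 2 Nat.prime_two Nat.prime_three)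
      · exact absurd hk (hsol 2 3 4 1 Nat.prime_two Nat.prime_three)
      · exact hk
      · exact absurd hk (hsol 2 3 3 2 Nat.prime_two Nat.prime_three)
      · exact absurd hk h84
      · exact absurd hk (hsol 2 3 5 1 Nat.prime_two Nat.prime_three)
    · have hk8 : k ≤ 6 := by omega
      interval_cases k
      · omega
      · exact absurd hk (hsol 2 3 4 0 Nat.prime_two Nat.prime_three)
      · exact absurd hk (hsol 2 3 5 0 Nat.prime_two Nat.prime_three)
      · exact absurd hk (hsol 2 3 4 1 Nat.prime_two Nat.prime_three)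
      · exact absurd hk (hsol 2 3 6 0 Nat.prime_two Nat.prime_three)
      · exact absurd hk (hsol 2 5 4 1 Nat.prime_two Nat.prime_five)
      · exact absurd hk (hsol 2 3 5 1 Nat.prime_two Nat.prime_three)
    · have hk8 : k ≤ 1 := by omega
      interval_cases k
      · omega
      · exact absurd hk (hsol 2 7 3 1 Nat.prime_two (by norm_num))
  · exfalso
    rw [Nat.not_even_iff_odd] at h2
    -- odd order at most 100: at most two primes
    have key : ∀ n : ℕ, n ≤ 100 → 0 < n → Odd n →
        ∃ p ∈ ({2, 3, 5, 7, 11, 13, 17, 19, 23, 29, 31, 37, 41, 43, 47, 53, 59, 61, 67, 71, 73, 79, 83, 89, 97} : Finset ℕ),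
        ∃ q ∈ ({2, 3, 5, 7, 11, 13, 17, 19, 23, 29, 31, 37, 41, 43, 47, 53, 59, 61, 67, 71, 73, 79, 83, 89, 97} : Finset ℕ),
        ∃ a ∈ Finset.range 5, ∃ b ∈ Finset.range 3, n = p ^ a * q ^ b := by
      intro n hn hn0 ho
      have hmod : n % 2 = 1 := Nat.odd_iff.1 ho
      interval_cases n <;> first | omega | decide
    obtain ⟨p, hp, q, hq, a, _, b, _, hab⟩ := key _ h h0 h2
    have hpp : ∀ p ∈ ({2, 3, 5, 7, 11, 13, 17, 19, 23, 29, 31, 37, 41, 43, 47, 53, 59, 61, 67, 71, 73, 79, 83, 89, 97} : Finset ℕ), p.Prime := by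
      intro p hp
      fin_cases hp <;> norm_num
    exact hsol p q a b (hpp p hp) (hpp q hq) hab

end Cfsg.Agent.S0493
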