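import Cfsg.Statements.S0850
import Cfsg.Agent.Char.Induced
import Mathlib.GroupTheory.PGroup
import Mathlib.GroupTheory.OrderOfElement
import Mathlib.GroupTheory.Perm.Cycle.Type

set_option autoImplicit false
open Cfsg

namespace Cfsg.Agent.S0850

open Cfsg.Agent.Char

/-- A `q`-element normalizing `K` with `q ∣ |K|` centralizes a nontrivial element of `K`. -/
theorem exists_fixed {G : Type*} [Group G] [Finite G] (K : Subgroup G) (y : G) (q : ℕ)
    [Fact q.Prime] (hy : y ∈ Subgroup.normalizer (K : Set G)) (hyq : orderOf y = q)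
    (hK : q ∣ Nat.card K) : ∃ k ∈ K, k ≠ 1 ∧ y * k = k * y := by
  classical
  have hle : Subgroup.zpowers y ≤ Subgroup.normalizer (K : Set G) := by
    rw [Subgroup.zpowers_le]; exact hy
  let act : MulAction (Subgroup.zpowers y) K :=
    { smul := fun u k => ⟨(u : G) * k * (u : G)⁻¹,
        (Subgroup.mem_normalizer_iff.mp (hle u.2) k).mp k.2⟩
      one_smul := fun k => by
        apply Subtype.ext
        change ((1 : Subgroup.zpowers y) : G) * k * ((1 : Subgroup.zpowers y) : G)⁻¹ = k
        simp
      mul_smul := fun u v k => by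
        apply Subtype.ext
        change ((u * v : Subgroup.zpowers y) : G) * k * ((u * v : Subgroup.zpowers y) : G)⁻¹
          = (u : G) * ((v : G) * k * (v : G)⁻¹) * (u : G)⁻¹
        push_cast
        group }
  have hP : IsPGroup q (Subgroup.zpowers y) := by
    refine IsPGroup.of_card (n := 1) ?_
    rw [Nat.card_zpowers, hyq, pow_one]
  have h1 : (1 : K) ∈ MulAction.fixedPoints (Subgroup.zpowers y) K := by
    intro u
    apply Subtype.ext
    change (u : G) * ((1 : K) : G) * (u : G)⁻¹ = ((1 : K) : G)
    simp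
  obtain ⟨k, hk, hk1⟩ := hP.exists_fixed_point_of_prime_dvd_card_of_fixed_point K hK h1
  refine ⟨k, k.2, ?_, ?_⟩
  · intro h
    apply hk1
    apply Subtype.ext
    exact h.symm
  · have h2 := hk ⟨y, Subgroup.mem_zpowers y⟩
    have h3 : y * (k : G) * y⁻¹ = k := congrArg Subtype.val h2
    rw [mul_inv_eq_iff_eq_mul] at h3
    exact h3

theorem part1 {G : Type*} [Group G] [Finite G] (K : Subgroup G) (hTI : ∀ g : G, g ∉ Subgroup.normalizer (K : Set G) → ∀ k ∈ K, g * k * g⁻¹ ∈ K → k = 1) (hC : ∀ k ∈ K, k ≠ 1 → Subgroup.centralizer ({k} : Set G) ≤ K) : ∀ x ∈ Subgroup.normalizer (K : Set G), x ∉ K → ∀ g : G, g * x * g⁻¹ ∉ K := by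
  intro x hxN hxK g hgx
  have hgN : g ∉ Subgroup.normalizer (K : Set G) := by
    intro hg
    exact hxK ((Subgroup.mem_normalizer_iff.mp hg x).mpr hgx)
  have hx1 : orderOf x ≠ 1 := by
    intro h
    rw [orderOf_eq_one_iff] at h
    exact hxK (h ▸ K.one_mem)
  obtain ⟨q, hq, hqx⟩ := Nat.exists_prime_and_dvd hx1
  haveI : Fact q.Prime := ⟨hq⟩
  obtain ⟨m, hm⟩ := hqx
  have hxpos : 0 < orderOf x := orderOf_pos x
  have hyo : orderOf (x ^ m) = q := by
    have hm0 : m ≠ 0 := by
      rintro rfl
      omega
    rw [orderOf_pow_of_dvd hm0 ⟨q, by rw [hm, mul_comm]⟩, hm,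
      Nat.mul_div_cancel _ (Nat.pos_of_ne_zero hm0)]
  set y := x ^ m with hy
  have hgy : g * y * g⁻¹ ∈ K := by
    have : g * y * g⁻¹ = (g * x * g⁻¹) ^ m := by rw [hy, conj_pow]
    rw [this]
    exact K.pow_mem hgx m
  have hy1 : y ≠ 1 := by
    intro h
    rw [h, orderOf_one] at hyo
    exact hq.one_lt.ne hyo
  have hgy1 : g * y * g⁻¹ ≠ 1 := by
    intro h
    apply hy1
    have : y = g⁻¹ * (g * y * g⁻¹) * g := by group
    rw [this, h]; group
  have hyN : y ∈ Subgroup.normalizer (K : Set G) := Subgroup.pow_mem _ hxN m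
  have hqK : q ∣ Nat.card K := by
    have h1 : orderOf (⟨g * y * g⁻¹, hgy⟩ : K) = q := by
      rw [Subgroup.orderOf_mk]
      have : g * y * g⁻¹ = MulAut.conj g y := rfl
      rw [this, MulEquiv.orderOf_eq, hyo]
    rw [← h1]
    exact orderOf_dvd_natCard _
  obtain ⟨k, hkK, hk1, hcomm⟩ := exists_fixed K y q hyN hyo hqK
  -- then `g k g⁻¹` centralizes `g y g⁻¹`
  have h2 : g * k * g⁻¹ ∈ K := by
    apply hC (g * y * g⁻¹) hgy hgy1
    rw [Subgroup.mem_centralizer_singleton_iff]
    have e1 : g * y * g⁻¹ * (g * k * g⁻¹) = g * (y * k) * g⁻¹ := by group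
    have e2 : g * k * g⁻¹ * (g * y * g⁻¹) = g * (k * y) * g⁻¹ := by group
    rw [e1, e2, hcomm]
  exact hk1 (hTI g hgN k hkK h2)

/-- Let K be a subgroup of the finite group G that meets each conjugate by an element outside its normalizer N trivially, is properly contained in N, and contains the centralizer of each of its non-identity elements (a T.I. subgroup with Frobenius normalizer). Then no element of N outside K is conjugate in G to an element of K, and for every class function ϑ of N that vanishes on N away from K and at the identity, the function induced from ϑ to G agrees with ϑ on all of N. -/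
theorem result {G : Type*} [Group G] [Fintype G] (K : Subgroup G) (hTI : ∀ g : G, g ∉ Subgroup.normalizer (K : Set G) → ∀ k ∈ K, g * k * g⁻¹ ∈ K → k = 1) (hlt : K < Subgroup.normalizer (K : Set G)) (hC : ∀ k ∈ K, k ≠ 1 → Subgroup.centralizer ({k} : Set G) ≤ K) : (∀ x ∈ Subgroup.normalizer (K : Set G), x ∉ K → ∀ g : G, g * x * g⁻¹ ∉ K) ∧ ∀ (ϑ : Subgroup.normalizer (K : Set G) → ℂ), Cfsg.IsClassFunction (Subgroup.normalizer (K : Set G)) ϑ → (∀ x : Subgroup.normalizer (K : Set G), (x : G) ∉ K → ϑ x = 0) → ϑ 1 = 0 → ∀ x : Subgroup.normalizer (K : Set G), Cfsg.indFun (Subgroup.normalizer (K : Set G)) ϑ x = ϑ x := by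
  classical
  have h1 := part1 K hTI hC
  refine ⟨h1, ?_⟩
  intro ϑ hcl hvan hone x
  have hN := card_ne_zero_complex (Subgroup.normalizer (K : Set G))
  by_cases hxK : (x : G) ∈ K
  · by_cases hx1 : x = 1
    · subst hx1
      have := indFun_one_apply (Subgroup.normalizer (K : Set G)) ϑ
      rw [hone, mul_zero] at this
      rw [hone]
      exact this
    · have hx1' : (x : G) ≠ 1 := fun h => hx1 (Subtype.ext h)
      have hval : ∀ y : G, extendByZero (Subgroup.normalizer (K : Set G)) ϑ (y⁻¹ * x * y)
          = extendByZero (Subgroup.normalizer (K : Set G)) (fun _ => ϑ x) y := by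
        intro y
        by_cases hy : y ∈ Subgroup.normalizer (K : Set G)
        · rw [extendByZero_of_mem _ _ hy]
          have hm : y⁻¹ * x * y ∈ Subgroup.normalizer (K : Set G) :=
            Subgroup.mul_mem _ (Subgroup.mul_mem _ (Subgroup.inv_mem _ hy) x.2) hy
          rw [extendByZero_of_mem _ _ hm]
          have := hcl x (⟨y, hy⟩⁻¹)
          rw [← this]
          congr 1
          apply Subtype.ext
          simp
        · rw [extendByZero_of_notMem _ _ hy]
          by_cases hm : y⁻¹ * x * y ∈ Subgroup.normalizer (K : Set G)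
          · rw [extendByZero_of_mem _ _ hm]
            apply hvan
            intro hc
            have hy' : y⁻¹ ∉ Subgroup.normalizer (K : Set G) := fun h =>
              hy (by simpa using Subgroup.inv_mem _ h)
            exact hx1' (hTI y⁻¹ hy' x hxK (by simpa using hc))
          · rw [extendByZero_of_notMem _ _ hm]
      simp only [Cfsg.indFun]
      simp_rw [hval]
      haveI : Fintype (Subgroup.normalizer (K : Set G)) := Fintype.ofFinite _
      rw [sum_extendByZero, Finset.sum_const, Finset.card_univ, nsmul_eq_mul,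
        ← Nat.card_eq_fintype_card]
      field_simp
  · rw [hvan x hxK]
    simp only [Cfsg.indFun]
    apply mul_eq_zero_of_right
    refine Finset.sum_eq_zero fun y _ => ?_
    by_cases hm : y⁻¹ * x * y ∈ Subgroup.normalizer (K : Set G)
    · rw [extendByZero_of_mem _ _ hm]
      apply hvan
      intro hc
      exact h1 x x.2 hxK y⁻¹ (by simpa using hc)
    · rw [extendByZero_of_notMem _ _ hm]

end Cfsg.Agent.S0850
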