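import Cfsg.Statements.S0887
import Cfsg.Agent.H52.DegRatio

set_option autoImplicit false
open Cfsg Cfsg.Agent.CharBase Cfsg.Agent.Char
open scoped ComplexConjugate

namespace Cfsg.Agent.S0887

/-- Let N be a normal subgroup of the finite group G, χ an irreducible character of G and ϑ an irreducible character of N having nonzero inner product with the restriction of χ. If χ 1 = c and ϑ 1 = d as natural numbers, then d divides c and c / d divides the index of N. -/
theorem result {G : Type*} [Group G] [Fintype G] (N : Subgroup G) [N.Normal] [Fintype N] (χ : G → ℂ) (hχ : Cfsg.IsIrrCharacter G χ) (ϑ : N → ℂ) (hϑ : Cfsg.IsIrrCharacter N ϑ) (hcon : Cfsg.classInner (fun n : N => χ n) ϑ ≠ 0) (c d : ℕ) (hc : χ 1 = c) (hd : ϑ 1 = d) : d ∣ c ∧ c / d ∣ N.index := by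
  classical
  let T : Subgroup G := inertia N ϑ
  have hNT : N ≤ T := le_inertia N (isClassFunction_of_isCharacter (isCharacter_of_isIrr hϑ))
  have := Fintype.ofFinite T
  obtain ⟨ψ, hψ, hind, hmult⟩ := clifford_correspondence N T hϑ rfl hNT hχ hcon
  -- transport to `N.subgroupOf T`
  let e : N.subgroupOf T ≃* N := Subgroup.subgroupOfEquivOfLe hNT
  have : Fintype (N.subgroupOf T) := Fintype.ofFinite _
  have hN' : (N.subgroupOf T).Normal := Subgroup.normal_subgroupOf
  let θ' : N.subgroupOf T → ℂ := fun n => ϑ (e n)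
  have hθ' : IsIrrCharacter (N.subgroupOf T) θ' :=
    isIrrCharacter_comp_surjective hϑ e.toMonoidHom e.surjective
  have h1 : classInner (fun n : N.subgroupOf T => ψ n) θ'
      = classInner (fun n : N => ψ ⟨n, hNT n.2⟩) ϑ :=
    classInner_comp_equiv e (fun n : N => ψ ⟨n, hNT n.2⟩) ϑ
  have hinv' : ∀ g : T, cj (N.subgroupOf T) g θ' = θ' := by
    intro g
    funext n
    have h2 : cj N (g : G) ϑ = ϑ := g.2
    exact congrFun h2 (e n)
  obtain ⟨k, hk1, hk2, -⟩ := Cfsg.Agent.H52.degree_ratio_invariant (N.subgroupOf T) hψ hθ'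
    (by rw [h1, hmult]; exact hcon) hinv'
  have hθ1 : θ' 1 = d := by
    change ϑ (e 1) = d
    rw [map_one, hd]
  rw [hθ1] at hk2
  have hχ1 : (c : ℂ) = T.index * (k * d) := by
    rw [← hc, ← hind, indFun_one_apply, hk2]
  have hcd : c = (T.index * k) * d := by
    have : (c : ℂ) = ((T.index * k * d : ℕ) : ℂ) := by rw [hχ1]; push_cast; ring
    exact_mod_cast this
  have hd0 : 0 < d := by
    apply Nat.pos_of_ne_zero
    intro h0
    apply irr_one_ne_zero hϑ
    rw [hd, h0, Nat.cast_zero]
  refine ⟨⟨T.index * k, by rw [hcd]; ring⟩, ?_⟩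
  rw [hcd, Nat.mul_div_cancel _ hd0, ← Subgroup.relIndex_mul_index hNT, mul_comm]
  exact Nat.mul_dvd_mul_right hk1 _

end Cfsg.Agent.S0887
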