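import Cfsg.Statements.S4033
import Cfsg.Agent.H21.PRg

set_option autoImplicit false
open Cfsg

namespace Cfsg.Agent.S4033

/-- Let G be a finite group and p a prime, and suppose the conjugacy classes of p-regular elements of G (elements of order prime to p) have exactly two distinct sizes. Then either G has an abelian p-complement (an abelian subgroup of order prime to p and p-power index), or there are a prime q ≠ p, a Sylow p-subgroup P, a Sylow q-subgroup Q and a central subgroup A such that PQ is a normal subgroup of order #P·#Q and G is the internal direct product PQ × A. -/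
theorem result {G : Type*} [Group G] [Finite G] {p : ℕ} (hp : p.Prime)
    (h2 : Set.ncard (Set.range fun x : {x : G // (orderOf x).Coprime p} => (ConjClasses.mk (x : G)).carrier.ncard) = 2) :
    (∃ H : Subgroup G, IsMulCommutative H ∧ ¬ p ∣ Nat.card H ∧ ∃ k : ℕ, H.index = p ^ k) ∨
    (∃ (q : ℕ) (_ : Fact q.Prime) (P : Sylow p G) (Q : Sylow q G) (A : Subgroup G), q ≠ p ∧
        A ≤ Subgroup.center G ∧ Nat.card ↥((P : Subgroup G) ⊔ (Q : Subgroup G)) = Nat.card P * Nat.card Q ∧
        ((P : Subgroup G) ⊔ (Q : Subgroup G)).Normal ∧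
        ((P : Subgroup G) ⊔ (Q : Subgroup G)) ⊓ A = ⊥ ∧ ((P : Subgroup G) ⊔ (Q : Subgroup G)) ⊔ A = ⊤) := by
  classical
  set f : {x : G // (orderOf x).Coprime p} → ℕ := fun x => (ConjClasses.mk (x : G)).carrier.ncard with hf
  have hfi : ∀ x, f x = (Subgroup.centralizer ({(x : G)} : Set G)).index := fun x =>
    Cfsg.Agent.H67.ncard_carrier_eq_index (x : G)
  have h1 : (1 : ℕ) ∈ Set.range f := by
    refine ⟨⟨1, by simp⟩, ?_⟩
    rw [hfi]
    have : Subgroup.centralizer ({(1 : G)} : Set G) = ⊤ := by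
      rw [eq_top_iff]
      intro g _
      rw [Subgroup.mem_centralizer_singleton_iff]
      simp
    show (Subgroup.centralizer ({(1 : G)} : Set G)).index = 1
    rw [this, Subgroup.index_top]
  obtain ⟨a, b, hab, hr⟩ := Set.ncard_eq_two.1 h2
  -- the other value
  obtain ⟨m, hm1, hm⟩ : ∃ m : ℕ, m ≠ 1 ∧ Set.range f = {1, m} := by
    rw [hr] at h1
    rcases h1 with h1 | h1
    · exact ⟨b, by rw [h1]; exact hab.symm, by rw [h1, hr]⟩
    · rw [Set.mem_singleton_iff] at h1
      exact ⟨a, by rw [h1]; exact hab, by rw [h1, hr, Set.pair_comm]⟩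
  have hP : Cfsg.Agent.H21.PR.PHyp G p m := by
    refine ⟨hp, ?_⟩
    intro x hx
    have h3 : f ⟨x, hx.1⟩ ∈ Set.range f := ⟨_, rfl⟩
    rw [hm, hfi] at h3
    rcases h3 with h3 | h3
    · exfalso
      apply hx.2
      have h4 : Subgroup.centralizer ({x} : Set G) = ⊤ := Subgroup.index_eq_one.1 h3
      rw [Subgroup.mem_center_iff]
      intro g
      have h5 : g ∈ Subgroup.centralizer ({x} : Set G) := by rw [h4]; trivial
      exact Subgroup.mem_centralizer_singleton_iff.1 h5
    · exact h3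
  have hex : ∃ x : G, Cfsg.Agent.H21.PR.NC p x := by
    have h3 : m ∈ Set.range f := by rw [hm]; simp
    obtain ⟨⟨x, hx⟩, hxm⟩ := h3
    refine ⟨x, hx, ?_⟩
    intro hxc
    apply hm1
    rw [← hxm, hfi]
    have : Subgroup.centralizer ({x} : Set G) = ⊤ := by
      rw [eq_top_iff]
      intro g _
      rw [Subgroup.mem_centralizer_singleton_iff]
      exact Subgroup.mem_center_iff.1 hxc g
    show (Subgroup.centralizer ({x} : Set G)).index = 1
    rw [this, Subgroup.index_top]
  obtain ⟨x, hx⟩ := hex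
  obtain ⟨q, j, hq, hqp, hxq, hxj, -⟩ := hP.primary hx
  by_cases hc : ∀ l : ℕ, l.Prime → l ≠ p → l ≠ q → ∀ w : G, Cfsg.Agent.H21.PR.QEl l w → w ∈ Subgroup.center G
  · right
    exact Cfsg.Agent.H21.PR.single hp hq hqp hc
  · left
    push Not at hc
    obtain ⟨l, hl, hlp, hlq, w, hw, hwc⟩ := hc
    have H : Cfsg.Agent.H21.PR.Dat G p m :=
      { hP with two := ⟨q, l, hq, hl, hqp, hlp, Ne.symm hlq, ⟨_, hxq, hxj.2⟩, ⟨w, hw, hwc⟩⟩ }
    exact H.conclusion

end Cfsg.Agent.S4033
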