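import Cfsg.Statements.S4034
import Cfsg.Agent.H67.PRegular

set_option autoImplicit false
open Cfsg

namespace Cfsg.Agent.S4034

/-- Let G be a finite group and p a prime. Every conjugacy class of p-regular elements of G (elements of order prime to p) has p-power size if and only if G has an abelian p-complement, i.e. an abelian subgroup of order prime to p and p-power index. -/
theorem result {G : Type*} [Group G] [Finite G] {p : ℕ} (hp : p.Prime) :
    (∀ x : G, (orderOf x).Coprime p → ∃ k : ℕ, (ConjClasses.mk x).carrier.ncard = p ^ k) ↔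
    (∃ H : Subgroup G, IsMulCommutative H ∧ ¬ p ∣ Nat.card H ∧ ∃ k : ℕ, H.index = p ^ k) := by
  constructor
  · intro h
    apply H67.PRegClassPPower.exists_abelian_complement_aux hp _ G rfl
    intro x hx
    obtain ⟨k, hk⟩ := h x hx
    exact ⟨k, by rw [← H67.ncard_carrier_eq_index, hk]⟩
  · rintro ⟨H, hH, hHp, k, hk⟩ x hx
    obtain ⟨g, hg⟩ := H67.exists_conj_mem_of_abelian_complement hp _ G H
      (fun a ha b hb => Solv.comm_of_isMulCommutative hH ha hb) ⟨k, hk⟩ x rfl hx
    have h1 : H ≤ Subgroup.centralizer ({g * x * g⁻¹} : Set G) := by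
      intro a ha
      rw [Subgroup.mem_centralizer_singleton_iff]
      exact Solv.comm_of_isMulCommutative hH ha hg
    have h2 : (ConjClasses.mk x) = ConjClasses.mk (g * x * g⁻¹) :=
      ConjClasses.mk_eq_mk_iff_isConj.mpr (isConj_iff.mpr ⟨g, rfl⟩)
    rw [h2, H67.ncard_carrier_eq_index]
    have h3 : (Subgroup.centralizer ({g * x * g⁻¹} : Set G)).index ∣ p ^ k := by
      rw [← hk]; exact Subgroup.index_dvd_of_le h1
    obtain ⟨j, -, hj⟩ := (Nat.dvd_prime_pow hp).mp h3
    exact ⟨j, hj⟩

end Cfsg.Agent.S4034
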