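import Cfsg.Statements.S4035
import Cfsg.Agent.H67.ConjCover

set_option autoImplicit false
open Cfsg

namespace Cfsg.Agent.S4035

/-- Let G be a finite group and p a prime such that p divides the size of no conjugacy class of p-regular elements (elements of order prime to p). Then G is the internal direct product of a Sylow p-subgroup P and a normal subgroup H of order prime to p: P is normal, P ⊓ H = 1 and PH = G. -/
theorem result {G : Type*} [Group G] [Finite G] {p : ℕ} [Fact p.Prime]
    (h : ∀ x : G, (orderOf x).Coprime p → ¬ p ∣ (ConjClasses.mk x).carrier.ncard) (P : Sylow p G) :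
    (P : Subgroup G).Normal ∧ ∃ H : Subgroup G, H.Normal ∧ ¬ p ∣ Nat.card H ∧
      (P : Subgroup G) ⊓ H = ⊥ ∧ (P : Subgroup G) ⊔ H = ⊤ := by
  have hp : p.Prime := Fact.out
  have htop := H67.sylow_sup_centralizer_eq_top h P
  have hnorm : (P : Subgroup G).Normal := by
    rw [← Subgroup.normalizer_eq_top_iff, eq_top_iff, ← htop]
    exact sup_le Subgroup.le_normalizer (Subgroup.centralizer_le_normalizer _)
  refine ⟨hnorm, ?_⟩
  have hcop : (Nat.card (P : Subgroup G)).Coprime (P : Subgroup G).index := P.card_coprime_index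
  obtain ⟨H, hH⟩ := Subgroup.exists_right_complement'_of_coprime hcop
  have hHcard : Nat.card H = (P : Subgroup G).index := hH.symm.index_eq_card.symm ▸ rfl
  have hHp : ¬ p ∣ Nat.card H := by
    rw [hHcard]; exact P.not_dvd_index
  have hHC : H ≤ Subgroup.centralizer ((P : Subgroup G) : Set G) := by
    intro x hx
    have hx' : x ∈ (P : Subgroup G) ⊔ Subgroup.centralizer ((P : Subgroup G) : Set G) := by
      rw [htop]; exact Subgroup.mem_top x
    obtain ⟨a, ha, c, hc, rfl⟩ := Subgroup.mem_sup_of_normal_left.mp hx'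
    have hcomm : Commute a c := (Subgroup.mem_centralizer_iff.mp hc a ha)
    obtain ⟨k, hk⟩ := IsPGroup.iff_card.mp P.2
    have hak : a ^ (p ^ k) = 1 := by
      rw [← hk]
      have h0 : (⟨a, ha⟩ : (P : Subgroup G)) ^ Nat.card (P : Subgroup G) = 1 := pow_card_eq_one'
      exact congrArg Subtype.val h0
    have h1 : (a * c) ^ (p ^ k) ∈ Subgroup.centralizer ((P : Subgroup G) : Set G) := by
      rw [hcomm.mul_pow, hak, one_mul]
      exact pow_mem hc _
    have h2 : (orderOf (a * c)).Coprime (p ^ k) := by
      apply Nat.Coprime.pow_right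
      rw [Nat.coprime_comm, Nat.Prime.coprime_iff_not_dvd hp]
      intro hd
      apply hHp
      exact hd.trans (by
        have := orderOf_dvd_natCard (⟨a * c, hx⟩ : H)
        rwa [← Subgroup.orderOf_coe] at this)
    exact (Subgroup.zpowers_le.mpr h1) (H67.mem_zpowers_pow_of_coprime h2)
  refine ⟨H, ?_, hHp, ?_, ?_⟩
  · rw [← Subgroup.normalizer_eq_top_iff, eq_top_iff, ← hH.sup_eq_top]
    refine sup_le ?_ Subgroup.le_normalizer
    refine le_trans ?_ (Subgroup.centralizer_le_normalizer _)
    exact Subgroup.le_centralizer_iff.mp hHC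
  · exact hH.disjoint.eq_bot
  · exact hH.sup_eq_top

end Cfsg.Agent.S4035
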