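import Cfsg.Statements.S3360
import Cfsg.Agent.H68.HupH

set_option autoImplicit false
open Cfsg

namespace Cfsg.Agent.S3360

open Cfsg.Agent.H68

/-- Let q be a prime and V a non-trivial finite vector space over the field with q elements, and let G be a finite solvable group acting faithfully and linearly on V and transitively on the non-zero vectors. Then either V can be identified with the additive group of a finite field F in such a way that every element of G acts as x ↦ a·σ(x) for some a ∈ F and some field automorphism σ, or the number of elements of V is one of 3^2, 5^2, 7^2, 11^2, 23^2, 3^4. -/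
theorem result
    (q : ℕ) [Fact q.Prime] {V : Type*} [AddCommGroup V] [Module (ZMod q) V] [Finite V] [Nontrivial V]
    {G : Type*} [Group G] [Finite G] (hsol : Group.IsSolvable G)
    (ρ : G →* (V ≃ₗ[ZMod q] V)) (hρ : Function.Injective ρ)
    (htrans : ∀ v w : V, v ≠ 0 → w ≠ 0 → ∃ g : G, ρ g v = w) :
    (∃ (F : Type) (_ : Field F) (_ : Fintype F) (e : V ≃+ F),
        ∀ g : G, ∃ (a : F) (σ : F ≃+* F), ∀ v : V, e (ρ g v) = a * σ (e v)) ∨
    Nat.card V ∈ ({9, 25, 49, 121, 529, 81} : Set ℕ) := by
  have hq : q.Prime := Fact.out
  let act : DistribMulAction G V :=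
    { smul := fun g v => ρ g v
      one_smul := fun v => by
        change ρ 1 v = v
        rw [map_one]; rfl
      mul_smul := fun g h v => by
        change ρ (g * h) v = ρ g (ρ h v)
        rw [map_mul]; rfl
      smul_zero := fun g => map_zero (ρ g)
      smul_add := fun g v w => map_add (ρ g) v w }
  have hfree : Module.Finite (ZMod q) V := Module.Finite.of_finite
  have hn : Nat.card V = q ^ Module.finrank (ZMod q) V := by
    rw [Module.natCard_eq_pow_finrank (K := ZMod q), Nat.card_zmod]
  have hf : Hup.FaithV G V := by
    intro g hg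
    apply hρ
    rw [map_one]
    apply LinearEquiv.ext
    intro v
    exact hg v
  obtain ⟨A, hA⟩ := Hup.exists_maxAb G
  rcases Hup.structure_thm hn hsol hf htrans hA with ⟨F, i1, i2, i3, h, h1⟩ |
    ⟨F, i1, i2, i3, B, h, hFq, hFn, hBn, hB, hq2, hBc, h1⟩
  · exact Or.inl (h.semilinear h1)
  · right
    rcases h1 with ⟨h2, h3, -⟩ | ⟨h2, h3⟩
    · rw [hn, h2]
      have h4 : q ≤ 23 := by
        have := Nat.le_of_dvd (by norm_num) h3
        omega
      have h5 : q = 3 ∨ q = 5 ∨ q = 7 ∨ q = 11 ∨ q = 23 := by
        have h6 := hq.two_le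
        interval_cases q <;> omega
      rcases h5 with rfl | rfl | rfl | rfl | rfl <;> simp
    · rw [hn, h2, h3]
      simp

end Cfsg.Agent.S3360
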