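import Cfsg.Statements.S0867
import Cfsg.Agent.Char.ExtUnique

set_option autoImplicit false
open Cfsg

namespace Cfsg.Agent.S0867

/-- Let N be a normal subgroup of the finite group G and ϑ an irreducible character of N of degree d, invariant under conjugation by G, such that the index of N is coprime to the product of d and the determinantal order of ϑ. Then there is an irreducible character χ of G restricting to ϑ whose determinantal order equals that of ϑ, and χ is the only irreducible character of G restricting to ϑ whose determinantal order is coprime to the index of N. -/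
theorem result {G : Type*} [Group G] [Finite G] (N : Subgroup G) [hN : N.Normal] (ϑ : N → ℂ) (hϑ : Cfsg.IsIrrCharacter N ϑ) (hinv : ∀ (g : G) (n : N), ϑ ⟨g * n * g⁻¹, hN.conj_mem (n : G) n.2 g⟩ = ϑ n) (d : ℕ) (hd : ϑ 1 = d) (hcop : Nat.Coprime N.index (Cfsg.detOrder ϑ * d)) : ∃ χ : G → ℂ, (Cfsg.IsIrrCharacter G χ ∧ (∀ n : N, χ n = ϑ n) ∧ Cfsg.detOrder χ = Cfsg.detOrder ϑ) ∧ ∀ χ' : G → ℂ, Cfsg.IsIrrCharacter G χ' → (∀ n : N, χ' n = ϑ n) → Nat.Coprime N.index (Cfsg.detOrder χ') → χ' = χ := by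
  have hinv' : ∀ g : G, Cfsg.Agent.Char.cj N g ϑ = ϑ := fun g => funext fun n => hinv g n
  have hdc := Cfsg.Agent.Char.detChar_isCharacter hϑ
  have hcop1 : Nat.Coprime N.index (orderOf (Cfsg.detChar ϑ)) :=
    Nat.Coprime.coprime_dvd_right (Dvd.intro _ rfl) hcop
  have hcop2 : Nat.Coprime N.index d := Nat.Coprime.coprime_dvd_right (Dvd.intro_left _ rfl) hcop
  obtain ⟨μ, hμN, hμo, hμu⟩ := Cfsg.Agent.Char.exists_linear_extension
    (Cfsg.Agent.Char.linHom hdc.1 hdc.2) (fun g => by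
      have := Cfsg.Agent.Char.detChar_cj hϑ g
      rw [hinv'] at this
      exact this.symm) hcop1
  have hext := Cfsg.Agent.Char.exists_extension_of_det hϑ hinv' hd hcop2 μ hμN
  obtain ⟨χ, ⟨hχ, hχN, hχd⟩, hχu⟩ := Cfsg.Agent.Char.exists_unique_extension_det hϑ hd hcop2 hext μ
    hμN
  refine ⟨χ, ⟨hχ, hχN, ?_⟩, ?_⟩
  · unfold Cfsg.detOrder
    rw [hχd]
    exact hμo
  · intro χ' hχ' hχ'N hχ'cop
    apply hχu
    refine ⟨hχ', hχ'N, ?_⟩
    have hdc' := Cfsg.Agent.Char.detChar_isCharacter hχ'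
    have h1 := hμu (Cfsg.Agent.Char.linHom hdc'.1 hdc'.2) (fun n =>
      Cfsg.Agent.Char.detChar_restrict N hχ' hϑ hχ'N n) hχ'cop
    rw [← h1]
    rfl

end Cfsg.Agent.S0867
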