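import Cfsg.Statements.S0944
import Cfsg.Agent.CharBase.Central

set_option autoImplicit false
open Cfsg

namespace Cfsg.Agent.S0944

open Cfsg.Agent.CharBase

/-- Let χ be an irreducible character of the finite group G and u an involution. Then χ u is a rational integer n with n ≡ χ 1 (mod 2). -/
theorem result {G : Type*} [Group G] [Finite G] (χ : Cfsg.IrrCharacter G) (u : G) (hu : orderOf u = 2) : ∃ n : ℤ, (χ : G → ℂ) u = (n : ℂ) ∧ (2 : ℤ) ∣ (Cfsg.charDegree (χ : G → ℂ) : ℤ) - n := by
  obtain ⟨n, ρ, -, hχ⟩ := χ.2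
  obtain ⟨s, hs, hs2, hsum⟩ := exists_roots_of_isCharacter ρ u
  have hdeg : Cfsg.charDegree (χ : G → ℂ) = n := by
    unfold Cfsg.charDegree
    rw [← hχ, Representation.char_one]
    simp
  rw [hu] at hs2
  have key : ∀ (t : Multiset ℂ), (∀ z ∈ t, z ^ 2 = 1) →
      ∃ m : ℤ, t.sum = (m : ℂ) ∧ (2 : ℤ) ∣ (t.card : ℤ) - m := by
    intro t
    induction t using Multiset.induction_on with
    | empty => intro _; exact ⟨0, by simp⟩
    | cons a t ih =>
      intro h
      obtain ⟨m, hm, hdvd⟩ := ih (fun z hz => h z (Multiset.mem_cons_of_mem hz))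
      have ha := h a (Multiset.mem_cons_self a t)
      rcases (show a = 1 ∨ a = -1 from by
        have h0 : (a - 1) * (a + 1) = 0 := by linear_combination ha
        rcases mul_eq_zero.mp h0 with h | h
        · left; linear_combination h
        · right; linear_combination h) with h1 | h1
      · refine ⟨m + 1, ?_, ?_⟩
        · rw [Multiset.sum_cons, hm, h1]; push_cast; ring
        · rw [Multiset.card_cons]; push_cast
          obtain ⟨c, hc⟩ := hdvd
          exact ⟨c, by linarith⟩
      · refine ⟨m - 1, ?_, ?_⟩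
        · rw [Multiset.sum_cons, hm, h1]; push_cast; ring
        · rw [Multiset.card_cons]; push_cast
          obtain ⟨c, hc⟩ := hdvd
          exact ⟨c + 1, by linarith⟩
  obtain ⟨m, hm, hdvd⟩ := key s hs2
  refine ⟨m, ?_, ?_⟩
  · rw [← hχ, hsum, hm]
  · rw [hdeg, ← hs]; exact hdvd

end Cfsg.Agent.S0944
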