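import Cfsg.Statements.S0945
import Cfsg.Agent.H51.Homo2

set_option autoImplicit false
open Cfsg

namespace Cfsg.Agent.S0945

/-- Let P be a Sylow 2-subgroup of the finite group G isomorphic to Z/2^m × Z/2^m with m ≥ 1. Then (i) the index of C_G(P) in N_G(P) is 1 or 3, and (ii) if it is not 1, then for every z ≠ 1 in P, C_G(z) ∩ N_G(P) = C_G(P). -/
theorem result {G : Type*} [Group G] [Finite G] (P : Sylow 2 G) (m : ℕ) (hm : 1 ≤ m) (e : (P : Subgroup G) ≃* Multiplicative (ZMod (2 ^ m) × ZMod (2 ^ m))) : ((Subgroup.centralizer (P : Set G)).relIndex (Subgroup.normalizer (P : Set G)) = 1 ∨ (Subgroup.centralizer (P : Set G)).relIndex (Subgroup.normalizer (P : Set G)) = 3) ∧ ((Subgroup.centralizer (P : Set G)).relIndex (Subgroup.normalizer (P : Set G)) ≠ 1 → ∀ z ∈ (P : Subgroup G), z ≠ 1 → Subgroup.centralizer ({z} : Set G) ⊓ Subgroup.normalizer (P : Set G) = Subgroup.centralizer (P : Set G)) := by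
  refine ⟨?_, ?_⟩
  · rcases Cfsg.Agent.H51.relIndex_one_or_three P hm e with h | ⟨h, -⟩
    · exact Or.inl h
    · exact Or.inr h
  · intro _ z hz hz1
    apply le_antisymm
    · rintro g ⟨hg1, hg2⟩
      -- an involution in `⟨z⟩`
      have hpg : IsPGroup 2 (Subgroup.zpowers z) := P.isPGroup'.to_le (by rw [Subgroup.zpowers_le]; exact hz)
      have hnt : Nontrivial (Subgroup.zpowers z) := by
        rw [Subgroup.nontrivial_iff_ne_bot]
        intro h
        exact hz1 (Subgroup.zpowers_eq_bot.mp h)
      obtain ⟨n, hn0, hn⟩ := (hpg.nontrivial_iff_card).mp hnt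
      obtain ⟨w, hw⟩ := exists_prime_orderOf_dvd_card' (G := Subgroup.zpowers z) 2
        (by rw [hn]; exact dvd_pow_self 2 hn0.ne')
      have hw2 : (w : G) ^ 2 = 1 := by
        have := pow_orderOf_eq_one w
        rw [hw] at this
        exact congrArg Subtype.val this
      have hw1 : (w : G) ≠ 1 := by
        intro h
        have h1 : w = 1 := Subtype.ext h
        rw [h1, orderOf_one] at hw
        omega
      have hwP : (w : G) ∈ (P : Subgroup G) := by
        have : Subgroup.zpowers z ≤ (P : Subgroup G) := by rw [Subgroup.zpowers_le]; exact hz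
        exact this w.2
      have hgz : Commute g z := Subgroup.mem_centralizer_singleton_iff.mp hg1
      have hgw : g * (w : G) = w * g := by
        obtain ⟨i, hi⟩ := Subgroup.mem_zpowers_iff.mp w.2
        rw [← hi]
        exact (hgz.zpow_right i).eq
      exact Cfsg.Agent.H51.mem_centralizer_of_one P hm e hg2 hwP hw1 hw2 hgw
    · intro g hg
      refine ⟨?_, Subgroup.centralizer_le_normalizer _ hg⟩
      change g ∈ Subgroup.centralizer ({z} : Set G)
      rw [Subgroup.mem_centralizer_singleton_iff]
      exact (Subgroup.mem_centralizer_iff.mp hg z hz).symm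

end Cfsg.Agent.S0945
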