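import Cfsg.Statements.S4434
import Cfsg.Agent.H76.QuotBlk2

set_option autoImplicit false
open Cfsg

namespace Cfsg.Agent.S4434

open Cfsg.Agent.CharBase Cfsg.Agent.Blk Cfsg.Agent.H76

/-- Let N be a normal p-subgroup of the finite group G and write Ḡ = G/N; fix a maximal ideal M of the algebraic integers containing p. Then every block B of G contains a block B̄ of Ḡ (the inflation of every member of B̄ lies in B) whose defect groups are exactly the images in Ḡ of the defect groups of B. -/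
theorem result {G : Type*} [Group G] [Finite G] (p : ℕ) [Fact p.Prime] (M : Ideal Cfsg.AlgInt) (hM : Cfsg.IsPModular p M) (N : Subgroup G) [N.Normal] (hN : IsPGroup p N) (B : Set (Cfsg.IrrCharacter G)) (hB : Cfsg.IsPBlock M B) : ∃ Bbar : Set (Cfsg.IrrCharacter (G ⧸ N)), Cfsg.IsPBlock M Bbar ∧ (∀ χ ∈ Bbar, ∀ ψ : Cfsg.IrrCharacter G, (ψ : G → ℂ) = (χ : G ⧸ N → ℂ) ∘ QuotientGroup.mk → ψ ∈ B) ∧ ∀ Dbar : Subgroup (G ⧸ N), Cfsg.IsDefectGroup p M Bbar Dbar ↔ ∃ P : Subgroup G, Cfsg.IsDefectGroup p M B P ∧ Dbar = P.map (QuotientGroup.mk' N) := by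
  classical
  have hMp := isPrime_of_isPModular hM
  have hchar := charP_kM hM
  have : Fintype G := Fintype.ofFinite G
  have : Fintype (G ⧸ N) := Fintype.ofFinite _
  obtain ⟨P, hP⟩ := (isBlk_eB hB).exists_isDef p
  have hNP : N ≤ P := (isBlk_eB hB).normal_le_def hP le_top
    (by rw [Subgroup.normalizer_eq_top N]) hN
  have hbr := br_pq_ne_zero N hP.isPGroup hNP ((fixed_eB B).mono le_top) (eB_idem hB) hP.br_ne
  set Pb := P.map (QuotientGroup.mk' N) with hPb
  have hPbp : IsPGroup p Pb := hP.isPGroup.map _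
  -- decompose the projection
  have hfix := fixed_top_pq N (fixed_eB (M := M) B)
  have hidem : pq N (eB M B) * pq N (eB M B) = pq N (eB M B) := by rw [← pq_mul, eB_idem hB]
  obtain ⟨s, hs, hsum⟩ := exists_blk_decomp ⊤ (pq N (eB M B)) ⟨supp_top _, hfix⟩ hidem
  obtain ⟨f, hf, hfbr⟩ : ∃ f ∈ s, br Pb f ≠ 0 := by
    by_contra hcon
    push Not at hcon
    apply hbr
    rw [← hsum, br_sum]
    exact Finset.sum_eq_zero hcon
  obtain ⟨B', hB', rfl⟩ := exists_eB (hs f hf)
  have hmul : pq N (eB M B) * eB M B' = eB M B' := by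
    rw [← hsum, Finset.sum_mul, Finset.sum_eq_single (eB M B')]
    · exact (hs _ hf).idem
    · intro g hg hne
      by_contra h0
      exact hne ((hs g hg).eq_of_mul_ne_zero (hs _ hf) h0)
    · intro h; exact absurd hf h
  refine ⟨B', hB', ?_, ?_⟩
  · intro χ hχ ψ hψ
    have h1 := mem_of_pq_eB_mul_eB N hB hB' hmul hχ
    have h2 : ψ = infl N χ := Subtype.ext hψ
    rw [h2]; exact h1
  -- the defect groups
  obtain ⟨D, hD⟩ := (isBlk_eB hB').exists_isDef p
  obtain ⟨v, -, hv⟩ := hD.le_of_br_ne le_top hPbp hfbr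
  have hbrD : br D (pq N (eB M B)) ≠ 0 := by
    intro h0
    apply hD.br_ne
    rw [← hmul, br_mul hD.isPGroup (hfix.mono le_top) ((fixed_eB B').mono le_top), h0, zero_mul]
  obtain ⟨u, hu⟩ := exists_le_map_of_br_ne N hP hD.isPGroup hbrD
  rw [map_mk'_conj] at hu
  have hPD : IsDef p ⊤ (eB M B') Pb := by
    refine hD.of_card_le (fixed_eB B') le_top hPbp hfbr ?_
    have := Subgroup.card_le_of_le hu
    rwa [card_map_conj] at this
  intro Dbar
  rw [isDefectGroup_iff hM hB']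
  constructor
  · intro h
    obtain ⟨w, -, hw⟩ := hPD.conj h
    obtain ⟨w, rfl⟩ := QuotientGroup.mk'_surjective N w
    refine ⟨_, (isDefectGroup_iff hM hB _).2 (hP.cj_of_mem (fixed_eB B) (Subgroup.mem_top w)), ?_⟩
    rw [map_mk'_conj]; exact hw
  · rintro ⟨Q, hQ, rfl⟩
    obtain ⟨w, -, rfl⟩ := hP.conj ((isDefectGroup_iff hM hB _).1 hQ)
    rw [map_mk'_conj]
    exact hPD.cj_of_mem (fixed_eB B') (Subgroup.mem_top _)

end Cfsg.Agent.S4434
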