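import Cfsg.Statements.S0111
-- import your own Cfsg.Agent.* helpers here

set_option autoImplicit false
open Cfsg

namespace Cfsg.Agent.S0111

/-- Transfer to a group of order two: if `u` is an involution, `P` has odd index and no conjugate of `u` lying in `P`
is in the kernel of `f : P →* Multiplicative (ZMod 2)`, then the transfer of `u` is nontrivial. -/
theorem transfer_ne_one {G : Type*} [Group G] [Finite G] (P : Subgroup G) (hP : Odd P.index)
    (f : P →* Multiplicative (ZMod 2)) (u : G) (hu : u ^ 2 = 1)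
    (h : ∀ g : G, ∀ hg : g⁻¹ * u * g ∈ P, f ⟨g⁻¹ * u * g, hg⟩ = Multiplicative.ofAdd 1) :
    MonoidHom.transfer f u = Multiplicative.ofAdd 1 := by
  classical
  have : Fintype (Quotient (MulAction.orbitRel (Subgroup.zpowers u) (G ⧸ P))) := Fintype.ofFinite _
  rw [MonoidHom.transfer_eq_prod_quotient_orbitRel_zpowers_quot]
  have aux : ∀ (n : ℕ) (g : G) (_ : n ∣ 2) (hg : g⁻¹ * u ^ n * g ∈ P),
      f ⟨g⁻¹ * u ^ n * g, hg⟩ = (Multiplicative.ofAdd (1 : ZMod 2)) ^ n := by
    intro n g hn hg
    rcases (Nat.dvd_prime Nat.prime_two).1 hn with rfl | rfl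
    · have h3 : (⟨g⁻¹ * u ^ 1 * g, hg⟩ : P) = ⟨g⁻¹ * u * g, by simpa using hg⟩ := by
        apply Subtype.ext
        simp
      rw [h3]
      exact (h g _).trans (pow_one _).symm
    · have h3 : (⟨g⁻¹ * u ^ 2 * g, hg⟩ : P) = 1 := by
        apply Subtype.ext
        change g⁻¹ * u ^ 2 * g = 1
        rw [hu]; group
      rw [h3, map_one]
      rfl
  have key : ∀ q : Quotient (MulAction.orbitRel (Subgroup.zpowers u) (G ⧸ P)),
      f ⟨q.out.out⁻¹ * u ^ Function.minimalPeriod (u • ·) q.out * q.out.out,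
            QuotientGroup.out_conj_pow_minimalPeriod_mem P u q.out⟩ =
      (Multiplicative.ofAdd (1 : ZMod 2)) ^ Function.minimalPeriod (u • ·) q.out := by
    intro q
    have hdvd : Function.minimalPeriod (u • ·) q.out ∣ 2 := by
      apply Function.IsPeriodicPt.minimalPeriod_dvd
      change (fun x : G ⧸ P => u • x)^[2] q.out = q.out
      simp only [Function.iterate_succ, Function.iterate_zero, Function.comp_apply, id]
      rw [← mul_smul, ← pow_two, hu, one_smul]
    exact aux _ _ hdvd _
  rw [Finset.prod_congr rfl (fun q _ => key q), Finset.prod_pow_eq_pow_sum]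
  rw [← Subgroup.index_eq_sum_minimalPeriod P u]
  obtain ⟨k, hk⟩ := hP
  rw [hk, pow_add, pow_mul]
  have : (Multiplicative.ofAdd (1 : ZMod 2)) ^ 2 = 1 := rfl
  rw [this, one_pow, one_mul, pow_one]

/-- A subgroup of index two is the kernel of a homomorphism to `Multiplicative (ZMod 2)`. -/
theorem exists_hom_of_index_two {H : Type*} [Group H] (Q : Subgroup H) (hQ : Q.index = 2) :
    ∃ f : H →* Multiplicative (ZMod 2), ∀ x, f x = 1 ↔ x ∈ Q := by
  classical
  refine ⟨⟨⟨fun x => if x ∈ Q then 1 else Multiplicative.ofAdd 1, by simp [Q.one_mem]⟩, ?_⟩, ?_⟩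
  · intro x y
    have := Subgroup.mul_mem_iff_of_index_two hQ (a := x) (b := y)
    by_cases hx : x ∈ Q <;> by_cases hy : y ∈ Q <;> simp_all
    rfl
  · intro x
    by_cases hx : x ∈ Q
    · simp [hx]
    · simp only [MonoidHom.coe_mk, OneHom.coe_mk, hx, if_false, iff_false]
      decide

/-- The Thompson transfer lemma states that an involution of a Sylow 2-subgroup P lying outside a subgroup Q of index 2 in P either lies outside some normal subgroup of index 2 in G or is conjugate to an element of Q. -/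
theorem result {G : Type*} [Group G] [Finite G] (P : Sylow 2 G) (Q : Subgroup G) (hQP : Q ≤ (P : Subgroup G)) (hQi : Q.relIndex (P : Subgroup G) = 2) (u : G) (hu : orderOf u = 2) (huP : u ∈ (P : Subgroup G)) (huQ : u ∉ Q) : (∃ M : Subgroup G, M.Normal ∧ M.index = 2 ∧ u ∉ M) ∨ ∃ g : G, g * u * g⁻¹ ∈ Q := by
  by_cases hc : ∃ g : G, g * u * g⁻¹ ∈ Q
  · exact Or.inr hc
  left
  push Not at hc
  obtain ⟨f, hf⟩ := exists_hom_of_index_two (Q.subgroupOf (P : Subgroup G)) hQi
  have hz : ∀ z : Multiplicative (ZMod 2), z ≠ 1 → z = Multiplicative.ofAdd 1 := by decide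
  have hP : Odd (P : Subgroup G).index := by
    rw [← Nat.not_even_iff_odd, even_iff_two_dvd]
    exact P.not_dvd_index
  have hu2 : u ^ 2 = 1 := by rw [← hu]; exact pow_orderOf_eq_one u
  have ht := transfer_ne_one (P : Subgroup G) hP f u hu2 (by
    intro g hg
    apply hz
    rw [Ne, hf, Subgroup.mem_subgroupOf]
    have := hc g⁻¹
    rwa [inv_inv] at this)
  refine ⟨(MonoidHom.transfer f).ker, inferInstance, ?_, ?_⟩
  · rw [Subgroup.index_ker]
    have : (MonoidHom.transfer f).range = ⊤ := by
      rw [eq_top_iff]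
      intro z _
      by_cases h1 : z = 1
      · rw [h1]; exact Subgroup.one_mem _
      · rw [hz z h1]; exact ⟨u, ht⟩
    rw [this, Subgroup.card_top]
    simp
  · rw [MonoidHom.mem_ker, ht]
    decide

end Cfsg.Agent.S0111
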