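import Cfsg.Statements.S0809
import Cfsg.Agent.H14.SL2Four

set_option autoImplicit false
open Cfsg

namespace Cfsg.Agent.S0809

open Cfsg.Agent.H41 Cfsg.Agent.H14.SL2Four

theorem two_ne_zero_of_odd {F : Type*} [Field F] [Fintype F] (h : Odd (Fintype.card F)) : (2 : F) ≠ 0 := by
  intro h2
  have : ringChar F = 2 := by
    have : CharP F 2 := CharTwo.of_one_ne_zero_of_two_eq_zero one_ne_zero h2
    exact ringChar.eq F 2
  have h3 := FiniteField.even_card_iff_char_two.1 this
  rw [Nat.odd_iff] at h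
  omega

/-- In SL_2(q), q odd: any two subgroups of order 4 are conjugate, and the normaliser of a subgroup of order 4 has order 2(q − 1) if q ≡ 1 (mod 4) and 2(q + 1) if q ≡ 3 (mod 4); consequently all involutions of PSL_2(q) are conjugate. -/
theorem result {F : Type*} [Field F] [Fintype F] {q : ℕ} (hF : Fintype.card F = q) (hodd : Odd q) (A : Subgroup (Matrix.SpecialLinearGroup (Fin 2) F)) (hA : Nat.card A = 4) : (∀ B : Subgroup (Matrix.SpecialLinearGroup (Fin 2) F), Nat.card B = 4 → ∃ g : Matrix.SpecialLinearGroup (Fin 2) F, B = A.map (MulAut.conj g).toMonoidHom) ∧ (q % 4 = 1 → Nat.card ↥(Subgroup.normalizer (A : Set (Matrix.SpecialLinearGroup (Fin 2) F))) = 2 * (q - 1)) ∧ (q % 4 = 3 → Nat.card ↥(Subgroup.normalizer (A : Set (Matrix.SpecialLinearGroup (Fin 2) F))) = 2 * (q + 1)) ∧ (∀ x y : Matrix.ProjectiveSpecialLinearGroup (Fin 2) F, orderOf x = 2 → orderOf y = 2 → IsConj x y) := by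
  subst hF
  have h2 := two_ne_zero_of_odd hodd
  obtain ⟨g, rfl, hg⟩ := exists_gen h2 A hA
  refine ⟨?_, ?_, ?_, ?_⟩
  · intro B hB
    obtain ⟨h, rfl, hh⟩ := exists_gen h2 B hB
    obtain ⟨P, hP⟩ := isConj_of_tr h2 hg hh
    exact ⟨P, by rw [map_zpowers_conj, hP]⟩
  · intro hq
    rw [card_normalizer h2 hg]
    obtain ⟨i, hi⟩ : IsSquare (-1 : F) := FiniteField.isSquare_neg_one_iff.2 (by omega)
    rw [(centralizer_of_eig g (sq_ne_four h2 hg) i (by rw [hg, zero_mul, sub_zero, pow_two, ← hi]; ring)).2,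
      Nat.card_eq_fintype_card]
  · intro hq
    rw [card_normalizer h2 hg]
    have : ¬ IsSquare (-1 : F) := by
      rw [FiniteField.isSquare_neg_one_iff]; omega
    rw [(centralizer_of_noEig g (by
      intro a ha
      apply this
      refine ⟨a, ?_⟩
      rw [hg] at ha
      linear_combination -ha)).2, Nat.card_eq_fintype_card]
  · intro x y
    induction x using QuotientGroup.induction_on with
    | H a =>
    induction y using QuotientGroup.induction_on with
    | H b =>
    intro ha hb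
    obtain ⟨P, hP⟩ := isConj_of_tr h2 (tr_of_orderOf_two h2 ha) (tr_of_orderOf_two h2 hb)
    rw [isConj_iff]
    refine ⟨QuotientGroup.mk P, ?_⟩
    rw [hP]
    rfl

end Cfsg.Agent.S0809
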