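import Cfsg.Statements.S0839
import Cfsg.Agent.H14.SLTrans

set_option autoImplicit false

open Cfsg

namespace Cfsg.Agent.S0839

open Matrix Cfsg.Agent.H14.SLTrans

theorem result {F : Type*} [Field F] (n : ℕ) (t : Matrix.SpecialLinearGroup (Fin (n + 2)) F) (ht : Cfsg.IsTransvection (t : Matrix (Fin (n + 2)) (Fin (n + 2)) F)) : ∃ (g : Matrix.SpecialLinearGroup (Fin (n + 2)) F) (v : Fin (n + 2) → F), v 0 = 0 ∧ ((g⁻¹ * t * g : Matrix.SpecialLinearGroup (Fin (n + 2)) F) : Matrix (Fin (n + 2)) (Fin (n + 2)) F) = 1 + Matrix.vecMulVec v (Pi.single 0 1) := by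
  obtain ⟨hr, hsq⟩ := ht
  obtain ⟨a, b, hab, ha, hb⟩ := exists_vecMulVec_of_rank_one _ hr
  have h01 : (0 : Fin (n + 2)) ≠ 1 := by simp
  obtain ⟨g, hg⟩ := exists_SL_vecMul h01 b hb
  have hba : b ⬝ᵥ a = 0 := by
    rw [hab, vecMulVec_mul_vecMulVec] at hsq
    by_contra hne
    have h1 : a ≠ 0 ∧ b ≠ 0 := ⟨ha, hb⟩
    have : vecMulVec a ((b ⬝ᵥ a) • b) ≠ 0 := by
      apply vecMulVec_ne_zero ha
      exact smul_ne_zero hne hb
    exact this hsq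
  have hinv : ((g⁻¹ : SpecialLinearGroup (Fin (n + 2)) F) : Matrix (Fin (n + 2)) (Fin (n + 2)) F) * (g : Matrix (Fin (n + 2)) (Fin (n + 2)) F) = 1 := by
    have := congrArg (fun x : SpecialLinearGroup (Fin (n + 2)) F => (x : Matrix (Fin (n + 2)) (Fin (n + 2)) F)) (inv_mul_cancel g)
    exact this
  have hinv' : (g : Matrix (Fin (n + 2)) (Fin (n + 2)) F) * ((g⁻¹ : SpecialLinearGroup (Fin (n + 2)) F) : Matrix (Fin (n + 2)) (Fin (n + 2)) F) = 1 := by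
    have := congrArg (fun x : SpecialLinearGroup (Fin (n + 2)) F => (x : Matrix (Fin (n + 2)) (Fin (n + 2)) F)) (mul_inv_cancel g)
    exact this
  refine ⟨g, ((g⁻¹ : SpecialLinearGroup (Fin (n + 2)) F) : Matrix (Fin (n + 2)) (Fin (n + 2)) F) *ᵥ a, ?_, ?_⟩
  · have h1 : (b ᵥ* (g : Matrix (Fin (n + 2)) (Fin (n + 2)) F)) ⬝ᵥ (((g⁻¹ : SpecialLinearGroup (Fin (n + 2)) F) : Matrix (Fin (n + 2)) (Fin (n + 2)) F) *ᵥ a) = 0 := by
      rw [← dotProduct_mulVec, mulVec_mulVec, hinv', one_mulVec, hba]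
    rw [hg, single_dotProduct, one_mul] at h1
    exact h1
  · have ht' : (t : Matrix (Fin (n + 2)) (Fin (n + 2)) F) = 1 + vecMulVec a b := by
      rw [← hab]; abel
    change ((g⁻¹ : SpecialLinearGroup (Fin (n + 2)) F) : Matrix (Fin (n + 2)) (Fin (n + 2)) F) * (t : Matrix (Fin (n + 2)) (Fin (n + 2)) F) * (g : Matrix (Fin (n + 2)) (Fin (n + 2)) F) = _
    rw [ht', mul_add, mul_one, add_mul, hinv, mul_vecMulVec, vecMulVec_mul, hg]

end Cfsg.Agent.S0839
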