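import Cfsg.Statements.S0820
import Cfsg.Agent.H14.SLTrans
import Cfsg.Agent.S0839

set_option autoImplicit false

open Cfsg

namespace Cfsg.Agent.S0820

open Matrix Cfsg.Agent.H14.SLTrans

theorem coe_mul_inv {m F : Type*} [Fintype m] [DecidableEq m] [Field F] (g : SpecialLinearGroup m F) :
    (g : Matrix m m F) * ((g⁻¹ : SpecialLinearGroup m F) : Matrix m m F) = 1 := by
  have := congrArg (fun x : SpecialLinearGroup m F => (x : Matrix m m F)) (mul_inv_cancel g)
  exact this

theorem coe_inv_mul {m F : Type*} [Fintype m] [DecidableEq m] [Field F] (g : SpecialLinearGroup m F) :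
    ((g⁻¹ : SpecialLinearGroup m F) : Matrix m m F) * (g : Matrix m m F) = 1 := by
  have := congrArg (fun x : SpecialLinearGroup m F => (x : Matrix m m F)) (inv_mul_cancel g)
  exact this

/-- the standard transvection -/
theorem conj_std {F : Type*} [Field F] (v : Fin 3 → F) (hv0 : v 0 = 0) (hv : v ≠ 0) :
    ∃ h : SpecialLinearGroup (Fin 3) F,
      (1 + vecMulVec v (Pi.single 0 1) : Matrix (Fin 3) (Fin 3) F) * (h : Matrix (Fin 3) (Fin 3) F) =
      (h : Matrix (Fin 3) (Fin 3) F) * (1 + vecMulVec (Pi.single 1 1) (Pi.single 0 1)) := by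
  have hw : ∃ w1 w2 : F, v 1 * w2 - v 2 * w1 = 1 := by
    by_cases h1 : v 1 = 0
    · have h2 : v 2 ≠ 0 := by
        intro h2
        apply hv
        funext i
        fin_cases i <;> simp [hv0, h1, h2]
      exact ⟨-(v 2)⁻¹, 0, by simp [h2]⟩
    · exact ⟨0, (v 1)⁻¹, by simp [h1]⟩
  obtain ⟨w1, w2, hw⟩ := hw
  refine ⟨⟨!![1, 0, 0; 0, v 1, w1; 0, v 2, w2], ?_⟩, ?_⟩
  · rw [det_fin_three]; simp; linear_combination hw
  · have h1 : (!![1, 0, 0; 0, v 1, w1; 0, v 2, w2] : Matrix (Fin 3) (Fin 3) F) *ᵥ (Pi.single 1 1) = v := by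
      funext i
      fin_cases i <;> simp [hv0]
    have h2 : (Pi.single 0 1 : Fin 3 → F) ᵥ* (!![1, 0, 0; 0, v 1, w1; 0, v 2, w2] : Matrix (Fin 3) (Fin 3) F) = Pi.single 0 1 := by
      funext i
      fin_cases i <;> simp
    show (1 + vecMulVec v (Pi.single 0 1) : Matrix (Fin 3) (Fin 3) F) * !![1, 0, 0; 0, v 1, w1; 0, v 2, w2] = !![1, 0, 0; 0, v 1, w1; 0, v 2, w2] * (1 + vecMulVec (Pi.single 1 1) (Pi.single 0 1))
    rw [mul_add, add_mul, mul_one, one_mul, mul_vecMulVec, vecMulVec_mul, h1, h2]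

/-- in `SL_3(F)`, any two transvections are conjugate. -/
theorem conj_transvections {F : Type*} [Field F] (s t : SpecialLinearGroup (Fin 3) F)
    (hs : Cfsg.IsTransvection (s : Matrix (Fin 3) (Fin 3) F))
    (ht : Cfsg.IsTransvection (t : Matrix (Fin 3) (Fin 3) F)) : IsConj s t := by
  have key : ∀ t : SpecialLinearGroup (Fin 3) F, Cfsg.IsTransvection (t : Matrix (Fin 3) (Fin 3) F) →
      ∃ g : SpecialLinearGroup (Fin 3) F, ((g⁻¹ * t * g : SpecialLinearGroup (Fin 3) F) : Matrix (Fin 3) (Fin 3) F) = 1 + vecMulVec (Pi.single 1 1) (Pi.single 0 1) := by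
    intro t ht
    obtain ⟨g, v, hv0, hg⟩ := Cfsg.Agent.S0839.result 1 t ht
    have hv : v ≠ 0 := by
      rintro rfl
      have h1 : ((g⁻¹ * t * g : SpecialLinearGroup (Fin 3) F) : Matrix (Fin 3) (Fin 3) F) = 1 := by
        rw [hg]; ext i j; simp
      have h2 : g⁻¹ * t * g = 1 := Subtype.ext h1
      have h3 : t = 1 := by
        have : t = g * (g⁻¹ * t * g) * g⁻¹ := by group
        rw [this, h2]; group
      have := ht.1
      rw [h3] at this
      have h4 : ((1 : SpecialLinearGroup (Fin 3) F) : Matrix (Fin 3) (Fin 3) F) - 1 = 0 := by simp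
      rw [h4, rank_zero] at this
      exact zero_ne_one this
    obtain ⟨h, hh⟩ := conj_std v hv0 hv
    refine ⟨g * h, ?_⟩
    have e1 : (g * h)⁻¹ * t * (g * h) = h⁻¹ * (g⁻¹ * t * g) * h := by group
    rw [e1]
    change ((h⁻¹ : SpecialLinearGroup (Fin 3) F) : Matrix (Fin 3) (Fin 3) F) * ((g⁻¹ * t * g : SpecialLinearGroup (Fin 3) F) : Matrix (Fin 3) (Fin 3) F) * (h : Matrix (Fin 3) (Fin 3) F) = _
    rw [hg, mul_assoc, hh, ← mul_assoc, coe_inv_mul, one_mul]
  obtain ⟨g, hg⟩ := key s hs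
  obtain ⟨h, hh⟩ := key t ht
  have e : g⁻¹ * s * g = h⁻¹ * t * h := Subtype.ext (hg.trans hh.symm)
  rw [isConj_iff]
  refine ⟨h * g⁻¹, ?_⟩
  calc h * g⁻¹ * s * (h * g⁻¹)⁻¹ = h * (g⁻¹ * s * g) * h⁻¹ := by group
    _ = t := by rw [e]; group

theorem result {F : Type*} [Field F] [Fintype F] (hF : Fintype.card F = 4) (x y : Matrix.ProjectiveSpecialLinearGroup (Fin 3) F) (hx : orderOf x = 2) (hy : orderOf y = 2) : IsConj x y := by
  have h2 : (2 : F) = 0 := by
    have h4 : ((Fintype.card F : ℕ) : F) = 0 := Nat.cast_card_eq_zero F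
    rw [hF] at h4
    have : (2 : F) * 2 = 0 := by
      have e : ((4 : ℕ) : F) = 2 * 2 := by norm_num
      rw [← e, h4]
    rcases mul_eq_zero.1 this with h | h <;> exact h
  have hcard : ∀ c : F, c ≠ 0 → c ^ 3 = 1 := by
    intro c hc
    have := FiniteField.pow_card_sub_one_eq_one c hc
    rwa [hF] at this
  have key : ∀ x : Matrix.ProjectiveSpecialLinearGroup (Fin 3) F, orderOf x = 2 →
      ∃ t : SpecialLinearGroup (Fin 3) F, QuotientGroup.mk' _ t = x ∧ Cfsg.IsTransvection (t : Matrix (Fin 3) (Fin 3) F) := by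
    intro x hx
    obtain ⟨g, rfl⟩ := QuotientGroup.mk'_surjective _ x
    have hg2 : g ^ 2 ∈ Subgroup.center (SpecialLinearGroup (Fin 3) F) := by
      have := pow_orderOf_eq_one (QuotientGroup.mk' (Subgroup.center (SpecialLinearGroup (Fin 3) F)) g)
      rw [hx, ← map_pow] at this
      exact (QuotientGroup.eq_one_iff _).1 this
    obtain ⟨c, hc3, hc⟩ := Matrix.SpecialLinearGroup.mem_center_iff.1 hg2
    have hc3' : c ^ 3 = 1 := by simpa using hc3
    let s : SpecialLinearGroup (Fin 3) F := ⟨scalar (Fin 3) c, by simp [hc3']⟩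
    have hs : s ∈ Subgroup.center (SpecialLinearGroup (Fin 3) F) :=
      Matrix.SpecialLinearGroup.mem_center_iff.2 ⟨c, hc3, rfl⟩
    have hsg : s = g ^ 2 := Subtype.ext hc
    have hsc : s ^ 3 = 1 := by
      apply Subtype.ext
      have : ((s ^ 3 : SpecialLinearGroup (Fin 3) F) : Matrix (Fin 3) (Fin 3) F) = (scalar (Fin 3) c) ^ 3 := by
        exact Matrix.SpecialLinearGroup.coe_pow s 3
      rw [this, ← map_pow, hc3']
      simp
    have ht2 : (g * s) ^ 2 = 1 := by
      have hcomm : g * s = s * g := (Subgroup.mem_center_iff.1 hs g)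
      calc (g * s) ^ 2 = g * (s * g) * s := by rw [pow_two]; group
        _ = g * (g * s) * s := by rw [hcomm]
        _ = g ^ 2 * s ^ 2 := by rw [pow_two, pow_two]; group
        _ = s ^ 3 := by rw [← hsg, ← pow_succ']
        _ = 1 := hsc
    refine ⟨g * s, ?_, ?_⟩
    · rw [map_mul]
      have : QuotientGroup.mk' (Subgroup.center (SpecialLinearGroup (Fin 3) F)) s = 1 := (QuotientGroup.eq_one_iff _).2 hs
      rw [this, mul_one]
    · set t := g * s with ht
      have hne : t ≠ 1 := by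
        intro h1
        have h3 : QuotientGroup.mk' (Subgroup.center (SpecialLinearGroup (Fin 3) F)) g = 1 := by
          have h4 : g = s⁻¹ := by rw [eq_inv_iff_mul_eq_one, ← ht, h1]
          rw [h4, map_inv]
          have : QuotientGroup.mk' (Subgroup.center (SpecialLinearGroup (Fin 3) F)) s = 1 := (QuotientGroup.eq_one_iff _).2 hs
          rw [this, inv_one]
        rw [h3, orderOf_one] at hx
        exact absurd hx (by norm_num)
      have htt : (t : Matrix (Fin 3) (Fin 3) F) * (t : Matrix (Fin 3) (Fin 3) F) = 1 := by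
        have := congrArg (fun x : SpecialLinearGroup (Fin 3) F => (x : Matrix (Fin 3) (Fin 3) F)) ht2
        rw [pow_two] at this
        exact this
      have hN : ((t : Matrix (Fin 3) (Fin 3) F) - 1) * ((t : Matrix (Fin 3) (Fin 3) F) - 1) = 0 := by
        have e : ((t : Matrix (Fin 3) (Fin 3) F) - 1) * ((t : Matrix (Fin 3) (Fin 3) F) - 1) =
            (t : Matrix (Fin 3) (Fin 3) F) * (t : Matrix (Fin 3) (Fin 3) F) + 1 - (2 : F) • (t : Matrix (Fin 3) (Fin 3) F) := by
          rw [two_smul, sub_mul, mul_sub, mul_one, one_mul]; abel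
        rw [e, htt, h2, zero_smul, sub_zero]
        have : (1 : Matrix (Fin 3) (Fin 3) F) + 1 = (2 : F) • 1 := by rw [two_smul]
        rw [this, h2, zero_smul]
      refine ⟨?_, hN⟩
      have hN0 : (t : Matrix (Fin 3) (Fin 3) F) - 1 ≠ 0 := by
        intro h
        apply hne
        apply Subtype.ext
        exact sub_eq_zero.1 h
      set N := (t : Matrix (Fin 3) (Fin 3) F) - 1 with hNdef
      have hle : LinearMap.range N.mulVecLin ≤ LinearMap.ker N.mulVecLin := by
        rintro _ ⟨z, rfl⟩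
        rw [LinearMap.mem_ker, mulVecLin_apply, mulVecLin_apply, mulVec_mulVec, hN, zero_mulVec]
      have h3 := LinearMap.finrank_range_add_finrank_ker N.mulVecLin
      have h4 := Submodule.finrank_mono hle
      rw [Module.finrank_fin_fun] at h3
      have h5 : N.rank = Module.finrank F (LinearMap.range N.mulVecLin) := rfl
      have h6 : N.rank ≠ 0 := by
        rw [h5]
        intro h0
        have h7 : LinearMap.range N.mulVecLin = ⊥ := Submodule.finrank_eq_zero.1 h0
        rw [LinearMap.range_eq_bot] at h7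
        apply hN0
        ext i j
        have := congrFun (congrArg (fun f => f (Pi.single j 1)) h7) i
        simpa using this
      omega
  obtain ⟨s, rfl, hs⟩ := key x hx
  obtain ⟨t, rfl, ht⟩ := key y hy
  exact MonoidHom.map_isConj _ (conj_transvections s t hs ht)

end Cfsg.Agent.S0820
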