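import Cfsg.Statements.S2302
import Mathlib

set_option autoImplicit false
open Cfsg

namespace Cfsg.Agent.S2302

open Matrix

theorem sq_eq_one_iff {F : Type*} [Field F] [CharP F 2] (g : SpecialLinearGroup (Fin 2) F) :
    g ^ 2 = 1 ↔ (g : Matrix (Fin 2) (Fin 2) F) 0 0 = (g : Matrix (Fin 2) (Fin 2) F) 1 1 := by
  have hdet := g.det_coe
  rw [det_fin_two] at hdet
  have h2 : (2 : F) = 0 := CharTwo.two_eq_zero
  constructor
  · intro h0
    have h := congrArg (fun z : SpecialLinearGroup (Fin 2) F => (z : Matrix (Fin 2) (Fin 2) F)) h0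
    simp only [pow_two, SpecialLinearGroup.coe_mul, SpecialLinearGroup.coe_one] at h
    have e00 := congrFun (congrFun h 0) 0
    have e01 := congrFun (congrFun h 0) 1
    have e10 := congrFun (congrFun h 1) 0
    have e11 := congrFun (congrFun h 1) 1
    simp [mul_apply, Fin.sum_univ_two] at e00 e01 e10 e11
    have : ((g : Matrix (Fin 2) (Fin 2) F) 0 0 - (g : Matrix (Fin 2) (Fin 2) F) 1 1) ^ 2 = 0 := by
      have e : ((g : Matrix (Fin 2) (Fin 2) F) 0 0 - (g : Matrix (Fin 2) (Fin 2) F) 1 1) ^ 2 =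
        ((g : Matrix (Fin 2) (Fin 2) F) 0 0 * (g : Matrix (Fin 2) (Fin 2) F) 0 0 + (g : Matrix (Fin 2) (Fin 2) F) 0 1 * (g : Matrix (Fin 2) (Fin 2) F) 1 0)
        + ((g : Matrix (Fin 2) (Fin 2) F) 1 0 * (g : Matrix (Fin 2) (Fin 2) F) 0 1 + (g : Matrix (Fin 2) (Fin 2) F) 1 1 * (g : Matrix (Fin 2) (Fin 2) F) 1 1)
        - 2 * ((g : Matrix (Fin 2) (Fin 2) F) 0 0 * (g : Matrix (Fin 2) (Fin 2) F) 1 1 - (g : Matrix (Fin 2) (Fin 2) F) 0 1 * (g : Matrix (Fin 2) (Fin 2) F) 1 0)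
        - 4 * ((g : Matrix (Fin 2) (Fin 2) F) 0 1 * (g : Matrix (Fin 2) (Fin 2) F) 1 0) := by ring
      rw [e, e00, e11, hdet, show (4 : F) = 2 * 2 by norm_num, h2]
      rw [show (1 : F) + 1 = 2 by norm_num, h2]; ring
    exact sub_eq_zero.1 (pow_eq_zero_iff (two_ne_zero) |>.1 this)
  · intro h
    rw [pow_two]
    ext i j
    fin_cases i <;> fin_cases j <;> simp [mul_apply, Fin.sum_univ_two]
    · linear_combination hdet + (g : Matrix (Fin 2) (Fin 2) F) 0 0 * h + (g : Matrix (Fin 2) (Fin 2) F) 0 1 * (g : Matrix (Fin 2) (Fin 2) F) 1 0 * h2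
    · linear_combination (g : Matrix (Fin 2) (Fin 2) F) 0 1 * h + (g : Matrix (Fin 2) (Fin 2) F) 0 1 * (g : Matrix (Fin 2) (Fin 2) F) 1 1 * h2
    · linear_combination (g : Matrix (Fin 2) (Fin 2) F) 1 0 * h + (g : Matrix (Fin 2) (Fin 2) F) 1 0 * (g : Matrix (Fin 2) (Fin 2) F) 1 1 * h2
    · linear_combination hdet - (g : Matrix (Fin 2) (Fin 2) F) 1 1 * h + (g : Matrix (Fin 2) (Fin 2) F) 0 1 * (g : Matrix (Fin 2) (Fin 2) F) 1 0 * h2

theorem exists_sq {F : Type*} [Field F] [Fintype F] [CharP F 2] (a : F) : ∃ b : F, b * b = a := by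
  obtain ⟨b, hb⟩ := FiniteField.isSquare_of_char_two (ringChar.eq_iff.2 inferInstance) a
  exact ⟨b, hb.symm⟩

/-- The standard transvection. -/
def std (F : Type*) [Field F] : SpecialLinearGroup (Fin 2) F := ⟨!![1, 1; 0, 1], by simp [det_fin_two]⟩

theorem std_coe (F : Type*) [Field F] : (std F : Matrix (Fin 2) (Fin 2) F) = !![1, 1; 0, 1] := rfl

theorem conj_std {F : Type*} [Field F] [Fintype F] [CharP F 2] (g : SpecialLinearGroup (Fin 2) F)
    (hg : g ^ 2 = 1) (hg1 : g ≠ 1) : IsConj (std F) g := by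
  have hdet := g.det_coe
  rw [det_fin_two] at hdet
  have h2 : (2 : F) = 0 := CharTwo.two_eq_zero
  have h := (sq_eq_one_iff g).1 hg
  rw [isConj_iff]
  by_cases hc : (g : Matrix (Fin 2) (Fin 2) F) 1 0 = 0
  · have ha : (g : Matrix (Fin 2) (Fin 2) F) 0 0 = 1 := by
      have : ((g : Matrix (Fin 2) (Fin 2) F) 0 0 - 1) ^ 2 = 0 := by
        rw [hc, ← h] at hdet
        linear_combination hdet + (1 - (g : Matrix (Fin 2) (Fin 2) F) 0 0) * h2
      exact sub_eq_zero.1 (pow_eq_zero_iff (two_ne_zero) |>.1 this)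
    obtain ⟨l, hl⟩ := exists_sq ((g : Matrix (Fin 2) (Fin 2) F) 0 1)
    have hb : (g : Matrix (Fin 2) (Fin 2) F) 0 1 ≠ 0 := by
      intro hb
      apply hg1
      ext i j
      fin_cases i <;> fin_cases j <;> simp [hb, hc, ha, ← h]
    have hl0 : l ≠ 0 := by rintro rfl; simp at hl; exact hb hl.symm
    obtain ⟨P, hP⟩ : ∃ P : SpecialLinearGroup (Fin 2) F, (P : Matrix (Fin 2) (Fin 2) F) = !![l, 0; 0, l⁻¹] :=
      ⟨⟨!![l, 0; 0, l⁻¹], by simp [det_fin_two, hl0]⟩, rfl⟩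
    refine ⟨P, mul_inv_eq_iff_eq_mul.2 ?_⟩
    ext i j
    fin_cases i <;> fin_cases j <;> simp [hP, std_coe, hc, ha, ← h, mul_apply, Fin.sum_univ_two, ← hl, hl0]
  · obtain ⟨l, hl⟩ := exists_sq ((g : Matrix (Fin 2) (Fin 2) F) 1 0)
    have hl0 : l ≠ 0 := by rintro rfl; simp at hl; exact hc hl.symm
    have hll : l⁻¹ * l = 1 := inv_mul_cancel₀ hl0
    obtain ⟨P, hP⟩ : ∃ P : SpecialLinearGroup (Fin 2) F, (P : Matrix (Fin 2) (Fin 2) F) =
        !![l⁻¹ * ((g : Matrix (Fin 2) (Fin 2) F) 0 0 + 1), l⁻¹; l⁻¹ * (g : Matrix (Fin 2) (Fin 2) F) 1 0, 0] := by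
      refine ⟨⟨!![l⁻¹ * ((g : Matrix (Fin 2) (Fin 2) F) 0 0 + 1), l⁻¹; l⁻¹ * (g : Matrix (Fin 2) (Fin 2) F) 1 0, 0], ?_⟩, rfl⟩
      rw [det_fin_two_of, ← hl]
      linear_combination -(l⁻¹*l+1)*hll - h2
    · refine ⟨P, mul_inv_eq_iff_eq_mul.2 ?_⟩
      have hbc : (g : Matrix (Fin 2) (Fin 2) F) 0 1 * (g : Matrix (Fin 2) (Fin 2) F) 1 0 = (g : Matrix (Fin 2) (Fin 2) F) 0 0 ^ 2 - 1 := by
        rw [← h] at hdet
        linear_combination - hdet
      ext i j
      fin_cases i <;> fin_cases j <;> simp [hP, std_coe, mul_apply, Fin.sum_univ_two]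
      · linear_combination - l⁻¹ * hbc + l⁻¹ * (1 - (g : Matrix (Fin 2) (Fin 2) F) 0 0 ^ 2) * h2
      · linear_combination l⁻¹ * h2
      · rw [← h]
        linear_combination - l⁻¹ * (g : Matrix (Fin 2) (Fin 2) F) 1 0 * (g : Matrix (Fin 2) (Fin 2) F) 0 0 * h2
      · ring

theorem result {F : Type*} [Field F] [Fintype F] [CharP F 2] (g h : Matrix.SpecialLinearGroup (Fin 2) F) (hg : orderOf g = 2) (hh : orderOf h = 2) :
    IsConj g h ∧ Nat.card (ConjClasses.mk g).carrier = Fintype.card F ^ 2 - 1 := by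
  classical
  have aux : ∀ k : Matrix.SpecialLinearGroup (Fin 2) F, orderOf k = 2 → IsConj (std F) k := by
    intro k hk
    obtain ⟨h1, h2⟩ := (orderOf_eq_prime_iff (p := 2)).1 hk
    exact conj_std k h1 h2
  have hgh := (aux g hg).symm.trans (aux h hh)
  refine ⟨hgh, ?_⟩
  have hcar : ∀ k : Matrix.SpecialLinearGroup (Fin 2) F, k ∈ (ConjClasses.mk g).carrier ↔ (k ^ 2 = 1 ∧ k ≠ 1) := by
    intro k
    rw [ConjClasses.mem_carrier_iff_mk_eq, ConjClasses.mk_eq_mk_iff_isConj, ← orderOf_eq_prime_iff]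
    constructor
    · intro hk
      obtain ⟨c, hc⟩ := hk
      rw [hc.orderOf_eq, hg]
    · intro hk
      exact (aux k hk).symm.trans (aux g hg)
  let e : (ConjClasses.mk g).carrier → {v : F × F // v ≠ 0} := fun k =>
    ⟨((k.1 : Matrix (Fin 2) (Fin 2) F) 0 1, (k.1 : Matrix (Fin 2) (Fin 2) F) 1 0), by
      intro h0
      obtain ⟨hk1, hk2⟩ := (hcar k.1).1 k.2
      have h1 : (k.1 : Matrix (Fin 2) (Fin 2) F) 0 1 = 0 := congrArg Prod.fst h0
      have h2 : (k.1 : Matrix (Fin 2) (Fin 2) F) 1 0 = 0 := congrArg Prod.snd h0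
      rw [sq_eq_one_iff] at hk1
      have hd := k.1.det_coe
      rw [det_fin_two, h1, ← hk1] at hd
      have h3 : (k.1 : Matrix (Fin 2) (Fin 2) F) 0 0 = 1 := by
        have : ((k.1 : Matrix (Fin 2) (Fin 2) F) 0 0 - 1) ^ 2 = 0 := by
          linear_combination hd + (1 - (k.1 : Matrix (Fin 2) (Fin 2) F) 0 0) * (CharTwo.two_eq_zero : (2 : F) = 0)
        exact sub_eq_zero.1 (pow_eq_zero_iff (two_ne_zero) |>.1 this)
      apply hk2
      ext i j
      fin_cases i <;> fin_cases j <;> simp [h1, h2, h3, ← hk1]⟩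
  have he : Function.Bijective e := by
    constructor
    · rintro ⟨k, hk⟩ ⟨k', hk'⟩ heq
      have h0 := congrArg Subtype.val heq
      have h1 : (k : Matrix (Fin 2) (Fin 2) F) 0 1 = (k' : Matrix (Fin 2) (Fin 2) F) 0 1 := congrArg Prod.fst h0
      have h2 : (k : Matrix (Fin 2) (Fin 2) F) 1 0 = (k' : Matrix (Fin 2) (Fin 2) F) 1 0 := congrArg Prod.snd h0
      have hk1 := (sq_eq_one_iff k).1 ((hcar k).1 hk).1
      have hk1' := (sq_eq_one_iff k').1 ((hcar k').1 hk').1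
      have hd := k.det_coe
      have hd' := k'.det_coe
      rw [det_fin_two, ← hk1] at hd
      rw [det_fin_two, ← hk1', ← h1, ← h2] at hd'
      have h3 : (k : Matrix (Fin 2) (Fin 2) F) 0 0 = (k' : Matrix (Fin 2) (Fin 2) F) 0 0 := by
        have : ((k : Matrix (Fin 2) (Fin 2) F) 0 0 - (k' : Matrix (Fin 2) (Fin 2) F) 0 0) ^ 2 = 0 := by
          linear_combination hd - hd' + ((k' : Matrix (Fin 2) (Fin 2) F) 0 0 ^ 2 - (k : Matrix (Fin 2) (Fin 2) F) 0 0 * (k' : Matrix (Fin 2) (Fin 2) F) 0 0) * (CharTwo.two_eq_zero : (2 : F) = 0)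
        exact sub_eq_zero.1 (pow_eq_zero_iff (two_ne_zero) |>.1 this)
      apply Subtype.ext
      ext i j
      fin_cases i <;> fin_cases j
      · exact h3
      · exact h1
      · exact h2
      · simpa [← hk1, ← hk1'] using h3
    · rintro ⟨⟨b, c⟩, hbc⟩
      obtain ⟨a, ha⟩ := exists_sq (1 + b * c)
      let k : Matrix.SpecialLinearGroup (Fin 2) F := ⟨!![a, b; c, a], by
        rw [det_fin_two]
        simp
        linear_combination ha⟩
      have hk : k ∈ (ConjClasses.mk g).carrier := by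
        rw [hcar]
        constructor
        · rw [sq_eq_one_iff]; simp [k]
        · intro h1
          apply hbc
          have e1 := congrArg (fun z : Matrix.SpecialLinearGroup (Fin 2) F => (z : Matrix (Fin 2) (Fin 2) F) 0 1) h1
          have e2 := congrArg (fun z : Matrix.SpecialLinearGroup (Fin 2) F => (z : Matrix (Fin 2) (Fin 2) F) 1 0) h1
          simp [k] at e1 e2
          rw [e1, e2]; rfl
      refine ⟨⟨k, hk⟩, ?_⟩
      simp [e, k]
  rw [Nat.card_congr (Equiv.ofBijective e he), Nat.card_eq_fintype_card, Fintype.card_subtype_compl,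
    Fintype.card_prod, Fintype.card_subtype_eq]
  ring_nf

end Cfsg.Agent.S2302
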