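import Cfsg.Statements.S1475
import Cfsg.Agent.Frob.Aut
import Cfsg.Agent.Frob.Complement
import Cfsg.Agent.Solv.MinNormal
import Cfsg.Agent.H63.PLen

set_option autoImplicit false
open Cfsg

namespace Cfsg.Agent.S1475

/-- Commuting nontrivial elements of coprime orders cannot occur. -/
theorem not_commute {G : Type*} [Group G] [Finite G] (h : ∀ g : G, IsPrimePow (orderOf g) ∨ g = 1)
    {p r : ℕ} (hp : p.Prime) (hr : r.Prime) (hpr : p ≠ r) {a b : G} (ha1 : a ≠ 1) (hb1 : b ≠ 1)
    (ha : ∃ k, a ^ p ^ k = 1) (hb : ∃ k, b ^ r ^ k = 1) (hab : a * b = b * a) : False := by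
  obtain ⟨k, hk⟩ := ha
  obtain ⟨l, hl⟩ := hb
  obtain ⟨i, _, hi⟩ := (Nat.dvd_prime_pow hp).mp (orderOf_dvd_of_pow_eq_one hk)
  obtain ⟨j, _, hj⟩ := (Nat.dvd_prime_pow hr).mp (orderOf_dvd_of_pow_eq_one hl)
  have hcop : (orderOf a).Coprime (orderOf b) := by
    rw [hi, hj]
    exact Nat.Coprime.pow _ _ ((Nat.coprime_primes hp hr).mpr hpr)
  have h1 : orderOf (a * b) = orderOf a * orderOf b :=
    Commute.orderOf_mul_eq_mul_orderOf_of_coprime hab hcop
  have ha2 : orderOf a ≠ 1 := by rwa [Ne, orderOf_eq_one_iff]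
  have hb2 : orderOf b ≠ 1 := by rwa [Ne, orderOf_eq_one_iff]
  have hpa : p ∣ orderOf a := by
    rw [hi] at ha2 ⊢
    exact dvd_pow_self p (by rintro rfl; exact ha2 (pow_zero p))
  have hrb : r ∣ orderOf b := by
    rw [hj] at hb2 ⊢
    exact dvd_pow_self r (by rintro rfl; exact hb2 (pow_zero r))
  rcases h (a * b) with h2 | h2
  · rw [h1] at h2
    obtain ⟨t, n, ht, hn, htn⟩ := h2
    have htp : t.Prime := ht.nat_prime
    have e1 : p = t := by
      have : p ∣ t ^ n := by rw [htn]; exact hpa.mul_right _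
      exact (Nat.prime_dvd_prime_iff_eq hp htp).mp (hp.dvd_of_dvd_pow this)
    have e2 : r = t := by
      have : r ∣ t ^ n := by rw [htn]; exact hrb.mul_left _
      exact (Nat.prime_dvd_prime_iff_eq hr htp).mp (hr.dvd_of_dvd_pow this)
    exact hpr (e1.trans e2.symm)
  · rw [h2, orderOf_one] at h1
    have := Nat.eq_one_of_mul_eq_one_right h1.symm
    exact ha2 this


/-- Let G be a finite solvable group such that the order of every element is a prime power (1 included). Then at most two distinct primes divide the order of G. -/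
theorem result {G : Type*} [Group G] [Finite G] [Group.IsSolvable G] (h : ∀ g : G, IsPrimePow (orderOf g) ∨ g = 1) :
    (Nat.card G).primeFactors.card ≤ 2 := by
  classical
  by_cases hG : Nontrivial G
  swap
  · rw [not_nontrivial_iff_subsingleton] at hG
    have : Nat.card G = 1 := Nat.card_of_subsingleton (1 : G)
    rw [this]; simp
  -- a minimal normal subgroup
  obtain ⟨A, hAn, _, hA1, hAmin⟩ := Solv.exists_minimal_normal (⊤ : Subgroup G) inferInstance (by
    intro h
    exact (Subgroup.nontrivial_iff_ne_bot (⊤ : Subgroup G)).mp inferInstance h)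
  haveI := hAn
  obtain ⟨hAc, _⟩ := Solv.minimal_normal_of_solvable A inferInstance hA1 hAmin
  obtain ⟨p, hp, hAp⟩ := Solv.minimal_normal_isPGroup A inferInstance hA1 hAmin
  haveI : Fact p.Prime := ⟨hp⟩
  have hpP : ∀ s : ℕ, s.Prime → s ∣ Nat.card (Cfsg.pCore p G) → s = p := by
    intro s hs hsd
    obtain ⟨n, hn⟩ := IsPGroup.iff_card.mp (Solv.pCore_isPGroup (G := G) p)
    rw [hn] at hsd
    exact (Nat.prime_dvd_prime_iff_eq hs hp).mp (hs.dvd_of_dvd_pow hsd)
  set P := Cfsg.pCore p G with hP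
  by_cases hGP : Nontrivial (G ⧸ P)
  swap
  · have h1 : (Nat.card G).primeFactors ⊆ {p} := by
      intro s hs
      rw [Finset.mem_singleton]
      rw [Nat.mem_primeFactors] at hs
      have h2 : P = ⊤ := by
        rw [not_nontrivial_iff_subsingleton] at hGP
        exact QuotientGroup.subgroup_eq_top_of_subsingleton P hGP
      apply hpP s hs.1
      rw [h2, Subgroup.card_top]
      exact hs.2.1
    exact (Finset.card_le_card h1).trans (by simp)
  obtain ⟨B, hBn, _, hB1, hBmin⟩ := Solv.exists_minimal_normal (⊤ : Subgroup (G ⧸ P)) inferInstance (by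
    intro h
    exact (Subgroup.nontrivial_iff_ne_bot (⊤ : Subgroup (G ⧸ P))).mp inferInstance h)
  haveI := hBn
  obtain ⟨q, hq, hBq⟩ := Solv.minimal_normal_isPGroup B inferInstance hB1 hBmin
  haveI : Fact q.Prime := ⟨hq⟩
  have hqp : q ≠ p := by
    rintro rfl
    apply hB1
    rw [eq_bot_iff, ← Solv.pCore_quotient_pCore (G := G) q]
    exact Solv.le_pCore hBn hBq
  suffices h1 : (Nat.card G).primeFactors ⊆ {p, q} from
    (Finset.card_le_card h1).trans Finset.card_le_two
  intro r hr
  rw [Nat.mem_primeFactors] at hr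
  obtain ⟨hr, hrG, _⟩ := hr
  haveI : Fact r.Prime := ⟨hr⟩
  by_contra hrpq
  rw [Finset.mem_insert, Finset.mem_singleton, not_or] at hrpq
  obtain ⟨hrp, hrq⟩ := hrpq
  set M := B.comap (QuotientGroup.mk' P) with hM
  have hMn : M.Normal := inferInstance
  have hrM : ¬ r ∣ Nat.card M := by
    intro hd
    have h2 : Nat.card M = Nat.card P * Nat.card B := by
      have h3 := H63.relIndex_comap_mk' P B
      have h4 := Subgroup.relIndex_mul_relIndex ⊥ P M bot_le (by
        intro x hx
        rw [hM, Subgroup.mem_comap]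
        have : QuotientGroup.mk' P x = 1 := (QuotientGroup.eq_one_iff x).mpr hx
        rw [this]; exact B.one_mem)
      rw [Subgroup.relIndex_bot_left, Subgroup.relIndex_bot_left] at h4
      rw [← h4, ← h3]
    rw [h2] at hd
    rcases (Nat.Prime.dvd_mul hr).mp hd with h3 | h3
    · exact hrp (hpP r hr h3)
    · obtain ⟨n, hn⟩ := IsPGroup.iff_card.mp hBq
      rw [hn] at h3
      exact hrq ((Nat.prime_dvd_prime_iff_eq hr hq).mp (hr.dvd_of_dvd_pow h3))
  obtain ⟨Q₀⟩ : Nonempty (Sylow q M) := inferInstance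
  have hfr := Q₀.normalizer_sup_eq_top
  set Q := (Q₀ : Subgroup M).map M.subtype with hQ
  have hQq : IsPGroup q Q := Q₀.isPGroup'.map _
  have hQ1 : Q ≠ ⊥ := by
    intro h0
    have h2 : (Q₀ : Subgroup M) = ⊥ :=
      (Subgroup.map_eq_bot_iff_of_injective _ (Subgroup.subtype_injective _)).mp h0
    have h3 : (Q₀ : Subgroup M).index = Nat.card M := by rw [h2, Subgroup.index_bot]
    have h4 : q ∣ Nat.card M := by
      have h5 : q ∣ Nat.card B := by
        obtain ⟨n, hn⟩ := IsPGroup.iff_card.mp hBq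
        rw [hn]
        refine dvd_pow_self q ?_
        rintro rfl
        rw [pow_zero] at hn
        exact hB1 (Subgroup.eq_bot_of_card_eq B hn)
      have h6 := H63.relIndex_comap_mk' P B
      rw [← h6] at h5
      exact h5.trans (Subgroup.relIndex_dvd_card P M)
    rw [← h3] at h4
    exact Q₀.not_dvd_index h4
  -- an element of order `r` normalizing `Q`
  have hrN : r ∣ Nat.card (Subgroup.normalizer (Q : Set G)) := by
    have h2 : M.relIndex (Subgroup.normalizer (Q : Set G) ⊔ M) = M.relIndex (Subgroup.normalizer (Q : Set G)) :=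
      Subgroup.relIndex_sup_right _ _
    rw [hfr, Subgroup.relIndex_top_right] at h2
    have h3 : r ∣ M.index := by
      have h4 := Subgroup.card_mul_index M
      rw [← h4] at hrG
      exact ((Nat.Prime.dvd_mul hr).mp hrG).resolve_left hrM
    rw [h2] at h3
    exact h3.trans (Subgroup.relIndex_dvd_card _ _)
  obtain ⟨y, hy⟩ := exists_prime_orderOf_dvd_card' r hrN
  have hyr : orderOf (y : G) = r := by rw [Subgroup.orderOf_coe, hy]
  have hy1 : (y : G) ≠ 1 := by
    intro h0
    rw [h0, orderOf_one] at hyr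
    exact hr.one_lt.ne hyr
  have hyk : ∃ k, (y : G) ^ r ^ k = 1 := ⟨1, by rw [pow_one, ← hyr]; exact pow_orderOf_eq_one _⟩
  have hnA : ∀ H : Subgroup G, H ≤ Subgroup.normalizer (A : Set G) := fun H => by
    rw [Subgroup.normalizer_eq_top]; exact le_top
  have hyQ : Subgroup.zpowers (y : G) ≤ Subgroup.normalizer (Q : Set G) := by
    rw [Subgroup.zpowers_le]; exact y.2
  have hpow : ∀ (V : Subgroup G) (h : Subgroup.zpowers (y : G) ≤ Subgroup.normalizer (V : Set G)) (v : V),
      ((Frob.conjAct (Subgroup.zpowers (y : G)) V h ⟨y, Subgroup.mem_zpowers _⟩) ^ r) v = v := by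
    intro V h v
    rw [← map_pow]
    apply Subtype.ext
    rw [Frob.conjAct_apply_coe]
    have : (((⟨(y : G), Subgroup.mem_zpowers _⟩ : Subgroup.zpowers (y : G)) ^ r : Subgroup.zpowers (y : G)) : G) = 1 := by
      rw [SubgroupClass.coe_pow]
      change (y : G) ^ r = 1
      rw [← hyr]; exact pow_orderOf_eq_one _
    rw [this]; simp
  letI : CommGroup A := { (inferInstance : Group A) with
    mul_comm := fun a b => hAc.is_comm.comm a b }
  have htriv := Frob.trivial_action_of_fpf_aut (S := Q) (V := A) (Frob.conjAct Q A (hnA Q))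
    (Frob.conjAct (Subgroup.zpowers (y : G)) A (hnA _) ⟨y, Subgroup.mem_zpowers _⟩)
    (Frob.conjAct (Subgroup.zpowers (y : G)) Q hyQ ⟨y, Subgroup.mem_zpowers _⟩)
    (by
      intro s v
      apply Subtype.ext
      rw [Frob.conjAct_apply_coe, Frob.conjAct_apply_coe, Frob.conjAct_apply_coe, Frob.conjAct_apply_coe,
        Frob.conjAct_apply_coe]
      group) hr (hpow A _) (hpow Q _)
    (by
      intro v hv
      by_contra hv1
      have h2 : (y : G) * v * (y : G)⁻¹ = v := by
        have := congrArg Subtype.val hv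
        rw [Frob.conjAct_apply_coe] at this
        exact this
      obtain ⟨k, hk⟩ := hAp v
      refine not_commute h hr hp hrp hy1 (fun h0 => hv1 (Subtype.ext h0)) hyk
        ⟨k, by simpa using congrArg Subtype.val hk⟩ (mul_inv_eq_iff_eq_mul.mp h2))
    (by
      intro v hv
      by_contra hv1
      have h2 : (y : G) * v * (y : G)⁻¹ = v := by
        have := congrArg Subtype.val hv
        rw [Frob.conjAct_apply_coe] at this
        exact this
      obtain ⟨k, hk⟩ := hQq v
      refine not_commute h hr hq hrq hy1 (fun h0 => hv1 (Subtype.ext h0)) hyk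
        ⟨k, by simpa using congrArg Subtype.val hk⟩ (mul_inv_eq_iff_eq_mul.mp h2))
    (by
      obtain ⟨n, hn⟩ := IsPGroup.iff_card.mp hQq
      obtain ⟨m, hm⟩ := IsPGroup.iff_card.mp hAp
      rw [hn, hm]
      exact Nat.Coprime.pow _ _ ((Nat.coprime_primes hq hp).mpr hqp))
  obtain ⟨s, hs, hs1⟩ := (Subgroup.bot_or_exists_ne_one Q).resolve_left hQ1
  obtain ⟨v, hv, hv1⟩ := (Subgroup.bot_or_exists_ne_one A).resolve_left hA1
  have h2 := congrArg Subtype.val (htriv ⟨s, hs⟩ ⟨v, hv⟩)
  rw [Frob.conjAct_apply_coe] at h2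
  obtain ⟨k, hk⟩ := hQq ⟨s, hs⟩
  obtain ⟨l, hl⟩ := hAp ⟨v, hv⟩
  exact not_commute h hq hp hqp hs1 hv1 ⟨k, by simpa using congrArg Subtype.val hk⟩
    ⟨l, by simpa using congrArg Subtype.val hl⟩ (mul_inv_eq_iff_eq_mul.mp h2)

end Cfsg.Agent.S1475
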