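import Cfsg.Statements.S3633
import Cfsg.Agent.H60.ThreePrimes2

set_option autoImplicit false
open Cfsg

namespace Cfsg.Agent.S3633

/-- Let G be a finite group and ρ a set of at least three prime divisors of the order of G that are pairwise non-adjacent in the prime graph (no element of order rs for distinct r, s ∈ ρ). Then at most one prime of ρ divides the order of any given solvable normal subgroup of G; in particular G is not solvable. -/
theorem result {G : Type*} [Group G] [Finite G] (ρ : Finset ℕ) (hρ : 3 ≤ ρ.card) (hc : ((∀ r ∈ ρ, r.Prime ∧ r ∣ Nat.card G) ∧ (∀ r ∈ ρ, ∀ s ∈ ρ, r ≠ s → ¬ ∃ x : G, orderOf x = r * s)))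
    (K : Subgroup G) [K.Normal] (hK : Group.IsSolvable ↥K) :
    (∀ r ∈ ρ, ∀ s ∈ ρ, r ∣ Nat.card ↥K → s ∣ Nat.card ↥K → r = s) ∧ ¬ Group.IsSolvable G := by
  have key : ∀ (K : Subgroup G) (_ : K.Normal) (_ : Group.IsSolvable K),
      ∀ r ∈ ρ, ∀ s ∈ ρ, r ∣ Nat.card ↥K → s ∣ Nat.card ↥K → r = s := by
    intro K hKn hKs r hr s hs hrK hsK
    by_contra hne
    obtain ⟨t, ht, htr, hts⟩ : ∃ t ∈ ρ, t ≠ r ∧ t ≠ s := by
      by_contra hcon
      push Not at hcon
      have hsub : ρ ⊆ {r, s} := by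
        intro t ht
        by_cases h : t = r
        · simp [h]
        · simp [hcon t ht h]
      have := Finset.card_le_card hsub
      have h2 : ({r, s} : Finset ℕ).card ≤ 2 := Finset.card_le_two
      omega
    exact Cfsg.Agent.H60.three_primes_solvable (Nat.card K) K hKn hKs le_rfl r s t
      (hc.1 r hr).1 (hc.1 s hs).1 (hc.1 t ht).1 hne (Ne.symm htr) (Ne.symm hts)
      (hc.2 r hr s hs hne) (hc.2 r hr t ht (Ne.symm htr)) (hc.2 s hs t ht (Ne.symm hts))
      hrK hsK (hc.1 t ht).2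
  refine ⟨key K inferInstance hK, ?_⟩
  intro hG
  obtain ⟨r, hr, s, hs, hrs⟩ := Finset.one_lt_card.mp (show 1 < ρ.card by omega)
  have htop : Nat.card (⊤ : Subgroup G) = Nat.card G := Subgroup.card_top
  exact hrs (key ⊤ inferInstance inferInstance r hr s hs (htop ▸ (hc.1 r hr).2)
    (htop ▸ (hc.1 s hs).2))

end Cfsg.Agent.S3633
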