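import Mathlib
import Cfsg.Statements.S0254
import Cfsg.Agent.ClassBase.PSL29
import Cfsg.Agent.S0243
-- import your own Cfsg.Agent.* helpers here

set_option autoImplicit false
open Cfsg

namespace Cfsg.Agent.S0254

/-- PSL_2(9) is isomorphic to A_6. -/
theorem result {F : Type*} [Field F] [Fintype F] (hF : Fintype.card F = 9) : Nonempty (Matrix.ProjectiveSpecialLinearGroup (Fin 2) F ≃* alternatingGroup (Fin 6)) := by
  classical
  have h1 := Cfsg.Agent.S0243.result Cfsg.Agent.ClassBase.PSL29.card_k9 2 le_rfl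
  have h2 : Nat.card (Matrix.ProjectiveSpecialLinearGroup (Fin 2) Cfsg.Agent.ClassBase.PSL29.K9) = 360 := by
    rw [Fin.prod_univ_two] at h1
    have hg : Nat.gcd 2 (9 - 1) = 2 := by decide
    rw [hg] at h1
    generalize Nat.card (Matrix.ProjectiveSpecialLinearGroup (Fin 2) Cfsg.Agent.ClassBase.PSL29.K9) = N at h1 ⊢
    norm_num at h1
    omega
  obtain ⟨e⟩ := Cfsg.Agent.ClassBase.PSL29.main_k9 h2
  exact ⟨(Cfsg.Agent.ClassBase.pslCongr (FiniteField.ringEquivOfCardEq
    (hF.trans Cfsg.Agent.ClassBase.PSL29.card_k9.symm))).trans e⟩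

end Cfsg.Agent.S0254
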