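import Cfsg.Statements.S0187
import Cfsg.Agent.H75.Tools

set_option autoImplicit false
open Cfsg

namespace Cfsg.Agent.S0187

open Cfsg.Agent.CharBase Cfsg.Agent.H75

/-- A finite group is commutative if and only if every irreducible complex character has degree 1. -/
theorem result {G : Type*} [Group G] [Finite G] : (∀ a b : G, a * b = b * a) ↔ ∀ χ : Cfsg.IrrCharacter G, (χ : G → ℂ) 1 = 1 := by
  classical
  have := Fintype.ofFinite G
  have := Fintype.ofFinite (IrrCharacter G)
  constructor
  · intro hab χ
    have h1 : Nat.card (IrrCharacter G) = Nat.card G := by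
      rw [card_irr_eq_card_conjClasses]
      have hinj : Function.Injective (ConjClasses.mk : G → ConjClasses G) := by
        intro a b h
        rw [ConjClasses.mk_eq_mk_iff_isConj, isConj_iff] at h
        obtain ⟨c, hc⟩ := h
        rw [← hc, hab c a]
        group
      exact (Nat.card_congr (Equiv.ofBijective _ ⟨hinj, ConjClasses.mk_surjective⟩)).symm
    have h2 := sum_deg_sq (G := G)
    have h3 : ∑ χ : IrrCharacter G, (1 : ℕ) = Nat.card G := by
      rw [← h1]; simp
    have h4 : ∀ χ ∈ (Finset.univ : Finset (IrrCharacter G)), 1 ≤ deg χ ^ 2 :=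
      fun χ _ => Nat.one_le_pow _ _ (deg_pos χ)
    have h5 := (Finset.sum_eq_sum_iff_of_le h4).mp (by rw [h2, h3]) χ (Finset.mem_univ χ)
    have h6 : deg χ = 1 := by
      have : deg χ ^ 2 = 1 := h5.symm
      simpa using this
    rw [deg_spec, h6]; simp
  · intro h a b
    have h1 : IsConj (a * b * a⁻¹ * b⁻¹) 1 := isConj_of_irr_eq (fun χ => by
      rw [linear_commutator (irr_isCharacter χ) (h χ), h χ])
    have h2 : a * b * a⁻¹ * b⁻¹ = 1 := isConj_one_left.mp h1
    have h3 : a * b * (b * a)⁻¹ = 1 := by rw [← h2]; group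
    exact mul_inv_eq_one.mp h3

end Cfsg.Agent.S0187
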