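import Cfsg.Statements.S1062
import Cfsg.Agent.ChevGrp.Orders
import Cfsg.Agent.S1035

set_option autoImplicit false
open Cfsg

namespace Cfsg.Agent.S1062

/-- `|F₄(q)| = q²⁴ (q² - 1)(q⁶ - 1)(q⁸ - 1)(q¹² - 1)`. -/
theorem result {F : Type*} [Field F] [Fintype F] {q : ℕ} (hq : Fintype.card F = q) : Nat.card ↥(Cfsg.Lie.chevF4.group F) = q ^ 24 * (q ^ 2 - 1) * (q ^ 6 - 1) * (q ^ 8 - 1) * (q ^ 12 - 1) := by
  have hD : Cfsg.Lie.chevF4 ∈ [Cfsg.Lie.chevG2, Cfsg.Lie.chevB2, Cfsg.Lie.chevD4, Cfsg.Lie.chevF4, Cfsg.Lie.chevE6, Cfsg.Lie.chevE7, Cfsg.Lie.chevE8] := by simp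
  obtain ⟨E⟩ := Cfsg.Agent.ChevGrp.DData.nonempty_of_mem hD
  have hq1 : 0 < q := by rw [← hq]; exact Fintype.card_pos
  have h2 : 1 ≤ q ^ 2 := Nat.one_le_pow _ _ hq1
  have h6 : 1 ≤ q ^ 6 := Nat.one_le_pow _ _ hq1
  have h8 : 1 ≤ q ^ 8 := Nat.one_le_pow _ _ hq1
  have h12 : 1 ≤ q ^ 12 := Nat.one_le_pow _ _ hq1
  have h := Cfsg.Agent.ChevGrp.order_of E (Cfsg.Agent.Chev.good_of_mem hD) hD hq (d := 1) (m := (q ^ 2 - 1) * (q ^ 6 - 1) * (q ^ 8 - 1) * (q ^ 12 - 1))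
    (Cfsg.Agent.S1035.result hq (Cfsg.Lie.chevF4, 1) (by simp))
    ((Cfsg.Agent.ChevWeyl.poinF4 E.rp (Cfsg.Agent.ChevGrp.cartan_F4 E) (q : ℤ)).trans (by
      push_cast [Nat.cast_sub, h2, h6, h8, h12]; rfl))
  rw [show Cfsg.Lie.chevF4.nroots / 2 = 24 from rfl] at h
  rw [one_mul] at h
  rw [h]
  ring

end Cfsg.Agent.S1062
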