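import Cfsg.Statements.S3276
import Cfsg.Agent.H55.Inv

set_option autoImplicit false
open Pointwise
open Cfsg

namespace Cfsg.Agent.S3276

open Cfsg.Agent.H55

theorem elemAb {G : Type*} [Group G] {y : G} (hy : y ^ 2 = 1)
    (hc : ∀ g : G, Commute (g * y * g⁻¹) y) :
    IsMulCommutative (Subgroup.normalClosure ({y} : Set G)) ∧
      ∀ a ∈ Subgroup.normalClosure ({y} : Set G), a ^ 2 = 1 := by
  have hcc : ∀ a ∈ Group.conjugatesOfSet ({y} : Set G), ∀ b ∈ Group.conjugatesOfSet ({y} : Set G),
      a * b = b * a := by
    intro a ha b hb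
    rw [Group.mem_conjugatesOfSet_iff] at ha hb
    obtain ⟨y1, h1, ha⟩ := ha
    obtain ⟨y2, h2, hb⟩ := hb
    rw [Set.mem_singleton_iff] at h1 h2
    rw [h1, isConj_iff] at ha
    rw [h2, isConj_iff] at hb
    obtain ⟨g, rfl⟩ := ha
    obtain ⟨k, rfl⟩ := hb
    have h1 := hc (k⁻¹ * g)
    have h2 := (h1.conj k)
    have e1 : k * (k⁻¹ * g * y * (k⁻¹ * g)⁻¹) * k⁻¹ = g * y * g⁻¹ := by group
    rw [e1] at h2
    exact h2
  have hcomm : IsMulCommutative (Subgroup.normalClosure ({y} : Set G)) :=
    Subgroup.isMulCommutative_closure hcc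
  refine ⟨hcomm, ?_⟩
  intro a ha
  unfold Subgroup.normalClosure at ha
  induction ha using Subgroup.closure_induction with
  | mem a ha =>
    rw [Group.mem_conjugatesOfSet_iff] at ha
    obtain ⟨y1, h1, ha⟩ := ha
    rw [Set.mem_singleton_iff] at h1
    subst h1
    rw [isConj_iff] at ha
    obtain ⟨g, rfl⟩ := ha
    rw [conj_pow, hy]; simp
  | one => simp
  | mul a b ha hb iha ihb =>
    have h : a * b = b * a := by
      have := hcomm.is_comm.comm ⟨a, ha⟩ ⟨b, hb⟩
      simpa using congrArg Subtype.val this
    rw [(show Commute a b from h).mul_pow, iha, ihb, one_mul]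
  | inv a ha iha => rw [inv_pow, iha, inv_one]

theorem card_le {G : Type*} [Group G] [Finite G] (V : Subgroup G) [V.Normal]
    (hV : IsMulCommutative V) (h2 : ∀ a ∈ V, a ^ 2 = 1) {x : G} (hx : x * x = 1) :
    Nat.card V ≤ (Nat.card {v : V // Commute (v : G) x}) ^ 2 := by
  have hxinv : x⁻¹ = x := inv_eq_of_mul_eq_one_left hx
  have hconj : ∀ v : V, x * (v : G) * x⁻¹ ∈ V := fun v => ‹V.Normal›.conj_mem v v.2 x
  have hcm : ∀ a b : V, a * b = b * a := fun a b => hV.is_comm.comm a b
  have hsq : ∀ a : V, a * a = 1 := fun a => by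
    ext; simpa [pow_two] using h2 a a.2
  let f : V →* V :=
    { toFun := fun v => v * ⟨x * (v : G) * x⁻¹, hconj v⟩
      map_one' := by ext; simp
      map_mul' := by
        intro a b
        have e : (⟨x * ((a * b : V) : G) * x⁻¹, hconj (a * b)⟩ : V) =
            ⟨x * (a : G) * x⁻¹, hconj a⟩ * ⟨x * (b : G) * x⁻¹, hconj b⟩ := by
          ext; simp
        rw [e]
        calc a * b * (⟨x * (a : G) * x⁻¹, hconj a⟩ * ⟨x * (b : G) * x⁻¹, hconj b⟩)
            = a * (b * ⟨x * (a : G) * x⁻¹, hconj a⟩) * ⟨x * (b : G) * x⁻¹, hconj b⟩ := by group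
          _ = a * (⟨x * (a : G) * x⁻¹, hconj a⟩ * b) * ⟨x * (b : G) * x⁻¹, hconj b⟩ := by
              rw [hcm b]
          _ = _ := by group }
  have hker : Nat.card f.ker ≤ Nat.card {v : V // Commute (v : G) x} := by
    apply Nat.card_le_card_of_injective
      (fun v : f.ker => (⟨v.1, by
        have h : (v : V) * ⟨x * ((v : V) : G) * x⁻¹, hconj v⟩ = 1 := v.2
        have h' := congrArg Subtype.val h
        simp only [Subgroup.coe_mul, Subgroup.coe_one] at h'
        have h3 : x * ((v : V) : G) * x⁻¹ = ((v : V) : G)⁻¹ := by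
          rw [eq_inv_iff_mul_eq_one]
          have h4 := congrArg Subtype.val (hcm (v : V) ⟨x * ((v : V) : G) * x⁻¹, hconj v⟩)
          simp only [Subgroup.coe_mul] at h4
          rw [← h4]; exact h'
        have h5 : (((v : V) : G))⁻¹ = ((v : V) : G) := by
          apply inv_eq_of_mul_eq_one_left
          have := congrArg Subtype.val (hsq v)
          simpa using this
        rw [h5] at h3
        show ((v : V) : G) * x = x * ((v : V) : G)
        rw [mul_inv_eq_iff_eq_mul] at h3
        exact h3.symm⟩ : {v : V // Commute (v : G) x}))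
    intro a b hab
    ext
    simpa using congrArg (fun z => ((z : V) : G)) (congrArg Subtype.val hab)
  have hran : Nat.card f.range ≤ Nat.card {v : V // Commute (v : G) x} := by
    apply Nat.card_le_card_of_injective
      (fun v : f.range => (⟨v.1, by
        obtain ⟨w, hw⟩ := v.2
        rw [← hw]
        show ((w * ⟨x * (w : G) * x⁻¹, hconj w⟩ : V) : G) * x
          = x * ((w * ⟨x * (w : G) * x⁻¹, hconj w⟩ : V) : G)
        simp only [Subgroup.coe_mul]
        have h4 := congrArg Subtype.val (hcm w ⟨x * (w : G) * x⁻¹, hconj w⟩)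
        simp only [Subgroup.coe_mul] at h4
        rw [h4]
        simp only [hxinv]
        calc x * (w : G) * x * (w : G) * x = x * ((w : G) * (x * (w : G) * x)) := by group
          _ = x * (x * (w : G) * x * w) := by
              have h4' : (w : G) * (x * (w : G) * x) = x * (w : G) * x * w := by
                simpa [hxinv] using h4
              rw [h4']
          _ = _ := by group⟩ : {v : V // Commute (v : G) x}))
    intro a b hab
    ext
    simpa using congrArg (fun z => ((z : V) : G)) (congrArg Subtype.val hab)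
  have h := Subgroup.card_mul_index f.ker
  rw [Subgroup.index_ker] at h
  rw [← h, pow_two]
  exact Nat.mul_le_mul hker hran

/-- Let x and y be commuting, non-conjugate involutions of a finite group G, and suppose that for every involution u commuting with x, each conjugate of y that commutes with u also commutes with y. Then the normal closure of y is a proper, normal, elementary abelian 2-subgroup of G; and if y is the only involution of that normal closure commuting with x, it has order at most 4. -/
theorem result {G : Type*} [Group G] [Finite G] (x y : G) (hx : orderOf x = 2) (hy : orderOf y = 2)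
    (hxy : Commute x y) (hnc : ¬ IsConj x y)
    (hstar : ∀ u : G, orderOf u = 2 → Commute u x → ∀ g : G, Commute (g * y * g⁻¹) u → Commute (g * y * g⁻¹) y) :
    Subgroup.normalClosure ({y} : Set G) ≠ ⊤ ∧ Cfsg.IsElementaryAbelian 2 (Subgroup.normalClosure ({y} : Set G)) ∧
      ((∀ u ∈ Subgroup.normalClosure ({y} : Set G), orderOf u = 2 → Commute u x → u = y) →
        Nat.card ↥(Subgroup.normalClosure ({y} : Set G)) ≤ 4) := by
  have hy2 : y ^ 2 = 1 := by rw [← hy]; exact pow_orderOf_eq_one y
  have hx2 : x * x = 1 := by rw [← pow_two, ← hx]; exact pow_orderOf_eq_one x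
  have hall : ∀ g : G, Commute (g * y * g⁻¹) y := by
    intro g
    have ho : orderOf (g * y * g⁻¹) = 2 := by
      rw [← hy]; exact (MulAut.conj g).orderOf_eq y
    have hn : ¬ IsConj x (g * y * g⁻¹) := by
      intro h
      exact hnc (h.trans (isConj_iff.2 ⟨g⁻¹, by group⟩))
    obtain ⟨u, hu, hux, huy⟩ := exists_common_involution hx ho hn
    exact hstar u hu hux g huy.symm
  obtain ⟨h1, h2⟩ := elemAb hy2 hall
  refine ⟨?_, ⟨h1, h2⟩, ?_⟩
  · intro htop
    have hyx : ∀ g : G, g * y * g⁻¹ = y := by
      intro g
      have hg : g ∈ Subgroup.normalClosure ({y} : Set G) := by rw [htop]; trivial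
      have hy' : y ∈ Subgroup.normalClosure ({y} : Set G) := by rw [htop]; trivial
      have := congrArg Subtype.val (h1.is_comm.comm ⟨g, hg⟩ ⟨y, hy'⟩)
      simp only [Subgroup.coe_mul] at this
      rw [mul_inv_eq_iff_eq_mul]; exact this
    have hle : Subgroup.normalClosure ({y} : Set G) ≤ Subgroup.zpowers y := by
      unfold Subgroup.normalClosure
      rw [Subgroup.closure_le]
      intro a ha
      rw [Group.mem_conjugatesOfSet_iff] at ha
      obtain ⟨y1, h1, ha⟩ := ha
      rw [Set.mem_singleton_iff] at h1
      subst h1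
      rw [isConj_iff] at ha
      obtain ⟨g, rfl⟩ := ha
      rw [hyx g]
      exact Subgroup.mem_zpowers y1
    have hxz : x ∈ Subgroup.zpowers y := hle (by rw [htop]; trivial)
    rw [Subgroup.mem_zpowers_iff] at hxz
    obtain ⟨k, hk⟩ := hxz
    have : x = 1 ∨ x = y := by
      rcases Int.even_or_odd' k with ⟨m, rfl | rfl⟩
      · left; rw [← hk, zpow_mul]; norm_cast; rw [hy2, one_zpow]
      · right; rw [← hk, zpow_add, zpow_mul]; norm_cast; rw [hy2, one_zpow, one_mul, pow_one]
    rcases this with h | h
    · rw [h, orderOf_one] at hx; omega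
    · exact hnc (h ▸ IsConj.refl y)
  · intro hu
    have h := card_le (Subgroup.normalClosure ({y} : Set G)) h1 h2 hx2
    have h3 : Nat.card {v : ↥(Subgroup.normalClosure ({y} : Set G)) // Commute (v : G) x} ≤ 2 := by
      have : Nat.card (Fin 2) = 2 := by simp
      rw [← this]
      classical
      apply Nat.card_le_card_of_injective (fun v => if ((v.1 : G)) = 1 then (0 : Fin 2) else 1)
      have key : ∀ v : {v : ↥(Subgroup.normalClosure ({y} : Set G)) // Commute (v : G) x},
          ((v.1 : G)) = 1 ∨ ((v.1 : G)) = y := by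
        intro v
        by_cases h1 : ((v.1 : G)) = 1
        · left; exact h1
        · right
          exact hu _ v.1.2 (orderOf_eq_prime (h2 _ v.1.2) h1) v.2
      intro a b hab
      ext
      rcases key a with ha | ha <;> rcases key b with hb | hb <;> simp_all
    calc Nat.card _ ≤ _ := h
      _ ≤ 2 ^ 2 := Nat.pow_le_pow_left h3 2
      _ = 4 := by norm_num

end Cfsg.Agent.S3276
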