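import Cfsg.Statements.S3277
import Cfsg.Agent.S3276
import Cfsg.Agent.H55.FewInv
import Cfsg.Agent.H55.KleinSylow

set_option autoImplicit false
open Pointwise
open Cfsg

namespace Cfsg.Agent.S3277

open Cfsg.Agent.H55

theorem conj_card {G : Type*} [Group G] (g x : G) :
    Nat.card ↥(Subgroup.centralizer ({g * x * g⁻¹} : Set G)) =
      Nat.card ↥(Subgroup.centralizer ({x} : Set G)) := by
  apply Nat.card_congr
  refine ⟨fun c => ⟨g⁻¹ * c * g, ?_⟩, fun c => ⟨g * c * g⁻¹, ?_⟩, ?_, ?_⟩
  · have hc := c.2
    rw [Subgroup.mem_centralizer_singleton_iff] at hc ⊢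
    calc g⁻¹ * (c : G) * g * x = g⁻¹ * ((c : G) * (g * x * g⁻¹)) * g := by group
      _ = g⁻¹ * ((g * x * g⁻¹) * c) * g := by rw [hc]
      _ = _ := by group
  · have hc := c.2
    rw [Subgroup.mem_centralizer_singleton_iff] at hc ⊢
    calc g * (c : G) * g⁻¹ * (g * x * g⁻¹) = g * ((c : G) * x) * g⁻¹ := by group
      _ = g * (x * c) * g⁻¹ := by rw [hc]
      _ = _ := by group
  · intro c; apply Subtype.ext; show g * (g⁻¹ * (c : G) * g) * g⁻¹ = c; group
  · intro c; apply Subtype.ext; show g⁻¹ * (g * (c : G) * g⁻¹) * g = c; group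

/-- Let G be a finite group containing an involution whose centralizer is elementary abelian of order 4. If G has no normal 2-complement and no normal elementary abelian 2-subgroup of order 2 or 4, then G is isomorphic to the alternating group of degree 5 (that is, to PSL(2, 5)). -/
theorem result {G : Type*} [Group G] [Finite G] (x : G) (hx : orderOf x = 2)
    (hC4 : Nat.card ↥(Subgroup.centralizer ({x} : Set G)) = 4) (hCe : ∀ c ∈ Subgroup.centralizer ({x} : Set G), c ^ 2 = 1)
    (hnc : ¬ Cfsg.HasNormalPComplement 2 G)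
    (hne : ∀ E : Subgroup G, E.Normal → Cfsg.IsElementaryAbelian 2 E → Nat.card ↥E ≠ 2 ∧ Nat.card ↥E ≠ 4) :
    Nonempty (G ≃* ↥(alternatingGroup (Fin 5))) := by
  classical
  haveI : Fact (Nat.Prime 2) := ⟨Nat.prime_two⟩
  set V : Subgroup G := Subgroup.centralizer ({x} : Set G) with hV
  have hVmem : ∀ g : G, g ∈ V ↔ Commute g x := fun g => Subgroup.mem_centralizer_singleton_iff
  have hx1 : x ≠ 1 := by rintro rfl; rw [orderOf_one] at hx; omega
  have hx2 : x * x = 1 := mul_self_of_orderOf hx
  have hxV : x ∈ V := (hVmem x).2 (Commute.refl x)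
  have hVc : ∀ a ∈ V, ∀ b ∈ V, Commute a b := by
    intro a ha b hb
    have h1 : a * a = 1 := by rw [← pow_two]; exact hCe a ha
    have h2 : b * b = 1 := by rw [← pow_two]; exact hCe b hb
    have h3 : (a * b) * (a * b) = 1 := by rw [← pow_two]; exact hCe _ (V.mul_mem ha hb)
    have e3 : (a * b)⁻¹ = a * b := inv_eq_of_mul_eq_one_left h3
    rw [mul_inv_rev, inv_eq_of_mul_eq_one_left h1, inv_eq_of_mul_eq_one_left h2] at e3
    exact e3.symm
  have hVP : IsPGroup 2 V := IsPGroup.of_card (n := 2) (by rw [hC4]; norm_num)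
  obtain ⟨P, hP⟩ := hVP.exists_le_sylow
  have hI : ∀ z ∈ V, z ≠ 1 → z ≠ x → ∀ u ∈ V, u = 1 ∨ u = x ∨ u = z ∨ u = x * z := by
    intro z hz hz1 hzx u hu
    haveI : Fintype V := Fintype.ofFinite _
    have h1 : ({1, ⟨x, hxV⟩, ⟨z, hz⟩, ⟨x * z, V.mul_mem hxV hz⟩} : Finset V) = Finset.univ := by
      apply Finset.eq_univ_of_card
      rw [← Nat.card_eq_fintype_card, hC4]
      have hxz1 : x * z ≠ 1 := by
        intro h; apply hzx
        rw [mul_eq_one_iff_eq_inv'] at h; rw [h]; exact inv_eq_of_mul_eq_one_left hx2
      rw [Finset.card_insert_of_notMem, Finset.card_insert_of_notMem,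
        Finset.card_insert_of_notMem, Finset.card_singleton]
      · simp only [Finset.mem_singleton, Subtype.mk.injEq]
        intro h; exact hx1 (by simpa using h.symm)
      · simp only [Finset.mem_insert, Finset.mem_singleton, Subtype.mk.injEq]
        rintro (h | h)
        · exact hzx h.symm
        · exact hz1 (by simpa using h.symm)
      · simp only [Finset.mem_insert, Finset.mem_singleton]
        rintro (h | h | h)
        · exact hx1 (congrArg Subtype.val h).symm
        · exact hz1 (congrArg Subtype.val h).symm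
        · exact hxz1 (congrArg Subtype.val h).symm
    have h2 : (⟨u, hu⟩ : V) ∈ ({1, ⟨x, hxV⟩, ⟨z, hz⟩, ⟨x * z, V.mul_mem hxV hz⟩} : Finset V) := by
      rw [h1]; exact Finset.mem_univ _
    simp only [Finset.mem_insert, Finset.mem_singleton, Subtype.mk.injEq] at h2
    rcases h2 with h | h | h | h
    · left; exact congrArg Subtype.val h
    · right; left; exact h
    · right; right; left; exact h
    · right; right; right; exact h
  by_cases hPV : (P : Subgroup G) = V
  · -- Klein four Sylow subgroup
    have hN : Nat.card (MulAction.stabilizer G P) = 12 ∧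
        ∀ v ∈ V, v ≠ 1 → ∃ n : G, n • P = P ∧ n * x * n⁻¹ = v := by
      let N := MulAction.stabilizer G P
      have hVN : V ≤ N := by
        rw [← hPV]; intro a ha; exact smul_eq_of_mem ha
      -- N acts on G by conjugation
      let O : Set G := Set.range (fun n : N => (n : G) * x * (n : G)⁻¹)
      have hOV : ∀ v ∈ O, v ∈ V ∧ v ≠ 1 := by
        rintro _ ⟨n, rfl⟩
        constructor
        · have h1 : (n : G) * x * (n : G)⁻¹ ∈ ((((n : G) • P : Sylow 2 G)) : Subgroup G) :=
            sylow_conj_mem.2 (by rw [hPV]; exact hxV)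
          have h2 : (n : G) • P = P := n.2
          rw [h2, hPV] at h1; exact h1
        · intro h
          have : x = 1 := by simpa using h
          exact hx1 this
      haveI : Fintype N := Fintype.ofFinite _
      haveI : Fintype V := Fintype.ofFinite _
      haveI : Fintype G := Fintype.ofFinite _
      have hOc : Nat.card O * 4 = Nat.card N := by
        -- fibres
        have h1 : Nat.card N = ∑ v : O, 4 := by
          rw [Nat.card_eq_fintype_card, ← Finset.card_univ]
          rw [Finset.card_eq_sum_card_fiberwise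
            (f := fun n : N => (⟨(n : G) * x * (n : G)⁻¹, ⟨n, rfl⟩⟩ : O)) (t := Finset.univ)
            (by intro _ _; simp)]
          apply Finset.sum_congr rfl
          rintro ⟨v, n0, hn0⟩ -
          rw [← hC4, ← Fintype.card_coe, ← Nat.card_eq_fintype_card]
          apply Nat.card_congr
          refine ⟨fun n => ⟨(n0 : G)⁻¹ * (n.1 : G), ?_⟩,
            fun c => ⟨⟨(n0 : G) * c, N.mul_mem n0.2 (hVN c.2)⟩, ?_⟩, ?_, ?_⟩
          · have hn := n.2
            simp only [Finset.mem_filter, Finset.mem_univ, true_and] at hn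
            have hn2 : (n.1 : G) * x * (n.1 : G)⁻¹ = v := congrArg Subtype.val hn
            replace hn2 : (n.1 : G) * x * (n.1 : G)⁻¹ = (n0 : G) * x * (n0 : G)⁻¹ :=
              hn2.trans (show (n0 : G) * x * (n0 : G)⁻¹ = v from hn0).symm
            rw [hVmem]
            show (n0 : G)⁻¹ * (n.1 : G) * x = x * ((n0 : G)⁻¹ * (n.1 : G))
            calc (n0 : G)⁻¹ * (n.1 : G) * x
                = (n0 : G)⁻¹ * ((n.1 : G) * x * (n.1 : G)⁻¹) * (n.1 : G) := by group
              _ = (n0 : G)⁻¹ * ((n0 : G) * x * (n0 : G)⁻¹) * (n.1 : G) := by rw [hn2]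
              _ = _ := by group
          · simp only [Finset.mem_filter, Finset.mem_univ, true_and]
            have hn3 : (n0 : G) * x * (n0 : G)⁻¹ = v := hn0
            apply Subtype.ext
            show (n0 : G) * (c : G) * x * ((n0 : G) * c)⁻¹ = v
            rw [← hn3]
            have hc : (c : G) * x = x * c := (hVmem _).1 c.2
            calc (n0 : G) * (c : G) * x * ((n0 : G) * c)⁻¹
                = (n0 : G) * ((c : G) * x) * (c : G)⁻¹ * (n0 : G)⁻¹ := by group
              _ = (n0 : G) * (x * c) * (c : G)⁻¹ * (n0 : G)⁻¹ := by rw [hc]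
              _ = _ := by group
          · intro n; apply Subtype.ext; apply Subtype.ext
            show (n0 : G) * ((n0 : G)⁻¹ * (n.1 : G)) = n.1; group
          · intro c; apply Subtype.ext
            show (n0 : G)⁻¹ * ((n0 : G) * (c : G)) = c; group
        rw [h1, Finset.sum_const, Finset.card_univ, ← Nat.card_eq_fintype_card, smul_eq_mul]
      have hOle : Nat.card O ≤ 3 := by
        have h3 : Nat.card {v : V // v ≠ 1} = 3 := by
          rw [Nat.card_eq_fintype_card, Fintype.card_subtype_compl, Fintype.card_subtype_eq,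
            ← Nat.card_eq_fintype_card, hC4]
        rw [← h3]
        apply Nat.card_le_card_of_injective (fun v : O =>
          (⟨⟨v, (hOV v v.2).1⟩, fun h => (hOV v v.2).2 (congrArg Subtype.val h)⟩ : {v : V // v ≠ 1}))
        intro a b hab
        exact Subtype.ext (congrArg (fun z => ((z : V) : G)) (congrArg Subtype.val hab))
      have hOodd : ¬ 2 ∣ Nat.card O := by
        intro h
        have h1 : ¬ 2 ∣ (P.subtype (show (P : Subgroup G) ≤ N by rw [hPV]; exact hVN) : Sylow 2 N).index :=
          Sylow.not_dvd_index _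
        apply h1
        have h2 := (P.subtype (show (P : Subgroup G) ≤ N by rw [hPV]; exact hVN) : Sylow 2 N).card_mul_index
        have h3 : Nat.card ↥((P.subtype (show (P : Subgroup G) ≤ N by rw [hPV]; exact hVN) : Sylow 2 N) : Subgroup N) = 4 := by
          rw [Sylow.coe_subtype, ← hC4, ← hPV]
          exact Nat.card_congr (Subgroup.subgroupOfEquivOfLe (by rw [hPV]; exact hVN)).toEquiv
        rw [h3, ← hOc] at h2
        have h4 : (P.subtype (show (P : Subgroup G) ≤ N by rw [hPV]; exact hVN) : Sylow 2 N).index = Nat.card O := by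
          omega
        rw [h4]; exact h
      have hOne1 : Nat.card O ≠ 1 := by
        intro h
        apply hnc
        have h1 : Nat.card N = 4 := by rw [← hOc, h]
        have h2 : N = V := by
          apply (Subgroup.eq_of_le_of_card_ge hVN _).symm
          rw [h1, hC4]
        have hle : Subgroup.normalizer (P : Set G) ≤ Subgroup.centralizer (P : Set G) := by
          intro n hn
          have hn' : n ∈ N := Sylow.smul_eq_iff_mem_normalizer.2 hn
          rw [h2] at hn'
          rw [Subgroup.mem_centralizer_iff]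
          intro a ha
          have ha' : a ∈ V := by rw [← hPV]; exact ha
          exact hVc a ha' n hn'
        exact ⟨P, (MonoidHom.transferSylow P hle).ker, inferInstance,
          MonoidHom.ker_transferSylow_isComplement' P hle⟩
      have hO3 : Nat.card O = 3 := by
        have : Nat.card O ≠ 0 := by
          haveI : Nonempty O := ⟨⟨_, ⟨1, rfl⟩⟩⟩
          exact Nat.card_pos.ne'
        omega
      refine ⟨by rw [← hOc, hO3], ?_⟩
      intro v hv hv1
      by_contra hcon
      have hlt : Nat.card O < 3 := by
        have h3 : Nat.card {v : V // v ≠ 1} = 3 := by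
          rw [Nat.card_eq_fintype_card, Fintype.card_subtype_compl, Fintype.card_subtype_eq,
            ← Nat.card_eq_fintype_card, hC4]
        rw [← h3]
        let f : O → {v : V // v ≠ 1} := fun v =>
          (⟨⟨v, (hOV v v.2).1⟩, fun h => (hOV v v.2).2 (congrArg Subtype.val h)⟩ : {v : V // v ≠ 1})
        have hf : Function.Injective f := by
          intro a b hab
          exact Subtype.ext (congrArg (fun z => ((z : V) : G)) (congrArg Subtype.val hab))
        haveI : Fintype O := Fintype.ofFinite _
        rw [Nat.card_eq_fintype_card, Nat.card_eq_fintype_card]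
        apply Fintype.card_lt_of_injective_of_notMem f hf (b := ⟨⟨v, hv⟩, fun h => hv1 (congrArg Subtype.val h)⟩)
        rintro ⟨⟨_, n, rfl⟩, hn⟩
        apply hcon
        exact ⟨n, n.2, congrArg (fun z => ((z : V) : G)) (congrArg Subtype.val hn)⟩
      omega
    have hKS : KS G := by
      have hR : ∀ R : Sylow 2 G, ∃ g : G, g • P = R := fun R => MulAction.exists_smul_eq G P R
      constructor
      · intro R v hv
        obtain ⟨g, rfl⟩ := hR R
        have hv' : g * (g⁻¹ * v * g) * g⁻¹ ∈ ((g • P : Sylow 2 G) : Subgroup G) := by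
          have : g * (g⁻¹ * v * g) * g⁻¹ = v := by group
          rw [this]; exact hv
        rw [sylow_conj_mem, hPV] at hv'
        have h1 := hCe _ hv'
        calc v * v = g * (g⁻¹ * v * g) ^ 2 * g⁻¹ := by rw [pow_two]; group
          _ = 1 := by rw [h1]; simp
      · intro R
        obtain ⟨g, rfl⟩ := hR R
        rw [← hC4]
        have h1 : Nat.card P = Nat.card (g • P : Sylow 2 G) := Nat.card_congr (P.equivSMul g).toEquiv
        rw [← h1]
        show Nat.card (P : Subgroup G) = _
        rw [hPV]
      · intro R v hv hv1 a ha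
        obtain ⟨g, rfl⟩ := hR R
        have e1 : g * (g⁻¹ * v * g) * g⁻¹ = v := by group
        have hv' : g * (g⁻¹ * v * g) * g⁻¹ ∈ ((g • P : Sylow 2 G) : Subgroup G) := by
          rw [e1]; exact hv
        rw [sylow_conj_mem, hPV] at hv'
        have hv1' : g⁻¹ * v * g ≠ 1 := by
          intro h; apply hv1; rw [← e1, h]; simp
        obtain ⟨n, hn, hnx⟩ := hN.2 _ hv' hv1'
        have e2 : g * (g⁻¹ * a * g) * g⁻¹ = a := by group
        rw [← e2, sylow_conj_mem, ← hn]
        have e3 : n * (n⁻¹ * (g⁻¹ * a * g) * n) * n⁻¹ = g⁻¹ * a * g := by group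
        rw [← e3, sylow_conj_mem, hPV, hVmem]
        have h4 := (ha.conj g⁻¹).conj n⁻¹
        have e4 : n⁻¹ * (g⁻¹ * a * (g⁻¹)⁻¹) * (n⁻¹)⁻¹ = n⁻¹ * (g⁻¹ * a * g) * n := by group
        have e5 : n⁻¹ * (g⁻¹ * v * (g⁻¹)⁻¹) * (n⁻¹)⁻¹ = x := by
          have : g⁻¹ * v * (g⁻¹)⁻¹ = n * x * n⁻¹ := by rw [hnx]; group
          rw [this]; group
        rw [e4, e5] at h4
        exact h4
      · intro R
        obtain ⟨g, rfl⟩ := hR R
        rw [← hN.1]
        exact (Nat.card_congr (MulAction.stabilizerEquivStabilizer
          (show g • P = g • P from rfl)).toEquiv).symm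
    by_cases hPQ : ∃ P Q : Sylow 2 G, P ≠ Q
    · exact hKS.alt5 hPQ
    · exfalso
      push Not at hPQ
      have hn : V.Normal := by
        constructor
        intro v hv g
        have h1 : g • P = P := hPQ _ _
        have h2 : g * v * g⁻¹ ∈ ((g • P : Sylow 2 G) : Subgroup G) := by
          rw [sylow_conj_mem, hPV]; exact hv
        rw [h1, hPV] at h2; exact h2
      refine (hne V hn ⟨⟨⟨fun a b => Subtype.ext (hVc a a.2 b b.2)⟩⟩, hCe⟩).2 hC4
  · -- the Sylow subgroup is larger
    exfalso
    have hlt : V < P := lt_of_le_of_ne hP (Ne.symm hPV)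
    have hPne : (P : Subgroup G) ≠ ⊥ := by
      intro h; rw [h] at hP; exact hx1 (Subgroup.mem_bot.1 (hP hxV))
    obtain ⟨z, hzP, hz, hzc⟩ := two_group_center_involution (P : Subgroup G) P.isPGroup' hPne
    have hz1 : z ≠ 1 := by rintro rfl; rw [orderOf_one] at hz; omega
    have hzV : z ∈ V := (hVmem z).2 (hzc x (hP hxV)).symm
    have hzx : z ≠ x := by
      rintro rfl
      exact absurd (fun a ha => (hVmem a).2 (hzc a ha)) (not_le_of_gt hlt)
    -- element of the normaliser
    have hnorm : ∃ s ∈ (P : Subgroup G), s ∉ V ∧ ∀ v ∈ V, s * v * s⁻¹ ∈ V := by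
      have hnil : Group.IsNilpotent P := P.isPGroup'.isNilpotent
      have h1 : V.subgroupOf P < ⊤ := by
        rw [lt_top_iff_ne_top]
        intro h
        rw [Subgroup.subgroupOf_eq_top] at h
        exact absurd h (not_le_of_gt hlt)
      have h2 := Group.normalizerCondition_of_isNilpotent (G := P) _ h1
      obtain ⟨s, hs1, hs2⟩ := SetLike.exists_of_lt h2
      refine ⟨s, s.2, fun h => hs2 h, ?_⟩
      intro v hv
      rw [Subgroup.mem_normalizer_iff] at hs1
      have := (hs1 ⟨v, hP hv⟩).1 hv
      exact this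
    obtain ⟨s, hsP, hsV, hsn⟩ := hnorm
    have hsx : s * x * s⁻¹ = x * z := by
      rcases hI z hzV hz1 hzx _ (hsn x hxV) with h | h | h | h
      · exfalso; exact hx1 (by simpa using h)
      · exfalso; apply hsV; rw [hVmem]; rw [mul_inv_eq_iff_eq_mul] at h; exact h
      · exfalso
        have h1 : s * z * s⁻¹ = z := by rw [(hzc s hsP).eq]; group
        have h2 : s * x * s⁻¹ = s * z * s⁻¹ := by rw [h, h1]
        exact hzx (by simpa using h2.symm)
      · exact h
    have hnconj : ¬ IsConj x z := by
      intro h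
      obtain ⟨g, hg⟩ := isConj_iff.1 h
      have h1 := conj_card g x
      rw [hg, hC4] at h1
      have h2 : (P : Subgroup G) ≤ Subgroup.centralizer ({z} : Set G) := fun a ha =>
        Subgroup.mem_centralizer_singleton_iff.2 (hzc a ha)
      have h3 := Subgroup.card_le_of_le h2
      have h4 : V = P := Subgroup.eq_of_le_of_card_ge hP (by rw [hC4, ← h1]; exact h3)
      exact hPV h4.symm
    have hcx : ∀ a : G, Commute a (x * z) → a ∈ V := by
      intro a ha
      have h0 := conj_card s x
      rw [hsx] at h0
      have hle : V ≤ Subgroup.centralizer ({x * z} : Set G) := fun b hb =>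
        Subgroup.mem_centralizer_singleton_iff.2 (hVc b hb _ (V.mul_mem hxV hzV))
      have h4 : V = Subgroup.centralizer ({x * z} : Set G) :=
        Subgroup.eq_of_le_of_card_ge hle (le_of_eq h0)
      rw [h4]; exact Subgroup.mem_centralizer_singleton_iff.2 ha
    have hstar : ∀ u : G, orderOf u = 2 → Commute u x → ∀ g : G, Commute (g * z * g⁻¹) u →
        Commute (g * z * g⁻¹) z := by
      intro u hu hux g hg
      have huV : u ∈ V := (hVmem u).2 hux
      rcases hI z hzV hz1 hzx u huV with rfl | rfl | rfl | rfl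
      · rw [orderOf_one] at hu; omega
      · exact hVc _ ((hVmem _).2 hg) _ hzV
      · exact hg
      · exact hVc _ (hcx _ hg) _ hzV
    obtain ⟨h1, h2, h3⟩ := Cfsg.Agent.S3276.result x z hx hz (hzc x (hP hxV)) hnconj hstar
    set W := Subgroup.normalClosure ({z} : Set G) with hW
    have hzW : z ∈ W := Subgroup.subset_normalClosure (Set.mem_singleton z)
    have h4 : Nat.card W ≤ 4 := by
      by_cases hxW : x ∈ W
      · have hle : W ≤ V := by
          intro w hw
          rw [hVmem]
          have := h2.1.is_comm.comm ⟨w, hw⟩ ⟨x, hxW⟩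
          exact congrArg Subtype.val this
        rw [← hC4]; exact Subgroup.card_le_of_le hle
      · apply h3
        intro u hu hu2 hux
        have huV : u ∈ V := (hVmem u).2 hux
        rcases hI z hzV hz1 hzx u huV with rfl | rfl | rfl | rfl
        · rw [orderOf_one] at hu2; omega
        · exact absurd hu hxW
        · rfl
        · exfalso; apply hxW
          have := W.mul_mem hu hzW
          rwa [mul_assoc, mul_self_of_orderOf hz, mul_one] at this
    have hWp : IsPGroup 2 W := by
      intro w
      refine ⟨1, ?_⟩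
      apply Subtype.ext
      simpa using h2.2 w w.2
    obtain ⟨n, hn⟩ := hWp.exists_card_eq
    have h5 := hne W inferInstance h2
    have h6 : n ≤ 2 := by
      by_contra hcon
      have : 2 ^ 3 ≤ 2 ^ n := Nat.pow_le_pow_right (by norm_num) (by omega)
      omega
    interval_cases n
    · rw [pow_zero] at hn
      rw [Subgroup.card_eq_one.1 hn, Subgroup.mem_bot] at hzW
      exact hz1 hzW
    · exact h5.1 (by rw [hn]; norm_num)
    · exact h5.2 (by rw [hn]; norm_num)

end Cfsg.Agent.S3277
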