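import Cfsg.Statements.S0805
import Cfsg.Agent.H14.SubField
import Cfsg.Agent.S0809

set_option autoImplicit false
open Cfsg

namespace Cfsg.Agent.S0805

open Cfsg.Agent.H41 Cfsg.Agent.H14.SubField

theorem range_of_sq {K F : Type*} [Field K] [Field F] (f : K →+* F) (hsq : ∀ u : Kˣ, IsSquare (f u))
    (x : Matrix.ProjGenLinGroup (Fin 2) K) :
    Matrix.ProjGenLinGroup.map f x ∈ (Matrix.ProjectiveSpecialLinearGroup.toPGL (n := Fin 2) (R := F)).range := by
  induction x using Matrix.ProjGenLinGroup.induction_on with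
  | mk g =>
    obtain ⟨s, hs⟩ := hsq g.det⁻¹
    have hdet0 : f ((g.det⁻¹ : Kˣ) : K) ≠ 0 := by
      rw [map_ne_zero]; exact Units.ne_zero _
    have hs0 : s ≠ 0 := by
      rintro rfl
      rw [mul_zero] at hs
      exact hdet0 hs
    set g' := Matrix.GeneralLinearGroup.map f g with hg'
    have hdg : f ((g.det⁻¹ : Kˣ) : K) * Matrix.det (g' : Matrix (Fin 2) (Fin 2) F) = 1 := by
      have h1 : Matrix.det (g' : Matrix (Fin 2) (Fin 2) F) = f ((g.det : Kˣ) : K) := by
        rw [hg', Matrix.GeneralLinearGroup.val_det_apply]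
        exact (RingHom.map_det f (g : Matrix (Fin 2) (Fin 2) K)).symm
      rw [h1, ← map_mul, Units.inv_mul, map_one]
    have hd : Matrix.det (s • (g' : Matrix (Fin 2) (Fin 2) F)) = 1 := by
      rw [Matrix.det_smul, Fintype.card_fin, pow_two, ← hs, hdg]
    let S : Matrix.SpecialLinearGroup (Fin 2) F := ⟨s • (g' : Matrix (Fin 2) (Fin 2) F), hd⟩
    have hS : Matrix.ProjGenLinGroup.mk (Matrix.SpecialLinearGroup.toGL S) = Matrix.ProjGenLinGroup.mk g' := by
      rw [Matrix.ProjGenLinGroup.mk_eq_mk_iff]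
      refine ⟨(Units.mk0 s hs0)⁻¹, Units.ext ?_⟩
      change (s • (g' : Matrix (Fin 2) (Fin 2) F)) * Matrix.scalar (Fin 2) (((Units.mk0 s hs0)⁻¹ : Fˣ) : F) = _
      ext i j
      rw [Matrix.scalar_apply, Matrix.mul_diagonal]
      simp
      field_simp
    exact ⟨QuotientGroup.mk S, hS⟩

theorem pglMap_injective {K F : Type*} [Field K] [Field F] (f : K →+* F) :
    Function.Injective (Matrix.ProjGenLinGroup.map (n := Fin 2) f) := by
  rw [injective_iff_map_eq_one]
  intro x
  induction x using Matrix.ProjGenLinGroup.induction_on with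
  | mk g =>
    intro h
    rw [Matrix.ProjGenLinGroup.map_mk, Matrix.ProjGenLinGroup.mk_eq_one,
      Matrix.GeneralLinearGroup.center_eq_range_scalar] at h
    obtain ⟨u, hu⟩ := h
    have he : ∀ i j, f ((g : Matrix (Fin 2) (Fin 2) K) i j) = (Matrix.scalar (Fin 2) (u : F)) i j := by
      intro i j
      have := congrArg (fun M : Matrix.GeneralLinearGroup (Fin 2) F => (M : Matrix (Fin 2) (Fin 2) F) i j) hu
      exact this.symm
    have h01 : (g : Matrix (Fin 2) (Fin 2) K) 0 1 = 0 := by
      apply f.injective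
      rw [he, map_zero]; simp
    have h10 : (g : Matrix (Fin 2) (Fin 2) K) 1 0 = 0 := by
      apply f.injective
      rw [he, map_zero]; simp
    have h00 : (g : Matrix (Fin 2) (Fin 2) K) 0 0 = (g : Matrix (Fin 2) (Fin 2) K) 1 1 := by
      apply f.injective
      rw [he, he]; simp
    rw [Matrix.ProjGenLinGroup.mk_eq_one, Matrix.GeneralLinearGroup.center_eq_range_scalar]
    have hdet : Matrix.det (g : Matrix (Fin 2) (Fin 2) K) ≠ 0 := by
      rw [← Matrix.GeneralLinearGroup.val_det_apply]; exact Units.ne_zero _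
    rw [Matrix.det_fin_two, h01, zero_mul, sub_zero] at hdet
    have h0 : (g : Matrix (Fin 2) (Fin 2) K) 0 0 ≠ 0 := left_ne_zero_of_mul hdet
    refine ⟨Units.mk0 _ h0, Units.ext ?_⟩
    ext i j
    fin_cases i <;> fin_cases j <;> simp [h01, h10, h00]

theorem geom_odd (x m : ℕ) (hx : Even x) : ∃ S : ℕ, (Odd S ↔ Odd m) ∧ S * x + 1 = (x + 1) ^ m := by
  refine ⟨∑ i ∈ Finset.range m, (x + 1) ^ i, ?_, geom_sum_mul_add x m⟩
  rw [Finset.odd_sum_iff_odd_card_odd]
  have : (Finset.range m).filter (fun i => Odd ((x + 1) ^ i)) = Finset.range m := by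
    apply Finset.filter_true_of_mem
    intro i _
    exact (hx.add_one).pow
  rw [this, Finset.card_range]

/-- Subfield subgroups: let F be a finite field of odd order q and K a finite field with |K|^m = q, m ≥ 1. Then PSL_2(F) has a subgroup isomorphic to PSL_2(K), and has a subgroup isomorphic to PGL_2(K) if and only if m is even. -/
theorem result {F K : Type*} [Field F] [Fintype F] [Field K] [Fintype K] {q : ℕ} (hF : Fintype.card F = q) (hodd : Odd q) (m : ℕ) (hm : 1 ≤ m) (hK : Fintype.card K ^ m = q) : (∃ H : Subgroup (Matrix.ProjectiveSpecialLinearGroup (Fin 2) F), Nonempty (H ≃* Matrix.ProjectiveSpecialLinearGroup (Fin 2) K)) ∧ ((∃ H : Subgroup (Matrix.ProjectiveSpecialLinearGroup (Fin 2) F), Nonempty (H ≃* Matrix.ProjGenLinGroup (Fin 2) K)) ↔ Even m) := by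
  subst hF
  obtain ⟨f⟩ := exists_ringHom hm hK
  have hkodd : Odd (Fintype.card K) := by
    rw [← hK] at hodd
    exact Nat.Odd.of_mul_left (n := Fintype.card K ^ (m - 1)) (by rwa [← pow_succ', Nat.sub_add_cancel hm])
  refine ⟨⟨(pslMap f).range, ⟨(MonoidHom.ofInjective (pslMap_injective f)).symm⟩⟩, ?_, ?_⟩
  · rintro ⟨H, ⟨e⟩⟩
    by_contra hmo
    rw [Nat.not_even_iff_odd] at hmo
    have h1 : Nat.card H ∣ Nat.card (Matrix.ProjectiveSpecialLinearGroup (Fin 2) F) := Subgroup.card_subgroup_dvd_card H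
    rw [Nat.card_congr e.toEquiv, card_PGL2] at h1
    have h2 := card_PSL2_odd hodd
    generalize hkk : Fintype.card K = k at *
    have hk1 : 1 < k := by rw [← hkk]; exact Fintype.one_lt_card
    obtain ⟨c, hc⟩ := h1
    rw [hc, ← hK] at h2
    obtain ⟨x, rfl⟩ : ∃ x, k = x + 1 := ⟨k - 1, by omega⟩
    have hx : Even x := by
      have := hkodd
      rcases Nat.even_or_odd x with h | h
      · exact h
      · exact absurd (h.add_one) (Nat.not_even_iff_odd.2 this)
    obtain ⟨S, hS, hS2⟩ := geom_odd (x * (x + 2)) m (hx.mul_right _)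
    have hS' := hS.2 hmo
    have e1 : (x * (x + 2) + 1) ^ m = (x + 1) ^ m * (x + 1) ^ m := by
      rw [← mul_pow]; congr 1; ring
    have hpos : 1 ≤ (x + 1) ^ m := Nat.one_le_pow _ _ (by omega)
    have e2 : ((x + 1) ^ m - 1) * ((x + 1) ^ m + 1) = S * (x * (x + 2)) := by
      obtain ⟨y, hy⟩ : ∃ y, (x + 1) ^ m = y + 1 := ⟨(x + 1) ^ m - 1, by omega⟩
      rw [e1, hy] at hS2
      rw [hy, Nat.add_sub_cancel]
      nlinarith
    rw [e2, Nat.add_sub_cancel] at h2
    have hxpos : 0 < x * (x + 2) := Nat.mul_pos (by omega) (by omega)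
    have e3 : 2 * ((x + 1) * c) = (x + 1) ^ m * S := by
      apply Nat.eq_of_mul_eq_mul_right hxpos
      linarith
    have h5 : Odd ((x + 1) ^ m * S) := (hx.add_one.pow).mul hS'
    rw [← e3] at h5
    exact (Nat.not_odd_iff_even.2 (even_two_mul _)) h5
  · intro hme
    have hsq : ∀ u : Kˣ, IsSquare (f u) := by
      intro u
      have h2 : ringChar F ≠ 2 := by
        intro h
        have := FiniteField.even_card_iff_char_two.1 h
        rw [Nat.odd_iff] at hodd
        omega
      have hu0 : f u ≠ 0 := by rw [map_ne_zero]; exact u.ne_zero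
      rw [FiniteField.isSquare_iff h2 hu0, ← map_pow]
      have hu : (u : K) ^ (Fintype.card K - 1) = 1 := FiniteField.pow_card_sub_one_eq_one _ u.ne_zero
      have hdvd : (Fintype.card K - 1) ∣ Fintype.card F / 2 := by
        rw [← hK]
        obtain ⟨x, hx⟩ : ∃ x, Fintype.card K = x + 1 := ⟨Fintype.card K - 1, by
          have := Fintype.one_lt_card (α := K)
          omega⟩
        rw [hx] at hkodd ⊢
        have hxe : Even x := by
          rcases Nat.even_or_odd x with h | h
          · exact h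
          · exact absurd (h.add_one) (Nat.not_even_iff_odd.2 hkodd)
        obtain ⟨S, hS, hS2⟩ := geom_odd x m hxe
        have hSe : Even S := by
          rw [← Nat.not_odd_iff_even, hS, Nat.not_odd_iff_even]
          exact hme
        obtain ⟨T, hT⟩ := hSe
        refine ⟨T, ?_⟩
        rw [← hS2, hT, Nat.add_sub_cancel]
        have : (T + T) * x + 1 = 2 * (x * T) + 1 := by ring
        rw [this]
        omega
      obtain ⟨c, hc⟩ := hdvd
      rw [hc, pow_mul, hu, one_pow, map_one]
    have hle : (Matrix.ProjGenLinGroup.map (n := Fin 2) f).range ≤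
        (Matrix.ProjectiveSpecialLinearGroup.toPGL (n := Fin 2) (R := F)).range := by
      rintro _ ⟨x, rfl⟩
      exact range_of_sq f hsq x
    set T := Matrix.ProjectiveSpecialLinearGroup.toPGL (n := Fin 2) (R := F)
    have hT : Function.Injective T := Matrix.ProjectiveSpecialLinearGroup.toPGL_injective
    refine ⟨(Matrix.ProjGenLinGroup.map (n := Fin 2) f).range.comap T, ⟨?_⟩⟩
    have e1 : ((Matrix.ProjGenLinGroup.map (n := Fin 2) f).range.comap T) ≃*
        (((Matrix.ProjGenLinGroup.map (n := Fin 2) f).range.comap T).map T) :=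
      Subgroup.equivMapOfInjective _ T hT
    have e2 : ((Matrix.ProjGenLinGroup.map (n := Fin 2) f).range.comap T).map T =
        (Matrix.ProjGenLinGroup.map (n := Fin 2) f).range := by
      rw [Subgroup.map_comap_eq, inf_eq_right]
      exact hle
    rw [e2] at e1
    exact e1.trans (MonoidHom.ofInjective (pglMap_injective f)).symm

end Cfsg.Agent.S0805
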