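import Cfsg.Statements.S0804
import Cfsg.Agent.H14.PSL2Sub

set_option autoImplicit false
open Cfsg

namespace Cfsg.Agent.S0804

theorem card_sl_eq {F : Type*} [Field F] [Fintype F] : Nat.card (Matrix.SpecialLinearGroup (Fin 2) F) =
    Fintype.card F * (Fintype.card F ^ 2 - 1) := by
  rw [H81.card_sl2]
  congr 1
  have := Fintype.one_lt_card (α := F)
  obtain ⟨k, hk⟩ : ∃ k, Fintype.card F = k + 1 := ⟨Fintype.card F - 1, by omega⟩
  rw [hk, Nat.add_sub_cancel]
  have : (k + 1) ^ 2 = k * (k + 1 + 1) + 1 := by ring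
  omega

/-- PSL_2(q) has a subgroup isomorphic to A_5 iff 5 ∣ q(q² − 1). -/
theorem result {F : Type*} [Field F] [Fintype F] {q : ℕ} (hF : Fintype.card F = q) : (∃ H : Subgroup (Matrix.ProjectiveSpecialLinearGroup (Fin 2) F), Nonempty (H ≃* alternatingGroup (Fin 5))) ↔ 5 ∣ q * (q ^ 2 - 1) := by
  subst hF
  rw [← card_sl_eq]
  constructor
  · rintro ⟨H, ⟨e⟩⟩
    have h1 : Nat.card H ∣ Nat.card (Matrix.ProjectiveSpecialLinearGroup (Fin 2) F) := Subgroup.card_subgroup_dvd_card H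
    rw [Nat.card_congr e.toEquiv, H56.Tri235.card_alt5] at h1
    have h2 : Nat.card (Matrix.ProjectiveSpecialLinearGroup (Fin 2) F) ∣ Nat.card (Matrix.SpecialLinearGroup (Fin 2) F) :=
      Subgroup.card_quotient_dvd_card _
    exact (Dvd.intro 12 rfl : 5 ∣ 60).trans (h1.trans h2)
  · intro h
    have : Fact (Nat.Prime 5) := ⟨by norm_num⟩
    obtain ⟨Y, hY⟩ := exists_prime_orderOf_dvd_card' 5 h
    obtain ⟨t, ht⟩ := H14.PSL2Sub.exists_t hY
    exact H14.PSL2Sub.exists_alt5 ht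

end Cfsg.Agent.S0804
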