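import Cfsg.Statements.S0802
import Cfsg.Agent.H14.KleinPSL
import Cfsg.Agent.H14.PSL2Sub
import Cfsg.Agent.S0804
import Cfsg.Agent.S0809

set_option autoImplicit false
open Cfsg

namespace Cfsg.Agent.S0802

open Cfsg.Agent.H14.Klein Cfsg.Agent.H41 Matrix

theorem A4_of_A5 {H : Type*} [Group H] (K : Subgroup H) (e : K ≃* alternatingGroup (Fin 5)) :
    ∃ L : Subgroup H, Nonempty (L ≃* alternatingGroup (Fin 4)) := by
  let ι : Fin 4 ≃ {x : Fin 5 // x ≠ 4} := finSuccAboveEquiv (4 : Fin 5)
  let j0 : Equiv.Perm (Fin 4) →* Equiv.Perm (Fin 5) := Equiv.Perm.extendDomainHom ι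
  have hj0 : Function.Injective j0 := Equiv.Perm.extendDomainHom_injective ι
  let j : alternatingGroup (Fin 4) →* alternatingGroup (Fin 5) :=
    (j0.comp (alternatingGroup (Fin 4)).subtype).codRestrict _ (by
      intro σ
      rw [Equiv.Perm.mem_alternatingGroup]
      change Equiv.Perm.sign (Equiv.Perm.extendDomain (σ : Equiv.Perm (Fin 4)) ι) = 1
      rw [Equiv.Perm.sign_extendDomain]
      exact Equiv.Perm.mem_alternatingGroup.1 σ.2)
  have hj : Function.Injective j := by
    intro a b hab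
    apply Subtype.ext
    apply hj0
    exact congrArg Subtype.val hab
  let f : alternatingGroup (Fin 4) →* H := K.subtype.comp (e.symm.toMonoidHom.comp j)
  have hf : Function.Injective f := Subtype.val_injective.comp (e.symm.injective.comp hj)
  exact ⟨f.range, ⟨(MonoidHom.ofInjective hf).symm⟩⟩

theorem exists_elems : ∃ u v t : alternatingGroup (Fin 4), u ≠ 1 ∧ v ≠ 1 ∧ v * v = 1 ∧ u * v = v * u ∧
    t * t * t = 1 ∧ t ≠ 1 ∧ t * u = v * t ∧ u * u = 1 := by
  decide +kernel

section lin

variable {F : Type*} [Field F]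

theorem eq_smul_of_fixed {A : SpecialLinearGroup (Fin 2) F} (hA : A ≠ 1) {e f : Fin 2 → F} (he0 : e ≠ 0)
    (he : (A : Matrix (Fin 2) (Fin 2) F) *ᵥ e = e) (hf : (A : Matrix (Fin 2) (Fin 2) F) *ᵥ f = f) :
    ∃ μ : F, f = μ • e := by
  by_cases h : e 0 * f 1 - e 1 * f 0 = 0
  · by_cases h0 : e 0 = 0
    · have h1 : e 1 ≠ 0 := by
        intro h1
        apply he0
        funext i
        fin_cases i
        · exact h0
        · exact h1
      refine ⟨f 1 / e 1, ?_⟩
      funext i
      fin_cases i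
      · simp [h0]
        rw [h0] at h
        have : e 1 * f 0 = 0 := by linear_combination -h
        rcases mul_eq_zero.1 this with h' | h'
        · exact absurd h' h1
        · exact h'
      · simp; field_simp
    · refine ⟨f 0 / e 0, ?_⟩
      funext i
      fin_cases i
      · simp; field_simp
      · simp
        field_simp
        linear_combination h
  · exfalso
    apply hA
    have he' : ∀ i, (A : Matrix (Fin 2) (Fin 2) F) i 0 * e 0 + (A : Matrix (Fin 2) (Fin 2) F) i 1 * e 1 = e i := by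
      intro i
      have := congrFun he i
      simpa [mulVec, dotProduct, Fin.sum_univ_two] using this
    have hf' : ∀ i, (A : Matrix (Fin 2) (Fin 2) F) i 0 * f 0 + (A : Matrix (Fin 2) (Fin 2) F) i 1 * f 1 = f i := by
      intro i
      have := congrFun hf i
      simpa [mulVec, dotProduct, Fin.sum_univ_two] using this
    have key : ∀ x : F, x * (e 0 * f 1 - e 1 * f 0) = 0 → x = 0 := by
      intro x hx
      rcases mul_eq_zero.1 hx with h' | h'
      · exact h'
      · exact absurd h' h
    apply sl2_ext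
    · rw [one_00, ← sub_eq_zero]
      apply key
      have h1 := he' 0
      have h2 := hf' 0
      linear_combination f 1 * h1 - e 1 * h2
    · rw [one_01]
      apply key
      have h1 := he' 0
      have h2 := hf' 0
      linear_combination e 0 * h2 - f 0 * h1
    · rw [one_10]
      apply key
      have h1 := he' 1
      have h2 := hf' 1
      linear_combination f 1 * h1 - e 1 * h2
    · rw [one_11, ← sub_eq_zero]
      apply key
      have h1 := he' 1
      have h2 := hf' 1
      linear_combination e 0 * h2 - f 0 * h1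

theorem no_A4 [Finite F] (h2 : (2 : F) = 0) (h3 : ∀ μ : F, μ ^ 3 = 1 → μ = 1)
    {U V T : SpecialLinearGroup (Fin 2) F} (hU : U ≠ 1) (hV : V ≠ 1) (hUU : U * U = 1) (hVV : V * V = 1)
    (hUV : U * V = V * U) (hT : T * T * T = 1) (hTU : T * U = V * T) : T = 1 := by
  have hneg : (-1 : SpecialLinearGroup (Fin 2) F) = 1 := by
    have h3 : (-1 : F) = 1 := by linear_combination -h2
    apply sl2_ext <;> simp [h3]
  have htU : tr U = 0 := H14.SL2Four.tr_eq_zero (by rw [hUU, hneg])
  -- a fixed vector of U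
  obtain ⟨e, he0, he⟩ : ∃ e ≠ 0, (U : Matrix (Fin 2) (Fin 2) F) *ᵥ e = e := by
    have hdet : ((U : Matrix (Fin 2) (Fin 2) F) - 1).det = 0 := by
      rw [det_fin_two]
      have hd := det_eq U
      simp only [tr] at htU
      simp
      linear_combination hd - htU + h2
    obtain ⟨e, he0, he⟩ := exists_mulVec_eq_zero_iff.2 hdet
    refine ⟨e, he0, ?_⟩
    rw [sub_mulVec, one_mulVec, sub_eq_zero] at he
    exact he
  have coe : ∀ A B : SpecialLinearGroup (Fin 2) F, ((A * B : SpecialLinearGroup (Fin 2) F) : Matrix (Fin 2) (Fin 2) F) = (A : Matrix (Fin 2) (Fin 2) F) * (B : Matrix (Fin 2) (Fin 2) F) :=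
    fun A B => rfl
  have hVe : (V : Matrix (Fin 2) (Fin 2) F) *ᵥ e = e := by
    have h4 : (U : Matrix (Fin 2) (Fin 2) F) *ᵥ ((V : Matrix (Fin 2) (Fin 2) F) *ᵥ e) = (V : Matrix (Fin 2) (Fin 2) F) *ᵥ e := by
      rw [mulVec_mulVec, ← coe, hUV, coe, ← mulVec_mulVec, he]
    obtain ⟨μ, hμ⟩ := eq_smul_of_fixed hU he0 he h4
    have h5 : (V : Matrix (Fin 2) (Fin 2) F) *ᵥ ((V : Matrix (Fin 2) (Fin 2) F) *ᵥ e) = e := by
      rw [mulVec_mulVec, ← coe, hVV]
      exact one_mulVec e
    rw [hμ, mulVec_smul, hμ, smul_smul] at h5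
    have h6 : (μ * μ - 1) • e = 0 := by rw [sub_smul, h5, one_smul, sub_self]
    rcases smul_eq_zero.1 h6 with h | h
    · have : (μ - 1) * (μ - 1) = 0 := by linear_combination h + (1 - μ) * h2
      have h7 : μ = 1 := by
        rcases mul_eq_zero.1 this with h' | h' <;> exact sub_eq_zero.1 h'
      rw [hμ, h7, one_smul]
    · exact absurd h he0
  have hTe : (T : Matrix (Fin 2) (Fin 2) F) *ᵥ e = e := by
    have h4 : (V : Matrix (Fin 2) (Fin 2) F) *ᵥ ((T : Matrix (Fin 2) (Fin 2) F) *ᵥ e) = (T : Matrix (Fin 2) (Fin 2) F) *ᵥ e := by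
      rw [mulVec_mulVec, ← coe, ← hTU, coe, ← mulVec_mulVec, he]
    obtain ⟨μ, hμ⟩ := eq_smul_of_fixed hV he0 hVe h4
    have h5 : (T : Matrix (Fin 2) (Fin 2) F) *ᵥ ((T : Matrix (Fin 2) (Fin 2) F) *ᵥ ((T : Matrix (Fin 2) (Fin 2) F) *ᵥ e)) = e := by
      rw [mulVec_mulVec, mulVec_mulVec, ← coe, ← coe, hT]
      exact one_mulVec e
    rw [hμ, mulVec_smul, hμ, smul_smul, mulVec_smul, hμ, smul_smul] at h5
    have h6 : (μ * μ * μ - 1) • e = 0 := by rw [sub_smul, h5, one_smul, sub_self]
    rcases smul_eq_zero.1 h6 with h | h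
    · have h7 : μ = 1 := h3 μ (by linear_combination h)
      rw [hμ, h7, one_smul]
    · exact absurd h he0
  have htT : tr T = 0 := by
    have c := cayley_sl2 T
    have h4 : (T : Matrix (Fin 2) (Fin 2) F) *ᵥ ((T : Matrix (Fin 2) (Fin 2) F) *ᵥ e) = tr T • e - e := by
      rw [mulVec_mulVec, c, sub_mulVec, smul_mulVec, hTe, one_mulVec]
    rw [hTe, hTe] at h4
    have h5 : (tr T - 2) • e = 0 := by
      rw [sub_smul, two_smul]
      have : tr T • e = e + e := by
        have := h4
        rw [eq_sub_iff_add_eq] at this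
        exact this.symm
      rw [this, sub_self]
    rcases smul_eq_zero.1 h5 with h | h
    · linear_combination h + h2
    · exact absurd h he0
  have h6 := mul_self_eq_neg_one_of_tr_eq_zero htT
  rw [h6, hneg, one_mul] at hT
  exact hT

end lin

/-- PSL_2(p^n) has a subgroup isomorphic to A_4 if and only if it is not the case that p = 2 and n is odd. -/
theorem result {F : Type*} [Field F] [Fintype F] (p n : ℕ) [Fact p.Prime] [CharP F p] (hF : Fintype.card F = p ^ n) : (∃ H : Subgroup (Matrix.ProjectiveSpecialLinearGroup (Fin 2) F), Nonempty (H ≃* alternatingGroup (Fin 4))) ↔ ¬ (p = 2 ∧ Odd n) := by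
  have hfin := finite_psl (F := F)
  constructor
  · rintro ⟨H, ⟨e⟩⟩ ⟨rfl, hn⟩
    have h2 : (2 : F) = 0 := CharTwo.two_eq_zero
    have h3 : ∀ μ : F, μ ^ 3 = 1 → μ = 1 := by
      intro μ hμ
      have hμ0 : μ ≠ 0 := by rintro rfl; simp at hμ
      have h4 : μ ^ (Fintype.card F - 1) = 1 := FiniteField.pow_card_sub_one_eq_one μ hμ0
      have hd : orderOf μ ∣ Nat.gcd 3 (Fintype.card F - 1) :=
        Nat.dvd_gcd (orderOf_dvd_of_pow_eq_one hμ) (orderOf_dvd_of_pow_eq_one h4)
      have hg : Nat.gcd 3 (Fintype.card F - 1) = 1 := by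
        rw [← Nat.coprime_iff_gcd_eq_one, Nat.Prime.coprime_iff_not_dvd Nat.prime_three, hF]
        obtain ⟨k, hk⟩ := hn
        rw [hk]
        have h5 : 2 ^ (2 * k + 1) % 3 = 2 := by
          rw [pow_succ, pow_mul, Nat.mul_mod, Nat.pow_mod]
          norm_num
        generalize 2 ^ (2 * k + 1) = X at h5 ⊢
        omega
      rw [hg, Nat.dvd_one, orderOf_eq_one_iff] at hd
      exact hd
    obtain ⟨u, v, t, hu, hv, hvv, huv, htt, ht, htu, huu⟩ := exists_elems
    have hneg : (-1 : SpecialLinearGroup (Fin 2) F) = 1 := by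
      have h3 : (-1 : F) = 1 := by linear_combination -h2
      apply sl2_ext <;> simp [h3]
    have hmk : ∀ A B : SpecialLinearGroup (Fin 2) F, (QuotientGroup.mk A : ProjectiveSpecialLinearGroup (Fin 2) F) = QuotientGroup.mk B → A = B := by
      intro A B h
      rcases psl2_mk_eq_iff.1 h with h | h
      · exact h
      · rw [h, ← neg_one_mul, hneg, one_mul]
    have hlift : ∀ s : alternatingGroup (Fin 4), ∃ S : SpecialLinearGroup (Fin 2) F,
        (QuotientGroup.mk S : ProjectiveSpecialLinearGroup (Fin 2) F) = (e.symm s).1 :=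
      fun s => QuotientGroup.mk_surjective _
    choose L hL using hlift
    have hL1 : L 1 = 1 := hmk _ _ (by rw [hL, map_one]; rfl)
    have hLmul : ∀ a b, L (a * b) = L a * L b := by
      intro a b
      apply hmk
      rw [hL, map_mul]
      change _ = (QuotientGroup.mk (L a) : ProjectiveSpecialLinearGroup (Fin 2) F) * QuotientGroup.mk (L b)
      rw [hL, hL]; rfl
    have hLinj : ∀ a, L a = 1 → a = 1 := by
      intro a ha
      have h5 := hL a
      rw [ha] at h5
      have : e.symm a = 1 := Subtype.ext h5.symm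
      rwa [MulEquiv.map_eq_one_iff] at this
    apply ht
    apply hLinj
    refine no_A4 h2 h3 (U := L u) (V := L v) (T := L t) (fun h => hu (hLinj _ h)) (fun h => hv (hLinj _ h)) ?_ ?_ ?_ ?_ ?_
    · rw [← hLmul, huu, hL1]
    · rw [← hLmul, hvv, hL1]
    · rw [← hLmul, huv, hLmul]
    · rw [← hLmul, ← hLmul, htt, hL1]
    · rw [← hLmul, htu, hLmul]
  · intro hpn
    by_cases hp : p = 2
    · subst hp
      have hn : Even n := by
        rw [← Nat.not_odd_iff_even]
        exact fun h => hpn ⟨rfl, h⟩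
      have h5 : 5 ∣ Fintype.card F * (Fintype.card F ^ 2 - 1) := by
        apply Dvd.dvd.mul_left
        obtain ⟨k, hk⟩ := hn
        rw [hF, hk, ← pow_mul, show (k + k) * 2 = 4 * k by ring, pow_mul]
        have := Nat.sub_dvd_pow_sub_pow (2 ^ 4) 1 k
        rw [one_pow] at this
        exact (show 5 ∣ 2 ^ 4 - 1 from ⟨3, rfl⟩).trans this
      obtain ⟨H, ⟨e⟩⟩ := (S0804.result (F := F) rfl).2 h5
      exact A4_of_A5 H e
    · have hodd : Odd (Fintype.card F) := by
        rw [hF]
        exact ((Fact.out : p.Prime).odd_of_ne_two hp).pow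
      have h2 : (2 : F) ≠ 0 := S0809.two_ne_zero_of_odd hodd
      obtain ⟨V, hV⟩ := exists_klein (F := F) h2
      have hq : (Fintype.card F % 8 = 3 ∨ Fintype.card F % 8 = 5) ∨ (Fintype.card F % 8 = 1 ∨ Fintype.card F % 8 = 7) := by
        rw [Nat.odd_iff] at hodd
        omega
      rcases hq with hq | hq
      · obtain ⟨h4, h8⟩ := dvd_four (F := F) rfl hq
        exact ⟨_, normalizer_iso_A4 hV (centralizer_le h2 hV) (card_normalizer_12 h2 h4 h8 hV)⟩
      · obtain ⟨e⟩ := normalizer_iso_S4 hV (centralizer_le h2 hV) (card_normalizer_24 h2 (dvd_eight rfl hq) hV)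
        exact A4_of_S4 _ e

end Cfsg.Agent.S0802
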