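import Cfsg.Statements.S0803
import Cfsg.Agent.H14.KleinPSL
import Cfsg.Agent.S0809

set_option autoImplicit false
open Cfsg

namespace Cfsg.Agent.S0803

open Cfsg.Agent.H14.Klein Cfsg.Agent.H41

/-- PSL_2(q) has a subgroup isomorphic to S_4 iff q² ≡ 1 (mod 16). -/
theorem result {F : Type*} [Field F] [Fintype F] {q : ℕ} (hF : Fintype.card F = q) : (∃ H : Subgroup (Matrix.ProjectiveSpecialLinearGroup (Fin 2) F), Nonempty (H ≃* Equiv.Perm (Fin 4))) ↔ q ^ 2 % 16 = 1 := by
  have hfin := finite_psl (F := F)
  constructor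
  · rintro ⟨H, ⟨e⟩⟩
    rcases Nat.even_or_odd q with hq | hq
    · exfalso
      have h2 : (2 : F) = 0 := by
        have h1 := FiniteField.cast_card_eq_zero F
        rw [hF] at h1
        have h3 : ringChar F = 2 := FiniteField.even_card_iff_char_two.2 (by rw [hF]; exact Nat.even_iff.1 hq)
        have h4 : CharP F 2 := by rw [← h3]; exact ringChar.charP F
        exact CharTwo.two_eq_zero
      obtain ⟨c, hc1, hc2⟩ : ∃ c : Equiv.Perm (Fin 4), c ^ 4 = 1 ∧ c ^ 2 ≠ 1 := ⟨finRotate 4, by decide, by decide⟩
      set x : Matrix.ProjectiveSpecialLinearGroup (Fin 2) F := (e.symm c).1 with hx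
      have hx1 : x ^ 4 = 1 := by
        have : (e.symm c) ^ 4 = 1 := by rw [← map_pow, hc1, map_one]
        exact congrArg Subtype.val this
      have hx2 : x ^ 2 ≠ 1 := by
        intro h
        apply hc2
        have : (e.symm c) ^ 2 = 1 := Subtype.ext h
        rw [← map_pow, MulEquiv.map_eq_one_iff] at this
        exact this
      clear_value x
      induction x using QuotientGroup.induction_on with
      | H A =>
      have hneg : (-1 : Matrix.SpecialLinearGroup (Fin 2) F) = 1 := by
        have h3 : (-1 : F) = 1 := by linear_combination -h2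
        apply sl2_ext <;> simp [h3]
      have h4 : A ^ 4 = 1 := by
        have : (QuotientGroup.mk (A ^ 4) : Matrix.ProjectiveSpecialLinearGroup (Fin 2) F) = 1 := hx1
        rcases psl2_mk_eq_one_iff.1 this with h | h
        · exact h
        · rw [h, hneg]
      apply hx2
      have h5 : (QuotientGroup.mk A : Matrix.ProjectiveSpecialLinearGroup (Fin 2) F) ^ 2 = QuotientGroup.mk (A * A) := by
        rw [pow_two]; rfl
      have h6 : (A * A) * (A * A) = -1 := by
        rw [hneg, ← h4]
        simp only [pow_succ, pow_zero, one_mul, mul_assoc]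
      have h7 := H14.SL2Four.tr_eq_zero h6
      rw [tr_mul_self] at h7
      have h8 : tr A = 0 := by
        have : tr A ^ 2 = 0 := by linear_combination h7 + h2
        exact pow_eq_zero_iff (two_ne_zero) |>.1 this
      rw [h5, mul_self_eq_neg_one_of_tr_eq_zero h8, hneg]
      rfl
    · have h1 : Nat.card H ∣ Nat.card (Matrix.ProjectiveSpecialLinearGroup (Fin 2) F) := Subgroup.card_subgroup_dvd_card H
      have h24 : Nat.card (Equiv.Perm (Fin 4)) = 24 := by
        rw [Nat.card_perm, Nat.card_eq_fintype_card, Fintype.card_fin]; rfl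
      rw [Nat.card_congr e.toEquiv, h24] at h1
      subst hF
      have h3 := H14.SubField.card_PSL2_odd hq
      obtain ⟨c, hc⟩ := h1
      rw [hc] at h3
      set q := Fintype.card F
      have h16 : 16 ∣ q * ((q - 1) * (q + 1)) := ⟨3 * c, by rw [← h3]; ring⟩
      have hcop : Nat.Coprime 16 q := by
        rw [show 16 = 2 ^ 4 from rfl]
        exact Nat.Coprime.pow_left 4 (Nat.coprime_two_left.2 hq)
      have h5 : 16 ∣ (q - 1) * (q + 1) := hcop.dvd_of_dvd_mul_left h16
      obtain ⟨k, hk⟩ := h5
      obtain ⟨r, hr⟩ := hq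
      have : q ^ 2 = (q - 1) * (q + 1) + 1 := by
        rw [hr, Nat.add_sub_cancel]; ring
      rw [this, hk]
      omega
  · intro hq
    have hq' : q % 8 = 1 ∨ q % 8 = 7 := by
      have h1 : q ^ 2 % 16 = (q % 16) ^ 2 % 16 := by rw [Nat.pow_mod]
      have h2 : q % 16 < 16 := Nat.mod_lt _ (by norm_num)
      have h3 : q % 8 = (q % 16) % 8 := by omega
      rw [h1] at hq
      rw [h3]
      interval_cases (q % 16) <;> simp_all
    have hodd : Odd q := by rw [Nat.odd_iff]; omega
    have h2 : (2 : F) ≠ 0 := S0809.two_ne_zero_of_odd (by rw [hF]; exact hodd)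
    obtain ⟨V, hV⟩ := exists_klein (F := F) h2
    exact ⟨_, normalizer_iso_S4 hV (centralizer_le h2 hV) (card_normalizer_24 h2 (dvd_eight hF hq') hV)⟩

end Cfsg.Agent.S0803
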