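import Cfsg.Statements.S3378
-- import your own Cfsg.Agent.* helpers here
import Cfsg.Agent.H56.Tri235
import Cfsg.Agent.S0144
import Cfsg.Agent.S0494

set_option autoImplicit false
open Cfsg

namespace Cfsg.Agent.S3378

theorem solv_of_dvd {G : Type*} [Group G] [Finite G] (h : Nat.card G ∣ 60) (h' : Nat.card G < 60) :
    Group.IsSolvable G := by
  have hn : Nat.card G ∈ Nat.divisors 60 := Nat.mem_divisors.2 ⟨h, by norm_num⟩
  have hd : Nat.divisors 60 = {1, 2, 3, 4, 5, 6, 10, 12, 15, 20, 30, 60} := by decide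
  rw [hd] at hn
  simp only [Finset.mem_insert, Finset.mem_singleton] at hn
  rcases hn with h | h | h | h | h | h | h | h | h | h | h | h
  · exact S0144.result 2 3 0 0 (by norm_num) (by norm_num) h
  · exact S0144.result 2 3 1 0 (by norm_num) (by norm_num) h
  · exact S0144.result 2 3 0 1 (by norm_num) (by norm_num) h
  · exact S0144.result 2 3 2 0 (by norm_num) (by norm_num) h
  · exact S0144.result 2 5 0 1 (by norm_num) (by norm_num) h
  · exact S0144.result 2 3 1 1 (by norm_num) (by norm_num) h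
  · exact S0144.result 2 5 1 1 (by norm_num) (by norm_num) h
  · exact S0144.result 2 3 2 1 (by norm_num) (by norm_num) h
  · exact S0144.result 3 5 1 1 (by norm_num) (by norm_num) h
  · exact S0144.result 2 5 2 1 (by norm_num) (by norm_num) h
  · haveI : IsZGroup G := IsZGroup.of_squarefree (by
      rw [h, show 30 = 2 * 15 by norm_num, Nat.squarefree_mul (by norm_num), show 15 = 3 * 5 by norm_num,
        Nat.squarefree_mul (by norm_num)]
      exact ⟨Nat.prime_two.prime.squarefree, Nat.prime_three.prime.squarefree, Nat.prime_five.prime.squarefree⟩)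
    infer_instance
  · omega

theorem solvable_of_quot {G : Type*} [Group G] (K : Subgroup G) [K.Normal] (h1 : Group.IsSolvable K)
    (h2 : Group.IsSolvable (G ⧸ K)) : Group.IsSolvable G := by
  refine Group.isSolvable_of_ker_le_range K.subtype (QuotientGroup.mk' K) ?_
  rw [QuotientGroup.ker_mk', Subgroup.range_subtype]

theorem simple_sixty {G : Type*} [Group G] [Finite G] (h : Nat.card G = 60) (hs : ¬ Group.IsSolvable G) :
    IsSimpleGroup G := by
  haveI : Nontrivial G := by
    rw [← Finite.one_lt_card_iff_nontrivial, h]; norm_num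
  refine ⟨fun N hN => ?_⟩
  by_contra hcon
  push Not at hcon
  obtain ⟨h1, h2⟩ := hcon
  have hc := N.card_mul_index
  rw [h] at hc
  have hN1 : Nat.card N ≠ 1 := fun h => h1 (Subgroup.card_eq_one.1 h)
  have hN2 : N.index ≠ 1 := fun h => h2 (Subgroup.index_eq_one.1 h)
  have hpos : 0 < N.index := Nat.pos_of_ne_zero (by rintro h; rw [h] at hc; omega)
  have hpos' : 0 < Nat.card N := Nat.card_pos
  apply hs
  apply solvable_of_quot N
  · apply solv_of_dvd ⟨_, hc.symm⟩
    have : 2 ≤ N.index := by omega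
    nlinarith
  · have : Nat.card (G ⧸ N) = N.index := rfl
    apply solv_of_dvd
    · rw [this]; exact ⟨_, by rw [mul_comm]; exact hc.symm⟩
    · rw [this]
      have : 2 ≤ Nat.card N := by omega
      nlinarith

theorem q8_unique : ∀ a b : QuaternionGroup 2, a ^ 2 = 1 → b ^ 2 = 1 → a ≠ 1 → b ≠ 1 → a = b := by
  decide +kernel

theorem unique_inv {P : Type*} [Group P] (e : P ≃* QuaternionGroup 2) {a b : P} (ha : a ^ 2 = 1)
    (hb : b ^ 2 = 1) (ha1 : a ≠ 1) (hb1 : b ≠ 1) : a = b := by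
  apply e.injective
  apply q8_unique
  · rw [← map_pow, ha, map_one]
  · rw [← map_pow, hb, map_one]
  · intro h; exact ha1 (by rw [← map_one e] at h; exact e.injective h)
  · intro h; exact hb1 (by rw [← map_one e] at h; exact e.injective h)

theorem card_sylow_of {G : Type*} [Group G] [Finite G] {p : ℕ} [hp : Fact p.Prime] (P : Sylow p G) {k m : ℕ}
    (h : Nat.card G = p ^ k * m) (hm : ¬ p ∣ m) : Nat.card P = p ^ k := by
  have hm0 : m ≠ 0 := by rintro rfl; exact hm (dvd_zero p)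
  rw [P.card_eq_multiplicity, h, Nat.factorization_mul (pow_ne_zero _ hp.out.ne_zero) hm0,
    Finsupp.add_apply, hp.out.factorization_pow, Finsupp.single_eq_same,
    Nat.factorization_eq_zero_of_not_dvd hm, add_zero]

section Main

variable {G : Type*} [Group G] [Finite G]

/-- existence of the normal subgroup of order 2 with quotient of order 60. -/
theorem exists_K (hc : Nat.card G = 120) (hs : ¬ Group.IsSolvable G)
    (hQ : ∀ P : Sylow 2 G, Nonempty ((P : Subgroup G) ≃* QuaternionGroup 2)) :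
    ∃ K : Subgroup G, K.Normal ∧ Nat.card K = 2 := by
  haveI : Fact (Nat.Prime 2) := ⟨by norm_num⟩
  haveI : Fact (Nat.Prime 5) := ⟨by norm_num⟩
  -- number of Sylow 5-subgroups
  have hP5 : ∀ P5 : Sylow 5 G, Nat.card P5 = 5 := by
    intro P5
    simpa using card_sylow_of P5 (k := 1) (m := 24) (by rw [hc]; norm_num) (by norm_num)
  have P0 : Sylow 5 G := default
  have hidx : P0.index = 24 := by
    have := P0.card_mul_index
    rw [hP5, hc] at this
    omega
  have hn5 : Nat.card (Sylow 5 G) ≠ 1 := by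
    intro h
    have hN : (P0 : Subgroup G).Normal := by
      haveI : Subsingleton (Sylow 5 G) := (Nat.card_eq_one_iff_unique.1 h).1
      exact Sylow.normal_of_subsingleton P0
    apply hs
    apply solvable_of_quot (P0 : Subgroup G)
    · exact S0144.result 5 2 1 0 (by norm_num) (by norm_num) (hP5 P0)
    · exact S0144.result 2 3 3 1 (by norm_num) (by norm_num) hidx
  have hn5' : Nat.card (Sylow 5 G) = 6 := by
    have h1 : Nat.card (Sylow 5 G) ∣ 24 := by rw [← hidx]; exact P0.card_dvd_index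
    have h2 : Nat.card (Sylow 5 G) ≡ 1 [MOD 5] := card_sylow_modEq_one 5 G
    have hn : Nat.card (Sylow 5 G) ∈ Nat.divisors 24 := Nat.mem_divisors.2 ⟨h1, by norm_num⟩
    have hd : Nat.divisors 24 = {1, 2, 3, 4, 6, 8, 12, 24} := by decide
    rw [hd] at hn
    simp only [Finset.mem_insert, Finset.mem_singleton] at hn
    unfold Nat.ModEq at h2
    omega
  let K := (MulAction.toPermHom G (Sylow 5 G)).ker
  have hK : K.Normal := inferInstance
  have hKm : ∀ g : G, g ∈ K ↔ ∀ Q : Sylow 5 G, g • Q = Q := by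
    intro g
    rw [MonoidHom.mem_ker]
    constructor
    · intro h Q
      exact congrArg (fun f : Equiv.Perm (Sylow 5 G) => f Q) h
    · intro h
      ext1 Q
      exact h Q
  -- K is in the normalizer of each Sylow 5
  have hKQ : ∀ Q : Sylow 5 G, K ≤ Subgroup.normalizer ((Q : Subgroup G) : Set G) := by
    intro Q g hg
    exact Sylow.smul_eq_iff_mem_normalizer.1 ((hKm g).1 hg Q)
  have h5K : ¬ 5 ∣ Nat.card K := by
    intro h5
    obtain ⟨k, hk⟩ := exists_prime_orderOf_dvd_card' (G := K) 5 h5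
    have hk' : orderOf (k : G) = 5 := by rw [Subgroup.orderOf_coe]; exact hk
    have hcz : Nat.card (Subgroup.zpowers (k : G)) = 5 := by rw [Nat.card_zpowers, hk']
    have hpz : IsPGroup 5 (Subgroup.zpowers (k : G)) := IsPGroup.of_card (n := 1) (by rw [hcz]; rfl)
    obtain ⟨Q, hQk⟩ := hpz.exists_le_sylow
    have hQeq : Subgroup.zpowers (k : G) = Q := Subgroup.eq_of_le_of_card_ge hQk (by rw [hcz]; exact (hP5 Q).le)
    have hQK : (Q : Subgroup G) ≤ K := by
      rw [← hQeq, Subgroup.zpowers_le]; exact k.2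
    apply hn5
    rw [Nat.card_eq_one_iff_unique]
    refine ⟨⟨?_⟩, ⟨Q⟩⟩
    have key : ∀ Q' : Sylow 5 G, Q' = Q := by
      intro Q'
      have h1 : (Q : Subgroup G) ⊓ Subgroup.normalizer ((Q' : Subgroup G) : Set G) = (Q : Subgroup G) ⊓ Q' :=
        IsPGroup.inf_normalizer_sylow Q.isPGroup' Q'
      rw [inf_eq_left.2 (hQK.trans (hKQ Q'))] at h1
      have h2 : (Q : Subgroup G) ≤ Q' := inf_eq_left.1 h1.symm
      exact Sylow.ext (Subgroup.eq_of_le_of_card_ge h2 (by rw [hP5 Q, hP5 Q'])).symm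
    intro a b
    rw [key a, key b]
  have hK20 : Nat.card K ∣ 20 := by
    have h1 : Nat.card (Sylow 5 G) = (Subgroup.normalizer ((P0 : Subgroup G) : Set G)).index :=
      Sylow.card_eq_index_normalizer P0
    have h2 := (Subgroup.normalizer ((P0 : Subgroup G) : Set G)).card_mul_index
    rw [← h1, hn5', hc] at h2
    have h3 : Nat.card (Subgroup.normalizer ((P0 : Subgroup G) : Set G)) = 20 := by omega
    rw [← h3]
    exact Subgroup.card_dvd_of_le (hKQ P0)
  have hK4 : Nat.card K ∣ 4 := by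
    have h1 : Nat.Coprime (Nat.card K) 5 := ((Nat.Prime.coprime_iff_not_dvd (by norm_num)).2 h5K).symm
    exact Nat.Coprime.dvd_of_dvd_mul_right h1 (by simpa using hK20)
  -- the involution of a Sylow 2-subgroup is in K
  have P : Sylow 2 G := default
  obtain ⟨e⟩ := hQ P
  have hP : Nat.card P = 8 := by
    simpa using card_sylow_of P (k := 3) (m := 15) (by rw [hc]; norm_num) (by norm_num)
  let z0 : P := e.symm (QuaternionGroup.a 2)
  have hz1 : z0 ≠ 1 := by
    intro h
    have h2 : (QuaternionGroup.a 2 : QuaternionGroup 2) = 1 := by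
      apply e.symm.injective
      rw [map_one]; exact h
    revert h2
    decide
  have hz2 : z0 ^ 2 = 1 := by
    have h2 : (QuaternionGroup.a 2 : QuaternionGroup 2) ^ 2 = 1 := by decide +kernel
    rw [← map_pow, h2, map_one]
  have hzK : (z0 : G) ∈ K := by
    rw [hKm]
    intro Q
    have h1 := MulAction.index_stabilizer P Q
    have h2 : (MulAction.orbit P Q).ncard ≤ 6 := by
      rw [← hn5', ← Set.ncard_univ]
      exact Set.ncard_le_ncard (Set.subset_univ _)
    have h3 := (MulAction.stabilizer P Q).card_mul_index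
    rw [hP, h1] at h3
    have h4 : Nat.card (MulAction.stabilizer P Q) ≠ 1 := by
      intro h; rw [h] at h3; omega
    have h5 : 2 ∣ Nat.card (MulAction.stabilizer P Q) := by
      obtain ⟨k, hk, hk'⟩ := (Nat.dvd_prime_pow (p := 2) (by norm_num)).1 (⟨_, h3.symm⟩ : Nat.card (MulAction.stabilizer P Q) ∣ 2 ^ 3)
      rw [hk']
      cases k with
      | zero => exact absurd hk' (by simpa using h4)
      | succ k => exact Dvd.intro_left _ rfl
    obtain ⟨w, hw⟩ := exists_prime_orderOf_dvd_card' (G := MulAction.stabilizer P Q) 2 h5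
    have hw2 : (w : P) ^ 2 = 1 := by
      have := pow_orderOf_eq_one w
      rw [hw] at this
      exact congrArg Subtype.val this
    have hw1 : (w : P) ≠ 1 := by
      intro h
      have : w = 1 := Subtype.ext h
      rw [this, orderOf_one] at hw
      omega
    have hwz : (w : P) = z0 := unique_inv e hw2 hz2 hw1 hz1
    have h6 : (w : P) • Q = Q := w.2
    rw [hwz] at h6
    exact h6
  have hK1 : Nat.card K ≠ 1 := by
    intro h
    have : K = ⊥ := Subgroup.card_eq_one.1 h
    rw [this, Subgroup.mem_bot] at hzK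
    exact hz1 (Subtype.ext hzK)
  have hKne4 : Nat.card K ≠ 4 := by
    intro h
    apply hs
    apply solvable_of_quot K
    · exact S0144.result 2 3 2 0 (by norm_num) (by norm_num) h
    · have h1 := K.card_mul_index
      rw [h, hc] at h1
      have h2 : Nat.card (G ⧸ K) = 30 := by
        change K.index = 30
        omega
      exact solv_of_dvd (by rw [h2]; norm_num) (by rw [h2]; norm_num)
  refine ⟨K, hK, ?_⟩
  have hn : Nat.card K ∈ Nat.divisors 4 := Nat.mem_divisors.2 ⟨hK4, by norm_num⟩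
  have hd : Nat.divisors 4 = {1, 2, 4} := by decide
  rw [hd] at hn
  simp only [Finset.mem_insert, Finset.mem_singleton] at hn
  omega

/-- generators satisfying the relations. -/
theorem exists_rels (hc : Nat.card G = 120) (hs : ¬ Group.IsSolvable G)
    (hQ : ∀ P : Sylow 2 G, Nonempty ((P : Subgroup G) ≃* QuaternionGroup 2)) :
    ∃ x y z : G, x ^ 3 = 1 ∧ y ^ 5 = 1 ∧ z ^ 2 = 1 ∧ z * x = x * z ∧ z * y = y * z ∧ (x * y) ^ 2 = z ∧
      Subgroup.closure {x, y, z} = ⊤ := by
  haveI : Fact (Nat.Prime 2) := ⟨by norm_num⟩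
  obtain ⟨K, hK, hK2⟩ := exists_K hc hs hQ
  have hKsq : ∀ k ∈ K, k ^ 2 = 1 := by
    intro k hk
    have := pow_card_eq_one' (x := (⟨k, hk⟩ : K))
    rw [hK2] at this
    exact congrArg Subtype.val this
  obtain ⟨⟨z, hzK⟩, hz⟩ : ∃ z : K, z ≠ 1 := by
    haveI : Nontrivial K := by rw [← Finite.one_lt_card_iff_nontrivial, hK2]; norm_num
    exact exists_ne 1
  have hz1 : z ≠ 1 := fun h => hz (Subtype.ext h)
  have hzu : ∀ k ∈ K, k ≠ 1 → k = z := by
    intro k hk hk1
    by_contra hkz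
    have h3 : 3 ≤ Nat.card K := by
      have hinj : Function.Injective (![⟨1, K.one_mem⟩, ⟨z, hzK⟩, ⟨k, hk⟩] : Fin 3 → K) := by
        intro a b hab
        fin_cases a <;> fin_cases b <;> simp at hab ⊢
        · exact hz1 hab.symm
        · exact hk1 hab.symm
        · exact hz1 hab
        · exact hkz hab.symm
        · exact hk1 hab
        · exact hkz hab
      simpa using Nat.card_le_card_of_injective _ hinj
    omega
  have hzc : ∀ g : G, g * z = z * g := by
    intro g
    have h1 : g * z * g⁻¹ ∈ K := hK.conj_mem z hzK g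
    have h2 : g * z * g⁻¹ ≠ 1 := by
      intro h
      apply hz1
      have : z = g⁻¹ * (g * z * g⁻¹) * g := by group
      rw [this, h]; group
    have h3 := hzu _ h1 h2
    rwa [mul_inv_eq_iff_eq_mul] at h3
  have hz2 : z ^ 2 = 1 := hKsq z hzK
  -- uniqueness of involutions
  have hinv : ∀ t : G, t ^ 2 = 1 → t ≠ 1 → t = z := by
    intro t ht ht1
    have ho : orderOf t = 2 := orderOf_eq_prime ht ht1
    have hcz : Nat.card (Subgroup.zpowers t) = 2 := by rw [Nat.card_zpowers, ho]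
    have hpz : IsPGroup 2 (Subgroup.zpowers t) := IsPGroup.of_card (n := 1) (by rw [hcz]; rfl)
    obtain ⟨P, hP⟩ := hpz.exists_le_sylow
    have hpK : IsPGroup 2 K := IsPGroup.of_card (n := 1) (by rw [hK2]; rfl)
    have hKP : K ≤ P := by
      obtain ⟨P', hP'⟩ := hpK.exists_le_sylow
      obtain ⟨g, hg⟩ := MulAction.exists_smul_eq G P' P
      intro k hk
      have h1 : g⁻¹ * k * g ∈ (P' : Subgroup G) := hP' (by
        have := hK.conj_mem k hk g⁻¹
        rwa [inv_inv] at this)
      rw [← hg]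
      have h2 : k = g * (g⁻¹ * k * g) * g⁻¹ := by group
      rw [h2]
      exact Subgroup.smul_mem_pointwise_smul (g⁻¹ * k * g) (MulAut.conj g) (P' : Subgroup G) h1
    obtain ⟨e⟩ := hQ P
    have htP : t ∈ P := hP (Subgroup.mem_zpowers t)
    have h := unique_inv e (a := ⟨t, htP⟩) (b := ⟨z, hKP hzK⟩) (Subtype.ext ht) (Subtype.ext hz2)
      (fun h => ht1 (congrArg Subtype.val h)) (fun h => hz1 (congrArg Subtype.val h))
    exact congrArg Subtype.val h
  have hq60 : Nat.card (G ⧸ K) = 60 := by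
    have h1 := K.card_mul_index
    rw [hK2, hc] at h1
    change K.index = 60
    omega
  have hqs : ¬ Group.IsSolvable (G ⧸ K) := by
    intro h
    apply hs
    exact solvable_of_quot K (S0144.result 2 3 1 0 (by norm_num) (by norm_num) hK2) h
  haveI := simple_sixty hq60 hqs
  obtain ⟨e⟩ := S0494.result hq60
  let π := QuotientGroup.mk' K
  have hπK : ∀ g : G, π g = 1 ↔ g ∈ K := fun g => QuotientGroup.eq_one_iff g
  obtain ⟨x0, hx0⟩ := QuotientGroup.mk'_surjective K (e.symm H56.Tri235.a5)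
  obtain ⟨y0, hy0⟩ := QuotientGroup.mk'_surjective K (e.symm H56.Tri235.b5)
  have hx0' : (e.symm H56.Tri235.a5) ^ 3 = 1 := by rw [← map_pow, H56.Tri235.a5_pow, map_one]
  have hy0' : (e.symm H56.Tri235.b5) ^ 5 = 1 := by rw [← map_pow, H56.Tri235.b5_pow, map_one]
  have hπx : π (x0 ^ 4) = e.symm H56.Tri235.a5 := by
    rw [map_pow, hx0, pow_succ, hx0', one_mul]
  have hπy : π (y0 ^ 6) = e.symm H56.Tri235.b5 := by
    rw [map_pow, hy0, pow_succ, hy0', one_mul]
  have hx3 : (x0 ^ 4) ^ 3 = 1 := by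
    have h1 : x0 ^ 3 ∈ K := by rw [← hπK, map_pow, hx0, hx0']
    have h2 := hKsq _ h1
    calc (x0 ^ 4) ^ 3 = ((x0 ^ 3) ^ 2) ^ 2 := by rw [← pow_mul, ← pow_mul, ← pow_mul]
      _ = 1 := by rw [h2, one_pow]
  have hy5 : (y0 ^ 6) ^ 5 = 1 := by
    have h1 : y0 ^ 5 ∈ K := by rw [← hπK, map_pow, hy0, hy0']
    have h2 := hKsq _ h1
    calc (y0 ^ 6) ^ 5 = ((y0 ^ 5) ^ 2) ^ 3 := by rw [← pow_mul, ← pow_mul, ← pow_mul]
      _ = 1 := by rw [h2, one_pow]
  have hπxy : π (x0 ^ 4 * y0 ^ 6) = e.symm (H56.Tri235.a5 * H56.Tri235.b5) := by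
    rw [map_mul, hπx, hπy, map_mul]
  have hxyK : x0 ^ 4 * y0 ^ 6 ∉ K := by
    rw [← hπK, hπxy]
    intro h
    exact H56.Tri235.ab5_ne (e.symm.injective (by rw [h, map_one]))
  have hxy2K : (x0 ^ 4 * y0 ^ 6) ^ 2 ∈ K := by
    rw [← hπK, map_pow, hπxy, ← map_pow, H56.Tri235.ab5_pow, map_one]
  have hxy2 : (x0 ^ 4 * y0 ^ 6) ^ 2 = z := by
    apply hzu _ hxy2K
    intro h
    have h1 : x0 ^ 4 * y0 ^ 6 ≠ 1 := by
      intro h'; apply hxyK; rw [h']; exact K.one_mem
    apply hxyK
    rw [hinv _ h h1]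
    exact hzK
  refine ⟨x0 ^ 4, y0 ^ 6, z, hx3, hy5, hz2, (hzc _).symm, (hzc _).symm, hxy2, ?_⟩
  rw [eq_top_iff]
  intro g _
  set C := Subgroup.closure {x0 ^ 4, y0 ^ 6, z} with hC
  have hKC : K ≤ C := by
    intro k hk
    by_cases hk1 : k = 1
    · rw [hk1]; exact C.one_mem
    · rw [hzu k hk hk1]; exact Subgroup.subset_closure (by simp)
  have hmap : (C.map π) = ⊤ := by
    rw [eq_top_iff]
    have h1 : (⊤ : Subgroup (G ⧸ K)) = (⊤ : Subgroup (alternatingGroup (Fin 5))).map e.symm.toMonoidHom := by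
      rw [← MonoidHom.range_eq_map]
      exact (MonoidHom.range_eq_top.2 e.symm.surjective).symm
    rw [h1, ← H56.Tri235.closure_eq_top, MonoidHom.map_closure, Subgroup.closure_le]
    rintro _ ⟨w, (rfl | rfl), rfl⟩
    · exact ⟨_, Subgroup.subset_closure (by simp), hπx⟩
    · exact ⟨_, Subgroup.subset_closure (by simp), hπy⟩
  have hg : π g ∈ C.map π := by rw [hmap]; trivial
  obtain ⟨c, hcC, hcg⟩ := hg
  have h1 : c⁻¹ * g ∈ K := by
    rw [← hπK, map_mul, map_inv, hcg, inv_mul_cancel]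
  have h2 : g = c * (c⁻¹ * g) := by group
  rw [h2]
  exact C.mul_mem hcC (hKC h1)

end Main

def R : Set (FreeGroup (Fin 3)) := {FreeGroup.of (0 : Fin 3) ^ 3, FreeGroup.of (1 : Fin 3) ^ 5, FreeGroup.of (2 : Fin 3) ^ 2,
        (FreeGroup.of (2 : Fin 3))⁻¹ * FreeGroup.of 0 * FreeGroup.of 2 * (FreeGroup.of (0 : Fin 3))⁻¹,
        (FreeGroup.of (2 : Fin 3))⁻¹ * FreeGroup.of 1 * FreeGroup.of 2 * (FreeGroup.of (1 : Fin 3))⁻¹,
        (FreeGroup.of (0 : Fin 3) * FreeGroup.of 1) ^ 2 * (FreeGroup.of (2 : Fin 3))⁻¹}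

theorem iso_of_rels {G : Type*} [Group G] (hc : Nat.card G = 120) (x y z : G) (hx : x ^ 3 = 1) (hy : y ^ 5 = 1)
    (hz : z ^ 2 = 1) (hzx : z * x = x * z) (hzy : z * y = y * z) (hxy : (x * y) ^ 2 = z)
    (hgen : Subgroup.closure {x, y, z} = ⊤) : Nonempty (PresentedGroup R ≃* G) := by
  have hX : (PresentedGroup.of 0 : PresentedGroup R) ^ 3 = 1 :=
    PresentedGroup.one_of_mem (rels := R) (x := FreeGroup.of 0 ^ 3) (by rw [R]; simp)
  have hY : (PresentedGroup.of 1 : PresentedGroup R) ^ 5 = 1 :=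
    PresentedGroup.one_of_mem (rels := R) (x := FreeGroup.of 1 ^ 5) (by rw [R]; simp)
  have hZ : (PresentedGroup.of 2 : PresentedGroup R) ^ 2 = 1 :=
    PresentedGroup.one_of_mem (rels := R) (x := FreeGroup.of 2 ^ 2) (by rw [R]; simp)
  have hZX : (PresentedGroup.of 2 : PresentedGroup R)⁻¹ * PresentedGroup.of 0 * PresentedGroup.of 2 * (PresentedGroup.of 0)⁻¹ = 1 :=
    PresentedGroup.one_of_mem (rels := R) (x := (FreeGroup.of (2 : Fin 3))⁻¹ * FreeGroup.of 0 * FreeGroup.of 2 * (FreeGroup.of (0 : Fin 3))⁻¹) (by rw [R]; simp)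
  have hZY : (PresentedGroup.of 2 : PresentedGroup R)⁻¹ * PresentedGroup.of 1 * PresentedGroup.of 2 * (PresentedGroup.of 1)⁻¹ = 1 :=
    PresentedGroup.one_of_mem (rels := R) (x := (FreeGroup.of (2 : Fin 3))⁻¹ * FreeGroup.of 1 * FreeGroup.of 2 * (FreeGroup.of (1 : Fin 3))⁻¹) (by rw [R]; simp)
  have hXY : ((PresentedGroup.of 0 : PresentedGroup R) * PresentedGroup.of 1) ^ 2 * (PresentedGroup.of 2)⁻¹ = 1 :=
    PresentedGroup.one_of_mem (rels := R) (x := (FreeGroup.of (0 : Fin 3) * FreeGroup.of 1) ^ 2 * (FreeGroup.of (2 : Fin 3))⁻¹) (by rw [R]; simp)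
  have hgenP : Subgroup.closure {(PresentedGroup.of 0 : PresentedGroup R), PresentedGroup.of 1, PresentedGroup.of 2} = ⊤ := by
    rw [← PresentedGroup.closure_range_of R]
    congr 1
    ext z
    constructor
    · rintro (rfl | rfl | rfl) <;> exact ⟨_, rfl⟩
    · rintro ⟨i, rfl⟩
      fin_cases i
      · left; rfl
      · right; left; rfl
      · right; right; rfl
  obtain ⟨hfin, hcard⟩ := H56.Tri235.card_le_central hX hY hZ (mul_inv_eq_one.1 hXY)
    (by rw [mul_inv_eq_one, mul_assoc, inv_mul_eq_iff_eq_mul] at hZX; exact hZX.symm)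
    (by rw [mul_inv_eq_one, mul_assoc, inv_mul_eq_iff_eq_mul] at hZY; exact hZY.symm) hgenP
  let f : Fin 3 → G := ![x, y, z]
  have hf : ∀ r ∈ R, FreeGroup.lift f r = 1 := by
    rintro r (rfl | rfl | rfl | rfl | rfl | rfl)
    · simp only [map_pow, FreeGroup.lift_apply_of]
      exact hx
    · simp only [map_pow, FreeGroup.lift_apply_of]
      exact hy
    · simp only [map_pow, FreeGroup.lift_apply_of]
      exact hz
    · simp only [map_mul, map_inv, FreeGroup.lift_apply_of]
      change z⁻¹ * x * z * x⁻¹ = 1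
      rw [mul_assoc z⁻¹ x z, ← hzx]; group
    · simp only [map_mul, map_inv, FreeGroup.lift_apply_of]
      change z⁻¹ * y * z * y⁻¹ = 1
      rw [mul_assoc z⁻¹ y z, ← hzy]; group
    · simp only [map_mul, map_inv, map_pow, FreeGroup.lift_apply_of]
      change (x * y) ^ 2 * z⁻¹ = 1
      rw [hxy, mul_inv_cancel]
  let φ : PresentedGroup R →* G := PresentedGroup.toGroup hf
  have hφ0 : φ (PresentedGroup.of 0) = x := PresentedGroup.toGroup.of hf
  have hφ1 : φ (PresentedGroup.of 1) = y := PresentedGroup.toGroup.of hf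
  have hφ2 : φ (PresentedGroup.of 2) = z := PresentedGroup.toGroup.of hf
  have hsurj : Function.Surjective φ := by
    rw [← MonoidHom.range_eq_top, eq_top_iff, ← hgen, Subgroup.closure_le]
    rintro z (rfl | rfl | rfl)
    · exact ⟨_, hφ0⟩
    · exact ⟨_, hφ1⟩
    · exact ⟨_, hφ2⟩
  have hle := Nat.card_le_card_of_surjective φ hsurj
  rw [hc] at hle
  have hbij : Function.Bijective φ := (Nat.bijective_iff_surjective_and_card φ).2 ⟨hsurj, by omega⟩
  exact ⟨MulEquiv.ofBijective φ hbij⟩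

abbrev SL5 := Matrix.SpecialLinearGroup (Fin 2) (ZMod 5)

def u5 : SL5 := ⟨!![1, 1; 0, 1], by decide⟩
def x5 : SL5 := ⟨!![0, -1; 1, -1], by decide⟩
def z5 : SL5 := ⟨!![-1, 0; 0, -1], by decide⟩
def w5 : SL5 := ⟨!![0, -1; 1, 0], by decide⟩

def T (t : ZMod 5) : SL5 := ⟨!![1, t; 0, 1], by simp [Matrix.det_fin_two_of]⟩
def L (t : ZMod 5) : SL5 := ⟨!![1, 0; t, 1], by simp [Matrix.det_fin_two_of]⟩

theorem T_eq : ∀ t : ZMod 5, T t = u5 ^ t.val := by decide +kernel
theorem L_eq : ∀ t : ZMod 5, L t = w5 * T (-t) * w5⁻¹ := by decide +kernel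
theorem w_eq : x5 * u5 = w5 := by decide +kernel

theorem det5 (A : SL5) : A 0 0 * A 1 1 - A 0 1 * A 1 0 = 1 := by
  have := A.2
  rwa [Matrix.det_fin_two] at this

instance : Fact (Nat.Prime 5) := ⟨by norm_num⟩

theorem closure_top : Subgroup.closure {x5, u5, z5} = ⊤ := by
  set S := Subgroup.closure {x5, u5, z5} with hS
  have u_mem : u5 ∈ S := Subgroup.subset_closure (by simp)
  have x_mem : x5 ∈ S := Subgroup.subset_closure (by simp)
  have w_mem : w5 ∈ S := by rw [← w_eq]; exact S.mul_mem x_mem u_mem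
  have T_mem : ∀ t, T t ∈ S := fun t => by rw [T_eq]; exact S.pow_mem u_mem _
  have L_mem : ∀ t, L t ∈ S := fun t => by
    rw [L_eq]; exact S.mul_mem (S.mul_mem w_mem (T_mem _)) (S.inv_mem w_mem)
  have mem_of_ne : ∀ A : SL5, A 1 0 ≠ 0 → A ∈ S := by
    intro A hc
    have h : A = T ((A 0 0 - 1) / A 1 0) * L (A 1 0) * T ((A 1 1 - 1) / A 1 0) := by
      have hd := det5 A
      apply Subtype.ext
      rw [Matrix.SpecialLinearGroup.coe_mul, Matrix.SpecialLinearGroup.coe_mul]
      simp only [T, L]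
      rw [Matrix.mul_fin_two, Matrix.mul_fin_two]
      ext i j
      fin_cases i <;> fin_cases j
      · simp; field_simp; ring
      · simp
        field_simp
        linear_combination -hd
      · simp
      · simp; field_simp; ring
    rw [h]
    exact S.mul_mem (S.mul_mem (T_mem _) (L_mem _)) (T_mem _)
  rw [eq_top_iff]
  intro A _
  by_cases hc : A 1 0 = 0
  · have h1 : A * w5 ∈ S := by
      apply mem_of_ne
      have e10 : (A * w5 : SL5) 1 0 = A 1 1 := by
        change (A.1 * w5.1) 1 0 = _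
        simp [w5, Matrix.mul_apply, Fin.sum_univ_two]
      rw [e10]
      intro h
      have := det5 A
      rw [hc, h] at this
      simp at this
    have := S.mul_mem h1 (S.inv_mem w_mem)
    rwa [mul_inv_cancel_right] at this
  · exact mem_of_ne A hc

theorem card_SL5 : Nat.card SL5 = 120 := by
  rw [Nat.card_eq_fintype_card]
  decide +kernel

theorem iso_SL5 : Nonempty (PresentedGroup R ≃* SL5) :=
  iso_of_rels card_SL5 x5 u5 z5 (by decide +kernel) (by decide +kernel) (by decide +kernel) (by decide +kernel)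
    (by decide +kernel) (by decide +kernel) closure_top

/-- Every non-solvable group of order 120 whose Sylow 2-subgroups are quaternion of order 8 is isomorphic to SL(2,5), and SL(2,5) has the presentation ⟨x, y, z | x³ = y⁵ = z² = 1, z⁻¹xz = x, z⁻¹yz = y, (xy)² = z⟩. -/
theorem result :
    (∀ (G : Type*) [Group G] [Finite G], Nat.card G = 120 → ¬ Group.IsSolvable G →
      (∀ P : Sylow 2 G, Nonempty ((P : Subgroup G) ≃* QuaternionGroup 2)) →
      Nonempty (G ≃* Matrix.SpecialLinearGroup (Fin 2) (ZMod 5))) ∧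
    Nonempty (PresentedGroup ({FreeGroup.of (0 : Fin 3) ^ 3, FreeGroup.of (1 : Fin 3) ^ 5, FreeGroup.of (2 : Fin 3) ^ 2,
        (FreeGroup.of (2 : Fin 3))⁻¹ * FreeGroup.of 0 * FreeGroup.of 2 * (FreeGroup.of (0 : Fin 3))⁻¹,
        (FreeGroup.of (2 : Fin 3))⁻¹ * FreeGroup.of 1 * FreeGroup.of 2 * (FreeGroup.of (1 : Fin 3))⁻¹,
        (FreeGroup.of (0 : Fin 3) * FreeGroup.of 1) ^ 2 * (FreeGroup.of (2 : Fin 3))⁻¹} : Set (FreeGroup (Fin 3)))
      ≃* Matrix.SpecialLinearGroup (Fin 2) (ZMod 5)) := by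
  refine ⟨?_, iso_SL5⟩
  intro G _ _ hc hs hQ
  obtain ⟨x, y, z, hx, hy, hz, hzx, hzy, hxy, hgen⟩ := exists_rels hc hs hQ
  obtain ⟨e⟩ := iso_of_rels hc x y z hx hy hz hzx hzy hxy hgen
  obtain ⟨e'⟩ := iso_SL5
  exact ⟨e.symm.trans e'⟩

end Cfsg.Agent.S3378
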