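import Cfsg.Statements.S5112
import Cfsg.Agent.H85.Base
import Mathlib.GroupTheory.SpecificGroups.Dihedral
import Mathlib.GroupTheory.SpecificGroups.Quaternion

set_option autoImplicit false
open Cfsg

namespace Cfsg.Agent.S5112

open Cfsg Cfsg.Agent.H85

theorem isPGroup_mulAut_aux {D : Type*} [Group D] [Finite D] (k : ℕ) (hk : 1 ≤ k) (rot ref : ZMod (2 ^ k) → D)
    (h1 : ∀ i j, rot i * rot j = rot (i + j)) (h2 : ∀ i j, ref i * rot j = ref (i + j))
    (h3 : ∀ x, (∃ i, x = rot i) ∨ ∃ i, x = ref i) (hinj : Function.Injective rot)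
    (hinj' : Function.Injective ref) (hne : ∀ i j, rot i ≠ ref j)
    (hord : ∀ i, orderOf (ref i) ≠ orderOf (rot 1)) : IsPGroup 2 (MulAut D) := by
  have : NeZero (2 ^ k) := ⟨by positivity⟩
  have hfin : Finite (MulAut D) := by
    have : Finite (D ≃ D) := inferInstance
    exact Finite.of_injective (fun α : MulAut D => α.toEquiv) fun a b h => MulEquiv.ext fun x =>
      congrFun (congrArg (fun e : D ≃ D => (e : D → D)) h) x
  have hrot0 : rot 0 = 1 := by
    have := h1 0 0
    rw [add_zero] at this
    exact mul_eq_left.1 this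
  have hpow : ∀ (i : ZMod (2 ^ k)) (m : ℕ), rot i ^ m = rot (m * i) := by
    intro i m
    induction m with
    | zero => simp [hrot0]
    | succ m ih => rw [pow_succ, ih, h1]; congr 1; push_cast; ring
  have key : ∀ (q : ℕ) (α : MulAut D), Nat.Coprime q 2 → α ^ q = 1 → α = 1 := by
    intro q α hq hα
    obtain ⟨u, hu⟩ : ∃ u, α (rot 1) = rot u := by
      rcases h3 (α (rot 1)) with h | ⟨i, hi⟩
      · exact h
      · exfalso
        apply hord i
        rw [← hi]
        exact orderOf_injective α.toMonoidHom α.injective (rot 1)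
    have hrot : ∀ i, α (rot i) = rot (i * u) := by
      intro i
      have e : rot i = rot 1 ^ i.val := by rw [hpow]; simp
      rw [e, map_pow, hu, hpow]; simp
    have hm : ∀ (m : ℕ) (i : ZMod (2 ^ k)), (α ^ m) (rot i) = rot (i * u ^ m) := by
      intro m
      induction m with
      | zero => intro i; simp
      | succ m ih => intro i; rw [pow_succ, MulAut.mul_apply, hrot, ih]; congr 1; ring
    have huq : u ^ q = 1 := by
      have := hm q 1
      rw [hα, one_mul] at this
      exact (hinj this).symm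
    have hu1 : u = 1 := by
      have hq0 : q ≠ 0 := by
        rintro rfl
        simp at hq
      obtain ⟨U, hU⟩ := IsUnit.of_pow_eq_one huq hq0
      have hUq : U ^ q = 1 := Units.ext (by rw [Units.val_pow_eq_pow_val, hU, huq]; rfl)
      have hd1 : orderOf U ∣ q := orderOf_dvd_of_pow_eq_one hUq
      have hd2 : orderOf U ∣ 2 ^ (k - 1) := by
        have := orderOf_dvd_card (x := U)
        rwa [ZMod.card_units_eq_totient, Nat.totient_prime_pow Nat.prime_two (by omega),
          show 2 - 1 = 1 from rfl, mul_one] at this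
      have hd : orderOf U ∣ 1 := by
        have := Nat.dvd_gcd hd1 hd2
        rwa [Nat.Coprime.pow_right (k - 1) hq] at this
      have : U = 1 := orderOf_eq_one_iff.1 (Nat.dvd_one.1 hd)
      rw [← hU, this]; rfl
    subst hu1
    simp only [mul_one] at hrot
    obtain ⟨j, hj⟩ : ∃ j, α (ref 0) = ref j := by
      rcases h3 (α (ref 0)) with ⟨i, hi⟩ | h
      · exfalso
        rw [← hrot i] at hi
        exact hne i 0 (α.injective hi).symm
      · exact h
    have href : ∀ i, α (ref i) = ref (j + i) := by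
      intro i
      have e : ref i = ref 0 * rot i := by rw [h2, zero_add]
      rw [e, map_mul, hj, hrot, h2]
    have hm' : ∀ m : ℕ, (α ^ m) (ref 0) = ref (m * j) := by
      intro m
      induction m with
      | zero => simp
      | succ m ih => rw [pow_succ', MulAut.mul_apply, ih, href]; congr 1; push_cast; ring
    have hqj : (q : ZMod (2 ^ k)) * j = 0 := by
      have := hm' q
      rw [hα] at this
      exact (hinj' this).symm
    have hj0 : j = 0 := by
      have hunit : IsUnit (q : ZMod (2 ^ k)) := (ZMod.isUnit_iff_coprime _ _).2 (Nat.Coprime.pow_right k hq)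
      exact (hunit.mul_right_eq_zero).1 hqj
    subst hj0
    refine MulEquiv.ext fun x => ?_
    rcases h3 x with ⟨i, rfl⟩ | ⟨i, rfl⟩
    · rw [hrot]; rfl
    · rw [href, zero_add]; rfl
  have hcard : Nat.card (MulAut D) = 2 ^ (Nat.card (MulAut D)).primeFactorsList.length := by
    refine Nat.eq_prime_pow_of_unique_prime_dvd Nat.card_pos.ne' fun {q} hq hd => ?_
    have := Fact.mk hq
    obtain ⟨α, hα⟩ := exists_prime_orderOf_dvd_card' q hd
    by_contra hq2
    have hcop : Nat.Coprime q 2 := (Nat.coprime_primes hq Nat.prime_two).2 hq2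
    have := key q α hcop (by rw [← hα]; exact pow_orderOf_eq_one α)
    rw [this, orderOf_one] at hα
    exact hq.one_lt.ne hα
  exact IsPGroup.of_card hcard

theorem isPGroup_mulAut_dihedral (k : ℕ) (hk : 2 ≤ k) : IsPGroup 2 (MulAut (DihedralGroup (2 ^ k))) := by
  have : NeZero (2 ^ k) := ⟨by positivity⟩
  refine isPGroup_mulAut_aux k (by omega) DihedralGroup.r DihedralGroup.sr
    (fun i j => DihedralGroup.r_mul_r i j) (fun i j => DihedralGroup.sr_mul_r i j) ?_ ?_ ?_ ?_ ?_
  · rintro (i | i)
    · exact Or.inl ⟨i, rfl⟩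
    · exact Or.inr ⟨i, rfl⟩
  · intro i j h; exact DihedralGroup.r.inj h
  · intro i j h; exact DihedralGroup.sr.inj h
  · intro i j h; exact nomatch h
  · intro i
    rw [DihedralGroup.orderOf_sr, DihedralGroup.orderOf_r_one]
    have : 2 ^ 2 ≤ 2 ^ k := Nat.pow_le_pow_right (by norm_num) hk
    omega

theorem isPGroup_mulAut_quaternion (m : ℕ) (hm : 2 ≤ m) : IsPGroup 2 (MulAut (QuaternionGroup (2 ^ m))) := by
  have : NeZero (2 ^ m) := ⟨by positivity⟩
  have : NeZero (2 ^ (m + 1)) := ⟨by positivity⟩
  have he : 2 ^ (m + 1) = 2 * 2 ^ m := pow_succ' 2 m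
  let c : ZMod (2 ^ (m + 1)) ≃+ ZMod (2 * 2 ^ m) := (ZMod.ringEquivCongr he).toAddEquiv
  have hc1 : c 1 = 1 := map_one (ZMod.ringEquivCongr he)
  refine isPGroup_mulAut_aux (m + 1) (by omega) (fun i => QuaternionGroup.a (c i))
    (fun i => QuaternionGroup.xa (c i)) ?_ ?_ ?_ ?_ ?_ ?_ ?_
  · intro i j; rw [map_add]; exact QuaternionGroup.a_mul_a _ _
  · intro i j; rw [map_add]; exact QuaternionGroup.xa_mul_a _ _
  · rintro (i | i)
    · exact Or.inl ⟨c.symm i, by simp⟩
    · exact Or.inr ⟨c.symm i, by simp⟩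
  · intro i j h; exact c.injective (QuaternionGroup.a.inj h)
  · intro i j h; exact c.injective (QuaternionGroup.xa.inj h)
  · intro i j h; exact nomatch h
  · intro i
    show orderOf (QuaternionGroup.xa (c i)) ≠ orderOf (QuaternionGroup.a (c 1))
    rw [hc1, QuaternionGroup.orderOf_xa, QuaternionGroup.orderOf_a_one]
    have : 2 ^ 2 ≤ 2 ^ m := Nat.pow_le_pow_right (by norm_num) hm
    omega

/-- If S is a dihedral or generalized quaternion 2-group of order at least 16, then in every saturated fusion system over S (at the prime 2) the automorphism group Aut_F(S) consists of the inner automorphisms of S. -/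
theorem result {Ω : Type*} [Group Ω] {S : Subgroup Ω} [Finite S] (n : ℕ) (hn : 4 ≤ n) (hshape : Nonempty (S ≃* DihedralGroup (2 ^ (n - 1))) ∨ Nonempty (S ≃* QuaternionGroup (2 ^ (n - 2)))) (F : Cfsg.FusionSystem S) (hF : F.IsSaturated 2) : F.autGroup S = Cfsg.Inn S := by
  have hA : IsPGroup 2 (MulAut S) := by
    rcases hshape with ⟨⟨e⟩⟩ | ⟨⟨e⟩⟩
    · exact (isPGroup_mulAut_dihedral (n - 1) (by omega)).of_equiv (MulAut.congr e.symm)
    · exact (isPGroup_mulAut_quaternion (n - 2) (by omega)).of_equiv (MulAut.congr e.symm)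
  obtain ⟨Q, hQ, hQa, -⟩ := hF S le_rfl
  obtain ⟨e, he⟩ := isConj_iff.1 hQ
  have hQS : Q = S := Subgroup.eq_of_le_of_card_ge he.le_right (Nat.card_congr e.toEquiv).le
  subst hQS
  obtain ⟨-, R, hR⟩ := hQa
  have hp : IsPGroup 2 (F.autGroup Q) := hA.to_subgroup _
  have hR' : (⊤ : Subgroup (F.autGroup Q)) = R :=
    R.is_maximal' (hp.of_equiv Subgroup.topEquiv.symm) le_top
  apply le_antisymm
  · intro α hα
    have h1 : (⟨α, hα⟩ : F.autGroup Q) ∈ (R : Subgroup (F.autGroup Q)) := by
      rw [← hR']; trivial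
    rw [hR] at h1
    rw [← autInducedBy_self]
    exact h1
  · rw [← autInducedBy_self]
    exact autInducedBy_le_autGroup F le_rfl

end Cfsg.Agent.S5112
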