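import Cfsg.Statements.S0105
import Cfsg.Agent.H31.Avg
import Cfsg.Agent.Transfer.Frobenius

set_option autoImplicit false
open Cfsg

namespace Cfsg.Agent.S0105


/-- With an abelian Sylow p-subgroup P, some quotient of G is isomorphic to the part of P central in N_G(P). -/
theorem result {G : Type*} [Group G] [Finite G] {p : ℕ} [Fact p.Prime] (P : Sylow p G) (hP : IsMulCommutative P) : ∃ (N : Subgroup G) (hN : N.Normal), Nonempty (G ⧸ N ≃* ((P : Subgroup G) ⊓ Subgroup.centralizer (Subgroup.normalizer (P : Set G) : Set G) : Subgroup G)) := by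
  have hHall : (Nat.card (P : Subgroup G)).Coprime (P : Subgroup G).index := P.card_coprime_index
  obtain ⟨h1, h2⟩ := Cfsg.Agent.H31.abelian_hall_coprime (P : Subgroup G)
    (Subgroup.normalizer (P : Set G)) hP hHall Subgroup.le_normalizer le_rfl
  have h3 := Cfsg.Agent.Transfer.inf_pResidual_eq_of_isMulCommutative P hP
  have h4 := Cfsg.Agent.Transfer.sylow_sup_pResidual P
  refine ⟨Cfsg.pResidual p G, inferInstance, ⟨MulEquiv.symm ?_⟩⟩
  set C := (P : Subgroup G) ⊓ Subgroup.centralizer (Subgroup.normalizer (P : Set G) : Set G) with hC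
  refine MulEquiv.ofBijective ((QuotientGroup.mk' (Cfsg.pResidual p G)).comp C.subtype) ⟨?_, ?_⟩
  · rw [injective_iff_map_eq_one]
    rintro ⟨x, hx⟩ hx1
    have hx2 : x ∈ Cfsg.pResidual p G := (QuotientGroup.eq_one_iff x).1 hx1
    have hx3 : x ∈ C ⊓ ⁅(P : Subgroup G), Subgroup.normalizer (P : Set G)⁆ := by
      refine ⟨hx, ?_⟩
      rw [← h3]; exact ⟨hx.1, hx2⟩
    rw [h1, Subgroup.mem_bot] at hx3
    exact Subtype.ext hx3
  · intro y
    obtain ⟨g, rfl⟩ := QuotientGroup.mk'_surjective _ y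
    have hg : g ∈ (P : Subgroup G) ⊔ Cfsg.pResidual p G := by rw [h4]; exact Subgroup.mem_top g
    have hP2 : (P : Subgroup G) ⊔ Cfsg.pResidual p G = C ⊔ Cfsg.pResidual p G := by
      apply le_antisymm
      · refine sup_le ?_ le_sup_right
        rw [← h2]
        refine sup_le le_sup_left ?_
        rw [← h3]
        exact inf_le_right.trans le_sup_right
      · exact sup_le (inf_le_left.trans le_sup_left) le_sup_right
    rw [hP2] at hg
    obtain ⟨a, ha, b, hb, rfl⟩ := Subgroup.mem_sup_of_normal_right.1 hg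
    refine ⟨⟨a, ha⟩, ?_⟩
    have hb1 : (QuotientGroup.mk' (Cfsg.pResidual p G)) b = 1 := (QuotientGroup.eq_one_iff b).2 hb
    rw [map_mul, hb1, mul_one]
    rfl

end Cfsg.Agent.S0105
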