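import Cfsg.Statements.S0631
import Cfsg.Agent.H36.PConstr
-- import your own Cfsg.Agent.* helpers here

set_option autoImplicit false
open Cfsg

namespace Cfsg.Agent.S0631

/-- In a p-constrained group the normalizer and the centralizer of any p-subgroup are again p-constrained. -/
theorem result {G : Type*} [Group G] [Finite G] {p : ℕ} [Fact p.Prime] (hG : Cfsg.IsPConstrained p G) (P : Subgroup G) (hP : IsPGroup p P) : Cfsg.IsPConstrained p ↥(Subgroup.normalizer (P : Set G)) ∧ Cfsg.IsPConstrained p ↥(Subgroup.centralizer (P : Set G)) := by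
  have hN := Solv.pPrimeCore_card_coprime (G := G) p
  have hG' := H36.PConstr.isPConstrained_iff.1 hG
  have hP' : IsPGroup p (P.map (QuotientGroup.mk' (Cfsg.pPrimeCore p G))) := hP.map _
  constructor
  · rw [H36.PConstr.isPConstrained_subgroup_iff (Cfsg.pPrimeCore p G) hN,
      H36.PQuot.map_normalizer hN hP]
    exact H36.PConstr.isPConstrained_of_charP (H36.PConstr.charP_normalizer hG' hP')
  · rw [H36.PConstr.isPConstrained_subgroup_iff (Cfsg.pPrimeCore p G) hN,
      H36.PQuot.map_centralizer hN hP]
    exact H36.PConstr.isPConstrained_of_charP (H36.PConstr.charP_centralizer hG' hP')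

end Cfsg.Agent.S0631
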