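import Cfsg.Statements.S3035
import Cfsg.Agent.DihSyl.CentD8Two
import Cfsg.Agent.ClassBase.PSL27
import Cfsg.Agent.S0848
import Cfsg.Agent.S0495
import Cfsg.Agent.S0497

set_option autoImplicit false
open Cfsg

namespace Cfsg.Agent.S3035

/-- Let G be a finite group with an involution z whose centralizer is dihedral of order 8. Then G = C_G(z) O(G) with O(G) the largest normal subgroup of odd order, or G is isomorphic to the symmetric group of degree 4, the symmetric group of degree 5, the group SL₃(2), or the alternating group of degree 6. -/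
theorem result {G : Type*} [Group G] [Finite G] (z : G) (hz : orderOf z = 2)
    (hC : Nonempty (↥(Subgroup.centralizer ({z} : Set G)) ≃* DihedralGroup 4)) :
    Subgroup.centralizer ({z} : Set G) ⊔ Cfsg.oddCore G = ⊤ ∨ Nonempty (G ≃* Equiv.Perm (Fin 4)) ∨ Nonempty (G ≃* Equiv.Perm (Fin 5)) ∨
      Nonempty (G ≃* Matrix.SpecialLinearGroup (Fin 3) (ZMod 2)) ∨ Nonempty (G ≃* ↥(alternatingGroup (Fin 6))) := by
  obtain ⟨e⟩ := hC
  obtain ⟨S, r, s, h⟩ := DihSyl.exists_centD8 hz e
  by_cases hn : Cfsg.HasNormalPComplement 2 G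
  · left
    obtain ⟨N, hN, hNc, k, hk⟩ := Transfer.hasNPC_iff_exists.1 hn
    have hcomp := Transfer.isComplement'_of_card_of_index hNc hk S
    have h1 : N ≤ Cfsg.oddCore G := le_sSup ⟨hN, hNc⟩
    rw [h.cent, eq_top_iff, ← hcomp.symm.sup_eq_top]
    exact sup_le_sup_left h1 _
  obtain ⟨U, g, hF⟩ := h.exists_four hn
  by_cases hM : ∃ M : Subgroup G, M.index = 2
  · obtain ⟨M, hM⟩ := hM
    rcases h.of_index_two hF hM with h1 | h1
    · exact Or.inr (Or.inl h1)
    · exact Or.inr (Or.inr (Or.inl h1))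
  push Not at hM
  have := h.simple hF hM
  rcases Cfsg.Agent.S0848.result (h.perfect hM) z hz e with h1 | h1
  · have : Fact (Nat.Prime 7) := ⟨by norm_num⟩
    obtain ⟨e1⟩ := Cfsg.Agent.S0495.result (F := ZMod 7) h1 (by rw [ZMod.card])
    obtain ⟨e2⟩ := ClassBase.PSL27.main_27
    exact Or.inr (Or.inr (Or.inr (Or.inl ⟨e1.trans e2⟩)))
  · exact Or.inr (Or.inr (Or.inr (Or.inr (Cfsg.Agent.S0497.result h1))))

end Cfsg.Agent.S3035
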