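import Cfsg.Statements.S4399
import Cfsg.Agent.MaxClass.TwoGroups
import Cfsg.Agent.MaxClass.Pres

set_option autoImplicit false
open Cfsg

namespace Cfsg.Agent.S4399

theorem aux {S : Type*} [Group S] [Finite S] {n : ℕ} (hn : 3 ≤ n) (hS : Nat.card S = 2 ^ n)
    (hidx : (commutator S).index = 4) :
    ((∃ k : ℕ, Nonempty (S ≃* DihedralGroup (2 ^ (k + 2)))) ∨
      (∃ k : ℕ, Nat.card S = 2 ^ (k + 4) ∧ ∃ a b : S, orderOf a = 2 ^ (k + 3) ∧ orderOf b = 2 ∧ b * a * b⁻¹ = a ^ (2 ^ (k + 2) - 1)) ∨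
      (∃ k : ℕ, Nonempty (S ≃* QuaternionGroup (2 ^ (k + 1))))) := by
  obtain ⟨a, b, ha, hb, h⟩ := Cfsg.Agent.MaxClass.structure_of_index_commutator hn hS hidx
  rcases h with ⟨h1, h2⟩ | ⟨h1, h2⟩ | ⟨h0, h1, h2⟩
  · left
    refine ⟨n - 3, ?_⟩
    have e : n - 3 + 2 = n - 1 := by omega
    rw [e]
    refine Cfsg.Agent.MaxClass.nonempty_mulEquiv_dihedral (by positivity) ha hb h1 h2 ?_
    rw [hS, ← pow_succ']; congr 1; omega
  · right; right
    refine ⟨n - 3, ?_⟩
    have e : n - 3 + 1 = n - 2 := by omega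
    rw [e]
    refine Cfsg.Agent.MaxClass.nonempty_mulEquiv_quaternion (by positivity) (a := a) (b := b) ?_ hb h1 h2 ?_
    · rw [ha, ← pow_succ']; congr 1; omega
    · rw [hS]
      have : (4 : ℕ) = 2 ^ 2 := by norm_num
      rw [this, ← pow_add]; congr 1; omega
  · right; left
    refine ⟨n - 4, ?_, a, b, ?_, ?_, ?_⟩
    · rw [hS]; congr 1; omega
    · rw [ha]; congr 1; omega
    · refine orderOf_eq_prime h1 ?_
      rintro rfl
      exact hb (one_mem _)
    · rw [h2]; congr 3; omega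

/-- Let S be a finite 2-group whose commutator quotient S/[S,S] is a Klein four-group (order 4 and exponent 2). Then S itself has order 4, or S is dihedral of order at least 8, semidihedral of order at least 16 (order 2^(k+4) with an element a of order 2^(k+3) and an involution b with b a b⁻¹ = a^(2^(k+2)−1)), or generalized quaternion of order at least 8. -/
theorem result {S : Type*} [Group S] [Finite S] (h2 : IsPGroup 2 S) (hab : Nat.card (Abelianization S) = 4)
    (hexp : ∀ x : Abelianization S, x ^ 2 = 1) :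
    Nat.card S = 4 ∨
    ((∃ k : ℕ, Nonempty (S ≃* DihedralGroup (2 ^ (k + 2)))) ∨
      (∃ k : ℕ, Nat.card S = 2 ^ (k + 4) ∧ ∃ a b : S, orderOf a = 2 ^ (k + 3) ∧ orderOf b = 2 ∧ b * a * b⁻¹ = a ^ (2 ^ (k + 2) - 1)) ∨
      (∃ k : ℕ, Nonempty (S ≃* QuaternionGroup (2 ^ (k + 1))))) := by
  haveI : Fact (Nat.Prime 2) := ⟨Nat.prime_two⟩
  obtain ⟨n, hn⟩ := IsPGroup.iff_card.mp h2
  have hidx : (commutator S).index = 4 := hab
  have hdvd : 4 ∣ Nat.card S := by rw [← hidx]; exact Subgroup.index_dvd_card _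
  rcases Nat.lt_or_ge n 3 with h | h
  · left
    have h1 : n = 2 := by
      interval_cases n
      · rw [hn] at hdvd; norm_num at hdvd
      · rw [hn] at hdvd; norm_num at hdvd
      · rfl
    rw [hn, h1]; norm_num
  · right
    exact aux h hn hidx

end Cfsg.Agent.S4399
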