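import Cfsg.Statements.S3224
import Mathlib
import Cfsg.Agent.H72.ClassSize
import Cfsg.Agent.MaxClass.Basic
import Cfsg.Agent.S4399

set_option autoImplicit false
open Cfsg

namespace Cfsg.Agent.S3224
open Subgroup Cfsg.Agent.H72
open scoped commutatorElement


/-- A finite 2-group containing an involution whose centralizer has order 4 is dihedral, quasi-dihedral (semidihedral), or of order 4. -/
theorem result {S : Type*} [Group S] [Finite S] (hS : IsPGroup 2 S)
    (x : S) (hx : orderOf x = 2) (hC : Nat.card ↥(Subgroup.centralizer ({x} : Set S)) = 4) :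
    (∃ n : ℕ, Nonempty (S ≃* DihedralGroup n)) ∨ Cfsg.IsQuasiDihedral S ∨ Nat.card S = 4 := by
  classical
  have hf : Fact (Nat.Prime 2) := ⟨Nat.prime_two⟩
  by_cases h4 : Nat.card S = 4
  · exact Or.inr (Or.inr h4)
  have hnil : Group.IsNilpotent S := hS.isNilpotent
  -- `S` is not commutative
  have hna : ¬ (commutator S = ⊥) := by
    intro hc
    apply h4
    rw [← hC]
    have h1 : Subgroup.centralizer ({x} : Set S) = ⊤ := by
      rw [eq_top_iff]
      intro y _
      rw [Subgroup.mem_centralizer_singleton_iff]
      have h2 : ⁅y, x⁆ ∈ commutator S := Subgroup.commutator_mem_commutator (Subgroup.mem_top _) (Subgroup.mem_top _)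
      rw [hc, Subgroup.mem_bot, commutatorElement_eq_one_iff_mul_comm] at h2
      exact h2
    rw [h1, Subgroup.card_top]
  have hnc : ¬ IsCyclic (Abelianization S) := by
    intro hcyc
    exact hna (Cfsg.Agent.MaxClass.commutator_eq_bot_of_isCyclic_quotient hcyc)
  have hle : Nat.card (Abelianization S) ≤ 4 := by
    -- the class of `x` lies in `x S'`
    have h1 : Nat.card (Cl x) ≤ Nat.card (commutator S) := by
      have h2 : Cl x ⊆ (fun t => t * x) '' (commutator S : Set S) := by
        rintro _ ⟨g, rfl⟩
        refine ⟨⁅g, x⁆, Subgroup.commutator_mem_commutator (Subgroup.mem_top _) (Subgroup.mem_top _), ?_⟩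
        show ⁅g, x⁆ * x = g * x * g⁻¹
        rw [commutatorElement_def]; group
      have h3 := Nat.card_mono (Set.toFinite _) h2
      rw [Nat.card_image_of_injective (mul_left_injective x)] at h3
      exact h3
    rw [card_Cl] at h1
    have h2 : (Cx x).index * 4 = Nat.card S := by
      rw [← hC, mul_comm]; exact Subgroup.card_mul_index _
    have h3 : Nat.card (commutator S) * Nat.card (Abelianization S) = Nat.card S := (commutator S).card_mul_index
    by_contra hcon
    push Not at hcon
    have h5 : 0 < Nat.card (commutator S) := Nat.card_pos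
    have h6 : (Cx x).index * 4 < Nat.card (commutator S) * Nat.card (Abelianization S) := by
      calc (Cx x).index * 4 ≤ Nat.card (commutator S) * 4 := Nat.mul_le_mul_right 4 h1
        _ < Nat.card (commutator S) * Nat.card (Abelianization S) := Nat.mul_lt_mul_of_pos_left hcon h5
    omega
  obtain ⟨k, hk⟩ := IsPGroup.iff_card.1 (hS.to_quotient (commutator S))
  have hk' : Nat.card (Abelianization S) = 2 ^ k := hk
  have hk2 : k = 2 := by
    have h1 : k < 3 := by
      by_contra hcon
      push Not at hcon
      have : 2 ^ 3 ≤ 2 ^ k := Nat.pow_le_pow_right (by norm_num) hcon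
      omega
    have h2 : k ≠ 0 := by
      rintro rfl
      apply hnc
      have : Subsingleton (Abelianization S) := (Nat.card_eq_one_iff_unique.1 (by rw [hk']; simp)).1
      exact isCyclic_of_subsingleton
    have h3 : k ≠ 1 := by
      rintro rfl
      exact hnc (isCyclic_of_prime_card (p := 2) (by rw [hk']; simp))
    omega
  rw [hk2] at hk'
  have hexp : ∀ y : Abelianization S, y ^ 2 = 1 := by
    intro y
    have h1 : orderOf y ∣ 2 ^ 2 := by rw [← hk']; exact orderOf_dvd_natCard y
    obtain ⟨j, hj, hj'⟩ := (Nat.dvd_prime_pow Nat.prime_two).1 h1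
    have h2 : j ≠ 2 := by
      rintro rfl
      exact hnc (isCyclic_of_orderOf_eq_card y (by rw [hj', hk']))
    have h3 : orderOf y ∣ 2 := by
      rw [hj']
      have : j ≤ 1 := by omega
      exact (pow_dvd_pow 2 this).trans (by norm_num)
    exact orderOf_dvd_iff_pow_eq_one.1 h3
  rcases S4399.result hS (by rw [hk']; norm_num) hexp with h | ⟨j, hj⟩ | ⟨j, hj1, a, b, ha, hb, hab⟩ | ⟨j, ⟨e⟩⟩
  · exact absurd h h4
  · exact Or.inl ⟨_, hj⟩
  · right; left
    refine ⟨j + 3, by omega, hj1, a, b, ha, hb, hab⟩
  · exfalso
    -- the involution is central in a quaternion group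
    have hcen : ∀ y : QuaternionGroup (2 ^ (j + 1)), y * e x = e x * y := by
      have hx2 : e x * e x = 1 := by
        have hxx : x * x = 1 := by rw [← pow_two, ← hx, pow_orderOf_eq_one]
        rw [← map_mul, hxx, map_one]
      intro y
      generalize hz : e x = z at hx2
      rcases z with i | i
      · rw [QuaternionGroup.a_mul_a, QuaternionGroup.one_def] at hx2
        have h5 : i + i = 0 := by
          injection hx2
        rcases y with l | l
        · rw [QuaternionGroup.a_mul_a, QuaternionGroup.a_mul_a, add_comm l i]
        · rw [QuaternionGroup.xa_mul_a, QuaternionGroup.a_mul_xa]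
          congr 1
          have : i = -i := eq_neg_of_add_eq_zero_left h5
          rw [sub_eq_add_neg, ← this]
      · exfalso
        rw [QuaternionGroup.xa_mul_xa, QuaternionGroup.one_def] at hx2
        have h5 : ((2 ^ (j + 1) : ℕ) : ZMod (2 * 2 ^ (j + 1))) + i - i = 0 := by
          injection hx2
        rw [add_sub_cancel_right, ZMod.natCast_eq_zero_iff] at h5
        have h6 := Nat.le_of_dvd (by positivity) h5
        have : 0 < 2 ^ (j + 1) := by positivity
        omega
    have h1 : Subgroup.centralizer ({x} : Set S) = ⊤ := by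
      rw [eq_top_iff]
      intro y _
      rw [Subgroup.mem_centralizer_singleton_iff]
      apply e.injective
      rw [map_mul, map_mul]
      exact hcen (e y)
    apply h4
    rw [← hC, h1, Subgroup.card_top]

end Cfsg.Agent.S3224
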