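import Cfsg.Statements.S0160
import Cfsg.Agent.Char.PermLemma

set_option autoImplicit false
open Cfsg

namespace Cfsg.Agent.S0160

/-- A finite group has as many real-valued irreducible complex characters as conjugacy classes closed under taking inverses. -/
theorem result {G : Type*} [Group G] [Finite G] : Nat.card {χ : Cfsg.IrrCharacter G // ∀ g : G, ((χ : G → ℂ) g).im = 0} = Nat.card {C : ConjClasses G // ∀ g : G, ConjClasses.mk g = C → IsConj g g⁻¹} := by
  have := Fintype.ofFinite G
  have h := Cfsg.Agent.Char.PL.card_fixed_irr_eq (G := G) (fun g => g⁻¹) (fun χ => Cfsg.Agent.CharBase.isIrrCharacter_inv χ.2) (by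
    intro g h hgh
    obtain ⟨c, rfl⟩ := isConj_iff.mp hgh
    exact isConj_iff.mpr ⟨c, by group⟩)

  have h1 : Nat.card {χ : Cfsg.IrrCharacter G // ∀ g : G, ((χ : G → ℂ) g).im = 0} =
      Nat.card {χ : IrrCharacter G // (fun g => (χ : G → ℂ) g⁻¹) = χ} := by
    apply Nat.card_congr
    apply Equiv.subtypeEquivRight
    intro χ
    constructor
    · intro h
      funext g
      rw [Cfsg.Agent.CharBase.irr_inv]
      exact Complex.conj_eq_iff_im.mpr (h g)
    · intro h g
      have := congrFun h g
      simp only [Cfsg.Agent.CharBase.irr_inv] at this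
      exact Complex.conj_eq_iff_im.mp this
  rw [h1, h]
  apply Nat.card_congr
  apply Equiv.subtypeEquivRight
  intro C
  exact ⟨fun h g hg => (h g hg).symm, fun h g hg => (h g hg).symm⟩

end Cfsg.Agent.S0160
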