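import Cfsg.Statements.S3331
import Cfsg.Agent.H55.ThreeRed
import Cfsg.Agent.S0494
import Cfsg.Agent.S0495

set_option autoImplicit false
open Cfsg

namespace Cfsg.Agent.S3331

open Cfsg.Agent.H55 Cfsg.Agent.H55.Three Cfsg.Agent.H55.BswGrp Cfsg.Agent.Solv

/-- Let G be a finite group containing a subgroup X of order 3 with C_G(X) = X. Then one of the following holds: G has a nilpotent normal subgroup N of order prime to 3 with G/N of order 3 or isomorphic to Sym(3); or G has an elementary abelian normal 2-subgroup N with G/N isomorphic to the alternating group of degree 5; or G is isomorphic to PSL(2,7). -/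
theorem result {G : Type*} [Group G] [Finite G]
    (X : Subgroup G) (hX : Nat.card X = 3) (hC : Subgroup.centralizer (X : Set G) = X) :
    (∃ (N : Subgroup G) (hN : N.Normal), Group.IsNilpotent N ∧ (Nat.card N).Coprime 3 ∧
        (Nat.card (G ⧸ N) = 3 ∨ Nonempty (G ⧸ N ≃* Equiv.Perm (Fin 3)))) ∨
    (∃ (N : Subgroup G) (hN : N.Normal), IsMulCommutative N ∧ (∀ n ∈ N, n ^ 2 = 1) ∧
        Nonempty (G ⧸ N ≃* alternatingGroup (Fin 5))) ∨
    Nonempty (G ≃* Matrix.ProjectiveSpecialLinearGroup (Fin 2) (ZMod 7)) := by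
  classical
  haveI : Fact (Nat.Prime 3) := ⟨Nat.prime_three⟩
  obtain ⟨x0, hx0⟩ := exists_prime_orderOf_dvd_card' (G := X) 3 (by rw [hX])
  have hx01 : x0 ≠ 1 := by rintro rfl; rw [orderOf_one] at hx0; omega
  obtain ⟨x, hxX⟩ := x0
  have hXe : ∀ g ∈ X, g = 1 ∨ g = x ∨ g = x⁻¹ := by
    intro g hg
    rcases three_elems hX hx01 ⟨g, hg⟩ with e | e | e
    · exact Or.inl (congrArg Subtype.val e)
    · exact Or.inr (Or.inl (congrArg Subtype.val e))
    · exact Or.inr (Or.inr (congrArg Subtype.val e))
  have h : X3 x := by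
    refine ⟨by rw [← hx0]; exact (Subgroup.orderOf_mk x hxX).symm, ?_⟩
    intro g hg
    apply hXe
    rw [← hC, Subgroup.mem_centralizer_iff]
    intro y hy
    rcases hXe y hy with e | e | e
    · rw [e, one_mul, mul_one]
    · rw [e]; exact hg.symm
    · rw [e]
      have h1 : Commute g x := hg
      exact h1.inv_right.eq.symm
  by_cases hr : IsConj x x⁻¹
  · -- real case
    let N := pPrimeCore 3 G
    have hcop : (Nat.card N).Coprime 3 := pPrimeCore_card_coprime 3
    have h3 : ∀ n ∈ N, orderOf n ≠ 3 := by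
      intro n hn e
      have h1 := orderOf_dvd_natCard (⟨n, hn⟩ : N)
      rw [Subgroup.orderOf_mk, e] at h1
      exact (Nat.Prime.coprime_iff_not_dvd Nat.prime_three).1 hcop.symm h1
    haveI hN : N.Normal := pPrimeCore_normal 3 G
    have hnil : Group.IsNilpotent N :=
      Fpf3.nilp h.cube (fun n hn => hN.conj_mem n hn x) (h.fpf h3)
    have hX' := h.quot N h3
    have hr' : IsConj (QuotientGroup.mk x : G ⧸ N) (QuotientGroup.mk x : G ⧸ N)⁻¹ := by
      obtain ⟨g, hg⟩ := isConj_iff.1 hr
      refine isConj_iff.2 ⟨QuotientGroup.mk g, ?_⟩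
      rw [← QuotientGroup.mk_inv, ← QuotientGroup.mk_mul, ← QuotientGroup.mk_inv,
        ← QuotientGroup.mk_mul, hg]
    rcases core_free hX' hr' (pPrimeCore_quotient_pPrimeCore 3) with h6 | hs
    · left
      refine ⟨N, hN, hnil, hcop, Or.inr ?_⟩
      apply H67.nonempty_mulEquiv_perm_three h6
      intro hab
      obtain ⟨v, hv, hvx⟩ := hX'.exists_inv hr'
      apply hX'.xinv_ne
      rw [← hvx, hab v]; group
    · haveI := hs
      obtain ⟨hcard, t, hg⟩ := simple hX' hr'
      have hmk : ∀ g : G, QuotientGroup.mk' N g = QuotientGroup.mk g := fun g => rfl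
      let P : Subgroup G := (VV hg).comap (QuotientGroup.mk' N)
      have memP : ∀ g, g ∈ P ↔ (QuotientGroup.mk g : G ⧸ N) ∈ VV hg := fun g => Iff.rfl
      have hNP : N ≤ P := by
        intro n hn
        rw [memP, (QuotientGroup.eq_one_iff n).2 hn]
        exact (VV hg).one_mem
      have hxP : ∀ p ∈ P, x * p * x⁻¹ ∈ P := by
        intro p hp
        rw [memP] at hp ⊢
        exact VV_norm hg _ hp
      have hp2 : ∀ p ∈ P, p * p ∈ N := by
        intro p hp
        rw [← QuotientGroup.eq_one_iff]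
        exact VV_sq hg _ hp
      have h3P : ∀ p ∈ P, orderOf p ≠ 3 := by
        intro p hp e
        have h1 := pow3_of_order e
        have h2 := hp2 p hp
        have h4 : p ∈ N := by
          have h5 : p = (p * p) * (p * p) := by
            calc p = p ^ 3 * p := by rw [h1, one_mul]
              _ = (p * p) * (p * p) := by rw [pow_succ, pow_two]; group
          rw [h5]; exact N.mul_mem h2 h2
        exact h3 p h4 e
      have hne : ∃ p ∈ P, p ∉ N := by
        obtain ⟨p, hp⟩ := QuotientGroup.mk_surjective t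
        refine ⟨p, ?_, ?_⟩
        · rw [memP, hp]; exact Or.inr (Or.inl rfl)
        · rw [← QuotientGroup.eq_one_iff, hp]; exact ne_one_of_order hg.ht
      obtain ⟨hab, hn2⟩ := red_abel h N h3 hNP hxP h3P hp2 hne
      rcases hcard with h60 | h168
      · right; left
        refine ⟨N, hN, ⟨⟨fun a b => Subtype.ext (hab a a.2 b b.2)⟩⟩, ?_, S0494.result h60⟩
        intro n hn
        rw [sq]; exact hn2 n hn
      · right; right
        haveI : Fact (Nat.Prime 7) := ⟨by norm_num⟩
        have hp3 : IsPGroup 3 (Subgroup.zpowers (QuotientGroup.mk x : G ⧸ N)) := by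
          apply IsPGroup.of_card (n := 1)
          rw [Nat.card_zpowers, hX'.ox, pow_one]
        have hnd : ¬ 3 ∣ Nat.card (Sylow 7 (G ⧸ N)) := by
          have h1 : Nat.card (Sylow 7 (G ⧸ N)) % 7 = 1 := card_sylow_modEq_one 7 (G ⧸ N)
          have h2 : Nat.card (Sylow 7 (G ⧸ N)) ∣ 168 := by
            rw [← h168]
            let Q : Sylow 7 (G ⧸ N) := default
            exact (Q.card_dvd_index).trans (Q : Subgroup (G ⧸ N)).index_dvd_card
          have h4 : ∀ n ∈ Nat.divisors 168, n % 7 = 1 → ¬ 3 ∣ n := by decide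
          exact h4 _ (Nat.mem_divisors.2 ⟨h2, by norm_num⟩) h1
        obtain ⟨Q, hQ⟩ := hp3.nonempty_fixed_point_of_prime_not_dvd_card (Sylow 7 (G ⧸ N)) hnd
        have hQx : (QuotientGroup.mk x : G ⧸ N) • Q = Q :=
          hQ ⟨QuotientGroup.mk x, Subgroup.mem_zpowers _⟩
        have hq7 : ∀ q ∈ (Q : Subgroup (G ⧸ N)), q ^ 7 = 1 := by
          intro q hq
          obtain ⟨k, hk⟩ := Q.isPGroup' ⟨q, hq⟩
          have hk' : q ^ 7 ^ k = 1 := congrArg Subtype.val hk
          obtain ⟨j, -, hj⟩ := (Nat.dvd_prime_pow (by norm_num : Nat.Prime 7)).1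
            (orderOf_dvd_of_pow_eq_one hk')
          have h1 : orderOf q ∣ 168 := by rw [← h168]; exact orderOf_dvd_natCard q
          have hj2 : j < 2 := by
            by_contra hc
            have h2 : 7 ^ 2 ∣ 168 := (pow_dvd_pow 7 (by omega : 2 ≤ j)).trans (hj ▸ h1)
            norm_num at h2
          apply orderOf_dvd_iff_pow_eq_one.1
          rw [hj]
          exact (pow_dvd_pow 7 (by omega : j ≤ 1)).trans (by norm_num)
        let R : Subgroup G := (Q : Subgroup (G ⧸ N)).comap (QuotientGroup.mk' N)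
        have memR : ∀ g, g ∈ R ↔ (QuotientGroup.mk g : G ⧸ N) ∈ (Q : Subgroup (G ⧸ N)) :=
          fun g => Iff.rfl
        have hNR : N ≤ R := by
          intro n hn
          rw [memR, (QuotientGroup.eq_one_iff n).2 hn]
          exact (Q : Subgroup (G ⧸ N)).one_mem
        have hxR : ∀ p ∈ R, x * p * x⁻¹ ∈ R := by
          intro p hp
          rw [memR] at hp ⊢
          rw [← hQx, mem_sylow_smul]
          have : (QuotientGroup.mk x : G ⧸ N)⁻¹ * QuotientGroup.mk (x * p * x⁻¹) *
              QuotientGroup.mk x = QuotientGroup.mk p := by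
            rw [QuotientGroup.mk_mul, QuotientGroup.mk_mul, QuotientGroup.mk_inv]; group
          rw [this]; exact hp
        have hp7 : ∀ p ∈ R, p ^ 7 ∈ N := by
          intro p hp
          rw [← QuotientGroup.eq_one_iff, QuotientGroup.mk_pow]
          exact hq7 _ hp
        have h3R : ∀ p ∈ R, orderOf p ≠ 3 := by
          intro p hp e
          have h1 := pow3_of_order e
          have h2 := hp7 p hp
          have h4 : p ∈ N := by
            have h5 : p = p ^ 7 := by
              calc p = p ^ 3 * p ^ 3 * p := by rw [h1, one_mul, one_mul]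
                _ = p ^ 7 := by rw [← pow_add, ← pow_succ]
            rw [h5]; exact h2
          exact h3 p h4 e
        have hneR : ∃ p ∈ R, p ∉ N := by
          have h1 : (Q : Subgroup (G ⧸ N)) ≠ ⊥ := Q.ne_bot_of_dvd_card (by rw [h168]; norm_num)
          obtain ⟨q, hq, hq1⟩ := (Subgroup.ne_bot_iff_exists_ne_one (H := (Q : Subgroup (G ⧸ N)))).1 h1
            |>.imp (fun a ha => ha) |> fun ⟨a, ha⟩ => (⟨(a : G ⧸ N), a.2, fun e => ha (Subtype.ext e)⟩ :
              ∃ q, q ∈ (Q : Subgroup (G ⧸ N)) ∧ q ≠ 1)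
          obtain ⟨p, hp⟩ := QuotientGroup.mk_surjective q
          refine ⟨p, ?_, ?_⟩
          · rw [memR, hp]; exact hq
          · rw [← QuotientGroup.eq_one_iff, hp]; exact hq1
        have hbot := red_triv h N h3 hNR hxR h3R hp7 hneR hab hn2
        obtain ⟨e⟩ := S0495.result (G := G ⧸ N) h168 (F := ZMod 7) (ZMod.card 7)
        exact ⟨((QuotientGroup.quotientMulEquivOfEq hbot).trans
          QuotientGroup.quotientBot).symm.trans e⟩
  · -- non-real case
    left
    obtain ⟨N, hN, hN3, hNi⟩ := compl3 h (fun v hv e => hr (isConj_iff.2 ⟨v, e⟩))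
    have h3 : ∀ n ∈ N, orderOf n ≠ 3 := by
      intro n hn e
      have h1 := orderOf_dvd_natCard (⟨n, hn⟩ : N)
      rw [Subgroup.orderOf_mk, e] at h1
      exact hN3 h1
    refine ⟨N, hN, Fpf3.nilp h.cube (fun n hn => hN.conj_mem n hn x) (h.fpf h3), ?_, Or.inl ?_⟩
    · exact ((Nat.Prime.coprime_iff_not_dvd Nat.prime_three).2 hN3).symm
    · rw [← Subgroup.index_eq_card]; exact hNi

end Cfsg.Agent.S3331
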