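import Cfsg.Statements.S0007
import Mathlib

set_option autoImplicit false
open Cfsg

namespace Cfsg.Agent.S0007

/-- Subgroups of coprime index: the intersection has index equal to the product of the indices, and every element is a product of an element of the first subgroup and an element of the second. -/
theorem result {G : Type*} [Group G] [Finite G] (H K : Subgroup G)
    (h : H.index.Coprime K.index) :
    (H ⊓ K).index = H.index * K.index ∧ ∀ g : G, ∃ x ∈ H, ∃ y ∈ K, g = x * y := by
  have h1 : (H ⊓ K).index = H.index * K.relIndex H := by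
    rw [← Subgroup.relIndex_mul_index (inf_le_left : H ⊓ K ≤ H), Subgroup.inf_relIndex_left,
      mul_comm]
  have h2 : (H ⊓ K).index = K.index * H.relIndex K := by
    rw [← Subgroup.relIndex_mul_index (inf_le_right : H ⊓ K ≤ K), Subgroup.inf_relIndex_right,
      mul_comm]
  have hH : 0 < H.index := Nat.pos_of_ne_zero Subgroup.index_ne_zero_of_finite
  have hK : 0 < K.index := Nat.pos_of_ne_zero Subgroup.index_ne_zero_of_finite
  have hle : K.relIndex H ≤ K.index := by
    rw [← Subgroup.relIndex_top_right K]
    exact Subgroup.relIndex_le_of_le_right le_top (by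
      rw [Subgroup.relIndex_top_right]; exact hK.ne')
  have hdvd : H.index * K.index ∣ (H ⊓ K).index :=
    Nat.Coprime.mul_dvd_of_dvd_of_dvd h ⟨_, h1⟩ ⟨_, h2⟩
  have hpos : 0 < (H ⊓ K).index := Nat.pos_of_ne_zero Subgroup.index_ne_zero_of_finite
  have h3 : (H ⊓ K).index = H.index * K.index := by
    apply le_antisymm
    · rw [h1]; exact Nat.mul_le_mul_left _ hle
    · exact Nat.le_of_dvd hpos hdvd
  refine ⟨h3, ?_⟩
  have h4 : K.relIndex H = K.index := by
    apply Nat.eq_of_mul_eq_mul_left hH
    rw [← h1, h3]
  -- the map `H → G ⧸ K` is surjective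
  intro g
  have hcard : Nat.card (H ⧸ K.subgroupOf H) = Nat.card (G ⧸ K) := by
    rw [← Subgroup.index_eq_card, ← Subgroup.index_eq_card]; exact h4
  let f : H ⧸ K.subgroupOf H → G ⧸ K :=
    Quotient.lift (fun h : H => (QuotientGroup.mk (h : G) : G ⧸ K)) (by
      intro a b hab
      have hab' : a⁻¹ * b ∈ K.subgroupOf H := QuotientGroup.leftRel_apply.mp hab
      exact QuotientGroup.eq.mpr (by simpa [Subgroup.mem_subgroupOf] using hab'))
  have hf : Function.Injective f := by
    intro a b
    refine Quotient.inductionOn₂ a b ?_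
    intro a b hab
    have h5 : (QuotientGroup.mk (a : G) : G ⧸ K) = QuotientGroup.mk (b : G) := hab
    have h6 := QuotientGroup.eq.mp h5
    apply Quotient.sound
    apply QuotientGroup.leftRel_apply.mpr
    simpa [Subgroup.mem_subgroupOf] using h6
  have hsurj : Function.Surjective f := by
    have := Nat.bijective_iff_injective_and_card f |>.mpr ⟨hf, hcard⟩
    exact this.2
  obtain ⟨q, hq⟩ := hsurj (QuotientGroup.mk g)
  obtain ⟨x, rfl⟩ := Quotient.exists_rep q
  have h7 : (QuotientGroup.mk (x : G) : G ⧸ K) = QuotientGroup.mk g := hq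
  have h8 := QuotientGroup.eq.mp h7
  exact ⟨x, x.2, _, h8, by group⟩

end Cfsg.Agent.S0007
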