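import Cfsg.Statements.S0655
import Cfsg.Agent.H11.Basic
-- import your own Cfsg.Agent.* helpers here

set_option autoImplicit false
open Cfsg

namespace Cfsg.Agent.S0655

/-- In a p-group the intersection of all elementary abelian subgroups of largest order is the subgroup generated by the elements of order dividing p in the centre (equivalently the centralizer) of the elementary-version Thompson subgroup. -/
theorem result {S : Type*} [Group S] [Finite S] {p : ℕ} [Fact p.Prime] (hS : IsPGroup p S) : sInf (Cfsg.maxElementaryAbelianSubgroups p S) = Cfsg.omegaCenterThompson p S ∧ Cfsg.omegaCenterThompson p S = Cfsg.omegaOne p (Subgroup.centralizer (Cfsg.thompsonSubgroup p S : Set S)) := by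
  have h1 : sInf (maxElementaryAbelianSubgroups p S) ≤ omegaCenterThompson p S := by
    obtain ⟨A, hA⟩ := H11.exists_max_elem (G := S) p
    intro x hx
    rw [Subgroup.mem_sInf] at hx
    apply Subgroup.subset_closure
    refine ⟨⟨?_, ?_⟩, ?_⟩
    · exact (le_sSup hA : A ≤ thompsonSubgroup p S) (hx A hA)
    · have : Subgroup.zpowers x ≤ Subgroup.centralizer (thompsonSubgroup p S : Set S) := by
        unfold thompsonSubgroup
        rw [H11.le_centralizer_sSup]
        intro B hB
        rw [Subgroup.zpowers_le]
        exact (H11.comm_iff_le_centralizer B).1 hB.1.1 (hx B hB)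
      exact this (Subgroup.mem_zpowers x)
    · exact hA.1.2 x (hx A hA)
  have h2 : omegaCenterThompson p S ≤ omegaOne p (Subgroup.centralizer (thompsonSubgroup p S : Set S)) := by
    apply Subgroup.closure_mono
    rintro x ⟨⟨_, h⟩, h'⟩
    exact ⟨h, h'⟩
  have h3 : omegaOne p (Subgroup.centralizer (thompsonSubgroup p S : Set S)) ≤ sInf (maxElementaryAbelianSubgroups p S) := by
    unfold omegaOne
    rw [Subgroup.closure_le]
    rintro x ⟨h, h'⟩
    rw [SetLike.mem_coe, Subgroup.mem_sInf]
    intro A hA
    apply H11.mem_of_max_elem hA h'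
    exact Subgroup.centralizer_le (SetLike.coe_subset_coe.2 (le_sSup hA)) h
  exact ⟨le_antisymm h1 (h2.trans h3), le_antisymm h2 (h3.trans h1)⟩

end Cfsg.Agent.S0655
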