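import Cfsg.Statements.S3996
import Cfsg.Agent.FrobThm.Orders
import Cfsg.Agent.S0144

set_option autoImplicit false
open Cfsg

namespace Cfsg.Agent.S3996

open Cfsg.Agent.FrobThm

structure Three (G : Type*) [Group G] (a b : ℕ) : Prop where
  hV : ∀ k, so G k = 0 ∨ so G k = 1 ∨ so G k = a ∨ so G k = b
  a1 : a ≠ 1
  b1 : b ≠ 1
  a0 : a ≠ 0
  b0 : b ≠ 0
  ab : a ≠ b

variable {G : Type*} [Group G] [Finite G] {a b : ℕ}

theorem Three.symm (h : Three G a b) : Three G b a :=
  ⟨fun k => by rcases h.hV k with h1 | h1 | h1 | h1 <;> tauto, h.b1, h.a1, h.b0, h.a0, h.ab.symm⟩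

theorem Three.val (h : Three G a b) (k : ℕ) (hk : 2 < k) : so G k = 0 ∨ so G k = a ∨ so G k = b := by
  rcases h.hV k with h1 | h1 | h1 | h1
  · exact Or.inl h1
  · have := even_so (G := G) k hk
    rw [h1] at this
    exact absurd this (by decide)
  · exact Or.inr (Or.inl h1)
  · exact Or.inr (Or.inr h1)

theorem castz {p n : ℕ} (m : ℕ) (h : p * m ∣ n) : (n : ZMod p) = 0 :=
  (ZMod.natCast_eq_zero_iff n p).2 ((Dvd.intro _ rfl).trans h)

theorem castz1 {p n : ℕ} (h : p ∣ n) : (n : ZMod p) = 0 :=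
  (ZMod.natCast_eq_zero_iff n p).2 h

theorem two_ne {p : ℕ} (hp : p.Prime) (hp2 : p ≠ 2) : (2 : ZMod p) ≠ 0 := by
  intro h
  have : ((2 : ℕ) : ZMod p) = 0 := by exact_mod_cast h
  rw [ZMod.natCast_eq_zero_iff] at this
  exact hp2 ((Nat.prime_dvd_prime_iff_eq hp Nat.prime_two).1 this)

theorem lemO (h : Three G a b) {p q : ℕ} (hp : p.Prime) (hq : q.Prime) (hpq : p ≠ q) (hp2 : p ≠ 2)
    (hpd : p ∣ Nat.card G) (hqd : q ∣ Nat.card G) (hpa : so G p = a) (hqa : so G q = a) :
    so G (p * q) = b ∧ (b : ZMod p) = 1 ∧ (a : ZMod p) = -1 := by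
  have : Fact p.Prime := ⟨hp⟩
  have e1 := castz1 (dvd_so_prime (G := G) p hp hpd)
  have e2 := castz q (dvd_so_two_primes (G := G) p q hp hq hpq hpd hqd)
  rw [hpa] at e1 e2
  rw [hqa] at e2
  push_cast at e1 e2
  have ha : (a : ZMod p) = -1 := by linear_combination e1
  have hx : ((so G (p * q) : ℕ) : ZMod p) = 1 := by linear_combination e2 - 2 * e1
  have hgt : 2 < p * q := by
    have := hp.two_le
    have := hq.two_le
    nlinarith
  rcases h.val _ hgt with h1 | h1 | h1
  · rw [h1] at hx
    exact absurd hx.symm (by simp)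
  · rw [h1, ha] at hx
    exact absurd (by linear_combination -hx : (2 : ZMod p) = 0) (two_ne hp hp2)
  · rw [h1] at hx
    exact ⟨h1, hx, ha⟩

theorem lemO3 (h : Three G a b) {p q r : ℕ} (hp : p.Prime) (hq : q.Prime) (hr : r.Prime) (hpq : p ≠ q)
    (hpr : p ≠ r) (hqr : q ≠ r) (hp2 : p ≠ 2) (hq2 : q ≠ 2) (hr2 : r ≠ 2)
    (hpd : p ∣ Nat.card G) (hqd : q ∣ Nat.card G) (hrd : r ∣ Nat.card G)
    (hpa : so G p = a) (hqa : so G q = a) (hrb : so G r = b) : False := by
  have : Fact p.Prime := ⟨hp⟩
  have : Fact q.Prime := ⟨hq⟩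
  have : Fact r.Prime := ⟨hr⟩
  obtain ⟨h1, h2, h3⟩ := lemO h hp hq hpq hp2 hpd hqd hpa hqa
  obtain ⟨h1', h2', h3'⟩ := lemO h hq hp hpq.symm hq2 hqd hpd hqa hpa
  have gt : ∀ {x y : ℕ}, x.Prime → y.Prime → 2 < x * y := by
    intro x y hx hy
    have := hx.two_le
    have := hy.two_le
    nlinarith
  -- so (p * r) = a
  have key : ∀ {x : ℕ} (hx : x.Prime) (hx2 : x ≠ 2) (hxr : x ≠ r) (hxd : x ∣ Nat.card G) (hxa : so G x = a)
      (e1 : (b : ZMod x) = 1) (e2 : (a : ZMod x) = -1), so G (x * r) = a := by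
    intro x hx hx2 hxr hxd hxa e1 e2
    have : Fact x.Prime := ⟨hx⟩
    have e3 := castz r (dvd_so_two_primes (G := G) x r hx hr hxr hxd hrd)
    rw [hxa, hrb] at e3
    push_cast at e3
    have e4 : ((so G (x * r) : ℕ) : ZMod x) = -1 := by linear_combination e3 - e1 - e2
    rcases h.val _ (gt hx hr) with h5 | h5 | h5
    · rw [h5] at e4
      exact absurd e4 (by simp)
    · exact h5
    · rw [h5, e1] at e4
      exact absurd (by linear_combination e4 : (2 : ZMod x) = 0) (two_ne hx hx2)
  have h4 := key hp hp2 hpr hpd hpa h2 h3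
  have h5 := key hq hq2 hqr hqd hqa h2' h3'
  -- modulo r
  have e1 := castz1 (dvd_so_prime (G := G) r hr hrd)
  have e2 : ((1 + so G p + so G r + so G (p * r) : ℕ) : ZMod r) = 0 := by
    have := dvd_so_two_primes (G := G) p r hp hr hpr hpd hrd
    rw [mul_comm] at this
    rw [show p * r = r * p by ring]
    rw [show r * p = p * r by ring] at this ⊢
    exact castz p (by rw [show r * p = p * r by ring]; exact this)
  have e3 : ((1 + so G p + so G q + so G r + so G (p * q) + so G (p * r) + so G (q * r) + so G (p * (q * r)) : ℕ) : ZMod r) = 0 := by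
    have := dvd_so_three_primes (G := G) p q r hp hq hr hpq hpr hqr hpd hqd hrd
    exact castz (p * q) (by rw [show r * (p * q) = p * (q * r) by ring]; exact this)
  rw [hpa, hqa, hrb, h1, h4, h5] at e3
  rw [hpa, hrb, h4] at e2
  rw [hrb] at e1
  push_cast at e1 e2 e3
  have ha : (a : ZMod r) = 0 := by
    have : (2 : ZMod r) * a = 0 := by linear_combination e2 - e1
    rcases mul_eq_zero.1 this with h6 | h6
    · exact absurd h6 (two_ne hr hr2)
    · exact h6
  have hb : (b : ZMod r) = -1 := by linear_combination e1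
  have hw : ((so G (p * (q * r)) : ℕ) : ZMod r) = 1 := by
    linear_combination e3 - 4 * ha - 2 * hb
  have hgt : 2 < p * (q * r) := by
    have := gt hq hr
    have := hp.two_le
    nlinarith
  rcases h.val _ hgt with h6 | h6 | h6
  · rw [h6] at hw
    exact absurd hw.symm (by simp)
  · rw [h6, ha] at hw
    exact absurd hw.symm (by simp)
  · rw [h6, hb] at hw
    exact absurd (by linear_combination -hw : (2 : ZMod r) = 0) (two_ne hr hr2)

theorem four_dvd_totient {p q : ℕ} (hp : p.Prime) (hq : q.Prime) (hpq : p ≠ q) (hp2 : p ≠ 2) (hq2 : q ≠ 2) :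
    4 ∣ Nat.totient (p * q) := by
  rw [Nat.totient_mul ((Nat.coprime_primes hp hq).2 hpq)]
  have hp3 : 2 < p := lt_of_le_of_ne hp.two_le hp2.symm
  have hq3 : 2 < q := lt_of_le_of_ne hq.two_le hq2.symm
  rw [show (4 : ℕ) = 2 * 2 by norm_num]
  exact Nat.mul_dvd_mul (even_iff_two_dvd.1 (Nat.totient_even hp3)) (even_iff_two_dvd.1 (Nat.totient_even hq3))

theorem lemT (h : Three G a b) {p q : ℕ} (hp : p.Prime) (hq : q.Prime) (hpq : p ≠ q) (hp2 : p ≠ 2) (hq2 : q ≠ 2)
    (hpd : p ∣ Nat.card G) (hqd : q ∣ Nat.card G)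
    (hall : ∀ r : ℕ, r.Prime → r ≠ 2 → r ∣ Nat.card G → so G r = a) : False := by
  have : Fact p.Prime := ⟨hp⟩
  have : Fact q.Prime := ⟨hq⟩
  have hpa := hall p hp hp2 hpd
  have hqa := hall q hq hq2 hqd
  obtain ⟨h1, h2, h3⟩ := lemO h hp hq hpq hp2 hpd hqd hpa hqa
  obtain ⟨h1', h2', h3'⟩ := lemO h hq hp hpq.symm hq2 hqd hpd hqa hpa
  have gt : ∀ {x y : ℕ}, x.Prime → y.Prime → 2 < x * y := by
    intro x y hx hy
    have := hx.two_le
    have := hy.two_le
    nlinarith
  have hp3 : 2 < p := lt_of_le_of_ne hp.two_le hp2.symm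
  have hq3 : 2 < q := lt_of_le_of_ne hq.two_le hq2.symm
  have haeven : Even a := hpa ▸ even_so (G := G) p hp3
  have hb4 : 4 ∣ b := h1 ▸ (four_dvd_totient hp hq hpq hp2 hq2).trans (totient_dvd_so (G := G) (p * q))
  have hb1 : ∀ r : ℕ, r.Prime → r ≠ 2 → r ∣ Nat.card G → (b : ZMod r) = 1 ∧ (a : ZMod r) = -1 := by
    intro r hr hr2 hrd
    by_cases hrp : r = p
    · subst hrp; exact ⟨h2, h3⟩
    · exact (lemO h hr hp hrp hr2 hrd hpd (hall r hr hr2 hrd) hpa).2
  have hpowd : ∀ (r k : ℕ), r.Prime → r ≠ 2 → 1 ≤ k → r ^ k ∣ Nat.card G → r ^ k ∣ a + 1 := by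
    intro r k hr hr2 hk hrk
    have : Fact r.Prime := ⟨hr⟩
    have hrd : r ∣ Nat.card G := (dvd_pow_self r (by omega)).trans hrk
    obtain ⟨hb, ha⟩ := hb1 r hr hr2 hrd
    have hra := hall r hr hr2 hrd
    have hz : 2 ≤ k → so G (r ^ 2) = 0 := by
      intro hk2
      have hr2d : r ^ 2 ∣ Nat.card G := (pow_dvd_pow r hk2).trans hrk
      have e := dvd_sum_so (G := G) (r ^ 2) hr2d
      rw [Nat.sum_divisors_prime_pow hr, Finset.sum_range_succ, Finset.sum_range_succ, Finset.sum_range_one,
        pow_zero, pow_one, so_one, hra] at e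
      have e' := castz1 ((dvd_pow_self r two_ne_zero).trans e)
      push_cast at e'
      have e2 : ((so G (r ^ 2) : ℕ) : ZMod r) = 0 := by linear_combination e' - ha
      have hgt2 : 2 < r ^ 2 := by
        have := hr.two_le
        nlinarith
      rcases h.val _ hgt2 with h5 | h5 | h5
      · exact h5
      · rw [h5, ha] at e2
        exact absurd (by linear_combination -e2 : (1 : ZMod r) = 0) (by simp)
      · rw [h5, hb] at e2
        exact absurd e2 (by simp)
    have e := dvd_sum_so (G := G) (r ^ k) hrk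
    rw [Nat.sum_divisors_prime_pow hr] at e
    obtain ⟨k, rfl⟩ : ∃ j, k = j + 1 := ⟨k - 1, by omega⟩
    rw [Finset.sum_range_succ', Finset.sum_range_succ', pow_zero, so_one, zero_add, pow_one, hra] at e
    rw [Finset.sum_eq_zero, zero_add] at e
    · exact e
    · intro j hj
      rw [Finset.mem_range] at hj
      by_contra hne
      obtain ⟨g, hg⟩ := (so_ne_zero_iff (G := G) _).1 hne
      have h6 : orderOf (g ^ (r ^ j)) = r ^ 2 := by
        rw [orderOf_pow_of_dvd (pow_ne_zero _ hr.ne_zero) (by rw [hg]; exact pow_dvd_pow r (by omega)), hg]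
        rw [Nat.pow_div (by omega) hr.pos]
        congr 1
        omega
      exact (so_ne_zero_iff (G := G) (r ^ 2)).2 ⟨_, h6⟩ (hz (by omega))
  obtain ⟨k, M, hModd, hkM⟩ := Nat.exists_eq_two_pow_mul_odd (n := Nat.card G) Nat.card_pos.ne'
  have hMdvd : M ∣ a + 1 := by
    rw [Nat.dvd_iff_prime_pow_dvd_dvd]
    intro r j hr hrj
    rcases Nat.eq_zero_or_pos j with hj | hj
    · subst hj; simp
    · apply hpowd r j hr _ hj (hrj.trans (by rw [hkM]; exact Dvd.intro_left _ rfl))
      rintro rfl
      have : 2 ∣ M := (dvd_pow_self 2 (by omega)).trans hrj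
      exact (Nat.not_even_iff_odd.2 hModd) (even_iff_two_dvd.2 this)
  have hMle : M ≤ a + 1 := Nat.le_of_dvd (by omega) hMdvd
  have ha0 := h.a0
  -- lower bounds
  have hne1p : 1 ≠ p := hp.one_lt.ne
  have hne1q : 1 ≠ q := hq.one_lt.ne
  have low1 : 1 + 2 * a ≤ Nat.card G := by
    have := sum_so_le (G := G) {1, p, q}
    rw [Finset.sum_insert (by simp [hne1p, hne1q]), Finset.sum_insert (by simp [hpq]), Finset.sum_singleton,
      so_one, hpa, hqa] at this
    omega
  by_cases hk0 : k = 0
  · subst hk0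
    rw [pow_zero, one_mul] at hkM
    omega
  have h2d : 2 ∣ Nat.card G := by rw [hkM]; exact (dvd_pow_self 2 hk0).mul_right _
  have hs2 : so G 2 = 1 := by
    have e := dvd_so_prime (G := G) 2 Nat.prime_two h2d
    obtain ⟨c, hc⟩ := haeven
    rcases h.hV 2 with h5 | h5 | h5 | h5
    · rw [h5] at e; omega
    · exact h5
    · rw [h5] at e; omega
    · rw [h5] at e; omega
  have hpodd : Odd p := hp.odd_of_ne_two hp2
  have hqodd : Odd q := hq.odd_of_ne_two hq2
  have hp2a := so_mul_two hs2 p hpodd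
  have hq2a := so_mul_two hs2 q hqodd
  have hpq2 := so_mul_two hs2 (p * q) (hpodd.mul hqodd)
  by_cases hk1 : k = 1
  · subst hk1
    rw [pow_one] at hkM
    have := sum_so_le (G := G) {1, 2, p, q, p * 2, q * 2}
    have hp2n : p * 2 ≠ q := by rintro rfl; exact (Nat.not_even_iff_odd.2 hqodd) (even_iff_two_dvd.2 (Dvd.intro_left _ rfl))
    have hq2n : q * 2 ≠ p := by rintro rfl; exact (Nat.not_even_iff_odd.2 hpodd) (even_iff_two_dvd.2 (Dvd.intro_left _ rfl))
    rw [Finset.sum_insert, Finset.sum_insert, Finset.sum_insert,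
      Finset.sum_insert, Finset.sum_insert, Finset.sum_singleton,
      so_one, hpa, hqa, hp2a, hq2a, hpa, hqa, hs2] at this
    · omega
    · simp only [Finset.mem_singleton]; omega
    · simp only [Finset.mem_insert, Finset.mem_singleton]; omega
    · simp only [Finset.mem_insert, Finset.mem_singleton]; omega
    · simp only [Finset.mem_insert, Finset.mem_singleton]; omega
    · simp only [Finset.mem_insert, Finset.mem_singleton]; omega
  have h4d : 4 ∣ Nat.card G := by
    rw [hkM]
    exact (pow_dvd_pow 2 (show 2 ≤ k by omega)).mul_right _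
  have h44 := dvd_so_four h4d
  rw [hs2] at h44
  have hs4 : so G 4 = a := by
    rcases h.val 4 (by norm_num) with h5 | h5 | h5
    · rw [h5] at h44; omega
    · exact h5
    · rw [h5] at h44; omega
  rw [hs4] at h44
  have key : ∀ {x : ℕ} (hx : x.Prime) (hx2 : x ≠ 2) (hxd : x ∣ Nat.card G) (hxa : so G x = a)
      (e1 : (b : ZMod x) = 1) (e2 : (a : ZMod x) = -1), so G (x * 4) = b := by
    intro x hx hx2 hxd hxa e1 e2
    have : Fact x.Prime := ⟨hx⟩
    have e3 := castz 4 (dvd_so_four_mul (G := G) h4d x hx hx2 hxd)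
    rw [so_mul_two hs2 x (hx.odd_of_ne_two hx2), hxa, hs2, hs4] at e3
    push_cast at e3
    have e4 : ((so G (x * 4) : ℕ) : ZMod x) = 1 := by linear_combination e3 - 3 * e2
    have hgt : 2 < x * 4 := by have := hx.two_le; omega
    rcases h.val _ hgt with h5 | h5 | h5
    · rw [h5] at e4
      exact absurd e4.symm (by simp)
    · rw [h5, e2] at e4
      exact absurd (by linear_combination -e4 : (2 : ZMod x) = 0) (two_ne hx hx2)
    · exact h5
  have hp4 := key hp hp2 hpd hpa h2 h3
  have hq4 := key hq hq2 hqd hqa h2' h3'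
  have e5 := castz (q * 4) (dvd_so_four_mul_mul (G := G) h4d p q hp hp2 hq hq2 hpq hpd hqd)
  rw [show p * (q * 2) = p * q * 2 by ring, hpq2, hp2a, hq2a, hp4, hq4, hs2, hs4, hpa, hqa, h1] at e5
  push_cast at e5
  have e6 : ((so G (p * (q * 4)) : ℕ) : ZMod p) = -1 := by linear_combination e5 - 5 * h3 - 4 * h2
  have hgt : 2 < p * (q * 4) := by
    have := hp.two_le
    have := hq.two_le
    nlinarith
  have hw : so G (p * (q * 4)) = a := by
    rcases h.val _ hgt with h5 | h5 | h5
    · rw [h5] at e6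
      exact absurd e6 (by simp)
    · exact h5
    · rw [h5, h2] at e6
      exact absurd (by linear_combination e6 : (2 : ZMod p) = 0) (two_ne hp hp2)
  have h4t : 4 ∣ a := by
    rw [← hw]
    refine Dvd.dvd.trans ?_ (totient_dvd_so _)
    refine (four_dvd_totient hp hq hpq hp2 hq2).trans (Nat.totient_dvd_of_dvd ?_)
    exact ⟨4, by ring⟩
  omega

theorem lemD (h : Three G a b) {p q : ℕ} (hp : p.Prime) (hq : q.Prime) (hpq : p ≠ q) (hp2 : p ≠ 2) (hq2 : q ≠ 2)
    (hpd : p ∣ Nat.card G) (hqd : q ∣ Nat.card G) (hpa : so G p = a) (hqb : so G q = b) (hs2 : so G 2 = 1)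
    (h4d : 4 ∣ Nat.card G) (hs4 : so G 4 = a) : False := by
  have : Fact p.Prime := ⟨hp⟩
  have h44 := dvd_so_four h4d
  rw [hs2, hs4] at h44
  have e1 := castz1 (dvd_so_prime (G := G) p hp hpd)
  have e2 := castz q (dvd_so_two_primes (G := G) p q hp hq hpq hpd hqd)
  rw [hpa] at e1 e2
  rw [hqb] at e2
  push_cast at e1 e2
  have ha : (a : ZMod p) = -1 := by linear_combination e1
  have h4t : 4 ∣ so G (p * q) := (four_dvd_totient hp hq hpq hp2 hq2).trans (totient_dvd_so _)
  have hgt : 2 < p * q := by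
    have := hp.two_le
    have := hq.two_le
    nlinarith
  have hb : (b : ZMod p) = 0 := by
    rcases h.val _ hgt with h5 | h5 | h5
    · rw [h5] at e2
      push_cast at e2
      linear_combination e2 - e1
    · rw [h5] at h4t; omega
    · rw [h5] at e2
      have : (2 : ZMod p) * b = 0 := by linear_combination e2 - e1
      rcases mul_eq_zero.1 this with h6 | h6
      · exact absurd h6 (two_ne hp hp2)
      · exact h6
  have e3 := castz 4 (dvd_so_four_mul (G := G) h4d p hp hp2 hpd)
  rw [so_mul_two hs2 p (hp.odd_of_ne_two hp2), hpa, hs2, hs4] at e3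
  push_cast at e3
  have e4 : ((so G (p * 4) : ℕ) : ZMod p) = 1 := by linear_combination e3 - 3 * ha
  have hgt : 2 < p * 4 := by have := hp.two_le; omega
  rcases h.val _ hgt with h5 | h5 | h5
  · rw [h5] at e4
    exact absurd e4.symm (by simp)
  · rw [h5, ha] at e4
    exact absurd (by linear_combination -e4 : (2 : ZMod p) = 0) (two_ne hp hp2)
  · rw [h5, hb] at e4
    exact absurd e4.symm (by simp)

theorem solvable_of_primes (G : Type*) [Group G] [Finite G] (p q : ℕ) (hp : p.Prime) (hq : q.Prime)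
    (hall : ∀ r : ℕ, r.Prime → r ∣ Nat.card G → r = p ∨ r = q) : Group.IsSolvable G := by
  by_cases hpq : p = q
  · subst hpq
    have h1 : Nat.card G = p ^ (Nat.card G).primeFactorsList.length := by
      apply Nat.eq_prime_pow_of_unique_prime_dvd Nat.card_pos.ne'
      intro r hr hrd
      rcases hall r hr hrd with h | h <;> exact h
    exact Cfsg.Agent.S0144.result p p (Nat.card G).primeFactorsList.length 0 hp hp
      (by rw [pow_zero, mul_one]; exact h1)
  · obtain ⟨i, m, hm, him⟩ := Nat.exists_eq_pow_mul_and_not_dvd (n := Nat.card G) Nat.card_pos.ne' p hp.ne_one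
    have hm0 : m ≠ 0 := by
      rintro rfl
      exact hm (dvd_zero p)
    have h1 : m = q ^ m.primeFactorsList.length := by
      apply Nat.eq_prime_pow_of_unique_prime_dvd hm0
      intro r hr hrd
      rcases hall r hr (hrd.trans (by rw [him]; exact Dvd.intro_left _ rfl)) with h | h
      · exact absurd (h ▸ hrd) hm
      · exact h
    exact Cfsg.Agent.S0144.result p q i _ hp hq (by rw [him]; congr 1)

theorem main (h : Three G a b) : Group.IsSolvable G := by
  by_contra hns
  -- two odd primes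
  have hex : ∃ p q : ℕ, p.Prime ∧ q.Prime ∧ p ≠ q ∧ p ≠ 2 ∧ q ≠ 2 ∧ p ∣ Nat.card G ∧ q ∣ Nat.card G := by
    by_contra hcon
    push Not at hcon
    apply hns
    by_cases hodd : ∃ p : ℕ, p.Prime ∧ p ≠ 2 ∧ p ∣ Nat.card G
    · obtain ⟨p, hp, hp2, hpd⟩ := hodd
      apply solvable_of_primes G p 2 hp Nat.prime_two
      intro r hr hrd
      by_cases hr2 : r = 2
      · exact Or.inr hr2
      · left
        by_contra hne
        exact hcon p r hp hr (fun h => hne h.symm) hp2 hr2 hpd hrd
    · push Not at hodd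
      apply solvable_of_primes G 2 2 Nat.prime_two Nat.prime_two
      intro r hr hrd
      left
      by_contra hne
      exact hodd r hr hne hrd
  obtain ⟨p, q, hp, hq, hpq, hp2, hq2, hpd, hqd⟩ := hex
  have hp3 : 2 < p := lt_of_le_of_ne hp.two_le hp2.symm
  have hq3 : 2 < q := lt_of_le_of_ne hq.two_le hq2.symm
  have typ : ∀ r : ℕ, r.Prime → r ≠ 2 → r ∣ Nat.card G → so G r = a ∨ so G r = b := by
    intro r hr hr2 hrd
    rcases h.val r (lt_of_le_of_ne hr.two_le hr2.symm) with h1 | h1
    · exact absurd h1 (so_prime_ne_zero r hr hrd)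
    · exact h1
  -- reduce to: so 2 = 1 if even
  have hs2 : 2 ∣ Nat.card G → so G 2 = 1 := by
    intro h2d
    by_contra hne
    have e := dvd_so_prime (G := G) 2 Nat.prime_two h2d
    -- generic: if so 2 = a then contradiction
    have key : ∀ {a b : ℕ}, Three G a b → so G 2 = a → False := by
      intro a b h hs
      rw [hs] at e
      have typ : ∀ r : ℕ, r.Prime → r ≠ 2 → r ∣ Nat.card G → so G r = b := by
        intro r hr hr2 hrd
        have h3 : 2 < r := lt_of_le_of_ne hr.two_le hr2.symm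
        rcases h.val r h3 with h1 | h1 | h1
        · exact absurd h1 (so_prime_ne_zero r hr hrd)
        · have h4 := even_so (G := G) r h3
          rw [h1] at h4
          obtain ⟨c, hc⟩ := h4
          omega
        · exact h1
      have h5 := (lemO h.symm hp hq hpq hp2 hpd hqd (typ p hp hp2 hpd) (typ q hq hq2 hqd)).1
      have h6 := even_so (G := G) (p * q) (by nlinarith)
      rw [h5] at h6
      obtain ⟨c, hc⟩ := h6
      omega
    rcases h.hV 2 with h5 | h5 | h5 | h5
    · rw [h5] at e; omega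
    · exact hne h5
    · exact key h h5
    · exact key h.symm h5
  -- all the same type?
  by_cases hsame : ∀ r : ℕ, r.Prime → r ≠ 2 → r ∣ Nat.card G → so G r = so G p
  · rcases typ p hp hp2 hpd with h1 | h1
    · rw [h1] at hsame
      exact lemT h hp hq hpq hp2 hq2 hpd hqd hsame
    · rw [h1] at hsame
      exact lemT h.symm hp hq hpq hp2 hq2 hpd hqd hsame
  · push Not at hsame
    obtain ⟨r, hr, hr2, hrd, hrne⟩ := hsame
    have hrp : r ≠ p := by rintro rfl; exact hrne rfl
    -- p and r of distinct types; no third odd prime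
    have hthird : ∀ t : ℕ, t.Prime → t ≠ 2 → t ∣ Nat.card G → t = p ∨ t = r := by
      intro t ht ht2 htd
      by_contra hcon
      push Not at hcon
      have htp := hcon.1
      have htr := hcon.2
      rcases typ p hp hp2 hpd with h1 | h1 <;> rcases typ r hr hr2 hrd with h3 | h3 <;>
        rcases typ t ht ht2 htd with h4 | h4
      · exact hrne (h3.trans h1.symm)
      · exact hrne (h3.trans h1.symm)
      · exact lemO3 h hp ht hr htp.symm hrp.symm htr hp2 ht2 hr2 hpd htd hrd h1 h4 h3
      · exact lemO3 h.symm hr ht hp htr.symm hrp htp hr2 ht2 hp2 hrd htd hpd h3 h4 h1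
      · exact lemO3 h hr ht hp htr.symm hrp htp hr2 ht2 hp2 hrd htd hpd h3 h4 h1
      · exact lemO3 h.symm hp ht hr htp.symm hrp.symm htr hp2 ht2 hr2 hpd htd hrd h1 h4 h3
      · exact hrne (h3.trans h1.symm)
      · exact hrne (h3.trans h1.symm)
    by_cases h2d : 2 ∣ Nat.card G
    swap
    · apply hns
      apply solvable_of_primes G p r hp hr
      intro t ht htd
      exact hthird t ht (by rintro rfl; exact h2d htd) htd
    have hs2' := hs2 h2d
    by_cases h4d : 4 ∣ Nat.card G
    · have h44 := dvd_so_four h4d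
      rw [hs2'] at h44
      rcases h.val 4 (by norm_num) with h5 | h5 | h5
      · rw [h5] at h44; omega
      · rcases typ p hp hp2 hpd with h1 | h1 <;> rcases typ r hr hr2 hrd with h3 | h3
        · exact hrne (h3.trans h1.symm)
        · exact lemD h hp hr hrp.symm hp2 hr2 hpd hrd h1 h3 hs2' h4d h5
        · exact lemD h hr hp hrp hr2 hp2 hrd hpd h3 h1 hs2' h4d h5
        · exact hrne (h3.trans h1.symm)
      · rcases typ p hp hp2 hpd with h1 | h1 <;> rcases typ r hr hr2 hrd with h3 | h3
        · exact hrne (h3.trans h1.symm)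
        · exact lemD h.symm hr hp hrp hr2 hp2 hrd hpd h3 h1 hs2' h4d h5
        · exact lemD h.symm hp hr hrp.symm hp2 hr2 hpd hrd h1 h3 hs2' h4d h5
        · exact hrne (h3.trans h1.symm)
    · obtain ⟨z, hz, hzc, _⟩ := exists_central_involution hs2'
      have hle : Subgroup.zpowers z ≤ Subgroup.center G := by rwa [Subgroup.zpowers_le]
      have hnorm : (Subgroup.zpowers z).Normal := ⟨fun x hx y => by
        rw [Subgroup.mem_center_iff.1 (hle hx) y, mul_inv_cancel_right]; exact hx⟩
      have hcard : Nat.card G = Nat.card (G ⧸ Subgroup.zpowers z) * 2 := by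
        rw [Subgroup.card_eq_card_quotient_mul_card_subgroup (Subgroup.zpowers z), Nat.card_zpowers, hz]
      have hq1 : Group.IsSolvable (G ⧸ Subgroup.zpowers z) := by
        apply solvable_of_primes _ p r hp hr
        intro t ht htd
        apply hthird t ht _ (htd.trans (by rw [hcard]; exact Dvd.intro _ rfl))
        rintro rfl
        apply h4d
        rw [hcard, show (4 : ℕ) = 2 * 2 by norm_num]
        exact Nat.mul_dvd_mul_right htd 2
      have hq2 : Group.IsSolvable (Subgroup.zpowers z) := by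
        infer_instance
      apply hns
      exact Group.isSolvable_of_ker_le_range (Subgroup.zpowers z).subtype (QuotientGroup.mk' (Subgroup.zpowers z))
        (by rw [QuotientGroup.ker_mk', Subgroup.range_subtype])

/-- A finite group in which the numbers of elements of each order that occurs (the numbers #{g : o(g) = m}, m ranging over the element orders) take exactly three different values is solvable. -/
theorem result {G : Type*} [Group G] [Finite G] (h : (((fun m : ℕ => Nat.card {g : G // orderOf g = m}) '' Set.range (orderOf : G → ℕ))).ncard = 3) : Group.IsSolvable G := by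
  set S := (fun m : ℕ => Nat.card {g : G // orderOf g = m}) '' Set.range (orderOf : G → ℕ) with hS
  have h1S : 1 ∈ S := ⟨1, ⟨1, orderOf_one⟩, so_one⟩
  have h2 : (S \ {1}).ncard = 2 := by
    rw [Set.ncard_sdiff_singleton_of_mem h1S, h]
  obtain ⟨a, b, hab, hSab⟩ := Set.ncard_eq_two.1 h2
  have haS : a ∈ S \ {1} := by rw [hSab]; simp
  have hbS : b ∈ S \ {1} := by rw [hSab]; simp
  have hpos : ∀ x ∈ S, x ≠ 0 := by
    rintro x ⟨m, ⟨g, hg⟩, rfl⟩
    exact (so_ne_zero_iff (G := G) m).2 ⟨g, hg⟩
  apply main (a := a) (b := b)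
  refine ⟨?_, haS.2, hbS.2, hpos a haS.1, hpos b hbS.1, hab⟩
  intro k
  by_cases hk : so G k = 0
  · exact Or.inl hk
  · right
    obtain ⟨g, hg⟩ := (so_ne_zero_iff (G := G) k).1 hk
    have hkS : so G k ∈ S := ⟨k, ⟨g, hg⟩, rfl⟩
    by_cases hk1 : so G k = 1
    · exact Or.inl hk1
    · right
      have : so G k ∈ S \ {1} := ⟨hkS, hk1⟩
      rw [hSab] at this
      simpa using this

end Cfsg.Agent.S3996
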