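import Cfsg.Statements.S4189
import Mathlib
import Cfsg.Agent.S5112
import Cfsg.Agent.MaxClass.TwoGroups
import Cfsg.Agent.MaxClass.Pres

set_option autoImplicit false
open Cfsg

namespace Cfsg.Agent.S4189

open Subgroup

/-- Let P be a finite non-abelian 2-group whose commutator subgroup has index 4 and whose automorphism group is not a 2-group (some automorphism has order that is not a power of 2). Then P is isomorphic to the quaternion group of order 8. -/
theorem result {P : Type*} [Group P] [Finite P] (hP : IsPGroup 2 P) (hna : ¬ IsMulCommutative P) (h4 : (commutator P).index = 4) (haut : ¬ IsPGroup 2 (MulAut P)) : Nonempty (P ≃* QuaternionGroup 2) := by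
  haveI : Fact (Nat.Prime 2) := ⟨Nat.prime_two⟩
  obtain ⟨n, hn⟩ := IsPGroup.iff_card.mp hP
  have hn3 : 3 ≤ n := by
    have h1 := (commutator P).card_mul_index
    rw [h4, hn] at h1
    have h2 : Nat.card (commutator P) ≠ 1 := by
      intro h
      apply hna
      have h3 : commutator P = ⊥ := Subgroup.card_eq_one.mp h
      exact ⟨⟨MaxClass.comm_of_commutator_eq_bot h3⟩⟩
    have h3 : 0 < Nat.card (commutator P) := Nat.card_pos
    by_contra hlt
    have h5 : n = 0 ∨ n = 1 ∨ n = 2 := by omega
    rcases h5 with rfl | rfl | rfl <;> omega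
  obtain ⟨a, b, ha, hb, h⟩ := MaxClass.structure_of_index_commutator hn3 hn h4
  have hidx := MaxClass.index_zpowers_of_orderOf (by omega : 1 ≤ n) hn ha
  have ham : a ^ (2 ^ (n - 1)) = 1 := ha ▸ pow_orderOf_eq_one a
  by_contra hne
  apply haut
  refine S5112.isPGroup_mulAut_aux (n - 1) (by omega) (fun i => MaxClass.zpw a (2 ^ (n - 1)) ham i)
    (fun i => b * MaxClass.zpw a (2 ^ (n - 1)) ham i) ?_ ?_ ?_ ?_ ?_ ?_ ?_
  · intro i j
    exact (MaxClass.zpw_add _ _ _ _ _).symm
  · intro i j
    simp only [MaxClass.zpw_add, mul_assoc]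
  · intro x
    by_cases hx : x ∈ zpowers a
    · left
      obtain ⟨k, hk⟩ := hx
      refine ⟨(k : ZMod (2 ^ (n - 1))), ?_⟩
      rw [← hk]
      exact (MaxClass.zpw_intCast _ _ _ _).symm
    · right
      have h1 : b⁻¹ * x ∈ zpowers a := by
        rw [Subgroup.mul_mem_iff_of_index_two hidx, inv_mem_iff]
        exact iff_of_false hb hx
      obtain ⟨k, hk⟩ := h1
      refine ⟨(k : ZMod (2 ^ (n - 1))), ?_⟩
      rw [MaxClass.zpw_intCast]
      change a ^ k = b⁻¹ * x at hk
      rw [hk, mul_inv_cancel_left]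
  · exact MaxClass.zpw_injective a _ ha
  · intro i j hij
    exact MaxClass.zpw_injective a _ ha (mul_left_cancel hij)
  · intro i j hij
    apply hb
    have h1 := MaxClass.zpw_mem a (2 ^ (n - 1)) ham i
    have h2 := MaxClass.zpw_mem a (2 ^ (n - 1)) ham j
    replace hij : MaxClass.zpw a (2 ^ (n - 1)) ham i = b * MaxClass.zpw a (2 ^ (n - 1)) ham j := hij
    rw [hij] at h1
    exact (Subgroup.mul_mem_cancel_right _ h2).mp h1
  · intro i hi
    obtain ⟨k, rfl⟩ := ZMod.intCast_surjective i
    have h1 : MaxClass.zpw a (2 ^ (n - 1)) ham 1 = a := by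
      have := MaxClass.zpw_intCast a (2 ^ (n - 1)) ham 1
      simpa using this
    simp only [h1, MaxClass.zpw_intCast, ha] at hi
    -- the square of `b * a ^ k`
    have hsq : ∀ r : ℤ, b * a * b⁻¹ = a ^ r → (b * a ^ k) ^ 2 = a ^ (r * k) * b ^ 2 * a ^ k := by
      intro r hr
      have h2 : b * a ^ k * b⁻¹ = a ^ (r * k) := by
        rw [← conj_zpow, hr, ← zpow_mul]
      rw [← h2]
      simp only [sq]
      group
    rcases h with ⟨h2, h3⟩ | ⟨h2, h3⟩ | ⟨hn4, h2, h3⟩
    · have h5 : (b * a ^ k) ^ 2 = 1 := by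
        rw [hsq (-1) (by rw [h3]; simp), h2]
        group
      have h6 := orderOf_dvd_of_pow_eq_one h5
      rw [hi] at h6
      have h7 := Nat.le_of_dvd (by norm_num) h6
      have h8 : 2 ^ 2 ≤ 2 ^ (n - 1) := Nat.pow_le_pow_right (by norm_num) (by omega)
      omega
    · have h5 : (b * a ^ k) ^ 2 = a ^ (2 ^ (n - 2)) := by
        rw [hsq (-1) (by rw [h3]; simp), h2]
        rw [← zpow_natCast, ← zpow_add, ← zpow_add]
        congr 1
        ring
      have h6 : (b * a ^ k) ^ 4 = 1 := by
        rw [show 4 = 2 * 2 from rfl, pow_mul, h5, ← pow_mul, ← pow_succ,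
          show n - 2 + 1 = n - 1 by omega, ham]
      have h7 := orderOf_dvd_of_pow_eq_one h6
      rw [hi] at h7
      have h8 := Nat.le_of_dvd (by norm_num) h7
      have h9 : n = 3 := by
        by_contra hne3
        have h10 : 2 ^ 3 ≤ 2 ^ (n - 1) := Nat.pow_le_pow_right (by norm_num) (by omega)
        omega
      subst h9
      apply hne
      exact MaxClass.nonempty_mulEquiv_quaternion (m := 2) (by norm_num) (by rw [ha]; norm_num) hb
        (by rw [h2]; norm_num) h3 (by rw [hn]; norm_num)
    · have h5 : (b * a ^ k) ^ 2 = a ^ (((2 : ℤ) ^ (n - 2)) * k) := by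
        have h3' : b * a * b⁻¹ = a ^ ((2 : ℤ) ^ (n - 2) - 1) := by
          rw [h3, ← zpow_natCast]
          congr 1
          have : 1 ≤ 2 ^ (n - 2) := Nat.one_le_two_pow
          push_cast [this]
          ring
        rw [hsq _ h3', h2, mul_one, ← zpow_add]
        congr 1
        ring
      have h6 : (b * a ^ k) ^ 4 = 1 := by
        rw [show 4 = 2 * 2 from rfl, pow_mul, h5, ← zpow_natCast, ← zpow_mul]
        have h7 : ((2 : ℤ) ^ (n - 2)) * k * ((2 : ℕ) : ℤ) = ((2 ^ (n - 1) : ℕ) : ℤ) * k := by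
          rw [show n - 1 = (n - 2) + 1 by omega]
          push_cast
          ring
        rw [h7, zpow_mul, zpow_natCast, ham, one_zpow]
      have h7 := orderOf_dvd_of_pow_eq_one h6
      rw [hi] at h7
      have h8 := Nat.le_of_dvd (by norm_num) h7
      have h10 : 2 ^ 3 ≤ 2 ^ (n - 1) := Nat.pow_le_pow_right (by norm_num) (by omega)
      omega

end Cfsg.Agent.S4189
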