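import Cfsg.Statements.S4207
import Mathlib
import Cfsg.Agent.Solv.Frattini

set_option autoImplicit false
open Cfsg

namespace Cfsg.Agent.S4207

open Subgroup

theorem card_dvd_of_free {A T : Type*} [Group A] [MulAction A T] [Finite T] [Finite A]
    (h : ∀ (a : A) (t : T), a • t = t → a = 1) : Nat.card A ∣ Nat.card T := by
  classical
  have e := MulAction.selfEquivSigmaOrbitsQuotientStabilizer A T
  rw [Nat.card_congr e]
  haveI : Fintype (Quotient (MulAction.orbitRel A T)) := Fintype.ofFinite _
  rw [Nat.card_sigma]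
  apply Finset.dvd_sum
  intro ω _
  have h1 : MulAction.stabilizer A ω.out = ⊥ := by
    rw [eq_bot_iff]
    intro a ha
    exact h a _ ha
  rw [h1]
  have : Nat.card (A ⧸ (⊥ : Subgroup A)) = Nat.card A := by
    rw [← Subgroup.index, Subgroup.index_bot]
  rw [this]

/-- The tuples lying in the cosets of the Frattini subgroup of a given set. -/
def Tup {P : Type*} [Group P] (b : Set P) : Type _ :=
  {t : b → P // ∀ i : b, (i : P)⁻¹ * t i ∈ frattini P}

theorem conj_mem' {P : Type*} [Group P] {α : MulAut P} (h : ∀ x : P, α x * x⁻¹ ∈ frattini P) (x : P) :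
    x⁻¹ * α x ∈ frattini P := by
  have := (inferInstance : (frattini P).Normal).conj_mem _ (h x) x⁻¹
  simpa [mul_assoc] using this

/-- the action on tuples. -/
@[reducible] def tupAction {P : Type*} [Group P] (b : Set P) (A : Subgroup (MulAut P))
    (hA : ∀ α ∈ A, ∀ x : P, α x * x⁻¹ ∈ frattini P) : MulAction A (Tup b) where
  smul α t := ⟨fun i => (α : MulAut P) (t.1 i), fun i => by
    have h1 := t.2 i
    have h2 := conj_mem' (hA α α.2) (t.1 i)
    have := (frattini P).mul_mem h1 h2
    simpa [mul_assoc] using this⟩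
  one_smul t := rfl
  mul_smul α β t := rfl

theorem card_Tup {P : Type*} [Group P] [Finite P] (b : Set P) :
    Nat.card (Tup b) = Nat.card (frattini P) ^ b.ncard := by
  have e : Tup b ≃ (b → frattini P) :=
    { toFun := fun t i => ⟨_, t.2 i⟩
      invFun := fun s => ⟨fun i => (i : P) * (s i : P), fun i => by simp⟩
      left_inv := fun t => by
        apply Subtype.ext
        funext i
        simp
      right_inv := fun s => by
        funext i
        apply Subtype.ext
        simp }
  rw [Nat.card_congr e, Nat.card_fun, Nat.card_coe_set_eq]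

/-- Let `P` be a group of order `p^n` whose Frattini subgroup has index `p^r`. Then any group of automorphisms of `P` each of which induces the identity on the Frattini quotient has order dividing `p^(r(n-r))`; in particular it is a `p`-group. -/
theorem result {P : Type*} [Group P] [Finite P] {p n r : ℕ} [Fact p.Prime] (hP : Nat.card P = p ^ n) (hr : (frattini P).index = p ^ r) (A : Subgroup (MulAut P)) (hA : ∀ α ∈ A, ∀ x : P, α x * x⁻¹ ∈ frattini P) : Nat.card A ∣ p ^ (r * (n - r)) := by
  have hPp : IsPGroup p P := IsPGroup.of_card hP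
  obtain ⟨⟨b, -, hbcard, hb⟩, -⟩ := Solv.burnside_basis hPp hr (Set.univ : Set P) (by simp)
  have hΦ : Nat.card (frattini P) = p ^ (n - r) := by
    have h1 := (frattini P).card_mul_index
    rw [hr, hP] at h1
    have hrn : r ≤ n := by
      have : p ^ r ∣ p ^ n := Dvd.intro_left _ h1
      exact (Nat.pow_dvd_pow_iff_le_right (Fact.out : p.Prime).one_lt).mp this
    have h2 : p ^ n = p ^ (n - r) * p ^ r := by rw [← pow_add, Nat.sub_add_cancel hrn]
    rw [h2] at h1
    exact Nat.eq_of_mul_eq_mul_right (pow_pos (Fact.out : p.Prime).pos _) h1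
  letI := tupAction b A hA
  haveI : Finite (Tup b) := by unfold Tup; infer_instance
  have h1 : Nat.card A ∣ Nat.card (Tup b) := by
    apply card_dvd_of_free
    intro α t hαt
    have h2 : ∀ i : b, (α : MulAut P) (t.1 i) = t.1 i := by
      intro i
      exact congrFun (congrArg Subtype.val hαt) i
    have h3 : closure (Set.range t.1) = ⊤ := by
      rw [Solv.closure_eq_top_iff_frattini] at hb ⊢
      rw [← hb]
      congr 1
      ext y
      constructor
      · rintro ⟨_, ⟨i, rfl⟩, rfl⟩
        exact ⟨i, i.2, (QuotientGroup.eq).mpr (t.2 i)⟩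
      · rintro ⟨i, hi, rfl⟩
        exact ⟨_, ⟨⟨i, hi⟩, rfl⟩, ((QuotientGroup.eq).mpr (t.2 ⟨i, hi⟩)).symm⟩
    apply Subtype.ext
    apply MulEquiv.ext
    intro x
    have h4 : ((α : MulAut P) : P ≃* P).toMonoidHom = MonoidHom.id P := by
      apply MonoidHom.eq_of_eqOn_dense h3
      rintro _ ⟨i, rfl⟩
      exact h2 i
    exact DFunLike.congr_fun h4 x
  rw [card_Tup, hbcard, hΦ, ← pow_mul, mul_comm] at h1
  exact h1

end Cfsg.Agent.S4207
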