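import Cfsg.Statements.S5235
import Cfsg.Agent.H71.MetaTwo
import Cfsg.Agent.Fus.NormalChar
import Cfsg.Agent.Fus.Stab
import Cfsg.Agent.S4207

set_option autoImplicit false
open Cfsg

namespace Cfsg.Agent.S5235

open Cfsg.FusionSystem Cfsg.Agent.Fus Cfsg.Agent.H71

theorem isMetacyclic_of_equiv {A B : Type*} [Group A] [Group B] (e : A ≃* B) (h : Cfsg.IsMetacyclic A) :
    Cfsg.IsMetacyclic B := by
  obtain ⟨N, hN, hNc, hQ⟩ := h
  have hM : (N.map e.toMonoidHom).Normal := hN.map _ e.surjective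
  refine ⟨N.map e.toMonoidHom, hM, ?_, ?_⟩
  · exact isCyclic_of_surjective (N.equivMapOfInjective e.toMonoidHom e.injective)
      (N.equivMapOfInjective e.toMonoidHom e.injective).surjective
  · exact isCyclic_of_surjective (QuotientGroup.congr N (N.map e.toMonoidHom) e rfl)
      (QuotientGroup.congr N (N.map e.toMonoidHom) e rfl).surjective

section

variable {Ω : Type*} [Group Ω] {S : Subgroup Ω} {F : FusionSystem S}

/-- the restriction of an `F`-automorphism of `R` to an invariant subgroup -/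
theorem exists_restrict [Finite S] {R X : Subgroup Ω} (hRS : R ≤ S) (hXR : X ≤ R)
    (hX : ∀ κ ∈ F.autGroup R, ∀ x ∈ X, ofAut κ x ∈ X) {κ : MulAut R} (hκ : κ ∈ F.autGroup R) :
    ∃ β : MulAut X, ∀ x ∈ X, ofAut β x = ofAut κ x := by
  have hmap := isMap_ofAut hRS hκ
  have hQm := hmap.mono hXR
  have hXf : Finite X := finite_of_le (hXR.trans hRS)
  have himg : img X (ofAut κ) = X := hQm.img_eq (hX κ hκ)
  exact ⟨hQm.aut himg, fun x hx => hQm.ofAut_aut himg hx⟩

theorem pow_restrict {R X : Subgroup Ω} (hXR : X ≤ R) {κ : MulAut R} {β : MulAut X}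
    (h : ∀ x ∈ X, ofAut β x = ofAut κ x) (n : ℕ) : ∀ x ∈ X, ofAut (β ^ n) x = ofAut (κ ^ n) x := by
  intro x hx
  induction n with
  | zero => rw [pow_zero, pow_zero, ofAut_one hx, ofAut_one (hXR hx)]
  | succ n ih =>
    rw [pow_succ', pow_succ', ofAut_mul _ _ hx, ofAut_mul _ _ (hXR hx), ← ih, h _ (ofAut_mem _ hx)]

/-- automorphisms trivial on the Frattini quotient have `p`-power order -/
theorem pow_eq_one_of_frattini {X : Type*} [Group X] [Finite X] {p : ℕ} [Fact p.Prime] (hX : IsPGroup p X)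
    (β : MulAut X) (h : ∀ x, β x * x⁻¹ ∈ frattini X) : ∃ n, β ^ p ^ n = 1 := by
  obtain ⟨n, hn⟩ := IsPGroup.iff_card.1 hX
  obtain ⟨r, hr⟩ := hX.index (frattini X)
  let A : Subgroup (MulAut X) :=
    { carrier := {γ | ∀ x, γ x * x⁻¹ ∈ frattini X}
      one_mem' := fun x => by simp [one_mem]
      mul_mem' := by
        intro a b ha hb x
        have h1 := ha (b x)
        have h2 := hb x
        have := mul_mem h1 h2
        rwa [mul_assoc, inv_mul_cancel_left] at this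
      inv_mem' := by
        intro a ha x
        have h1 := ha (a⁻¹ x)
        rw [MulAut.apply_inv_self] at h1
        have := inv_mem h1
        rwa [mul_inv_rev, inv_inv] at this }
  have h1 := S4207.result hn hr A (fun α hα => hα)
  obtain ⟨k, -, hk⟩ := (Nat.dvd_prime_pow Fact.out).1 h1
  refine ⟨k, ?_⟩
  have h2 : (⟨β, h⟩ : A) ^ Nat.card A = 1 := pow_card_eq_one'
  rw [hk] at h2
  exact congrArg Subtype.val h2

end

/-- Let F be a saturated fusion system over a finite 2-group S (p = 2) and P a metacyclic subgroup of S strongly closed in F that is not dihedral, not semidihedral and not generalized quaternion (here the group of order 2, the Klein four-group and the cyclic group of order 4 also count as excluded). Then P is normal in F. -/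
theorem result {Ω : Type*} [Group Ω] {S : Subgroup Ω} [Finite S] (p : ℕ) [Fact p.Prime] (hS : IsPGroup p S) (F : Cfsg.FusionSystem S) (hF : F.IsSaturated p) (P : Subgroup Ω) (hP : F.StronglyClosed P) (hp : p = 2) (hm : Cfsg.IsMetacyclic ↥P) (hd : ¬ ∃ m : ℕ, Nonempty (↥P ≃* DihedralGroup m)) (hq : ¬ ∃ m : ℕ, Nonempty (↥P ≃* QuaternionGroup m)) (hsd : ¬ Cfsg.IsQuasiDihedral ↥P) : F.IsNormal P := by
  subst hp
  refine (isNormal_iff_stronglyClosed hS hF).2 ⟨hP, fun R hRc hRr => ?_⟩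
  by_contra hPR
  have hPS := hP.1
  have hRS := hRc.1
  have hPf : Finite P := finite_of_le hPS
  have hRf : Finite R := finite_of_le hRS
  have hSP := StronglyClosed.le_normalizer hP
  set X := P ⊓ R with hXd
  have hXR : X ≤ R := inf_le_right
  have hXP : X ≤ P := inf_le_left
  set T := P ⊓ Subgroup.normalizer (R : Set Ω) with hTd
  have hTP : T ≤ P := inf_le_left
  have hXT : X ≤ T := inf_le_inf_left P Subgroup.le_normalizer
  have hXf : Finite X := finite_of_le (hXR.trans hRS)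
  have hTf : Finite T := finite_of_le (hTP.trans hPS)
  have hXp : IsPGroup 2 X := hS.to_le (hXR.trans hRS)
  have hTp : IsPGroup 2 T := hS.to_le (hTP.trans hPS)
  obtain ⟨t₀, ht₀T, ht₀R⟩ : ∃ t ∈ T, t ∉ R := by
    have h1 := lt_sup_inf_normalizer hS hRS hPS (hRS.trans hSP) hPR
    by_contra h
    push Not at h
    exact h1.not_ge (sup_le le_rfl h)
  -- `X` is invariant
  have hXinv : ∀ κ ∈ F.autGroup R, ∀ x ∈ X, ofAut κ x ∈ X := by
    rintro κ hκ x ⟨hxP, hxR⟩
    exact ⟨(stronglyClosed_iff_isMap.1 hP).2 R _ (isMap_ofAut hRS hκ) x hxR hxP, ofAut_mem κ hxR⟩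
  set Q : Subgroup Ω := (frattini X).map X.subtype with hQd
  have hQX : Q ≤ X := Subgroup.map_subtype_le _
  have hQmem : ∀ x (hx : x ∈ X), x ∈ Q ↔ (⟨x, hx⟩ : X) ∈ frattini X := by
    intro x hx
    constructor
    · rintro ⟨y, hy, hyx⟩
      have : y = ⟨x, hx⟩ := Subtype.ext hyx
      rwa [← this]
    · intro h
      exact ⟨_, h, rfl⟩
  have hQinv : ∀ κ ∈ F.autGroup R, ∀ x ∈ Q, ofAut κ x ∈ Q := by
    intro κ hκ x hx
    obtain ⟨β, hβ⟩ := exists_restrict hRS hXR hXinv hκ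
    have hxX := hQX hx
    rw [← hβ x hxX, ofAut_apply β hxX, hQmem _ (β ⟨x, hxX⟩).2, frattini_equiv β]
    exact (hQmem x hxX).1 hx
  -- `T` acts on `R` modulo `X`
  have hTX : ∀ t ∈ T, ∀ x ∈ R, t * x * t⁻¹ * x⁻¹ ∈ X := by
    rintro t ⟨htP, htR⟩ x hx
    refine ⟨?_, R.mul_mem ((Subgroup.mem_normalizer_iff.1 htR x).1 hx) (R.inv_mem hx)⟩
    have h1 : t * x * t⁻¹ * x⁻¹ = t * (x * t⁻¹ * x⁻¹) := by group
    rw [h1]
    exact P.mul_mem htP ((Subgroup.mem_normalizer_iff.1 (hSP (hRS hx)) _).1 (P.inv_mem htP))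
  have hTnX : T ≤ Subgroup.normalizer (X : Set Ω) := by
    intro t ht
    apply mem_normalizer_of_conj
    intro x hx
    have := X.mul_mem (hTX t ht x (hXR hx)) hx
    rwa [inv_mul_cancel_right] at this
  -- elements acting as inner automorphisms
  have hinn : ∀ t ∈ S, ∀ (htR : t ∈ Subgroup.normalizer (R : Set Ω)), conjAut t htR ∈ Inn R → t ∈ R := by
    intro t htS htR h1
    rw [inn_eq_autInducedBy, mem_autInducedBy] at h1
    obtain ⟨b, hb, hb'⟩ := h1
    have h2 : b⁻¹ * t ∈ FusionSystem.centralizerIn S R := by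
      rw [mem_centralizerIn]
      refine ⟨S.mul_mem (S.inv_mem (hRS hb)) htS, fun z hz => ?_⟩
      have h3 := hb' ⟨z, hz⟩
      rw [coe_conjAut] at h3
      simp only at h3
      calc z * (b⁻¹ * t) = b⁻¹ * (b * z * b⁻¹) * t := by group
        _ = b⁻¹ * (t * z * t⁻¹) * t := by rw [h3]
        _ = _ := by group
    have h3 := centric_centralizer_le hRc h2
    have h4 : t = b * (b⁻¹ * t) := by group
    rw [h4]
    exact R.mul_mem hb h3
  -- the groups `D` and `K0`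
  let D : Subgroup (MulAut R) := actsTrivMod F P R hP hRS
  have hDmem : ∀ κ, κ ∈ D ↔ κ ∈ F.autGroup R ∧ ∀ x ∈ R, ofAut κ x * x⁻¹ ∈ P := fun κ => mem_actsTrivMod
  have hDX : ∀ κ ∈ D, ∀ x ∈ R, ofAut κ x * x⁻¹ ∈ X := fun κ hκ x hx =>
    ⟨((hDmem κ).1 hκ).2 x hx, R.mul_mem (ofAut_mem κ hx) (R.inv_mem hx)⟩
  have hDF : D ≤ F.autGroup R := fun κ hκ => ((hDmem κ).1 hκ).1
  let K : Subgroup (MulAut R) :=
    { carrier := {κ | κ ∈ D ∧ ∀ x ∈ X, ofAut κ x * x⁻¹ ∈ Q}
      one_mem' := ⟨D.one_mem, fun x hx => by rw [ofAut_one (hXR hx)]; simp [Q.one_mem]⟩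
      mul_mem' := by
        rintro a b ⟨ha, ha2⟩ ⟨hb, hb2⟩
        refine ⟨D.mul_mem ha hb, fun x hx => ?_⟩
        rw [ofAut_mul _ _ (hXR hx)]
        have h1 := ha2 _ (hXinv b (hDF hb) x hx)
        have h2 := hb2 x hx
        have := Q.mul_mem h1 h2
        rwa [mul_assoc, inv_mul_cancel_left] at this
      inv_mem' := by
        rintro a ⟨ha, ha2⟩
        refine ⟨D.inv_mem ha, fun x hx => ?_⟩
        have h1 := ha2 _ (hXinv a⁻¹ (hDF (D.inv_mem ha)) x hx)
        rw [ofAut_apply_inv a (hXR hx)] at h1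
        have := Q.inv_mem h1
        rwa [mul_inv_rev, inv_inv] at this }
  have hKmem : ∀ κ, κ ∈ K ↔ κ ∈ D ∧ ∀ x ∈ X, ofAut κ x * x⁻¹ ∈ Q := fun κ => Iff.rfl
  have hDn : ∀ α ∈ F.autGroup R, ∀ κ ∈ D, α * κ * α⁻¹ ∈ D := by
    intro α hα κ hκ
    rw [hDmem]
    refine ⟨mul_mem (mul_mem hα (hDF hκ)) (inv_mem hα), fun x hx => ?_⟩
    have hy := ofAut_mem α⁻¹ hx
    have h1 := hDX κ hκ _ hy
    have h2 := (hXinv α hα _ h1).1
    have h3 : ofAut (α * κ * α⁻¹) x * x⁻¹ = ofAut α (ofAut κ (ofAut α⁻¹ x) * (ofAut α⁻¹ x)⁻¹) := by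
      rw [ofAut_map_mul _ (ofAut_mem κ hy) (R.inv_mem hy), ofAut_map_inv' _ hy, ofAut_apply_inv _ hx,
        mul_assoc, ofAut_mul _ _ hx, ofAut_mul _ _ hx]
    rw [h3]; exact h2
  have hKn : ∀ α ∈ F.autGroup R, ∀ κ ∈ K, α * κ * α⁻¹ ∈ K := by
    intro α hα κ hκ
    refine ⟨hDn α hα κ hκ.1, fun x hxX => ?_⟩
    have hx := hXR hxX
    have hyX := hXinv α⁻¹ (inv_mem hα) x hxX
    have hy := hXR hyX
    have h1 := hκ.2 _ hyX
    have h2 := hQinv α hα _ h1
    have h3 : ofAut (α * κ * α⁻¹) x * x⁻¹ = ofAut α (ofAut κ (ofAut α⁻¹ x) * (ofAut α⁻¹ x)⁻¹) := by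
      rw [ofAut_map_mul _ (ofAut_mem κ hy) (R.inv_mem hy), ofAut_map_inv' _ hy, ofAut_apply_inv _ hx,
        mul_assoc, ofAut_mul _ _ hx, ofAut_mul _ _ hx]
    rw [h3]; exact h2
  have hKp : IsPGroup 2 K := by
    apply isPGroup_of_exists_pow
    intro κ hκ
    obtain ⟨β, hβ⟩ := exists_restrict hRS hXR hXinv (hDF hκ.1)
    obtain ⟨n, hn⟩ := pow_eq_one_of_frattini hXp β (by
      intro x
      rw [← hQmem _ (β x * x⁻¹).2]
      have := hκ.2 x x.2
      rw [← hβ x x.2, ofAut_coe] at this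
      exact this)
    obtain ⟨e, he⟩ := IsPGroup.iff_card.1 hXp
    refine ⟨n + e, ?_⟩
    have hκn : ∀ x ∈ X, ofAut (κ ^ 2 ^ n) x = x := by
      intro x hx
      rw [← pow_restrict hXR hβ _ x hx, hn, ofAut_one hx]
    have h1 := stab_step (κ := κ ^ 2 ^ n) (P := R) (A := X) (B := R) hXR le_rfl hκn
      (hDX _ (D.pow_mem hκ.1 _)) (N := 2 ^ e) (by
        intro x hx
        have h2 : (⟨x, hx⟩ : X) ^ Nat.card X = 1 := pow_card_eq_one'
        rw [he] at h2
        exact congrArg Subtype.val h2)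
    rw [pow_add, pow_mul]
    refine ofAut_injective fun x hx => ?_
    rw [h1 x hx, ofAut_one hx]
  have hKinn := radical_le hRr (K := K) (fun κ hκ => hDF hκ.1) hKn hKp
  have hDconj : ∀ t ∈ T, ∀ (htR : t ∈ Subgroup.normalizer (R : Set Ω)), conjAut t htR ∈ D := by
    intro t ht htR
    rw [hDmem]
    refine ⟨conjAut_mem_autGroup hRS (hPS (hTP ht)) htR, fun x hx => ?_⟩
    rw [ofAut_conjAut _ _ hx]
    exact (hTX t ht x hx).1
  -- claim 1
  have claim1 : ∀ t ∈ T, (∀ x ∈ X, t * x * t⁻¹ * x⁻¹ ∈ Q) → t ∈ X := by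
    intro t ht h
    have htR : t ∈ Subgroup.normalizer (R : Set Ω) := ht.2
    refine ⟨hTP ht, hinn t (hPS (hTP ht)) htR (hKinn ⟨hDconj t ht htR, fun x hx => ?_⟩)⟩
    rw [ofAut_conjAut _ _ (hXR hx)]
    exact h x hx
  -- claim 2
  have hDnp : ¬ IsPGroup 2 D := by
    intro h
    have h1 := radical_le hRr (K := D) hDF hDn h
    exact ht₀R (hinn t₀ (hPS (hTP ht₀T)) ht₀T.2 (h1 (hDconj t₀ ht₀T ht₀T.2)))
  obtain ⟨α, hαD, hαodd, hα1⟩ : ∃ α ∈ D, Odd (orderOf α) ∧ α ≠ 1 := by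
    have hfin : Finite (MulAut R) := finite_mulAut
    have h1 : ∃ δ : D, ∀ k : ℕ, δ ^ 2 ^ k ≠ 1 := by
      by_contra h
      push Not at h
      exact hDnp h
    obtain ⟨δ, hδ⟩ := h1
    obtain ⟨a, m, hm2, hdm⟩ := Nat.exists_eq_two_pow_mul_odd (n := orderOf (δ : MulAut R)) (orderOf_pos _).ne'
    refine ⟨(δ : MulAut R) ^ 2 ^ a, D.pow_mem δ.2 _, ?_, fun h => hδ a (Subtype.ext h)⟩
    rw [orderOf_pow' _ (by positivity), hdm]
    have : Nat.gcd (2 ^ a * m) (2 ^ a) = 2 ^ a := Nat.gcd_eq_right (dvd_mul_right _ _)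
    rw [this, Nat.mul_div_cancel_left _ (by positivity)]
    exact hm2
  -- odd order elements of `K` are trivial
  have hKodd : ∀ κ ∈ K, Odd (orderOf κ) → κ = 1 := by
    intro κ hκ hodd
    obtain ⟨k, hk⟩ := hKp ⟨κ, hκ⟩
    have hk' : κ ^ 2 ^ k = 1 := congrArg Subtype.val hk
    have h1 := orderOf_dvd_of_pow_eq_one hk'
    have h2 : Nat.Coprime (orderOf κ) (2 ^ k) := (Nat.Coprime.pow_right k hodd.coprime_two_right)
    have h3 := Nat.eq_one_of_dvd_coprimes h2 dvd_rfl h1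
    exact orderOf_eq_one_iff.1 h3
  obtain ⟨β, hβ⟩ := exists_restrict hRS hXR hXinv (hDF hαD)
  have hTm : Cfsg.IsMetacyclic T := by
    have h1 := H65.isMetacyclic_subgroup hm (T.subgroupOf P)
    exact isMetacyclic_of_equiv (Subgroup.subgroupOfEquivOfLe hTP) h1
  have hXm : Cfsg.IsMetacyclic X := by
    have h1 := H65.isMetacyclic_subgroup hm (X.subgroupOf P)
    exact isMetacyclic_of_equiv (Subgroup.subgroupOfEquivOfLe hXP) h1
  have hidx := index_frattini_le hXp hXm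
  have hne : X ≠ T := by
    intro h
    rw [← h] at ht₀T
    exact ht₀R ht₀T.2
  have claim2 : ∀ x : X, β x * x⁻¹ ∈ frattini X → x ∈ frattini X := by
    intro x hx
    by_contra hxn
    have h1 := sq_trivial_of_fix hXp hidx β x hxn hx
    have h2 : α ^ 2 ∈ K := by
      refine ⟨D.pow_mem hαD 2, fun y hy => ?_⟩
      rw [← pow_restrict hXR hβ 2 y hy, ofAut_apply _ hy]
      exact ⟨_, h1 ⟨y, hy⟩, rfl⟩
    have h3 : orderOf (α ^ 2) = orderOf α := by
      apply Nat.Coprime.orderOf_pow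
      exact hαodd.coprime_two_right
    have h4 := hKodd _ h2 (by rw [h3]; exact hαodd)
    rw [h4, orderOf_one] at h3
    exact hα1 (orderOf_eq_one_iff.1 h3.symm)
  obtain ⟨B, hBT, hB, hBn⟩ := exists_eight' hXT hTnX hTp hTm hne β claim1 claim2
  have hBP := hBT.trans hTP
  rcases cases_of_eight (hS.to_le hPS) hm (B.subgroupOf P)
      (by rw [Nat.card_congr (Subgroup.subgroupOfEquivOfLe hBP).toEquiv, hB]) (by
        intro h
        apply hBn
        refine ⟨⟨fun a b => ?_⟩⟩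
        have := h.is_comm.comm ((Subgroup.subgroupOfEquivOfLe hBP).symm a) ((Subgroup.subgroupOfEquivOfLe hBP).symm b)
        rw [← map_mul, ← map_mul] at this
        exact (Subgroup.subgroupOfEquivOfLe hBP).symm.injective this) with h | h | h
  · exact hd h
  · exact hq h
  · exact hsd h

end Cfsg.Agent.S5235
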