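import Cfsg.Statements.S0981
import Mathlib
import Cfsg.Agent.S0999
import Cfsg.Agent.H34.Sharp3PGL
import Cfsg.Agent.H37.OrdA

set_option autoImplicit false
open Cfsg

namespace Cfsg.Agent.S0981

/-- A simple group of order 4080 is isomorphic to the projective special linear group of dimension 2 over the field with 16 elements. -/
theorem result {G : Type*} [Group G] [Finite G] [IsSimpleGroup G] (h : Nat.card G = 4080) {F : Type*} [Field F] [Fintype F] (hF : Fintype.card F = 16) : Nonempty (G ≃* Matrix.ProjectiveSpecialLinearGroup (Fin 2) F) := by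
  have hnp : ¬ (Nat.card G).Prime := by rw [h]; norm_num
  have hnc : ¬ IsCyclic G := by
    intro hc
    apply Cfsg.Agent.H37.Ord.noncomm (G := G) hnp
    infer_instance
  rcases Cfsg.Agent.S0999.result (G := G) hnc 17 (by norm_num) (by rw [h]; norm_num) (by rw [h]; norm_num) with
    ⟨K, iK, iKf, hK, -, ⟨φ⟩⟩ | ⟨m, K, iK, iKf, hK, hm, -, ⟨φ⟩⟩
  · exfalso
    have h1 := Cfsg.Agent.H14.SubField.card_PSL2_odd (F := K) (by rw [hK]; decide)
    rw [← Nat.card_congr φ.toEquiv, hK, h] at h1
    omega
  · have h2 : Fintype.card K = Fintype.card F := by rw [hK, hF]; omega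
    obtain ⟨ψ⟩ := Cfsg.Agent.H34.psl_transport (FiniteField.ringEquivOfCardEq h2)
    exact ⟨φ.trans ψ⟩

end Cfsg.Agent.S0981
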