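import Cfsg.Statements.S0910
import Cfsg.Agent.Char.BurnsideClass
import Cfsg.Agent.Char.Degree
import Cfsg.Agent.Blk.Local
import Cfsg.Agent.Char.Linear

set_option autoImplicit false
open Cfsg

namespace Cfsg.Agent.S0910

/-- Let G be a non-abelian finite simple group and p a prime. If an irreducible character χ lies in the principal block (relative to a maximal ideal of the algebraic integers containing p) and χ 1 is a power of p, then χ is the principal character. -/
theorem result {G : Type*} [Group G] [Finite G] (p : ℕ) [Fact p.Prime] (M : Ideal Cfsg.AlgInt) (hM : Cfsg.IsPModular p M) [IsSimpleGroup G] (hna : ∃ a b : G, a * b ≠ b * a) (χ : Cfsg.IrrCharacter G) (hχ : χ ∈ Cfsg.principalBlock M G) (k : ℕ) (hdeg : (χ : G → ℂ) 1 = (p : ℂ) ^ k) : (χ : G → ℂ) = fun _ => 1 := by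
  classical
  have := Fintype.ofFinite G
  have hMp : M.IsPrime := hM.2.1.isPrime
  have hp : p.Prime := Fact.out
  have hχirr := χ.2
  obtain ⟨n, ρ, hρ, hρχ⟩ := χ.2
  by_contra hne
  have hnk : n = p ^ k := by
    have h1 : ρ.character 1 = (n : ℂ) := by
      rw [Representation.char_one, Module.finrank_fin_fun]
    rw [hρχ, hdeg] at h1
    exact_mod_cast h1.symm
  -- a linear character is trivial
  have hn1 : n ≠ 1 := by
    intro hn
    have h1 : (χ : G → ℂ) 1 = 1 := by
      rw [← hρχ, Representation.char_one, Module.finrank_fin_fun, hn, Nat.cast_one]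
    have hc : Cfsg.IsCharacter G (χ : G → ℂ) := ⟨n, ρ, hρχ⟩
    rcases (inferInstance : (Cfsg.Agent.Char.linHom hc h1).ker.Normal).eq_bot_or_eq_top with h | h
    · obtain ⟨a, b, hab⟩ := hna
      apply hab
      apply (MonoidHom.ker_eq_bot_iff _).mp h
      rw [map_mul, map_mul, mul_comm]
    · apply hne
      funext x
      have h2 : x ∈ (Cfsg.Agent.Char.linHom hc h1).ker := by rw [h]; exact Subgroup.mem_top x
      exact MonoidHom.mem_ker.mp h2
  have hk : k ≠ 0 := by
    rintro rfl
    exact hn1 (by rw [hnk, pow_zero])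
  have hdvd : p ∣ Nat.card G := by
    have h1 := Cfsg.Agent.Char.finrank_dvd_card ρ
    rw [Module.finrank_fin_fun, hnk] at h1
    exact (dvd_pow_self p hk).trans h1
  obtain ⟨P⟩ : Nonempty (Sylow p G) := inferInstance
  have hPnt : Nontrivial P := by
    rw [← Finite.one_lt_card_iff_nontrivial, P.card_eq_multiplicity]
    have h1 : (Nat.card G).factorization p ≠ 0 := (hp.factorization_pos_of_dvd Nat.card_pos.ne' hdvd).ne'
    exact Nat.one_lt_pow h1 hp.one_lt
  have hcnt : Nontrivial (Subgroup.center P) := P.2.center_nontrivial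
  obtain ⟨⟨z0, hz0⟩, hz01⟩ := exists_ne (1 : Subgroup.center P)
  obtain ⟨z, hz⟩ : ∃ z : G, z = (z0 : G) := ⟨_, rfl⟩
  have hz1 : z ≠ 1 := by
    intro h
    apply hz01
    apply Subtype.ext
    apply Subtype.ext
    rw [← hz, h]
    rfl
  have hPC : (P : Subgroup G) ≤ Subgroup.centralizer ({z} : Set G) := by
    intro x hx
    rw [Subgroup.mem_centralizer_singleton_iff]
    have h1 := Subgroup.mem_center_iff.mp hz0 ⟨x, hx⟩
    rw [hz]
    exact congrArg Subtype.val h1
  have hidx : ¬ p ∣ (Subgroup.centralizer ({z} : Set G)).index := by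
    intro h
    exact P.not_dvd_index (h.trans (Subgroup.index_dvd_of_le hPC))
  have hcop : Nat.Coprime (Module.finrank ℂ (Fin n → ℂ)) (Subgroup.centralizer ({z} : Set G)).index := by
    rw [Module.finrank_fin_fun, hnk]
    exact ((Nat.Prime.coprime_iff_not_dvd hp).mpr hidx).pow_left k
  rcases Cfsg.Agent.Char.character_eq_zero_or_norm_eq ρ z hcop with h0 | h0
  · have h1 := hχ z
    simp only [Cfsg.centralChar] at h1
    rw [← hρχ, h0] at h1
    simp only [mul_one, mul_zero, zero_div, sub_zero, div_one] at h1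
    exact hidx ((Cfsg.Agent.Blk.mli_natCast_iff hM _).mp h1)
  · have hmem : z ∈ Cfsg.Agent.Char.scalarSubgroup ρ :=
      (Cfsg.Agent.Char.rep_norm_character_eq_iff ρ z).mp h0
    have htop : Cfsg.Agent.Char.scalarSubgroup ρ = ⊤ := by
      rcases (Cfsg.Agent.Char.scalarSubgroup_normal ρ).eq_bot_or_eq_top with h | h
      · rw [h, Subgroup.mem_bot] at hmem
        exact absurd hmem hz1
      · exact h
    have h1 := Cfsg.Agent.Char.finrank_eq_one_of_scalar ρ (fun g => by rw [htop]; exact Subgroup.mem_top g)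
    rw [Module.finrank_fin_fun] at h1
    exact hn1 h1

end Cfsg.Agent.S0910
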