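import Cfsg.Statements.S1010
import Cfsg.Agent.H73.Syl21c

set_option autoImplicit false
open Cfsg

namespace Cfsg.Agent.S1010

open Subgroup MulAction
open Cfsg.Agent.H73.Syl21 Cfsg.Agent.H73

section

variable {G : Type*} [Group G] [Finite G]

/-- A Sylow 2-subgroup fixing `P`. -/
theorem isMulCommutative_sylow (h21 : Nat.card (Sylow 5 G) = 21)
    (hf : ∀ g : G, (∀ Q : Sylow 5 G, g • Q = Q) → g = 1)
    (hres : ∀ K : Subgroup G, K.Normal → ¬ 5 ∣ K.index → K = ⊤)
    (P : Sylow 5 G) (S : Sylow 2 G) (hS : (S : Subgroup G) ≤ stabilizer G P) {a b : G}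
    (ha : a ∈ S) (hb : b ∈ S) : a * b = b * a := by
  classical
  have hfin : Fintype (Sylow 5 G) := Fintype.ofFinite _
  have hfO : Fintype (OrbAct.Orb (PP P) (XX P)) := Fintype.ofFinite _
  have h5 := card_eq_five h21 hf P
  have h4 : Fintype.card (OrbAct.Orb (PP P) (XX P)) = 4 := by
    rw [← Nat.card_eq_fintype_card]; exact card_orb h21 h5
  have hsq : ∀ (s : G) (hs : s ∈ S), sig P ⟨s, hS hs⟩ * sig P ⟨s, hS hs⟩ = 1 := by
    intro s hs
    obtain ⟨k, hk⟩ := Transfer.isPGroup_mem_pow S.2 hs
    exact y4_sq h4 _ (sign_sig h21 hres h5 _) (k := k) (by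
      rw [← map_pow]
      have : (⟨s, hS hs⟩ : stabilizer G P) ^ 2 ^ k = 1 := Subtype.ext hk
      rw [this, map_one])
  set A : stabilizer G P := ⟨a, hS ha⟩ with hA
  set B : stabilizer G P := ⟨b, hS hb⟩ with hB
  have hcomm : sig P A * sig P B = sig P B * sig P A := by
    have h1 := hsq a ha
    have h2 := hsq b hb
    have h3 := hsq (a * b) (mul_mem ha hb)
    have h4 : (⟨a * b, hS (mul_mem ha hb)⟩ : stabilizer G P) = A * B := rfl
    rw [h4, map_mul] at h3
    have e1 : sig P A = (sig P A)⁻¹ := eq_inv_of_mul_eq_one_left h1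
    have e2 : sig P B = (sig P B)⁻¹ := eq_inv_of_mul_eq_one_left h2
    have e3 : sig P A * sig P B = (sig P A * sig P B)⁻¹ := eq_inv_of_mul_eq_one_left h3
    rw [e3, mul_inv_rev, ← e1, ← e2]
  have hphi : phi P A * phi P B = phi P B * phi P A := (card_mulAut (q := 5) h5).2 _ _
  have hz : A * B * A⁻¹ * B⁻¹ = 1 := by
    have hzS : a * b * a⁻¹ * b⁻¹ ∈ S := mul_mem (mul_mem (mul_mem ha hb) (inv_mem ha)) (inv_mem hb)
    obtain ⟨k, hk⟩ := Transfer.isPGroup_mem_pow S.2 hzS
    apply mem_P_of_sig hf h5 (m := 2 ^ k) (Nat.Coprime.pow_right k (by norm_num))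
    · exact Subtype.ext hk
    · rw [← phi_eq_one_iff, map_mul, map_mul, map_mul, map_inv, map_inv, hphi]
      group
    · rw [map_mul, map_mul, map_mul, map_inv, map_inv, hcomm]
      group
  have h6 : A * B = B * A := by
    rw [mul_assoc, ← mul_inv_rev, mul_inv_eq_one] at hz
    exact hz
  exact congrArg Subtype.val h6

/-- A Sylow 2-subgroup is cyclic only if it is trivial. -/
theorem not_isCyclic (hres : ∀ K : Subgroup G, K.Normal → ¬ 5 ∣ K.index → K = ⊤) (S : Sylow 2 G)
    (hS : (S : Subgroup G) ≠ ⊥) : ¬ IsCyclic S := by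
  intro hc
  have h2 : 2 ∣ Nat.card G := by
    obtain ⟨k, hk⟩ := IsPGroup.iff_card.1 S.2
    have hk0 : k ≠ 0 := by
      rintro rfl
      apply hS
      rw [pow_zero, card_eq_one] at hk
      exact hk
    have : 2 ∣ Nat.card S := by rw [hk]; exact dvd_pow_self 2 hk0
    exact this.trans (card_subgroup_dvd_card _)
  have hmf : (Nat.card G).minFac = 2 := (Nat.minFac_eq_two_iff _).2 h2
  have h3 := IsCyclic.isComplement' hmf hc
  set K := (MonoidHom.transferSylow S (hc.normalizer_le_centralizer hmf)).ker
  have h4 : K.index = Nat.card S := h3.symm.index_eq_card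
  have h5 : K = ⊤ := by
    apply hres K inferInstance
    intro h
    obtain ⟨k, hk⟩ := IsPGroup.iff_card.1 S.2
    rw [h4, hk] at h
    have := Nat.Prime.dvd_of_dvd_pow (by norm_num) h
    norm_num at this
  rw [h5, index_top] at h4
  apply hS
  rw [← card_eq_one]
  exact h4.symm

/-- The normalizer of a Sylow 5-subgroup centralizes it. -/
theorem stabilizer_le_centralizer (h21 : Nat.card (Sylow 5 G) = 21)
    (hf : ∀ g : G, (∀ Q : Sylow 5 G, g • Q = Q) → g = 1)
    (hres : ∀ K : Subgroup G, K.Normal → ¬ 5 ∣ K.index → K = ⊤)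
    (P : Sylow 5 G) (S : Sylow 2 G) (hS : (S : Subgroup G) ≤ stabilizer G P) :
    stabilizer G P ≤ centralizer ((P : Subgroup G) : Set G) := by
  classical
  have hfin : Fintype (Sylow 5 G) := Fintype.ofFinite _
  have hfO : Fintype (OrbAct.Orb (PP P) (XX P)) := Fintype.ofFinite _
  have h5 := card_eq_five h21 hf P
  have h4 : Fintype.card (OrbAct.Orb (PP P) (XX P)) = 4 := by
    rw [← Nat.card_eq_fintype_card]; exact card_orb h21 h5
  have hMA := card_mulAut (q := 5) h5
  -- S centralizes P
  have hSC : (S : Subgroup G) ≤ centralizer ((P : Subgroup G) : Set G) := by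
    by_cases hS1 : (S : Subgroup G) = ⊥
    · rw [hS1]; exact bot_le
    -- an element acting without fixed points on the orbits
    have hw : ∃ w : G, ∃ hw : w ∈ S, sig P ⟨w, hS hw⟩ ≠ 1 := by
      by_contra hc
      push Not at hc
      apply not_isCyclic hres S hS1
      have hcy : IsCyclic (MulAut (P : Subgroup G)) := isCyclic_mulAut (q := 5) h5
      let f : S →* MulAut (P : Subgroup G) := (phi P).comp (Subgroup.inclusion hS)
      refine isCyclic_of_injective f ?_
      rw [injective_iff_map_eq_one]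
      rintro ⟨s, hs⟩ hfs
      obtain ⟨k, hk⟩ := Transfer.isPGroup_mem_pow S.2 hs
      have h6 : (⟨s, hS hs⟩ : stabilizer G P) = 1 := by
        apply mem_P_of_sig hf h5 (m := 2 ^ k) (Nat.Coprime.pow_right k (by norm_num))
        · exact Subtype.ext hk
        · rw [← phi_eq_one_iff]
          exact hfs
        · exact hc s hs
      have h7 : s = 1 := congrArg Subtype.val h6
      exact Subtype.ext h7
    obtain ⟨w, hwS, hw1⟩ := hw
    obtain ⟨k, hk⟩ := Transfer.isPGroup_mem_pow S.2 hwS
    have hwfix : ∀ Q : Sylow 5 G, w • Q = Q → Q = P := by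
      intro Q hQ
      by_contra hQP
      apply hw1
      apply y4_fix h4 _ (sign_sig h21 hres h5 _) (k := k) (by
        rw [← map_pow]
        have : (⟨w, hS hwS⟩ : stabilizer G P) ^ 2 ^ k = 1 := Subtype.ext hk
        rw [this, map_one])
      refine ⟨Quotient.mk'' (⟨Q, hQP⟩ : XX P), ?_⟩
      rw [sig_apply]
      apply OrbAct.smul_mk_eq_of_fixed
      exact Subtype.ext hQ
    have hNS : normalizer ((S : Subgroup G) : Set G) ≤ stabilizer G P := by
      intro g hg
      rw [mem_stabilizer_iff]
      apply hwfix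
      have h6 : g⁻¹ * w * g ∈ (S : Subgroup G) := by
        have := (mem_normalizer_iff.1 (inv_mem hg) w).1 hwS
        simpa using this
      have h7 : (g⁻¹ * w * g) • P = P := hS h6
      rw [mul_smul, mul_smul, inv_smul_eq_iff] at h7
      exact h7
    have hcomm : IsMulCommutative (S : Subgroup G) :=
      ⟨⟨fun a b => Subtype.ext (isMulCommutative_sylow h21 hf hres P S hS a.2 b.2)⟩⟩
    have hctl := Transfer.controlsFusion_normalizer_of_isMulCommutative S hcomm
    have hres2 : Cfsg.pResidual 2 (⊤ : Subgroup G) = ⊤ := by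
      have h8 : Cfsg.pResidual 2 G = ⊤ := by
        apply hres _ inferInstance
        intro h
        obtain ⟨j, hj⟩ := Transfer.isPGroup_quotient_pResidual (p := 2) (G := G) |>.exists_card_eq
        rw [← index_eq_card] at hj
        rw [hj] at h
        have := Nat.Prime.dvd_of_dvd_pow (by norm_num) h
        norm_num at this
      have h9 := Transfer.pResidual_map_equiv (p := 2) (Subgroup.topEquiv (G := G)).symm
      rw [← h9, h8]
      rw [← MonoidHom.range_eq_map]
      exact MonoidHom.range_eq_top.2 (Subgroup.topEquiv (G := G)).symm.surjective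
    have h10 := Transfer.inf_le_commutator_of_control hctl ⊤ hres2
    rw [inf_top_eq] at h10
    refine h10.trans ?_
    rw [commutator_le]
    intro s hs g hg
    have hs' : s ∈ stabilizer G P := hS hs
    have hg' : g ∈ stabilizer G P := hNS hg
    have h11 : phi P (⟨s, hs'⟩ * ⟨g, hg'⟩ * ⟨s, hs'⟩⁻¹ * ⟨g, hg'⟩⁻¹) = 1 := by
      rw [map_mul, map_mul, map_mul, map_inv, map_inv, hMA.2 (phi P ⟨s, hs'⟩)]
      group
    rw [phi_eq_one_iff] at h11
    exact h11
  -- index argument
  have h12 : (phi P).ker = ⊤ := by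
    rw [← index_eq_one]
    have h13 : (phi P).ker.index ∣ 4 := by
      rw [index_ker]
      have := card_subgroup_dvd_card (phi P).range
      rw [hMA.1] at this
      exact this
    have h14 : ((S : Subgroup G).subgroupOf (stabilizer G P)) ≤ (phi P).ker := by
      intro s hs
      rw [MonoidHom.mem_ker, phi_eq_one_iff]
      exact hSC hs
    have h15 : (phi P).ker.index ∣ (S : Subgroup G).index :=
      (index_dvd_of_le h14).trans (relIndex_dvd_index_of_le hS)
    have h16 : ¬ 2 ∣ (phi P).ker.index := fun h => S.not_dvd_index (h.trans h15)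
    have h17 : (phi P).ker.index ∣ 2 ^ 2 := h13
    obtain ⟨j, hj, hj'⟩ := (Nat.dvd_prime_pow Nat.prime_two).1 h17
    rw [hj'] at h16 ⊢
    rcases Nat.eq_zero_or_pos j with h | h
    · rw [h, pow_zero]
    · exact absurd (dvd_pow_self 2 h.ne') h16
  intro g hg
  have : (⟨g, hg⟩ : stabilizer G P) ∈ (phi P).ker := by rw [h12]; trivial
  rw [MonoidHom.mem_ker, phi_eq_one_iff] at this
  exact this

/-- The normalizers of the Sylow 5-subgroups have order prime to 7. -/
theorem not_seven_dvd (h21 : Nat.card (Sylow 5 G) = 21)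
    (hf : ∀ g : G, (∀ Q : Sylow 5 G, g • Q = Q) → g = 1) (P : Sylow 5 G) :
    ¬ 7 ∣ Nat.card (stabilizer G P) := by
  classical
  intro h
  have hfO : Fintype (OrbAct.Orb (PP P) (XX P)) := Fintype.ofFinite _
  have h5 := card_eq_five h21 hf P
  have hMA := card_mulAut (q := 5) h5
  have h7 : Fact (Nat.Prime 7) := ⟨by norm_num⟩
  obtain ⟨u, hu⟩ := exists_prime_orderOf_dvd_card' 7 h
  have hu7 : u ^ 7 = 1 := by rw [← hu]; exact pow_orderOf_eq_one u
  have key : ∀ {A : Type _} [Group A] [Finite A] (f : stabilizer G P →* A),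
      Nat.Coprime 7 (Nat.card A) → f u = 1 := by
    intro A _ _ f hA
    rw [← orderOf_eq_one_iff]
    exact Nat.eq_one_of_dvd_coprimes hA (orderOf_dvd_of_pow_eq_one (by rw [← map_pow, hu7, map_one]))
      (orderOf_dvd_natCard _)
  have h8 : u = 1 := by
    apply mem_P_of_sig hf h5 (m := 7) (by norm_num) hu7
    · rw [← phi_eq_one_iff]
      apply key
      rw [hMA.1]
      norm_num
    · apply key
      rw [Nat.card_perm, card_orb h21 h5]
      decide
  rw [h8, orderOf_one] at hu
  norm_num at hu

theorem false_of_minimal (h21 : Nat.card (Sylow 5 G) = 21)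
    (hf : ∀ g : G, (∀ Q : Sylow 5 G, g • Q = Q) → g = 1)
    (hres : ∀ K : Subgroup G, K.Normal → ¬ 5 ∣ K.index → K = ⊤) : False := by
  obtain ⟨S⟩ : Nonempty (Sylow 2 G) := inferInstance
  have hfix : (fixedPoints (S : Subgroup G) (Sylow 5 G)).Nonempty :=
    S.2.nonempty_fixed_point_of_prime_not_dvd_card _ (by rw [h21]; norm_num)
  obtain ⟨P, hP⟩ := hfix
  have hS : (S : Subgroup G) ≤ stabilizer G P := fun s hs => hP ⟨s, hs⟩
  have hNC := stabilizer_le_centralizer h21 hf hres P S hS
  have h5 := card_eq_five h21 hf P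
  have hnpc : Cfsg.HasNormalPComplement 5 G := by
    apply Transfer.hasNPC_of_normalizer_le_centralizer P
    rw [Sylow.stabilizer_eq_normalizer] at hNC
    exact hNC
  obtain ⟨K, hK, hK5, k, hKk⟩ := Transfer.hasNPC_iff_exists.1 hnpc
  have hKk0 : k ≠ 0 := by
    rintro rfl
    rw [pow_zero, index_eq_one] at hKk
    rw [hKk, card_top] at hK5
    have h6 : 5 ∣ Nat.card G := by
      rw [← h5]; exact card_subgroup_dvd_card _
    have := Nat.Coprime.eq_one_of_dvd (hK5.symm) h6
    norm_num at this
  have h7 : Fact (Nat.Prime 7) := ⟨by norm_num⟩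
  have hG : Nat.card G = 21 * Nat.card (stabilizer G P) := by
    have h8 := (stabilizer G P).index_mul_card
    rw [Sylow.stabilizer_eq_normalizer] at h8 ⊢
    have h9 := P.card_eq_index_normalizer
    rw [h21] at h9
    rw [← h8, ← h9]
  have h7K : 7 ∣ Nat.card K := by
    have h8 := K.card_mul_index
    have h9 : 7 ∣ Nat.card K * K.index := by
      rw [h8, hG]
      exact (by norm_num : 7 ∣ 21).mul_right _
    rcases (Nat.Prime.dvd_mul (by norm_num)).1 h9 with h | h
    · exact h
    · rw [hKk] at h
      have := Nat.Prime.dvd_of_dvd_pow (by norm_num) h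
      norm_num at this
  obtain ⟨R⟩ : Nonempty (Sylow 7 K) := inferInstance
  set R0 : Subgroup G := (R : Subgroup K).map K.subtype with hR0
  have hR0c : Nat.card R0 = 7 := by
    have h8 : Nat.card R0 = Nat.card R := card_map_of_injective K.subtype_injective
    obtain ⟨j, hj⟩ := IsPGroup.iff_card.1 R.2
    have h9 : j ≤ 1 := by
      by_contra hc
      push Not at hc
      have h10 : 7 ^ 2 ∣ Nat.card G := by
        refine (pow_dvd_pow 7 hc).trans ?_
        rw [← hj]
        exact (card_subgroup_dvd_card _).trans (card_subgroup_dvd_card _)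
      rw [hG] at h10
      apply not_seven_dvd h21 hf P
      have h11 : 7 * 7 ∣ 7 * (3 * Nat.card (stabilizer G P)) := by
        rw [← mul_assoc]; exact h10
      have h12 := (Nat.mul_dvd_mul_iff_left (by norm_num)).1 h11
      rcases (Nat.Prime.dvd_mul (by norm_num)).1 h12 with h | h
      · norm_num at h
      · exact h
    have h10 : j ≠ 0 := by
      rintro rfl
      have := R.dvd_card_of_dvd_card h7K
      rw [hj] at this
      norm_num at this
    have h11 : j = 1 := by omega
    rw [h8, hj, h11, pow_one]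
  have hsup := R.normalizer_sup_eq_top
  have h5N : 5 ∣ Nat.card (normalizer (R0 : Set G)) := by
    have h8 : K.relIndex (normalizer (R0 : Set G)) = K.index := by
      rw [← relIndex_sup_right (H := normalizer (R0 : Set G)) (K := K)]
      rw [hsup, relIndex_top_right]
    have h9 : K.relIndex (normalizer (R0 : Set G)) ∣ Nat.card (normalizer (R0 : Set G)) :=
      index_dvd_card _
    rw [h8, hKk] at h9
    exact (dvd_pow_self 5 hKk0).trans h9
  obtain ⟨x, hx⟩ := exists_prime_orderOf_dvd_card' 5 h5N
  -- x centralizes R0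
  have h6 := card_mulAut (q := 7) hR0c
  have hx1 : normalizerMonoidHom R0 x = 1 := by
    rw [← orderOf_eq_one_iff]
    refine Nat.eq_one_of_dvd_coprimes (a := 5) (b := 6) (by norm_num) ?_ ?_
    · apply orderOf_dvd_of_pow_eq_one
      rw [← map_pow, ← hx, pow_orderOf_eq_one, map_one]
    · have := orderOf_dvd_natCard (normalizerMonoidHom R0 x)
      rw [h6.1] at this
      exact this
  have hx2 : (x : G) ∈ centralizer (R0 : Set G) := by
    rw [← MonoidHom.mem_ker, normalizerMonoidHom_ker, mem_subgroupOf] at hx1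
    exact hx1
  have hxo : orderOf (x : G) = 5 := by rw [orderOf_coe, hx]
  obtain ⟨P1, hP1⟩ := (IsPGroup.of_card (p := 5) (n := 1) (G := zpowers (x : G)) (by
    rw [Nat.card_zpowers, hxo]; norm_num)).exists_le_sylow
  have hP1' : zpowers (x : G) = P1 := by
    apply eq_of_le_of_card_ge hP1
    rw [Nat.card_zpowers, hxo, card_eq_five h21 hf P1]
  have hR0P1 : R0 ≤ stabilizer G P1 := by
    rw [Sylow.stabilizer_eq_normalizer]
    change R0 ≤ normalizer ((P1 : Subgroup G) : Set G)
    rw [← hP1']
    refine le_trans ?_ (centralizer_le_normalizer _)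
    intro r hr
    rw [mem_centralizer_iff]
    rintro _ ⟨m, rfl⟩
    have : Commute (x : G) r := ((mem_centralizer_iff.1 hx2) r hr).symm
    exact (this.zpow_left m).eq
  apply not_seven_dvd h21 hf P1
  rw [← hR0c]
  exact card_dvd_of_le hR0P1

end

theorem aux.{u} (n : ℕ) : ∀ (G : Type u) [Group G] [Finite G], Nat.card G = n →
    Nat.card (Sylow 5 G) ≠ 21 := by
  induction n using Nat.strong_induction_on with
  | h n ih =>
    intro G _ _ hn h21
    have hres : ∀ K : Subgroup G, K.Normal → ¬ 5 ∣ K.index → K = ⊤ := by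
      intro K hK h5
      by_contra hKt
      have h1 : Nat.card K < n := by
        rw [← hn]
        apply lt_of_le_of_ne (Nat.le_of_dvd Nat.card_pos (card_subgroup_dvd_card K))
        intro h
        exact hKt (eq_top_of_card_eq K h)
      exact ih _ h1 K rfl ((SylCount.card_sylow_eq_of_coprime_index K h5).trans h21)
    have hf : ∀ g : G, (∀ Q : Sylow 5 G, g • Q = Q) → g = 1 := by
      intro g hg
      set K : Subgroup G := (MulAction.toPermHom G (Sylow 5 G)).ker with hK
      have hKm : ∀ x : G, x ∈ K ↔ ∀ Q : Sylow 5 G, x • Q = Q := by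
        intro x
        rw [hK, MonoidHom.mem_ker]
        exact Equiv.Perm.ext_iff
      by_contra hg1
      have h1 : Nat.card (G ⧸ K) < n := by
        rw [← hn, ← K.card_mul_index, index_eq_card]
        apply lt_mul_of_one_lt_left Nat.card_pos
        rw [one_lt_card_iff_ne_bot]
        intro h
        apply hg1
        have : g ∈ K := (hKm g).2 hg
        rw [h, mem_bot] at this
        exact this
      refine ih _ h1 (G ⧸ K) rfl ((SylCount.card_sylow_quotient_ker K ?_).trans h21)
      intro P x hx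
      exact Sylow.smul_eq_iff_mem_normalizer.1 ((hKm x).1 hx P)
    exact false_of_minimal h21 hf hres

/-- No finite group has exactly twenty-one Sylow 5-subgroups. -/
theorem result {G : Type*} [Group G] [Finite G] : Nat.card (Sylow 5 G) ≠ 21 :=
  aux _ G rfl

end Cfsg.Agent.S1010
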