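import Cfsg.Statements.S0976
import Cfsg.Agent.H37.OrdC
import Cfsg.Agent.H37.OrdF
import Cfsg.Agent.BT.Cof5

set_option autoImplicit false
open Cfsg

namespace Cfsg.Agent.S0976

open Subgroup Cfsg.Agent.BR Cfsg.Agent.BT Cfsg.Agent.H37.Ord

/-- No finite simple group has order 4032 = 2^6 * 3^2 * 7. -/
theorem result {G : Type*} [Group G] [Finite G] [IsSimpleGroup G] : Nat.card G ≠ 4032 := by
  classical
  intro hG
  haveI := Fintype.ofFinite G
  haveI : Fact (Nat.Prime 7) := ⟨by norm_num⟩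
  obtain ⟨S⟩ : Nonempty (Sylow 7 G) := inferInstance
  have hnp : ¬ (Nat.card G).Prime := by rw [hG]; norm_num
  obtain ⟨hS, hC, n, hn, h⟩ := Cfsg.Agent.H37.Ord.arith_one (G := G) 2 3 7 6 2 (by norm_num) (by norm_num) (by norm_num)
    (by norm_num) (by norm_num) (by rw [hG]; norm_num) hnp S
  have hm := h.hm
  have h1 := h.n_mod
  have h2 := h.e_two
  have h3 : Cfsg.Agent.BR.ind (S : Subgroup G) ≤ 6 := Nat.le_of_dvd (by norm_num) h.e_dvd
  have h4 := h.e_dvd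
  have he : ind (S : Subgroup G) = 2 := by
    generalize Cfsg.Agent.BR.ind (S : Subgroup G) = e at hm h1 h2 h3 h4
    rw [mul_one] at hm
    interval_cases e <;> omega
  rw [he] at hm
  have hn288 : n = 288 := by omega
  obtain ⟨B⟩ := CycG.nonempty_data hS
  let d : Two 7 (S : Subgroup G) := ⟨⟨hS, hC, B, by norm_num⟩, he⟩
  have hperf := perfect_of_simple (noncomm hnp)
  obtain ⟨χ, ψ, δ, δ₀, -, hδ, hδ₀, hdeg, hmod, hf, hd, hf1, hd1, hcount⟩ := d.degrees hperf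
  rw [← hn, hn288] at hf hd
  obtain ⟨τ, hτ, hτP⟩ := d.exists_τ
  obtain ⟨a, -, -, hc⟩ := hcount τ hτ hτP τ (d.orderOf_τ hτ hτP)
  have hc := hc (IsConj.refl τ)
  have hcpos : (0 : ℤ) < Nat.card (centralizer ({τ} : Set G)) := by exact_mod_cast Nat.card_pos
  rw [hG] at hc
  generalize (Nat.card (centralizer ({τ} : Set G)) : ℤ) = c at hc hcpos
  generalize dg χ = f at *
  generalize dg ψ = e at *
  have hfm : f ∈ Nat.divisors 576 := Nat.mem_divisors.mpr ⟨hf, by norm_num⟩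
  have hem : e ∈ Nat.divisors 576 := Nat.mem_divisors.mpr ⟨hd, by norm_num⟩
  have hdiv : Nat.divisors 576 = {1, 2, 3, 4, 6, 8, 9, 12, 16, 18, 24, 32, 36, 48, 64, 72, 96, 144, 192, 288, 576} := by
    decide +kernel
  have key : f = 8 ∧ e = 9 ∧ δ = 1 ∧ δ₀ = -1 := by
    have hfe : (δ = 1 ∧ δ₀ = -1 ∧ e = f + 1) ∨ (δ = -1 ∧ δ₀ = 1 ∧ e + 1 = f) := by
      rcases hδ with rfl | rfl <;> rcases hδ₀ with rfl | rfl <;> omega
    rw [hdiv] at hfm
    simp only [Finset.mem_insert, Finset.mem_singleton] at hfm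
    rcases hfe with ⟨rfl, rfl, rfl⟩ | ⟨rfl, rfl, hfe⟩
    · rcases hfm with rfl | rfl | rfl | rfl | rfl | rfl | rfl | rfl | rfl | rfl | rfl | rfl | rfl | rfl | rfl | rfl | rfl | rfl |
        rfl | rfl | rfl <;> first | omega | (exfalso; revert hd; norm_num) | (refine ⟨rfl, rfl, rfl, rfl⟩)
    · exfalso
      have : e = f - 1 := by omega
      subst this
      rcases hfm with rfl | rfl | rfl | rfl | rfl | rfl | rfl | rfl | rfl | rfl | rfl | rfl | rfl | rfl | rfl | rfl | rfl | rfl |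
        rfl | rfl | rfl <;> first | omega | (revert hd; norm_num)
  obtain ⟨rfl, rfl, rfl, rfl⟩ := key
  push_cast at hc
  have hc2 : c ^ 2 = 8 * (a - 8) ^ 2 := by nlinarith
  have ha8 : a - 8 ≠ 0 := by
    intro h0
    rw [h0] at hc2
    nlinarith
  have hdvd : (a - 8) ^ 2 ∣ c ^ 2 := ⟨8, by rw [hc2]; ring⟩
  rw [Int.pow_dvd_pow_iff two_ne_zero] at hdvd
  obtain ⟨j, rfl⟩ := hdvd
  have hj : j ^ 2 = 8 := by
    have h5 : (a - 8) ^ 2 * (j ^ 2) = (a - 8) ^ 2 * 8 := by rw [← mul_pow, hc2]; ring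
    exact mul_left_cancel₀ (pow_ne_zero 2 ha8) h5
  have hj1 : j ≤ 2 := by nlinarith
  have hj2 : -2 ≤ j := by nlinarith
  interval_cases j <;> omega

end Cfsg.Agent.S0976
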