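import Cfsg.Statements.S4488
import Cfsg.Agent.H75.SchurBound

set_option autoImplicit false
open Cfsg

namespace Cfsg.Agent.S4488

open Cfsg.Agent.CharBase Cfsg.Agent.H75

/-- Let the finite group G have a faithful p-rational character χ of degree n (all values of χ lie in the field generated over ℚ by a root of unity of order prime to p), and let p^a be the order of a Sylow p-subgroup of G. Then a ≤ Σ_{i ≥ 0} ⌊n / ((p − 1)·p^i)⌋ (a finite sum; the terms vanish once (p − 1)p^i > n). -/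
theorem result {G : Type*} [Group G] [Finite G] (p : ℕ) (hp : p.Prime) (χ : G → ℂ) (hχ : Cfsg.IsCharacter G χ) (hfaith : ∀ g : G, χ g = χ 1 → g = 1) (hrat : (∃ r : ℕ, 0 < r ∧ ¬ p ∣ r ∧ ∀ g : G, χ g ∈ IntermediateField.adjoin ℚ ({Complex.exp (2 * Real.pi * Complex.I / r)} : Set ℂ))) (n : ℕ) (hn : Cfsg.charDegree χ = n) : (Nat.card G).factorization p ≤ ∑ i ∈ Finset.range (n + 1), n / ((p - 1) * p ^ i) := by
  classical
  haveI : Fact p.Prime := ⟨hp⟩
  obtain ⟨r, hr0, hr, hrat'⟩ := hrat
  have hdeg : χ 1 = n := by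
    obtain ⟨k, hk⟩ := exists_nat_degree hχ
    rw [hk, ← hn, charDegree_eq hk]
  obtain ⟨Q⟩ : Nonempty (Sylow p G) := inferInstance
  have hQcard : Nat.card (Q : Subgroup G) = p ^ (Nat.card G).factorization p :=
    Sylow.card_eq_multiplicity Q
  set m := n / (p - 1) with hm
  have hp1 : 0 < p - 1 := Nat.sub_pos_of_lt hp.one_lt
  have hdvd : Nat.card (Q : Subgroup G) ∣ p ^ m * m.factorial := by
    refine card_dvd_of_values (n := n) (isCharacter_restrict hχ (Q : Subgroup G)) hdeg ?_
    intro x hx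
    obtain ⟨k, hk⟩ := (IsPGroup.iff_orderOf.mp Q.isPGroup') x
    rw [← Subgroup.orderOf_coe] at hk
    have hx1 : (x : G) ≠ 1 := fun h => hx (Subtype.ext h)
    obtain ⟨k', rfl⟩ : ∃ k', k = k' + 1 := by
      refine Nat.exists_eq_succ_of_ne_zero ?_
      rintro rfl
      rw [pow_zero, orderOf_eq_one_iff] at hk
      exact hx1 hk
    obtain ⟨u, hu1, hu2, hu3⟩ := prational_form hχ hp hr0 hr hrat' hdeg hk
      (fun h => hx1 (hfaith _ h))
    exact ⟨u, hu1, (Nat.le_div_iff_mul_le hp1).mpr (by rw [mul_comm]; exact hu2), hu3⟩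
  rw [hQcard] at hdvd
  have h1 : (Nat.card G).factorization p ≤ (p ^ m * m.factorial).factorization p :=
    (hp.pow_dvd_iff_le_factorization
      (Nat.mul_ne_zero (pow_ne_zero _ hp.ne_zero) m.factorial_ne_zero)).mp hdvd
  refine h1.trans ?_
  rw [Nat.factorization_mul (pow_ne_zero _ hp.ne_zero) m.factorial_ne_zero, Finsupp.add_apply,
    Nat.Prime.factorization_pow hp, Finsupp.single_eq_same, Nat.factorization_def _ hp,
    padicValNat_factorial (b := n + 1)]
  · have h2 : ∀ i, n / ((p - 1) * p ^ i) = m / p ^ i := fun i => by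
      rw [hm, Nat.div_div_eq_div_mul]
    simp only [h2]
    rw [Finset.range_eq_Ico, Finset.sum_eq_sum_Ico_succ_bot (Nat.succ_pos n)]
    simp
  · refine Nat.lt_succ_of_le ((Nat.log_le_self p m).trans ?_)
    exact Nat.div_le_self n _

end Cfsg.Agent.S4488
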