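import Cfsg.Statements.S0977
import Cfsg.Agent.H37.OrdC
import Cfsg.Agent.H37.OrdG
import Cfsg.Agent.BT.Cof5
import Cfsg.Agent.S4488

set_option autoImplicit false
open Cfsg

namespace Cfsg.Agent.S0977

open Subgroup Cfsg.Agent.BR Cfsg.Agent.BT Cfsg.Agent.H37.Ord
open Cfsg.Agent.CharBase (oneIrr)

lemma degs (f : ℕ) (hf : f ∣ 864) (h65 : f ≤ 65) (h1 : 1 < f) (δ : ℤ) (hδ : δ = 1 ∨ δ = -1) (hm : (5 : ℤ) ∣ f - δ) :
    δ * f = 6 ∨ δ * f = 16 ∨ δ * f = 36 ∨ δ * f = -4 ∨ δ * f = -9 ∨ δ * f = -24 ∨ δ * f = -54 := by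
  have h : ∀ f ∈ Nat.divisors 864, f ≤ 65 → 1 < f → (f % 5 = 1 → f = 6 ∨ f = 16 ∨ f = 36) ∧
    (f % 5 = 4 → f = 4 ∨ f = 9 ∨ f = 24 ∨ f = 54) := by decide +kernel
  obtain ⟨h2, h3⟩ := h f (Nat.mem_divisors.mpr ⟨hf, by norm_num⟩) h65 h1
  rcases hδ with rfl | rfl
  · rcases h2 (by omega) with rfl | rfl | rfl <;> norm_num
  · rcases h3 (by omega) with rfl | rfl | rfl | rfl <;> norm_num

def Chk (s1 s2 s3 s4 : ℤ) : Prop :=
      (s1 = -4 ∧ s2 ≠ -4 ∧ s3 ≠ -4 ∧ s4 ≠ -4) ∨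
      (s2 = -4 ∧ s1 ≠ -4 ∧ s3 ≠ -4 ∧ s4 ≠ -4) ∨
      (s3 = -4 ∧ s1 ≠ -4 ∧ s2 ≠ -4 ∧ s4 ≠ -4) ∨
      (s4 = -4 ∧ s1 ≠ -4 ∧ s2 ≠ -4 ∧ s3 ≠ -4) ∨
      ((s2 = 16 ∨ s2 = -4) ∧ (s3 = 16 ∨ s3 = -4) ∧ (s4 = 16 ∨ s4 = -4) ∧ s1 = -9) ∨
      ((s1 = 16 ∨ s1 = -4) ∧ (s3 = 16 ∨ s3 = -4) ∧ (s4 = 16 ∨ s4 = -4) ∧ s2 = -9) ∨
      ((s1 = 16 ∨ s1 = -4) ∧ (s2 = 16 ∨ s2 = -4) ∧ (s4 = 16 ∨ s4 = -4) ∧ s3 = -9) ∨
      ((s1 = 16 ∨ s1 = -4) ∧ (s2 = 16 ∨ s2 = -4) ∧ (s3 = 16 ∨ s3 = -4) ∧ s4 = -9) ∨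
      ((s3 = 16 ∨ s3 = -4) ∧ (s4 = 16 ∨ s4 = -4) ∧ s1 = -24 ∧ s2 = -9) ∨
      ((s2 = 16 ∨ s2 = -4) ∧ (s4 = 16 ∨ s4 = -4) ∧ s1 = -24 ∧ s3 = -9) ∨
      ((s2 = 16 ∨ s2 = -4) ∧ (s3 = 16 ∨ s3 = -4) ∧ s1 = -24 ∧ s4 = -9) ∨
      ((s3 = 16 ∨ s3 = -4) ∧ (s4 = 16 ∨ s4 = -4) ∧ s2 = -24 ∧ s1 = -9) ∨
      ((s1 = 16 ∨ s1 = -4) ∧ (s4 = 16 ∨ s4 = -4) ∧ s2 = -24 ∧ s3 = -9) ∨
      ((s1 = 16 ∨ s1 = -4) ∧ (s3 = 16 ∨ s3 = -4) ∧ s2 = -24 ∧ s4 = -9) ∨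
      ((s2 = 16 ∨ s2 = -4) ∧ (s4 = 16 ∨ s4 = -4) ∧ s3 = -24 ∧ s1 = -9) ∨
      ((s1 = 16 ∨ s1 = -4) ∧ (s4 = 16 ∨ s4 = -4) ∧ s3 = -24 ∧ s2 = -9) ∨
      ((s1 = 16 ∨ s1 = -4) ∧ (s2 = 16 ∨ s2 = -4) ∧ s3 = -24 ∧ s4 = -9) ∨
      ((s2 = 16 ∨ s2 = -4) ∧ (s3 = 16 ∨ s3 = -4) ∧ s4 = -24 ∧ s1 = -9) ∨
      ((s1 = 16 ∨ s1 = -4) ∧ (s3 = 16 ∨ s3 = -4) ∧ s4 = -24 ∧ s2 = -9) ∨
      ((s1 = 16 ∨ s1 = -4) ∧ (s2 = 16 ∨ s2 = -4) ∧ s4 = -24 ∧ s3 = -9)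

set_option synthInstance.maxHeartbeats 400000 in
set_option synthInstance.maxSize 4096 in
instance (s1 s2 s3 s4 : ℤ) : Decidable (Chk s1 s2 s3 s4) := by unfold Chk; infer_instance

def SS : List ℤ := [6, 16, 36, -4, -9, -24, -54]

lemma chk_all : ∀ s1 ∈ SS, ∀ s2 ∈ SS, ∀ s3 ∈ SS, ∀ s4 ∈ SS, 1 + s1 + s2 + s3 + s4 = 0 → Chk s1 s2 s3 s4 := by
  decide +kernel

def Q (s u : ℤ) : Prop := (s = 16 → u = 0) ∧ (s = -4 → u = 0) ∧ (s = -24 → 8 ∣ u ∧ |u| < 24) ∧ (s = -9 → |u| < 9)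

lemma close0 (c u v : ℤ) (h8 : 8 ∣ u) (hu : |u| < 24) (hv : |v| < 9) (hs : 1 + u + v = 0)
    (hE : 5 * (c : ℚ) ^ 2 = 4320 * (1 - (u : ℚ) ^ 2 / 24 - (v : ℚ) ^ 2 / 9) ∨
      0 = 4320 * (1 - (u : ℚ) ^ 2 / 24 - (v : ℚ) ^ 2 / 9)) : False := by
  have hE' : 5 * c ^ 2 = 4320 - 180 * u ^ 2 - 480 * v ^ 2 ∨ 0 = 4320 - 180 * u ^ 2 - 480 * v ^ 2 := by
    rcases hE with h | h
    · left
      have : (5 * (c : ℚ) ^ 2) = 4320 - 180 * u ^ 2 - 480 * v ^ 2 := by rw [h]; ring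
      exact_mod_cast this
    · right
      have : (0 : ℚ) = 4320 - 180 * u ^ 2 - 480 * v ^ 2 := by rw [h]; ring
      exact_mod_cast this
  obtain ⟨k, rfl⟩ := h8
  rw [abs_lt] at hu hv
  have hk1 : -2 ≤ k := by omega
  have hk2 : k ≤ 2 := by omega
  have hv' : v = -1 - 8 * k := by omega
  subst hv'
  have hk3 : k = 0 ∨ k = -1 := by omega
  rcases hk3 with rfl | rfl
  · norm_num at hE'
    have hc : c ^ 2 = 768 := by linarith
    have hc1 : c ≤ 27 := by nlinarith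
    have hc2 : -27 ≤ c := by nlinarith
    interval_cases c <;> omega
  · norm_num at hE'
    nlinarith [sq_nonneg c]

lemma z0 {s u : ℤ} (h : Q s u) (hs : s = 16 ∨ s = -4) : u = 0 := by
  rcases hs with hs | hs
  · exact h.1 hs
  · exact h.2.1 hs

lemma closeA (c s1 s2 s3 s4 u1 u2 u3 u4 : ℤ) (Q1 : Q s1 u1) (Q2 : Q s2 u2) (Q3 : Q s3 u3) (Q4 : Q s4 u4)
    (h1 : s1 = 16 ∨ s1 = -4) (h2 : s2 = 16 ∨ s2 = -4) (h3 : s3 = 16 ∨ s3 = -4) (h4 : s4 = -9)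
    (hs : 1 + u1 + u2 + u3 + u4 = 0)
    (hE : 5 * (c : ℚ) ^ 2 = 4320 * (1 + (u1 : ℚ) ^ 2 / s1 + (u2 : ℚ) ^ 2 / s2 + (u3 : ℚ) ^ 2 / s3 + (u4 : ℚ) ^ 2 / s4) ∨
      0 = 4320 * (1 + (u1 : ℚ) ^ 2 / s1 + (u2 : ℚ) ^ 2 / s2 + (u3 : ℚ) ^ 2 / s3 + (u4 : ℚ) ^ 2 / s4)) : False := by
  have e1 := z0 Q1 h1
  have e2 := z0 Q2 h2
  have e3 := z0 Q3 h3
  subst e1 e2 e3 h4
  refine close0 c 0 u4 (dvd_zero 8) (by norm_num) (Q4.2.2.2 rfl) (by linarith) ?_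
  rcases hE with h | h
  · left; rw [h]; push_cast; ring
  · right; rw [h]; push_cast; ring

lemma closeD (c s1 s2 s3 s4 u1 u2 u3 u4 : ℤ) (Q1 : Q s1 u1) (Q2 : Q s2 u2) (Q3 : Q s3 u3) (Q4 : Q s4 u4)
    (h1 : s1 = 16 ∨ s1 = -4) (h2 : s2 = 16 ∨ s2 = -4) (h3 : s3 = -24) (h4 : s4 = -9)
    (hs : 1 + u1 + u2 + u3 + u4 = 0)
    (hE : 5 * (c : ℚ) ^ 2 = 4320 * (1 + (u1 : ℚ) ^ 2 / s1 + (u2 : ℚ) ^ 2 / s2 + (u3 : ℚ) ^ 2 / s3 + (u4 : ℚ) ^ 2 / s4) ∨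
      0 = 4320 * (1 + (u1 : ℚ) ^ 2 / s1 + (u2 : ℚ) ^ 2 / s2 + (u3 : ℚ) ^ 2 / s3 + (u4 : ℚ) ^ 2 / s4)) : False := by
  have e1 := z0 Q1 h1
  have e2 := z0 Q2 h2
  subst e1 e2 h3 h4
  obtain ⟨h8, h24⟩ := Q3.2.2.1 rfl
  refine close0 c u3 u4 h8 h24 (Q4.2.2.2 rfl) (by linarith) ?_
  rcases hE with h | h
  · left; rw [h]; push_cast; ring
  · right; rw [h]; push_cast; ring

lemma fin (c s1 s2 s3 s4 u1 u2 u3 u4 : ℤ) (hc : Chk s1 s2 s3 s4)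
    (hone1 : ¬ (s1 = -4 ∧ s2 ≠ -4 ∧ s3 ≠ -4 ∧ s4 ≠ -4)) (hone2 : ¬ (s2 = -4 ∧ s1 ≠ -4 ∧ s3 ≠ -4 ∧ s4 ≠ -4))
    (hone3 : ¬ (s3 = -4 ∧ s1 ≠ -4 ∧ s2 ≠ -4 ∧ s4 ≠ -4)) (hone4 : ¬ (s4 = -4 ∧ s1 ≠ -4 ∧ s2 ≠ -4 ∧ s3 ≠ -4))
    (Q1 : Q s1 u1) (Q2 : Q s2 u2) (Q3 : Q s3 u3) (Q4 : Q s4 u4)
    (hs : 1 + u1 + u2 + u3 + u4 = 0)
    (hE : 5 * (c : ℚ) ^ 2 = 4320 * (1 + (u1 : ℚ) ^ 2 / s1 + (u2 : ℚ) ^ 2 / s2 + (u3 : ℚ) ^ 2 / s3 + (u4 : ℚ) ^ 2 / s4) ∨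
      0 = 4320 * (1 + (u1 : ℚ) ^ 2 / s1 + (u2 : ℚ) ^ 2 / s2 + (u3 : ℚ) ^ 2 / s3 + (u4 : ℚ) ^ 2 / s4)) : False := by
  unfold Chk at hc
  rcases hc with h | h | h | h | h | h | h | h | h | h | h | h | h | h | h | h | h | h | h | h
  · exact hone1 h
  · exact hone2 h
  · exact hone3 h
  · exact hone4 h
  · obtain ⟨g1, g2, g3, g4⟩ := h
    exact closeA c (s2) (s3) (s4) (s1) (u2) (u3) (u4) (u1) Q2 Q3 Q4 Q1 g1 g2 g3 g4 (by linarith) (by rcases hE with h | h; exacts [Or.inl (by linarith), Or.inr (by linarith)])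
  · obtain ⟨g1, g2, g3, g4⟩ := h
    exact closeA c (s1) (s3) (s4) (s2) (u1) (u3) (u4) (u2) Q1 Q3 Q4 Q2 g1 g2 g3 g4 (by linarith) (by rcases hE with h | h; exacts [Or.inl (by linarith), Or.inr (by linarith)])
  · obtain ⟨g1, g2, g3, g4⟩ := h
    exact closeA c (s1) (s2) (s4) (s3) (u1) (u2) (u4) (u3) Q1 Q2 Q4 Q3 g1 g2 g3 g4 (by linarith) (by rcases hE with h | h; exacts [Or.inl (by linarith), Or.inr (by linarith)])
  · obtain ⟨g1, g2, g3, g4⟩ := h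
    exact closeA c (s1) (s2) (s3) (s4) (u1) (u2) (u3) (u4) Q1 Q2 Q3 Q4 g1 g2 g3 g4 (by linarith) (by rcases hE with h | h; exacts [Or.inl (by linarith), Or.inr (by linarith)])
  · obtain ⟨g1, g2, g3, g4⟩ := h
    exact closeD c (s3) (s4) (s1) (s2) (u3) (u4) (u1) (u2) Q3 Q4 Q1 Q2 g1 g2 g3 g4 (by linarith) (by rcases hE with h | h; exacts [Or.inl (by linarith), Or.inr (by linarith)])
  · obtain ⟨g1, g2, g3, g4⟩ := h
    exact closeD c (s2) (s4) (s1) (s3) (u2) (u4) (u1) (u3) Q2 Q4 Q1 Q3 g1 g2 g3 g4 (by linarith) (by rcases hE with h | h; exacts [Or.inl (by linarith), Or.inr (by linarith)])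
  · obtain ⟨g1, g2, g3, g4⟩ := h
    exact closeD c (s2) (s3) (s1) (s4) (u2) (u3) (u1) (u4) Q2 Q3 Q1 Q4 g1 g2 g3 g4 (by linarith) (by rcases hE with h | h; exacts [Or.inl (by linarith), Or.inr (by linarith)])
  · obtain ⟨g1, g2, g3, g4⟩ := h
    exact closeD c (s3) (s4) (s2) (s1) (u3) (u4) (u2) (u1) Q3 Q4 Q2 Q1 g1 g2 g3 g4 (by linarith) (by rcases hE with h | h; exacts [Or.inl (by linarith), Or.inr (by linarith)])
  · obtain ⟨g1, g2, g3, g4⟩ := h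
    exact closeD c (s1) (s4) (s2) (s3) (u1) (u4) (u2) (u3) Q1 Q4 Q2 Q3 g1 g2 g3 g4 (by linarith) (by rcases hE with h | h; exacts [Or.inl (by linarith), Or.inr (by linarith)])
  · obtain ⟨g1, g2, g3, g4⟩ := h
    exact closeD c (s1) (s3) (s2) (s4) (u1) (u3) (u2) (u4) Q1 Q3 Q2 Q4 g1 g2 g3 g4 (by linarith) (by rcases hE with h | h; exacts [Or.inl (by linarith), Or.inr (by linarith)])
  · obtain ⟨g1, g2, g3, g4⟩ := h
    exact closeD c (s2) (s4) (s3) (s1) (u2) (u4) (u3) (u1) Q2 Q4 Q3 Q1 g1 g2 g3 g4 (by linarith) (by rcases hE with h | h; exacts [Or.inl (by linarith), Or.inr (by linarith)])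
  · obtain ⟨g1, g2, g3, g4⟩ := h
    exact closeD c (s1) (s4) (s3) (s2) (u1) (u4) (u3) (u2) Q1 Q4 Q3 Q2 g1 g2 g3 g4 (by linarith) (by rcases hE with h | h; exacts [Or.inl (by linarith), Or.inr (by linarith)])
  · obtain ⟨g1, g2, g3, g4⟩ := h
    exact closeD c (s1) (s2) (s3) (s4) (u1) (u2) (u3) (u4) Q1 Q2 Q3 Q4 g1 g2 g3 g4 (by linarith) (by rcases hE with h | h; exacts [Or.inl (by linarith), Or.inr (by linarith)])
  · obtain ⟨g1, g2, g3, g4⟩ := h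
    exact closeD c (s2) (s3) (s4) (s1) (u2) (u3) (u4) (u1) Q2 Q3 Q4 Q1 g1 g2 g3 g4 (by linarith) (by rcases hE with h | h; exacts [Or.inl (by linarith), Or.inr (by linarith)])
  · obtain ⟨g1, g2, g3, g4⟩ := h
    exact closeD c (s1) (s3) (s4) (s2) (u1) (u3) (u4) (u2) Q1 Q3 Q4 Q2 g1 g2 g3 g4 (by linarith) (by rcases hE with h | h; exacts [Or.inl (by linarith), Or.inr (by linarith)])
  · obtain ⟨g1, g2, g3, g4⟩ := h
    exact closeD c (s1) (s2) (s4) (s3) (u1) (u2) (u4) (u3) Q1 Q2 Q4 Q3 g1 g2 g3 g4 (by linarith) (by rcases hE with h | h; exacts [Or.inl (by linarith), Or.inr (by linarith)])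

lemma mkQ (δ a : ℤ) (f : ℕ) (m : ℤ) (hδ : δ = 1 ∨ δ = -1) (hdvd : (f : ℤ) ∣ m * a) (hm : m ∣ 135) (hlt : |a| < f) :
    Q (δ * f) (δ * a) := by
  have hc2 : IsCoprime (2 : ℤ) m := by
    obtain ⟨k, hk⟩ := hm
    exact ⟨-67, k, by linarith⟩
  have key : ∀ j : ℕ, ((2 : ℤ) ^ j) ∣ m * a → (2 : ℤ) ^ j ∣ a := fun j h =>
    (hc2.pow_left (m := j)).dvd_of_dvd_mul_left h
  rw [abs_lt] at hlt
  refine ⟨fun h => ?_, fun h => ?_, fun h => ?_, fun h => ?_⟩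
  · rcases hδ with rfl | rfl
    · have hf : (f : ℤ) = 16 := by linarith
      rw [hf] at hdvd hlt
      have := key 4 (by norm_num; exact hdvd)
      norm_num at this
      omega
    · have : (f : ℤ) = -16 := by linarith
      omega
  · rcases hδ with rfl | rfl
    · have : (f : ℤ) = -4 := by linarith
      omega
    · have hf : (f : ℤ) = 4 := by linarith
      rw [hf] at hdvd hlt
      have := key 2 (by norm_num; exact hdvd)
      norm_num at this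
      omega
  · rcases hδ with rfl | rfl
    · have : (f : ℤ) = -24 := by linarith
      omega
    · have hf : (f : ℤ) = 24 := by linarith
      rw [hf] at hdvd hlt
      have h8 : (2 : ℤ) ^ 3 ∣ m * a := Dvd.dvd.trans (by norm_num) hdvd
      have := key 3 h8
      norm_num at this
      refine ⟨by omega, ?_⟩
      rw [abs_lt]; omega
  · rcases hδ with rfl | rfl
    · have : (f : ℤ) = -9 := by linarith
      omega
    · have hf : (f : ℤ) = 9 := by linarith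
      rw [hf] at hlt
      rw [abs_lt]; omega

lemma schur {G : Type*} [Group G] [Fintype G] [IsSimpleGroup G] (hG : Nat.card G = 4320) {P : Subgroup G}
    [Fact (Nat.Prime 5)] (st : Ex 5 P) (ξ : IrrCharacter G) (hξ : ξ ≠ oneIrr G) (h4 : dg ξ = 4)
    (huniq : ∀ ζ : IrrCharacter G, (ζ ∈ st.B.X ∨ ζ ∈ st.B.Y) → dg ζ = 4 → ζ = ξ) : False := by
  have hint : ∀ g : G, ∃ m : ℤ, (ξ : G → ℂ) g = m := by
    intro g
    refine Char.exists_int_of_fixed (n := Nat.card G) Nat.card_pos.ne' _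
      (Char.char_mem_closure (CharBase.irr_isCharacter ξ) g dvd_rfl) ?_
    intro k σ hk hσ
    rw [Char.map_char_eq (CharBase.irr_isCharacter ξ) g (orderOf_dvd_natCard g) σ hσ]
    have h1 := Char.isIrrCharacter_pow ξ.2 hk
    let ξ' : IrrCharacter G := ⟨_, h1⟩
    have h2 : dg ξ' = dg ξ := by
      have h3 : (ξ' : G → ℂ) 1 = (ξ : G → ℂ) 1 := by
        change (ξ : G → ℂ) (1 ^ k) = _
        rw [one_pow]
      rw [dg_eq, dg_eq] at h3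
      exact_mod_cast h3
    have h3 : ξ' = ξ := by
      rcases st.mem_or ξ' with h | h | h
      · exact huniq _ (Or.inl h) (h2.trans h4)
      · exact huniq _ (Or.inr h) (h2.trans h4)
      · rw [h2, h4] at h
        omega
    have h4 : (ξ' : G → ℂ) g = (ξ : G → ℂ) g := by rw [h3]
    exact h4
  have hfaith : ∀ g : G, (ξ : G → ℂ) g = (ξ : G → ℂ) 1 → g = 1 := by
    intro g hg
    by_contra hne
    exact hξ (eq_one_of_ker ξ hne hg)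
  have := S4488.result 3 Nat.prime_three (ξ : G → ℂ) (CharBase.irr_isCharacter ξ) hfaith
    ⟨1, one_pos, by norm_num, fun g => by
      obtain ⟨m, hm⟩ := hint g
      rw [hm]
      exact intCast_mem _ m⟩ 4 h4
  rw [hG] at this
  have h2 : (4320 : ℕ).factorization 3 = 3 := by
    rw [show (4320 : ℕ) = 3 ^ 3 * 160 by norm_num, Nat.factorization_mul (by norm_num) (by norm_num),
      Nat.factorization_pow]
    simp [Nat.Prime.factorization Nat.prime_three, Nat.factorization_eq_zero_of_not_dvd (show ¬ 3 ∣ 160 by norm_num)]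
  rw [h2] at this
  revert this
  decide

/-- There is no simple group of order 4320 = 2^5 * 3^3 * 5. -/
theorem result {G : Type*} [Group G] [Finite G] [IsSimpleGroup G] : Nat.card G ≠ 4320 := by
  classical
  intro hG
  haveI := Fintype.ofFinite G
  haveI : Fact (Nat.Prime 5) := ⟨by norm_num⟩
  haveI : Fintype (IrrCharacter G) := Fintype.ofFinite _
  obtain ⟨S⟩ : Nonempty (Sylow 5 G) := inferInstance
  have hnp : ¬ (Nat.card G).Prime := by rw [hG]; norm_num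
  obtain ⟨hS, hC, n, hn, h⟩ := Cfsg.Agent.H37.Ord.arith_one (G := G) 2 3 5 5 3 (by norm_num) (by norm_num) (by norm_num)
    (by norm_num) (by norm_num) (by rw [hG]; norm_num) hnp S
  have hm := h.hm
  have h1 := h.n_mod
  have h2 := h.e_two
  have h3 : Cfsg.Agent.BR.ind (S : Subgroup G) ≤ 4 := Nat.le_of_dvd (by norm_num) h.e_dvd
  have h4 := h.e_dvd
  have he : ind (S : Subgroup G) = 4 := by
    generalize Cfsg.Agent.BR.ind (S : Subgroup G) = e at hm h1 h2 h3 h4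
    rw [mul_one] at hm
    interval_cases e <;> omega
  rw [he] at hm
  have hn216 : n = 216 := by omega
  obtain ⟨B⟩ := CycG.nonempty_data hS
  let st : Ex 5 (S : Subgroup G) := ⟨hS, hC, B, by norm_num⟩
  have hperf := perfect_of_simple (noncomm hnp)
  have hcX := B.cardX
  have hcY := B.cardY
  rw [he] at hcX hcY
  have hcY' : B.Y.card = 1 := by omega
  obtain ⟨ψ, hψ⟩ := Finset.card_eq_one.mp hcY'
  have hψY : ψ ∈ B.Y := by rw [hψ]; exact Finset.mem_singleton_self _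
  have hcE : (B.X.erase (oneIrr G)).card = 3 := by
    rw [Finset.card_erase_of_mem B.one_mem, hcX]
  obtain ⟨χ1, χ2, χ3, h12, h13, h23, hE⟩ := Finset.card_eq_three.mp hcE
  have hX : B.X = {oneIrr G, χ1, χ2, χ3} := by
    rw [← Finset.insert_erase B.one_mem, hE]
  have hm1 : χ1 ∈ B.X.erase (oneIrr G) := by rw [hE]; simp
  have hm2 : χ2 ∈ B.X.erase (oneIrr G) := by rw [hE]; simp
  have hm3 : χ3 ∈ B.X.erase (oneIrr G) := by rw [hE]; simp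
  have hψ1 : ψ ≠ oneIrr G := by
    rintro rfl
    exact Finset.disjoint_left.mp B.disj B.one_mem hψY
  have hone : (dg (oneIrr G) : ℤ) = 1 := by
    have : ((dg (oneIrr G) : ℕ) : ℂ) = 1 := by rw [← dg_eq, CharBase.oneIrr_apply]
    exact_mod_cast this
  have hgt : ∀ ξ : IrrCharacter G, ξ ≠ oneIrr G → 1 < dg ξ := by
    intro ξ hξ
    have h5 := dg_pos ξ
    by_contra h6
    exact hξ (eq_one_of_perfect hperf (by omega))
  have hle : ∀ ξ : IrrCharacter G, dg ξ ≤ 65 := by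
    intro ξ
    have h5 := dg_sq_le ξ
    rw [hG] at h5
    by_contra hcon
    push Not at hcon
    nlinarith
  -- degree data
  have hdat : ∀ ξ : IrrCharacter G, ξ ∈ B.X.erase (oneIrr G) →
      (B.δ ξ = 1 ∨ B.δ ξ = -1) ∧ (5 : ℤ) ∣ dg ξ - B.δ ξ ∧ dg ξ ∣ 864 := by
    intro ξ hξ
    have hξX := Finset.mem_of_mem_erase hξ
    refine ⟨B.sgn ξ hξX, by exact_mod_cast B.congr_X hS hξX, ?_⟩
    have := B.dvd_X hS hξX
    rw [he, ← hn, hn216] at this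
    exact this
  have hdatY : (5 : ℤ) ∣ dg ψ - B.δ₀ ∧ dg ψ ∣ 864 := by
    have h5 := B.congr_Y hS hψY
    have h6 := B.dvd_Y hS hψY
    rw [he, ← hn, hn216] at h6
    refine ⟨?_, h6⟩
    rw [he] at h5
    push_cast at h5
    have : (dg ψ : ℤ) - B.δ₀ = (dg ψ + B.δ₀ * 4) - 5 * B.δ₀ := by ring
    rw [this]
    exact dvd_sub h5 (dvd_mul_right _ _)
  have hdeg := B.degEq hψY
  have hn1 : oneIrr G ∉ ({χ1, χ2, χ3} : Finset (IrrCharacter G)) := by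
    rw [← hE]; exact Finset.notMem_erase _ _
  have hn2 : χ1 ∉ ({χ2, χ3} : Finset (IrrCharacter G)) := by simp [h12, h13]
  have hn3 : χ2 ∉ ({χ3} : Finset (IrrCharacter G)) := by simp [h23]
  rw [hX, Finset.sum_insert hn1, Finset.sum_insert hn2, Finset.sum_insert hn3, Finset.sum_singleton,
    B.δ_one hS, hone] at hdeg
  -- a 2-central involution
  haveI : Fact (Nat.Prime 2) := ⟨Nat.prime_two⟩
  obtain ⟨z, hz2, hz32⟩ : ∃ z : G, orderOf z = 2 ∧ 32 ∣ Nat.card (centralizer ({z} : Set G)) := by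
    obtain ⟨T⟩ : Nonempty (Sylow 2 G) := inferInstance
    have hT : Nat.card T = 32 := by
      rw [T.card_eq_multiplicity, hG]
      have : (4320 : ℕ).factorization 2 = 5 := by
        rw [show (4320 : ℕ) = 2 ^ 5 * 135 by norm_num, Nat.factorization_mul (by norm_num) (by norm_num),
          Nat.factorization_pow]
        simp [Nat.Prime.factorization Nat.prime_two, Nat.factorization_eq_zero_of_not_dvd (show ¬ 2 ∣ 135 by norm_num)]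
      rw [this]; norm_num
    haveI : Nontrivial T := by
      rw [← Finite.one_lt_card_iff_nontrivial, hT]; norm_num
    haveI := IsPGroup.center_nontrivial T.isPGroup'
    have h2c : 2 ∣ Nat.card (Subgroup.center T) := by
      obtain ⟨k, hk⟩ := IsPGroup.iff_card.mp (T.isPGroup'.to_subgroup (Subgroup.center T))
      have : 1 < Nat.card (Subgroup.center T) := Finite.one_lt_card_iff_nontrivial.mpr inferInstance
      rw [hk] at this ⊢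
      have hk0 : k ≠ 0 := by rintro rfl; simp at this
      exact dvd_pow_self 2 hk0
    obtain ⟨w, hw⟩ := exists_prime_orderOf_dvd_card' 2 h2c
    refine ⟨((w : T) : G), by rw [Subgroup.orderOf_coe, Subgroup.orderOf_coe, hw], ?_⟩
    rw [← hT]
    apply Subgroup.card_dvd_of_le
    intro y hy
    rw [Subgroup.mem_centralizer_singleton_iff]
    have := Subgroup.mem_center_iff.mp w.2 ⟨y, hy⟩
    have h5 := Subtype.ext_iff.mp this
    exact h5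
  have hzz : z * z = 1 := by rw [← pow_two, ← hz2]; exact pow_orderOf_eq_one z
  have hz1 : z ≠ 1 := by
    rintro rfl
    rw [orderOf_one] at hz2
    omega
  have hidx : ((centralizer ({z} : Set G)).index : ℤ) ∣ 135 := by
    obtain ⟨j, hj⟩ := hz32
    have h5 := Subgroup.index_mul_card (centralizer ({z} : Set G))
    rw [hG, hj] at h5
    refine ⟨j, ?_⟩
    have : 135 = (centralizer ({z} : Set G)).index * j := by nlinarith
    exact_mod_cast this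
  have hval : ∀ ξ : IrrCharacter G, ξ ≠ oneIrr G → ∃ a : ℤ, (ξ : G → ℂ) z = a ∧ |a| < dg ξ ∧
      (dg ξ : ℤ) ∣ (centralizer ({z} : Set G)).index * a := by
    intro ξ hξ
    obtain ⟨a, ha⟩ := H4.exists_int_value (CharBase.irr_isCharacter ξ) hzz
    refine ⟨a, ha, ?_, dvd_central ξ ha⟩
    obtain ⟨n, h1, h2⟩ := CharBase.norm_le_of_isCharacter (CharBase.irr_isCharacter ξ) z
    have h3 : (n : ℂ) = dg ξ := by rw [← h1, dg_eq]
    have h4 : n = dg ξ := by exact_mod_cast h3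
    rw [h4] at h2
    have hfaith : ∀ g : G, (ξ : G → ℂ) g = (ξ : G → ℂ) 1 → g = 1 := by
      intro g hg
      by_contra hne
      exact hξ (eq_one_of_ker ξ hne hg)
    have hne : ‖(ξ : G → ℂ) z‖ ≠ (dg ξ : ℝ) := by
      intro heq
      have hzc := H79.mem_center_of_norm_eq ξ hfaith heq
      have hcen : Subgroup.center G = ⊥ := by
        rcases IsSimpleGroup.eq_bot_or_eq_top_of_normal (Subgroup.center G) inferInstance with h | h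
        · exact h
        · exfalso
          apply noncomm hnp
          exact ⟨⟨fun a b => (Subgroup.mem_center_iff.mp (h ▸ Subgroup.mem_top b : b ∈ Subgroup.center G) a)⟩⟩
      rw [hcen, Subgroup.mem_bot] at hzc
      exact hz1 hzc
    have hlt := lt_of_le_of_ne h2 hne
    rw [ha, Complex.norm_intCast] at hlt
    exact_mod_cast hlt
  have hne1 := (Finset.mem_erase.mp hm1).1
  have hne2 := (Finset.mem_erase.mp hm2).1
  have hne3 := (Finset.mem_erase.mp hm3).1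
  obtain ⟨a1, ha1, hlt1, hdv1⟩ := hval χ1 hne1
  obtain ⟨a2, ha2, hlt2, hdv2⟩ := hval χ2 hne2
  obtain ⟨a3, ha3, hlt3, hdv3⟩ := hval χ3 hne3
  obtain ⟨a4, ha4, hlt4, hdv4⟩ := hval ψ hψ1
  obtain ⟨hs1, hc1, hd1⟩ := hdat χ1 hm1
  obtain ⟨hs2, hc2, hd2⟩ := hdat χ2 hm2
  obtain ⟨hs3, hc3, hd3⟩ := hdat χ3 hm3
  obtain ⟨hc4, hd4⟩ := hdatY
  have hs4 := B.sgn₀
  -- block relation at z
  have h5z : ¬ 5 ∣ orderOf z := by rw [hz2]; norm_num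
  have hreg := B.reg z h5z ψ hψY
  rw [hX, Finset.sum_insert hn1, Finset.sum_insert hn2, Finset.sum_insert hn3, Finset.sum_singleton,
    B.δ_one hS, CharBase.oneIrr_apply, ha1, ha2, ha3, ha4] at hreg
  have hreg' : 1 + B.δ χ1 * a1 + B.δ χ2 * a2 + B.δ χ3 * a3 + B.δ₀ * a4 = 0 := by
    have h7 : (((1 + B.δ χ1 * a1 + B.δ χ2 * a2 + B.δ χ3 * a3 + B.δ₀ * a4 : ℤ)) : ℂ) = 0 := by
      rw [← hreg]; push_cast; ring
    exact_mod_cast h7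
  -- counting
  obtain ⟨x, hx, hx1⟩ := exists_ne_one hS
  have hcp := st.card_pairs h5z h5z hx hx1 hψY
  have hco := ex_count_or st hzz hx hx1
  change (_ : ℂ) = (Nat.card G : ℂ) * (∑ χ ∈ B.X, (B.δ χ : ℂ) * (χ : G → ℂ) z * (χ : G → ℂ) z /
      (dg χ : ℂ) + B.δ₀ * (ψ : G → ℂ) z * (ψ : G → ℂ) z / (dg ψ : ℂ)) at hcp
  rw [hX, Finset.sum_insert hn1, Finset.sum_insert hn2, Finset.sum_insert hn3, Finset.sum_singleton,
    B.δ_one hS, CharBase.oneIrr_apply, ha1, ha2, ha3, ha4, show ((dg (oneIrr G) : ℕ) : ℂ) = 1 by exact_mod_cast hone,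
    hG] at hcp
  generalize hc : (Nat.card (centralizer ({z} : Set G))) = c at hco
  generalize ((Finset.univ : Finset (G × G)).filter
      (fun q => q.1 * z * q.1⁻¹ * (q.2 * z * q.2⁻¹) = x)).card = N at hcp hco
  have hconv : ∀ (δ a : ℤ) (f : ℕ), (δ = 1 ∨ δ = -1) → ((δ : ℂ) * a * a / (f : ℂ)) =
      (((((δ * a : ℤ) : ℚ) ^ 2 / ((δ * f : ℤ) : ℚ) : ℚ)) : ℂ) := by
    intro δ a f hδ
    rcases hδ with rfl | rfl
    · push_cast; ring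
    · push_cast; ring
  rw [hconv _ _ _ hs1, hconv _ _ _ hs2, hconv _ _ _ hs3, hconv _ _ _ hs4] at hcp
  have hcp' : (N : ℚ) = 4320 * (1 + ((B.δ χ1 * a1 : ℤ) : ℚ) ^ 2 / ((B.δ χ1 * dg χ1 : ℤ) : ℚ) +
      ((B.δ χ2 * a2 : ℤ) : ℚ) ^ 2 / ((B.δ χ2 * dg χ2 : ℤ) : ℚ) +
      ((B.δ χ3 * a3 : ℤ) : ℚ) ^ 2 / ((B.δ χ3 * dg χ3 : ℤ) : ℚ) +
      ((B.δ₀ * a4 : ℤ) : ℚ) ^ 2 / ((B.δ₀ * dg ψ : ℤ) : ℚ)) := by
    have h8 : ((N : ℚ) : ℂ) = ((4320 * (1 + ((B.δ χ1 * a1 : ℤ) : ℚ) ^ 2 / ((B.δ χ1 * dg χ1 : ℤ) : ℚ) +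
      ((B.δ χ2 * a2 : ℤ) : ℚ) ^ 2 / ((B.δ χ2 * dg χ2 : ℤ) : ℚ) +
      ((B.δ χ3 * a3 : ℤ) : ℚ) ^ 2 / ((B.δ χ3 * dg χ3 : ℤ) : ℚ) +
      ((B.δ₀ * a4 : ℤ) : ℚ) ^ 2 / ((B.δ₀ * dg ψ : ℤ) : ℚ)) : ℚ) : ℂ) := by
      rw [Rat.cast_natCast, hcp]
      push_cast
      ring
    exact_mod_cast h8
  -- assemble
  have hmem : ∀ s : ℤ, (s = 6 ∨ s = 16 ∨ s = 36 ∨ s = -4 ∨ s = -9 ∨ s = -24 ∨ s = -54) → s ∈ SS := by
    intro s hs
    simp only [SS, List.mem_cons, List.not_mem_nil, or_false]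
    exact hs
  have hchk := chk_all _ (hmem _ (degs _ hd1 (hle χ1) (hgt χ1 hne1) _ hs1 hc1))
    _ (hmem _ (degs _ hd2 (hle χ2) (hgt χ2 hne2) _ hs2 hc2))
    _ (hmem _ (degs _ hd3 (hle χ3) (hgt χ3 hne3) _ hs3 hc3))
    _ (hmem _ (degs _ hd4 (hle ψ) (hgt ψ hψ1) _ hs4 hc4)) (by linarith)
  have hfour : ∀ (δ : ℤ) (f : ℕ), (δ = 1 ∨ δ = -1) → (5 : ℤ) ∣ f - δ → (f = 4 ↔ δ * f = -4) := by
    intro δ f hδ h5
    rcases hδ with rfl | rfl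
    · constructor
      · intro h; subst h; exfalso; norm_num at h5
      · intro h; omega
    · constructor
      · intro h; subst h; norm_num
      · intro h; omega
  have hXY : ∀ ζ : IrrCharacter G, (ζ ∈ st.B.X ∨ ζ ∈ st.B.Y) → dg ζ = 4 →
      ζ = χ1 ∨ ζ = χ2 ∨ ζ = χ3 ∨ ζ = ψ := by
    intro ζ hζ h4
    have hζ1 : ζ ≠ oneIrr G := by
      rintro rfl
      rw [h4] at hone
      norm_num at hone
    rcases hζ with h | h
    · have h' : ζ ∈ ({oneIrr G, χ1, χ2, χ3} : Finset (IrrCharacter G)) := by rw [← hX]; exact h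
      simp only [Finset.mem_insert, Finset.mem_singleton] at h'
      rcases h' with h' | h' | h' | h'
      · exact absurd h' hζ1
      · exact Or.inl h'
      · exact Or.inr (Or.inl h')
      · exact Or.inr (Or.inr (Or.inl h'))
    · have h' : ζ ∈ ({ψ} : Finset (IrrCharacter G)) := by rw [← hψ]; exact h
      exact Or.inr (Or.inr (Or.inr (Finset.mem_singleton.mp h')))
  have f1 := hfour _ _ hs1 hc1
  have f2 := hfour _ _ hs2 hc2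
  have f3 := hfour _ _ hs3 hc3
  have f4 := hfour _ _ hs4 hc4
  refine fin c _ _ _ _ _ _ _ _ hchk ?_ ?_ ?_ ?_ (mkQ _ _ _ _ hs1 hdv1 hidx hlt1) (mkQ _ _ _ _ hs2 hdv2 hidx hlt2)
    (mkQ _ _ _ _ hs3 hdv3 hidx hlt3) (mkQ _ _ _ _ hs4 hdv4 hidx hlt4) hreg' ?_
  · rintro ⟨g1, g2, g3, g4⟩
    refine schur hG st χ1 hne1 (f1.mpr g1) ?_
    intro ζ hζ h4
    rcases hXY ζ hζ h4 with rfl | rfl | rfl | rfl
    · rfl
    · exact absurd (f2.mp h4) g2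
    · exact absurd (f3.mp h4) g3
    · exact absurd (f4.mp h4) g4
  · rintro ⟨g2, g1, g3, g4⟩
    refine schur hG st χ2 hne2 (f2.mpr g2) ?_
    intro ζ hζ h4
    rcases hXY ζ hζ h4 with rfl | rfl | rfl | rfl
    · exact absurd (f1.mp h4) g1
    · rfl
    · exact absurd (f3.mp h4) g3
    · exact absurd (f4.mp h4) g4
  · rintro ⟨g3, g1, g2, g4⟩
    refine schur hG st χ3 hne3 (f3.mpr g3) ?_
    intro ζ hζ h4
    rcases hXY ζ hζ h4 with rfl | rfl | rfl | rfl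
    · exact absurd (f1.mp h4) g1
    · exact absurd (f2.mp h4) g2
    · rfl
    · exact absurd (f4.mp h4) g4
  · rintro ⟨g4, g1, g2, g3⟩
    refine schur hG st ψ hψ1 (f4.mpr g4) ?_
    intro ζ hζ h4
    rcases hXY ζ hζ h4 with rfl | rfl | rfl | rfl
    · exact absurd (f1.mp h4) g1
    · exact absurd (f2.mp h4) g2
    · exact absurd (f3.mp h4) g3
    · rfl
  · rcases hco with h | h
    · right
      rw [h, Nat.cast_zero] at hcp'
      exact hcp'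
    · left
      rw [h] at hcp'
      rw [← hcp']
      push_cast
      ring

end Cfsg.Agent.S0977
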