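import Cfsg.Statements.S0980
import Cfsg.Agent.H37.OrdC
import Cfsg.Agent.H37.OrdF
import Cfsg.Agent.BT.Cof5

set_option autoImplicit false
open Cfsg

namespace Cfsg.Agent.S0980

open Subgroup Cfsg.Agent.BR Cfsg.Agent.BT Cfsg.Agent.H37.Ord

lemma ar (f : ℕ) (hf : f ∣ 1152) : (f % 5 = 1 → ¬ (f + 1) ∣ 1152 ∨ f = 1) ∧
    (f % 5 = 4 → (f - 1) ∣ 1152 → f = 4 ∨ f = 9) := by
  have h : ∀ f ∈ Nat.divisors 1152, (f % 5 = 1 → ¬ (f + 1) ∣ 1152 ∨ f = 1) ∧
    (f % 5 = 4 → (f - 1) ∣ 1152 → f = 4 ∨ f = 9) := by decide +kernel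
  exact h f (Nat.mem_divisors.mpr ⟨hf, by norm_num⟩)

/-- No finite simple group has order 5760 = 2^7 * 3^2 * 5. -/
theorem result {G : Type*} [Group G] [Finite G] [IsSimpleGroup G] : Nat.card G ≠ 5760 := by
  classical
  intro hG
  haveI := Fintype.ofFinite G
  haveI : Fact (Nat.Prime 5) := ⟨by norm_num⟩
  obtain ⟨S⟩ : Nonempty (Sylow 5 G) := inferInstance
  have hnp : ¬ (Nat.card G).Prime := by rw [hG]; norm_num
  obtain ⟨hS, hC, n, hn, h⟩ := Cfsg.Agent.H37.Ord.arith_one (G := G) 2 3 5 7 2 (by norm_num) (by norm_num) (by norm_num)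
    (by norm_num) (by norm_num) (by rw [hG]; norm_num) hnp S
  have hm := h.hm
  have h1 := h.n_mod
  have h2 := h.e_two
  have h3 : Cfsg.Agent.BR.ind (S : Subgroup G) ≤ 4 := Nat.le_of_dvd (by norm_num) h.e_dvd
  have h4 := h.e_dvd
  have he : ind (S : Subgroup G) = 2 := by
    generalize Cfsg.Agent.BR.ind (S : Subgroup G) = e at hm h1 h2 h3 h4
    rw [mul_one] at hm
    interval_cases e <;> omega
  rw [he] at hm
  have hn576 : n = 576 := by omega
  obtain ⟨B⟩ := CycG.nonempty_data hS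
  let d : Two 5 (S : Subgroup G) := ⟨⟨hS, hC, B, by norm_num⟩, he⟩
  have hperf := perfect_of_simple (noncomm hnp)
  obtain ⟨χ, ψ, δ, δ₀, hχ1, hδ, hδ₀, hdeg, hmod, hf, hd, hf1, hd1, hcount⟩ := d.degrees hperf
  rw [← hn, hn576] at hf hd
  obtain ⟨τ, hτ, hτP⟩ := d.exists_τ
  -- a 2-central involution
  haveI : Fact (Nat.Prime 2) := ⟨Nat.prime_two⟩
  obtain ⟨z, hz2, hz128⟩ : ∃ z : G, orderOf z = 2 ∧ 128 ∣ Nat.card (centralizer ({z} : Set G)) := by
    obtain ⟨T⟩ : Nonempty (Sylow 2 G) := inferInstance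
    have hT : Nat.card T = 128 := by
      rw [T.card_eq_multiplicity, hG]
      have : (5760 : ℕ).factorization 2 = 7 := by
        rw [show (5760 : ℕ) = 2 ^ 7 * 45 by norm_num, Nat.factorization_mul (by norm_num) (by norm_num),
          Nat.factorization_pow]
        simp [Nat.Prime.factorization Nat.prime_two, Nat.factorization_eq_zero_of_not_dvd (show ¬ 2 ∣ 45 by norm_num)]
      rw [this]; norm_num
    haveI : Nontrivial T := by
      rw [← Finite.one_lt_card_iff_nontrivial, hT]; norm_num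
    haveI := IsPGroup.center_nontrivial T.isPGroup'
    have h2c : 2 ∣ Nat.card (Subgroup.center T) := by
      obtain ⟨k, hk⟩ := IsPGroup.iff_card.mp (T.isPGroup'.to_subgroup (Subgroup.center T))
      have : 1 < Nat.card (Subgroup.center T) := Finite.one_lt_card_iff_nontrivial.mpr inferInstance
      rw [hk] at this ⊢
      have hk0 : k ≠ 0 := by rintro rfl; simp at this
      exact dvd_pow_self 2 hk0
    obtain ⟨w, hw⟩ := exists_prime_orderOf_dvd_card' 2 h2c
    refine ⟨((w : T) : G), by rw [Subgroup.orderOf_coe, Subgroup.orderOf_coe, hw], ?_⟩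
    rw [← hT]
    apply Subgroup.card_dvd_of_le
    intro y hy
    rw [Subgroup.mem_centralizer_singleton_iff]
    have := Subgroup.mem_center_iff.mp w.2 ⟨y, hy⟩
    have h5 := Subtype.ext_iff.mp this
    exact h5
  obtain ⟨a, -, -, hc⟩ := hcount τ hτ hτP τ (d.orderOf_τ hτ hτP)
  have hc := hc (IsConj.refl τ)
  obtain ⟨b, hb, hb0, hb1⟩ := hcount τ hτ hτP z hz2
  have hcpos : (0 : ℤ) < Nat.card (centralizer ({τ} : Set G)) := by exact_mod_cast Nat.card_pos
  have hblt : |b| ≤ dg χ := by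
    obtain ⟨n, h1, h2⟩ := CharBase.norm_le_of_isCharacter (CharBase.irr_isCharacter χ) z
    rw [hb, Complex.norm_intCast] at h2
    have h3 : (n : ℂ) = dg χ := by rw [← h1, dg_eq]
    have h4 : n = dg χ := by exact_mod_cast h3
    rw [h4] at h2
    exact_mod_cast h2
  have hbne : b ≠ dg χ := by
    intro hbe
    apply hχ1
    apply eq_one_of_ker χ (g := z)
    · rintro rfl
      rw [orderOf_one] at hz2
      omega
    · rw [hb, dg_eq, hbe]
      push_cast
      rfl
  rw [hG] at hc hb1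
  generalize (Nat.card (centralizer ({τ} : Set G)) : ℤ) = c at hc hcpos
  generalize dg χ = f at *
  generalize dg ψ = e at *
  have key : (f = 4 ∧ e = 3 ∧ δ = -1 ∧ δ₀ = 1) ∨ (f = 9 ∧ e = 8 ∧ δ = -1 ∧ δ₀ = 1) := by
    have hfe : (δ = 1 ∧ δ₀ = -1 ∧ e = f + 1) ∨ (δ = -1 ∧ δ₀ = 1 ∧ e = f - 1) := by
      rcases hδ with rfl | rfl <;> rcases hδ₀ with rfl | rfl <;> omega
    rcases hfe with ⟨rfl, rfl, rfl⟩ | ⟨rfl, rfl, rfl⟩
    · exfalso
      rcases (ar f hf).1 (by omega) with h5 | h5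
      · exact h5 hd
      · omega
    · rcases (ar f hf).2 (by omega) hd with h5 | h5
      · exact Or.inl ⟨h5, by omega, rfl, rfl⟩
      · exact Or.inr ⟨h5, by omega, rfl, rfl⟩
  rcases key with ⟨rfl, rfl, rfl, rfl⟩ | ⟨rfl, rfl, rfl, rfl⟩
  · push_cast at hc
    have hc2 : c ^ 2 = 96 * (a - 4) ^ 2 := by nlinarith
    have ha8 : a - 4 ≠ 0 := by
      intro h0
      rw [h0] at hc2
      nlinarith
    have hdvd : (a - 4) ^ 2 ∣ c ^ 2 := ⟨96, by rw [hc2]; ring⟩
    rw [Int.pow_dvd_pow_iff two_ne_zero] at hdvd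
    obtain ⟨j, rfl⟩ := hdvd
    have hj : j ^ 2 = 96 := by
      have h5 : (a - 4) ^ 2 * (j ^ 2) = (a - 4) ^ 2 * 96 := by rw [← mul_pow, hc2]; ring
      exact mul_left_cancel₀ (pow_ne_zero 2 ha8) h5
    have hj1 : j ≤ 9 := by nlinarith
    have hj2 : -9 ≤ j := by nlinarith
    interval_cases j <;> omega
  · by_cases hcj : IsConj z τ
    · have h5 := hb1 hcj
      obtain ⟨k, hk⟩ := hz128
      have hkpos : 0 < k := by
        rcases Nat.eq_zero_or_pos k with h0 | h0
        · rw [h0, mul_zero] at hk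
          exact absurd hk Nat.card_pos.ne'
        · exact h0
      rw [hk] at h5
      push_cast at h5 hblt
      rw [abs_le] at hblt
      have h6 : (128 * (k : ℤ)) ^ 2 = 16 * (b - 9) ^ 2 := by nlinarith
      have h7 : (1 : ℤ) ≤ k := by exact_mod_cast hkpos
      nlinarith [hblt.1, hblt.2]
    · have h5 := hb0 hcj
      push_cast at h5 hbne
      have h6 : (b - 9) ^ 2 = 0 := by linear_combination -h5
      have h7 := pow_eq_zero_iff (two_ne_zero) |>.mp h6
      apply hbne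
      linarith

end Cfsg.Agent.S0980
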