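import Cfsg.Statements.S0983

import Cfsg.Agent.H74.OrdersB2
import Cfsg.Agent.H74.OrdersB3
import Cfsg.Agent.S0976
import Cfsg.Agent.S0977
import Cfsg.Agent.S0980

set_option autoImplicit false
open Cfsg

namespace Cfsg.Agent.S0983

/-- A non-abelian finite simple group of order greater than 3640 and at most 6232 has order 4080, 5616, 6048 or 6072. -/
theorem result {G : Type*} [Group G] [Finite G] [IsSimpleGroup G] (hG : ¬ IsMulCommutative G) (h1 : 3640 < Nat.card G) (h2 : Nat.card G ≤ 6232) : Nat.card G = 4080 ∨ Nat.card G = 5616 ∨ Nat.card G = 6048 ∨ Nat.card G = 6072 := by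
  rcases H74.SvB.mem_left hG h1 (by omega) with h | h
  · exact Or.inr (Or.inr (Or.inr h))
  · simp only [H74.SvB.left, List.mem_cons, List.not_mem_nil, or_false] at h
    rcases h with h | h | h | h | h | h | h | h | h | h | h | h | h | h | h | h
    · exact absurd h (H74.SvB.n3780 hG)
    · exact absurd h Cfsg.Agent.S0976.result
    · exact Or.inl h
    · exact absurd h (H74.SvB.n4200 hG)
    · exact absurd h Cfsg.Agent.S0977.result
    · exact absurd h (H74.SvB.n4500 hG)
    · exact absurd h (H74.SvB.n4620 hG)
    · exact absurd h (H74.SvB.n4900 hG)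
    · exact absurd h (H74.CInv.not5040 hG)
    · exact absurd h (H74.SvB.n5292 hG)
    · exact absurd h (H74.SvB.n5400 hG)
    · exact absurd h (H74.SvB.n5460 hG)
    · exact Or.inr (Or.inl h)
    · exact absurd h Cfsg.Agent.S0980.result
    · exact absurd h (H74.SvB.n6000 hG)
    · exact Or.inr (Or.inr (Or.inl h))

end Cfsg.Agent.S0983
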