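import Cfsg.Statements.S0173
import Cfsg.Agent.H75.Perm

set_option autoImplicit false
open Cfsg

namespace Cfsg.Agent.S0173

open Cfsg.Agent.CharBase Cfsg.Agent.H75

/-- Brauer's permutation lemma for a single automorphism: the number of conjugacy classes mapped to themselves equals the number of irreducible complex characters χ with χ ∘ α = χ. -/
theorem result {G : Type*} [Group G] [Finite G] (α : G ≃* G) : Nat.card {C : ConjClasses G // ConjClasses.map α.toMonoidHom C = C} = Nat.card {χ : Cfsg.IrrCharacter G // (χ : G → ℂ) ∘ α = (χ : G → ℂ)} := by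
  rw [card_fixed_irr_eq (α : G → G) (fun χ => isIrrCharacter_comp_equiv χ.2 α)]
  refine Nat.card_congr (Equiv.subtypeEquivRight (fun C => ?_))
  obtain ⟨g, rfl⟩ := ConjClasses.mk_surjective C
  constructor
  · intro h
    refine ⟨g, rfl, ?_⟩
    have h1 : ConjClasses.map α.toMonoidHom (ConjClasses.mk g) = ConjClasses.mk (α g) := rfl
    rw [h1, ConjClasses.mk_eq_mk_iff_isConj] at h
    exact h
  · rintro ⟨x, hx, hc⟩
    rw [← hx]
    have h1 : ConjClasses.map α.toMonoidHom (ConjClasses.mk x) = ConjClasses.mk (α x) := rfl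
    rw [h1, ConjClasses.mk_eq_mk_iff_isConj]
    exact hc

end Cfsg.Agent.S0173
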