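import Cfsg.Statements.S1901
import Cfsg.Agent.Cop.Basic
import Cfsg.Agent.H76.PSolvable
import Cfsg.Agent.H32.Syl

set_option autoImplicit false
open Cfsg

namespace Cfsg.Agent.S1901

universe u
open Subgroup

theorem exists_core_ne_bot {G : Type*} [Group G] [Finite G] [Nontrivial G] {p : ℕ} [Fact p.Prime]
    (hG : Cfsg.IsPSolvable p G) : Cfsg.pCore p G ≠ ⊥ ∨ Cfsg.pPrimeCore p G ≠ ⊥ := by
  obtain ⟨n, H, h0, hlast, hmono, hnorm, hfac⟩ := hG
  by_contra hcon
  push Not at hcon
  obtain ⟨h1, h2⟩ := hcon
  have key : ∀ i : Fin (n + 1), H i = ⊥ := by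
    intro i
    induction i using Fin.induction with
    | zero => exact h0
    | succ i ih =>
      have hn := hnorm i.succ
      rcases hfac i with ⟨m, hm⟩ | hc
      · rw [ih, Subgroup.relIndex_bot_left] at hm
        rw [eq_bot_iff, ← h1]
        exact Solv.le_pCore hn (IsPGroup.of_card hm)
      · rw [ih, Subgroup.relIndex_bot_left] at hc
        rw [eq_bot_iff, ← h2]
        exact Solv.le_pPrimeCore hn hc
  have h3 := key (Fin.last n)
  rw [hlast] at h3
  exact top_ne_bot h3

theorem main (p : ℕ) [Fact p.Prime] (n : ℕ) : ∀ (G : Type u) [Group G] [Finite G], Nat.card G ≤ n →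
    Cfsg.IsPSolvable p G → ∀ (P : Sylow p G) (A Q : Subgroup G), (Nat.card Q).Coprime p →
      Q ≤ normalizer ((P : Subgroup G) : Set G) → IsPGroup p A → A ≤ normalizer (Q : Set G) →
      ⁅Q, A⁆ = ⊥ := by
  induction n with
  | zero => intro G _ _ h; exact absurd h (by have := Nat.card_pos (α := G); omega)
  | succ n ih =>
    intro G _ _ hn hG P A Q hQ hQP hA hAQ
    rcases subsingleton_or_nontrivial G with hs | hnt
    · rw [eq_bot_iff]; intro x _; rw [Subsingleton.elim x 1]; exact one_mem _
    -- quotient step
    have hquot : ∀ N : Subgroup G, N.Normal → N ≠ ⊥ → ⁅Q, A⁆ ≤ N := by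
      intro N hN hNb
      have hcard : Nat.card (G ⧸ N) ≤ n := by
        have h1 := N.card_mul_index
        have h2 : 1 < Nat.card N := by
          rw [Subgroup.one_lt_card_iff_ne_bot]; exact hNb
        have h3 : Nat.card (G ⧸ N) = N.index := rfl
        rw [h3]
        have h4 : N.index ≠ 0 := Subgroup.index_ne_zero_of_finite
        nlinarith [Nat.pos_of_ne_zero h4]
      have hsurj := QuotientGroup.mk'_surjective N
      have h5 := ih (G ⧸ N) hcard (H76.isPSolvable_quotient N hG) (P.mapSurjective hsurj)
        (A.map (QuotientGroup.mk' N)) (Q.map (QuotientGroup.mk' N))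
        (Nat.Coprime.coprime_dvd_left (Subgroup.card_map_dvd _ _) hQ) ?_ (hA.map _) ?_
      · rw [← Subgroup.map_commutator, Subgroup.map_eq_bot_iff, QuotientGroup.ker_mk'] at h5
        exact h5
      · rw [Sylow.coe_mapSurjective]
        exact (Subgroup.map_mono hQP).trans (Subgroup.le_normalizer_map _)
      · exact (Subgroup.map_mono hAQ).trans (Subgroup.le_normalizer_map _)
    have hle : ⁅Q, A⁆ ≤ Q := Subgroup.le_normalizer_iff_commutator_le_left.1 hAQ
    rcases exists_core_ne_bot hG with h | h
    · have h1 := hquot _ inferInstance h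
      have hcop : (Nat.card Q).Coprime (Nat.card (Cfsg.pCore p G)) := by
        obtain ⟨k, hk⟩ := IsPGroup.iff_card.1 (Solv.pCore_isPGroup (G := G) p)
        rw [hk]; exact Nat.Coprime.pow_right _ hQ
      rw [eq_bot_iff, ← Cop.inf_eq_bot_of_coprime hcop]
      exact le_inf hle h1
    · set K := Cfsg.pPrimeCore p G with hK
      have hKn : K.Normal := inferInstance
      have h1 : ⁅Q, A⁆ ≤ K := hquot _ inferInstance h
      set Q1 := ⁅Q, A⁆ with hQ1
      have hAQ1 : A ≤ normalizer (Q1 : Set G) := Subgroup.normalizer_commutator_ge_right _ _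
      have hPQ1 : (P : Subgroup G) ≤ centralizer (Q1 : Set G) := by
        have hcop : (Nat.card K).Coprime (Nat.card (P : Subgroup G)) := by
          obtain ⟨k, hk⟩ := IsPGroup.iff_card.1 P.isPGroup'
          rw [hk]; exact Nat.Coprime.pow_right _ (Solv.pPrimeCore_card_coprime p)
        rw [← Subgroup.commutator_eq_bot_iff_le_centralizer, eq_bot_iff,
          ← Cop.inf_eq_bot_of_coprime hcop]
        refine le_inf ?_ ?_
        · exact (Subgroup.commutator_mono le_rfl h1).trans (Subgroup.commutator_le_right _ _)
        · exact Subgroup.le_normalizer_iff_commutator_le_left.1 (hle.trans hQP)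
      have hcQ1 : A ≤ centralizer (Q1 : Set G) := by
        -- C(Q1) normal in N(Q1), contains P
        have hPN : (P : Subgroup G) ≤ normalizer (Q1 : Set G) :=
          hPQ1.trans (Subgroup.centralizer_le_normalizer _)
        have hidx : ¬ p ∣ (P : Subgroup G).relIndex (normalizer (Q1 : Set G)) := by
          intro hd
          exact P.not_dvd_index (hd.trans (by
            rw [← Subgroup.relIndex_mul_index hPN]
            exact dvd_mul_right _ _))
        obtain ⟨g, hg, hgA⟩ := H32.exists_conj_le_of_not_dvd_relIndex hPN P.isPGroup' hidx hAQ1 hA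
        intro a ha
        have h2 := hPQ1 (hgA a ha)
        rw [mem_centralizer_iff] at h2 ⊢
        intro x hx
        have h3 := h2 _ ((Subgroup.mem_normalizer_iff.1 hg x).1 hx)
        calc x * a = g⁻¹ * ((g * x * g⁻¹) * (g * a * g⁻¹)) * g := by group
          _ = a * x := by rw [h3]; group
      have hcopA : (Nat.card A).Coprime (Nat.card Q) := by
        obtain ⟨k, hk⟩ := IsPGroup.iff_card.1 hA
        rw [hk]; exact Nat.Coprime.pow_left _ hQ.symm
      have hsolv : Group.IsSolvable A := by
        have := hA.isNilpotent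
        infer_instance
      have h2 := Cop.commutator_commutator_eq hAQ hcopA (Or.inl hsolv)
      rw [← hQ1] at h2
      rw [← h2, Subgroup.commutator_comm]
      exact Subgroup.commutator_eq_bot_iff_le_centralizer.2 hcQ1

/-- Let G be a finite p-solvable group and Q a subgroup of order prime to p such that p divides the index of C_G(Q) in N_G(Q). Then Q normalizes no Sylow p-subgroup of G. -/
theorem result {G : Type*} [Group G] [Finite G] {p : ℕ} [Fact p.Prime]
    (hG : Cfsg.IsPSolvable p G) (Q : Subgroup G) (hQ : ¬ p ∣ Nat.card Q)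
    (hA : p ∣ (Subgroup.centralizer (Q : Set G)).relIndex (Subgroup.normalizer (Q : Set G)))
    (P : Sylow p G) : ¬ Q ≤ Subgroup.normalizer ((P : Subgroup G) : Set G) := by
  intro hQP
  apply absurd hA
  have hQ' : (Nat.card Q).Coprime p := ((Nat.Prime.coprime_iff_not_dvd Fact.out).2 hQ).symm
  let A0 : Sylow p (normalizer (Q : Set G)) := default
  set A := (A0 : Subgroup (normalizer (Q : Set G))).map (normalizer (Q : Set G)).subtype with hAdef
  have hAp : IsPGroup p A := A0.isPGroup'.map _
  have hAN : A ≤ normalizer (Q : Set G) := Subgroup.map_subtype_le _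
  have h1 := main p _ G le_rfl hG P A Q hQ' hQP hAp hAN
  rw [Subgroup.commutator_comm] at h1
  have h2 := Subgroup.commutator_eq_bot_iff_le_centralizer.1 h1
  have h3 : ¬ p ∣ A.relIndex (normalizer (Q : Set G)) := by
    have : A.relIndex (normalizer (Q : Set G)) = (A0 : Subgroup (normalizer (Q : Set G))).index := by
      rw [Subgroup.relIndex, hAdef, Subgroup.subgroupOf,
        Subgroup.comap_map_eq_self_of_injective (Subgroup.subtype_injective _)]
    rw [this]; exact A0.not_dvd_index
  intro hd
  apply h3
  rw [← Subgroup.relIndex_mul_relIndex A (centralizer (Q : Set G)) _ h2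
    (Subgroup.centralizer_le_normalizer _)]
  exact Dvd.dvd.mul_left hd _

end Cfsg.Agent.S1901
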