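import Cfsg.Statements.S3681
-- import your own Cfsg.Agent.* helpers here

set_option autoImplicit false
open Cfsg

namespace Cfsg.Agent.S3681

theorem ainv {Ω : Type*} (X : Equiv.Perm Ω) (ω : Ω) : X (X⁻¹ ω) = ω := X.apply_symm_apply ω

theorem iinv {Ω : Type*} (X : Equiv.Perm Ω) (ω : Ω) : X⁻¹ (X ω) = ω := X.symm_apply_apply ω

open Equiv in
/-- Two permutations whose moved points meet in exactly one point have a 3-cycle as commutator. -/
theorem commutator_isThreeCycle {Ω : Type*} [Fintype Ω] [DecidableEq Ω] (X Y : Perm Ω) (Γ : Finset Ω) (α : Ω)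
    (hα : α ∈ Γ) (hX : ∀ ω, ω ∉ Γ → X ω = ω) (hY : ∀ ω, ω ∈ Γ → ω ≠ α → Y ω = ω) (hXα : X α ≠ α) (hYα : Y α ≠ α) :
    (X * Y * X⁻¹ * Y⁻¹).IsThreeCycle := by
  have hXΓ : ∀ ω, ω ∈ Γ → X ω ∈ Γ := by
    intro ω hω
    by_contra h
    have := hX _ h
    have := X.injective this
    rw [this] at h
    exact h hω
  have hX' : ∀ ω, ω ∉ Γ → X⁻¹ ω = ω := fun ω h => by
    rw [Perm.inv_eq_iff_eq]; exact (hX ω h).symm
  have hXiΓ : ∀ ω, ω ∈ Γ → X⁻¹ ω ∈ Γ := by
    intro ω hω
    by_contra h
    have := hX _ h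
    rw [ainv] at this
    rw [← this] at h
    exact h hω
  have hY' : ∀ ω, ω ∈ Γ → ω ≠ α → Y⁻¹ ω = ω := fun ω h h' => by
    rw [Perm.inv_eq_iff_eq]; exact (hY ω h h').symm
  have hβΓ : X α ∈ Γ := hXΓ α hα
  have hγΓ : Y α ∉ Γ := by
    intro h
    have := hY _ h hYα
    exact hYα (Y.injective this)
  have hγ'Γ : Y⁻¹ α ∉ Γ := by
    intro h
    have h1 : Y⁻¹ α ≠ α := by
      intro h2; rw [Perm.inv_eq_iff_eq] at h2; exact hYα h2.symm
    have := hY _ h h1
    rw [ainv] at this
    exact h1 this.symm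
  have hβγ : X α ≠ Y α := fun h => hγΓ (h ▸ hβΓ)
  have hXiα : X⁻¹ α ≠ α := by
    intro h2; rw [Perm.inv_eq_iff_eq] at h2; exact hXα h2.symm
  have key : X * Y * X⁻¹ * Y⁻¹ = swap (X α) α * swap (X α) (Y α) := by
    ext ω
    simp only [Perm.mul_apply]
    by_cases h1 : ω = α
    · subst h1
      rw [hX' _ hγ'Γ, ainv]
      rw [swap_apply_of_ne_of_ne (x := ω) hXα.symm hYα.symm, swap_apply_right]
    by_cases h2 : ω = X α
    · subst h2
      rw [hY' _ hβΓ hXα, iinv, hX _ hγΓ, swap_apply_left, swap_apply_of_ne_of_ne hβγ.symm hYα]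
    by_cases h3 : ω = Y α
    · subst h3
      rw [iinv, hY _ (hXiΓ _ hα) hXiα, ainv, swap_apply_right, swap_apply_left]
    rw [swap_apply_of_ne_of_ne h2 h3, swap_apply_of_ne_of_ne h2 h1]
    by_cases h4 : ω ∈ Γ
    · have h5 : X⁻¹ ω ≠ α := by
        intro h; rw [Perm.inv_eq_iff_eq] at h; exact h2 h
      rw [hY' _ h4 h1, hY _ (hXiΓ _ h4) h5, ainv]
    · have h5 : Y⁻¹ ω ∉ Γ := by
        intro h
        have h6 : Y⁻¹ ω ≠ α := by
          intro h; rw [Perm.inv_eq_iff_eq] at h; exact h3 h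
        have := hY _ h h6
        rw [ainv] at this
        rw [← this] at h
        exact h4 h
      rw [hX' _ h5, ainv, hX _ h4]
  rw [key]
  exact Perm.isThreeCycle_swap_mul_swap_same hXα hβγ hYα.symm

/-- Bochert's bound for primitive groups. Let a finite group G act faithfully and primitively on a finite set Ω with n elements, and suppose the image of G in the symmetric group of Ω does not contain the alternating group of Ω. Then |G| · ⌊(n + 1)/2⌋! ≤ n!, that is, the index of G in the symmetric group is at least ⌊(n + 1)/2⌋!. -/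
theorem result {G Ω : Type*} [Group G] [Finite G] [MulAction G Ω] [FaithfulSMul G Ω] [Fintype Ω] [DecidableEq Ω]
    (hprim : MulAction.IsPreprimitive G Ω) (hA : ¬ alternatingGroup Ω ≤ (MulAction.toPermHom G Ω).range) :
    Nat.card G * Nat.factorial ((Fintype.card Ω + 1) / 2) ≤ Nat.factorial (Fintype.card Ω) := by
  classical
  -- a smallest base
  let P : ℕ → Prop := fun k => ∃ Γ : Finset Ω, Γ.card = k ∧ ∀ g : G, (∀ x ∈ Γ, g • x = x) → g = 1
  have hP : ∃ k, P k := ⟨Fintype.card Ω, Finset.univ, Finset.card_univ, fun g hg =>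
    FaithfulSMul.eq_of_smul_eq_smul (α := Ω) (fun c => by rw [hg c (Finset.mem_univ c), one_smul])⟩
  obtain ⟨Γ, hΓc, hΓ⟩ : P (Nat.find hP) := Nat.find_spec hP
  have hmin : ∀ Δ : Finset Ω, Δ.card < Nat.find hP → ∃ g : G, (∀ x ∈ Δ, g • x = x) ∧ g ≠ 1 := by
    intro Δ hΔ
    have := Nat.find_min hP hΔ
    by_contra h
    push Not at h
    exact this ⟨Δ, rfl, h⟩
  have hb : 2 * Nat.find hP ≤ Fintype.card Ω := by
    by_contra hlt
    push Not at hlt
    obtain ⟨x, hx, hx1⟩ := hmin Γᶜ (by rw [Finset.card_compl, hΓc]; omega)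
    obtain ⟨α, hα⟩ : ∃ α : Ω, x • α ≠ α := by
      by_contra h
      push Not at h
      exact hx1 (FaithfulSMul.eq_of_smul_eq_smul (α := Ω) (fun c => by rw [h c, one_smul]))
    have hαΓ : α ∈ Γ := by
      by_contra h
      exact hα (hx α (by rw [Finset.mem_compl]; exact h))
    obtain ⟨y, hy, hy1⟩ := hmin (Γ.erase α) (by
      rw [Finset.card_erase_of_mem hαΓ, hΓc]
      have : 0 < Γ.card := Finset.card_pos.mpr ⟨α, hαΓ⟩
      omega)
    have hyα : y • α ≠ α := by
      intro h
      apply hy1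
      apply hΓ
      intro z hz
      by_cases hzα : z = α
      · rw [hzα, h]
      · exact hy z (Finset.mem_erase.mpr ⟨hzα, hz⟩)
    have h3 := commutator_isThreeCycle (MulAction.toPermHom G Ω x) (MulAction.toPermHom G Ω y) Γ α hαΓ
      (fun ω hω => hx ω (by rw [Finset.mem_compl]; exact hω))
      (fun ω hω hωα => hy ω (Finset.mem_erase.mpr ⟨hωα, hω⟩)) hα hyα
    have hprim' : MulAction.IsPreprimitive (MulAction.toPermHom G Ω).range Ω := by
      let f : Ω →ₑ[(MulAction.toPermHom G Ω).rangeRestrict] Ω :=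
        { toFun := id
          map_smul' := fun m x => rfl }
      exact MulAction.IsPreprimitive.of_surjective (f := f) Function.surjective_id
    apply hA
    apply Equiv.Perm.alternatingGroup_le_of_isPreprimitive_of_isThreeCycle_mem hprim' h3
    refine ⟨x * y * x⁻¹ * y⁻¹, ?_⟩
    rw [map_mul, map_mul, map_mul, map_inv, map_inv]
  -- counting
  have hcount : Nat.card G ≤ (Fintype.card Ω).descFactorial (Nat.find hP) := by
    have h1 : Nat.card (Γ ↪ Ω) = (Fintype.card Ω).descFactorial (Nat.find hP) := by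
      rw [Nat.card_eq_fintype_card, Fintype.card_embedding_eq, Fintype.card_coe, hΓc]
    rw [← h1]
    apply Nat.card_le_card_of_injective
      (fun g : G => (⟨fun x : Γ => g • (x : Ω), fun x y h => Subtype.ext (MulAction.injective g h)⟩ : Γ ↪ Ω))
    intro g h hgh
    have h2 : ∀ x ∈ Γ, g • x = h • x := fun x hx => by
      have := DFunLike.congr_fun hgh (⟨x, hx⟩ : Γ)
      exact this
    have h3 : h⁻¹ * g = 1 := hΓ _ (fun x hx => by rw [mul_smul, h2 x hx, inv_smul_smul])
    exact (inv_mul_eq_one.mp h3).symm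
  have hfac : (Fintype.card Ω - Nat.find hP).factorial * (Fintype.card Ω).descFactorial (Nat.find hP) =
      (Fintype.card Ω).factorial := Nat.factorial_mul_descFactorial (by omega)
  calc Nat.card G * Nat.factorial ((Fintype.card Ω + 1) / 2)
      ≤ (Fintype.card Ω).descFactorial (Nat.find hP) * (Fintype.card Ω - Nat.find hP).factorial :=
        Nat.mul_le_mul hcount (Nat.factorial_le (by omega))
    _ = Nat.factorial (Fintype.card Ω) := by rw [mul_comm]; exact hfac

end Cfsg.Agent.S3681
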