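import Cfsg.Statements.S0106
-- import your own Cfsg.Agent.* helpers here
import Cfsg.Agent.S0071
import Cfsg.Agent.Quat.SL23

set_option autoImplicit false
open Cfsg

namespace Cfsg.Agent.S0106

/-- An element of odd order normalizing a cyclic 2-subgroup centralizes it. -/
theorem mem_centralizer_of_cyclic {G : Type*} [Group G] [Finite G] (C : Subgroup G) [IsCyclic C] (hC : IsPGroup 2 C)
    (x : G) (hx : x ∈ Subgroup.normalizer (C : Set G)) (hodd : Nat.Coprime (orderOf x) 2) :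
    x ∈ Subgroup.centralizer (C : Set G) := by
  have : Fact (Nat.Prime 2) := ⟨Nat.prime_two⟩
  have h1 : C.normalizerMonoidHom ⟨x, hx⟩ = 1 := by
    rw [← orderOf_eq_one_iff]
    obtain ⟨k, hk⟩ := IsPGroup.iff_card.1 hC
    apply Nat.eq_one_of_dvd_coprimes (a := orderOf x) (b := 2 ^ (k - 1)) (hodd.pow_right _)
    · refine (orderOf_map_dvd _ _).trans ?_
      rw [Subgroup.orderOf_mk]
    · have h2 := orderOf_dvd_natCard (C.normalizerMonoidHom ⟨x, hx⟩)
      rw [IsCyclic.card_mulAut, hk] at h2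
      rcases Nat.eq_zero_or_pos k with rfl | hk0
      · simpa using h2
      · rw [Nat.totient_prime_pow Nat.prime_two hk0] at h2
        simpa using h2
  have h2 : (⟨x, hx⟩ : Subgroup.normalizer (C : Set G)) ∈ C.normalizerMonoidHom.ker := h1
  rw [Subgroup.normalizerMonoidHom_ker] at h2
  exact h2

variable {G : Type*} [Group G]

/-- Main case analysis. -/
theorem exists_section_of {G : Type*} [Group G] [Finite G] (T : Subgroup G) (hT2 : IsPGroup 2 T) (A : Subgroup G)
    [IsCyclic A] (hAT : A ≤ T)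
    (F1 : ∀ g ∈ T, ∀ h ∈ T, g ∉ A → h ∉ A → g⁻¹ * h ∈ A)
    (F3 : ∀ g ∈ A, ∀ t ∈ T, t ∉ A → t * g * t⁻¹ = g⁻¹)
    (F4 : ∀ t ∈ T, t ∉ A → t ^ 4 = 1 ∧ t ^ 2 ≠ 1)
    (F5 : ∀ g ∈ A, g ^ 4 = 1 → g ^ 2 ≠ 1 → ∀ t ∈ T, t ∉ A → g ^ 2 = t ^ 2)
    (Q : Subgroup G) (hQT : Q ≤ T) (x : G) (hx : x ∈ Subgroup.normalizer (Q : Set G))
    (hodd : Nat.Coprime (orderOf x) 2) (hnc : x ∉ Subgroup.centralizer (Q : Set G)) :
    ∃ (H K : Subgroup G) (_ : (K.subgroupOf H).Normal), Nonempty ((H ⧸ K.subgroupOf H) ≃* Quat.SL23) := by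
  have : Fact (Nat.Prime 2) := ⟨Nat.prime_two⟩
  have hxQ : ∀ q ∈ Q, x * q * x⁻¹ ∈ Q := fun q hq => (Subgroup.mem_normalizer_iff.1 hx q).1 hq
  have hoddx : Odd (orderOf x) := Nat.coprime_two_right.1 hodd
  set C : Subgroup G := A ⊓ Q with hC
  have hCA : C ≤ A := inf_le_left
  have hCcyc : IsCyclic C := isCyclic_of_injective _ (Subgroup.inclusion_injective hCA)
  have hC2 : IsPGroup 2 C := hT2.to_le (hCA.trans hAT)
  have hsq : ∀ g ∈ T, g * g ∈ A := by
    intro g hg
    by_cases hgA : g ∈ A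
    · exact A.mul_mem hgA hgA
    · have hgi : g⁻¹ ∉ A := fun h => hgA (by simpa using A.inv_mem h)
      have := F1 g⁻¹ (T.inv_mem hg) g hg hgi hgA
      rwa [inv_inv] at this
  have hconjA : ∀ (k : ℕ) (g h : G), x * g * x⁻¹ = g * h → x * h = h * x → x ^ k * g * (x ^ k)⁻¹ = g * h ^ k := by
    intro k g h h1 h2
    induction k with
    | zero => simp
    | succ k ih =>
      have : x ^ (k + 1) * g * (x ^ (k + 1))⁻¹ = x * (x ^ k * g * (x ^ k)⁻¹) * x⁻¹ := by
        rw [pow_succ']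
        group
      rw [this, ih]
      have h3 : x * h ^ k = h ^ k * x := ((show Commute x h from h2).pow_right k).eq
      calc x * (g * h ^ k) * x⁻¹ = (x * g * x⁻¹) * (x * h ^ k * x⁻¹) := by group
        _ = (g * h) * h ^ k := by rw [h1, h3, mul_inv_cancel_right]
        _ = g * h ^ (k + 1) := by rw [mul_assoc, ← pow_succ']
  by_cases hcase : ∀ s ∈ C, x * s * x⁻¹ ∈ A
  · -- x normalizes C
    exfalso
    apply hnc
    have hxC : ∀ s ∈ C, x * s * x⁻¹ ∈ C := fun s hs => ⟨hcase s hs, hxQ s hs.2⟩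
    have hxCn : x ∈ Subgroup.normalizer (C : Set G) := by
      have h1 : C.map (MulAut.conj x).toMonoidHom ≤ C := by
        rintro _ ⟨s, hs, rfl⟩
        exact hxC s hs
      have h2 : C.map (MulAut.conj x).toMonoidHom = C := by
        apply Subgroup.eq_of_le_of_card_ge h1
        exact (Nat.card_congr (C.equivMapOfInjective _ (MulAut.conj x).injective).toEquiv).le
      exact Subgroup.mem_normalizer_iff_map_conj_eq.2 h2
    have hxc := mem_centralizer_of_cyclic C hC2 x hxCn hodd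
    rw [Subgroup.mem_centralizer_iff] at hxc ⊢
    intro q hq
    by_cases hqA : q ∈ A
    · exact hxc q ⟨hqA, hq⟩
    · have hxq := hxQ q hq
      have hxqA : x * q * x⁻¹ ∉ A := by
        intro h
        have h1 : x * q * x⁻¹ ∈ C := ⟨h, hxq⟩
        have h2 := (Subgroup.mem_normalizer_iff.1 hxCn q).2 h1
        exact hqA h2.1
      have hc1 : q⁻¹ * (x * q * x⁻¹) ∈ C := ⟨F1 q (hQT hq) _ (hQT hxq) hqA hxqA, Q.mul_mem (Q.inv_mem hq) hxq⟩
      have hc2 := hxc _ hc1
      have h3 := hconjA (orderOf x) q (q⁻¹ * (x * q * x⁻¹)) (by group) hc2.symm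
      rw [pow_orderOf_eq_one] at h3
      have h4 : (q⁻¹ * (x * q * x⁻¹)) ^ orderOf x = 1 := by
        have : q * (q⁻¹ * (x * q * x⁻¹)) ^ orderOf x = q * 1 := by rw [← h3]; group
        exact mul_left_cancel this
      have h5 : q⁻¹ * (x * q * x⁻¹) = 1 := by
        rw [← orderOf_eq_one_iff]
        obtain ⟨l, hl⟩ := (IsPGroup.iff_orderOf.1 hC2) ⟨_, hc1⟩
        rw [Subgroup.orderOf_mk] at hl
        apply Nat.eq_one_of_dvd_coprimes (hodd.pow_right l)
        · exact orderOf_dvd_of_pow_eq_one h4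
        · rw [hl]
      have h6 : x * q * x⁻¹ = q := by
        rw [inv_mul_eq_one] at h5
        exact h5.symm
      exact (mul_inv_eq_iff_eq_mul.1 h6).symm
  · push Not at hcase
    obtain ⟨s, hsC, htA⟩ := hcase
    set t : G := x * s * x⁻¹ with ht
    have hsT : s ∈ T := hAT hsC.1
    have htQ : t ∈ Q := hxQ s hsC.2
    have htT : t ∈ T := hQT htQ
    obtain ⟨ht4, ht2⟩ := F4 t htT htA
    have hs4 : s ^ 4 = 1 := by
      rw [ht, conj_pow] at ht4
      have : x⁻¹ * (x * s ^ 4 * x⁻¹) * x = x⁻¹ * 1 * x := by rw [ht4]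
      have h2 : x⁻¹ * (x * s ^ 4 * x⁻¹) * x = s ^ 4 := by group
      rw [h2] at this
      simpa using this
    have hs2 : s ^ 2 ≠ 1 := by
      intro h
      apply ht2
      rw [ht, conj_pow, h]
      group
    have hst2 : s ^ 2 = t ^ 2 := F5 s hsC.1 hs4 hs2 t htT htA
    have hts : t * s * t⁻¹ = s⁻¹ := F3 s hsC.1 t htT htA
    -- C is generated by s
    have hCs : ∀ c ∈ C, ∃ k : ℤ, s ^ k = c := by
      obtain ⟨⟨c0, hc0⟩, hgen⟩ := hCcyc.exists_generator
      obtain ⟨k, hk⟩ := hgen ⟨s, hsC⟩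
      have hk' : c0 ^ k = s := congrArg Subtype.val hk
      have hkodd : Odd k := by
        rw [← Int.not_even_iff_odd]
        rintro ⟨l, hl⟩
        apply htA
        have h1 : s = c0 ^ l * c0 ^ l := by rw [← zpow_add, ← hl, hk']
        have h2 : t = (x * c0 ^ l * x⁻¹) * (x * c0 ^ l * x⁻¹) := by
          rw [ht, h1]; group
        rw [h2]
        apply hsq
        exact hQT (hxQ _ (Q.zpow_mem hc0.2 l))
      obtain ⟨l, hl⟩ := (IsPGroup.iff_orderOf.1 hC2) ⟨_, hc0⟩
      rw [Subgroup.orderOf_mk] at hl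
      have hcop : IsCoprime k ((2 : ℤ) ^ l) := by
        apply IsCoprime.pow_right
        obtain ⟨r, hr⟩ := hkodd
        exact ⟨1, -r, by rw [hr]; ring⟩
      obtain ⟨a, b, hab⟩ := hcop
      intro c hc
      obtain ⟨m, hm⟩ := hgen ⟨c, hc⟩
      have hm' : c0 ^ m = c := congrArg Subtype.val hm
      refine ⟨a * m, ?_⟩
      have hone : c0 ^ ((2 : ℤ) ^ l) = 1 := by
        have : c0 ^ ((2 : ℕ) ^ l) = 1 := by rw [← hl]; exact pow_orderOf_eq_one c0
        have h2 : ((2 : ℤ) ^ l) = (((2 : ℕ) ^ l : ℕ) : ℤ) := by push_cast; rfl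
        rw [h2, zpow_natCast]
        exact this
      rw [← hk', ← hm', ← zpow_mul]
      have h3 : c0 ^ m = c0 ^ ((a * k + b * 2 ^ l) * m) := by rw [hab, one_mul]
      rw [h3, add_mul, zpow_add]
      have h4 : c0 ^ (b * 2 ^ l * m) = 1 := by
        rw [mul_comm b, mul_assoc, zpow_mul, hone, one_zpow]
      rw [h4, mul_one]
      congr 1
      ring
    have hCs' : ∀ c ∈ C, c = 1 ∨ c = s ∨ c = s ^ 2 ∨ c = s⁻¹ := by
      intro c hc
      obtain ⟨k, rfl⟩ := hCs c hc
      have h3 : s ^ 3 = s⁻¹ := by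
        rw [eq_inv_iff_mul_eq_one, ← pow_succ]; exact hs4
      have hz : s ^ (4 : ℤ) = 1 := by
        have : ((4 : ℕ) : ℤ) = 4 := rfl
        rw [← this, zpow_natCast]; exact hs4
      have h4 : s ^ k = s ^ (k % 4) := by
        conv_lhs => rw [← Int.emod_add_mul_ediv k 4, zpow_add, zpow_mul, hz, one_zpow, mul_one]
      have h5 : k % 4 = 0 ∨ k % 4 = 1 ∨ k % 4 = 2 ∨ k % 4 = 3 := by omega
      rw [h4]
      rcases h5 with h | h | h | h
      · left; rw [h, zpow_zero]
      · right; left; rw [h, zpow_one]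
      · right; right; left; rw [h]; exact zpow_ofNat s 2
      · right; right; right; rw [h, ← h3]; exact zpow_ofNat s 3
    have hxst : x * s = t * x := by rw [ht]; group
    -- image of t
    set w : G := x * t * x⁻¹ with hw
    have hwQ : w ∈ Q := hxQ t htQ
    have hnotcomm : x * s ≠ s * x := by
      intro h
      apply htA
      rw [ht, h, mul_inv_cancel_right]
      exact hsC.1
    by_cases hwA : w ∈ A
    · exfalso
      have hwC : w ∈ C := ⟨hwA, hwQ⟩
      have hx2 : x ^ 2 * s * (x ^ 2)⁻¹ = w := by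
        rw [hw, ht, pow_two]; group
      have hx4 : x ^ 4 * s * (x ^ 4)⁻¹ = s := by
        have h1 : x ^ 4 * s * (x ^ 4)⁻¹ = x ^ 2 * (x ^ 2 * s * (x ^ 2)⁻¹) * (x ^ 2)⁻¹ := by
          have : x ^ 4 = x ^ 2 * x ^ 2 := by rw [← pow_add]
          rw [this]; group
        rcases hCs' w hwC with h | h | h | h
        · exfalso
          rw [h] at hw
          have : t = 1 := by
            have h2 : x⁻¹ * (x * t * x⁻¹) * x = t := by group
            rw [← h2, ← hw]; group
          rw [this] at ht2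
          exact ht2 (one_pow 2)
        · rw [h1, hx2, h, hx2, h]
        · exfalso
          have h2 : w ^ 2 = 1 := by rw [h, ← pow_mul]; exact hs4
          apply ht2
          rw [hw, conj_pow] at h2
          have h3 : x⁻¹ * (x * t ^ 2 * x⁻¹) * x = t ^ 2 := by group
          rw [← h3, h2]; group
        · rw [h1, hx2, h]
          have h2 : x ^ 2 * s⁻¹ * (x ^ 2)⁻¹ = (x ^ 2 * s * (x ^ 2)⁻¹)⁻¹ := by group
          rw [h2, hx2, h, inv_inv]
      have hc4 : Commute (x ^ 4) s := mul_inv_eq_iff_eq_mul.1 hx4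
      have hcop : Nat.Coprime 4 (orderOf x) := by
        have : (4 : ℕ) = 2 ^ 2 := rfl
        rw [this]
        exact (hodd.symm).pow_left 2
      apply hnotcomm
      have hxmem : x ∈ Subgroup.zpowers (x ^ 4) := by
        rw [mem_zpowers_pow_iff]
        exact hcop
      obtain ⟨k, hk⟩ := hxmem
      have hk' : (x ^ 4) ^ k = x := hk
      have := (hc4.zpow_left k).eq
      rwa [hk'] at this
    · have hc := F1 t htT w (hQT hwQ) htA hwA
      have hcC : t⁻¹ * w ∈ C := ⟨hc, Q.mul_mem (Q.inv_mem htQ) hwQ⟩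
      have hwt : ∀ c, t⁻¹ * w = c → w = t * c := by
        rintro c rfl; group
      have hts' : t * s = s⁻¹ * t := mul_inv_eq_iff_eq_mul.1 hts
      have hts'' : t * s⁻¹ = s * t := by
        have h1 : t * s⁻¹ * t⁻¹ = (t * s * t⁻¹)⁻¹ := by group
        rw [hts, inv_inv] at h1
        exact mul_inv_eq_iff_eq_mul.1 h1
      have hinj : ∀ y, w = x * y * x⁻¹ → t = y := by
        intro y hy
        have h1 : x⁻¹ * w * x = t := by rw [hw]; group
        rw [← h1, hy]; group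
      rcases hCs' _ hcC with h | h | h | h
      · exfalso
        have h1 := hwt _ h
        rw [mul_one] at h1
        have h2 : t = s := hinj s (h1.trans ht)
        rw [h2] at htA
        exact htA hsC.1
      · -- w = t s
        have h1 : w = t * s := hwt _ h
        refine Quat.exists_section (s := s⁻¹) (t := t⁻¹) (x := x) ?_ ?_ ?_ ?_ ?_ ?_ hoddx
        · rw [inv_pow]
          have : s ^ (2 * 2) = 1 := hs4
          rw [this, inv_one]
        · rw [inv_pow, Ne, inv_eq_one]; exact hs2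
        · rw [inv_pow, hst2, ← mul_inv_rev, pow_two]
        · have h2 : t⁻¹ * s⁻¹ * t⁻¹⁻¹ = t⁻¹ * (t * s * t⁻¹) * t := by rw [hts]; group
          rw [h2]; group
        · rw [ht]; group
        · have h2 : x * t⁻¹ * x⁻¹ = w⁻¹ := by rw [hw]; group
          rw [h2, h1, mul_inv_rev]
      · exfalso
        have h1 : w = t * s ^ 2 := hwt _ h
        have h2 : w = t⁻¹ := by
          rw [h1, hst2, eq_inv_iff_mul_eq_one, ← pow_succ', ← pow_succ]
          exact ht4
        have h3 : t = s⁻¹ := by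
          apply hinj
          rw [h2, ht]; group
        rw [h3] at htA
        exact htA (A.inv_mem hsC.1)
      · have h1 : w = t * s⁻¹ := hwt _ h
        refine Quat.exists_section (s := s) (t := t) (x := x) hs4 hs2 ?_ hts rfl ?_ hoddx
        · rw [hst2, pow_two]
        · rw [← hts'', ← h1]

theorem zmod_double {N : ℕ} [NeZero N] (y : ZMod (2 * N)) (hy : y + y = 0) (hy0 : y ≠ 0) : y = (N : ZMod (2 * N)) := by
  have h4 : y = ((y.val : ℕ) : ZMod (2 * N)) := (ZMod.natCast_zmod_val y).symm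
  have h5 : y.val < 2 * N := ZMod.val_lt y
  have h6 : 0 < y.val := by
    rcases Nat.eq_zero_or_pos y.val with h0 | h0
    · exact absurd ((ZMod.val_eq_zero y).1 h0) hy0
    · exact h0
  have h7 : ((y.val + y.val : ℕ) : ZMod (2 * N)) = 0 := by
    push_cast
    rw [← h4]; exact hy
  rw [ZMod.natCast_eq_zero_iff] at h7
  obtain ⟨k, hk⟩ := h7
  have h9 : k = 1 := by
    rcases k with _ | _ | k
    · omega
    · rfl
    · exfalso
      have : 2 * N * (k + 1 + 1) ≥ 2 * N * 2 := Nat.mul_le_mul_left _ (by omega)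
      omega
  rw [h4]
  congr 1
  rw [h9] at hk
  omega

/-- A finite group with generalized quaternion Sylow 2-subgroups either has a normal 2-complement or has a section isomorphic to SL(2,3). -/
theorem result {G : Type*} [Group G] [Finite G] (T : Sylow 2 G) (n : ℕ) (hn : 1 ≤ n) (hT : Nonempty ((T : Subgroup G) ≃* QuaternionGroup (2 ^ n))) : Cfsg.HasNormalPComplement 2 G ∨ ∃ (H K : Subgroup G) (hK : (K.subgroupOf H).Normal), Nonempty ((H ⧸ K.subgroupOf H) ≃* Matrix.SpecialLinearGroup (Fin 2) (ZMod 3)) := by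
  have : Fact (Nat.Prime 2) := ⟨Nat.prime_two⟩
  by_cases hcomp : Cfsg.HasNormalPComplement 2 G
  · exact Or.inl hcomp
  right
  have hfrob : ∃ Q : Subgroup G, Q ≤ (T : Subgroup G) ∧ ∃ g ∈ Subgroup.normalizer (Q : Set G),
      Nat.Coprime (orderOf g) 2 ∧ g ∉ Subgroup.centralizer (Q : Set G) := by
    by_contra hcon
    push Not at hcon
    obtain ⟨N, hN, hNP⟩ := (Cfsg.Agent.S0071.result T).2 hcon
    exact hcomp ⟨T, N, hN, hNP⟩
  obtain ⟨Q, hQT, x, hx, hodd, hnc⟩ := hfrob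
  obtain ⟨e⟩ := hT
  have : NeZero (2 ^ n) := ⟨by positivity⟩
  set N := 2 ^ n with hN
  set a0 : G := ((e.symm (QuaternionGroup.a 1) : (T : Subgroup G)) : G) with ha0
  set A : Subgroup G := Subgroup.zpowers a0 with hA
  have hAT : A ≤ (T : Subgroup G) := by
    rw [hA, Subgroup.zpowers_le]
    exact (e.symm (QuaternionGroup.a 1)).2
  have hmem : ∀ g : (T : Subgroup G), (g : G) ∈ A ↔ ∃ i, e g = QuaternionGroup.a i := by
    intro g
    constructor
    · intro hg
      have hg' : (g : G) ∈ Submonoid.powers a0 := by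
        rwa [hA, ← mem_powers_iff_mem_zpowers] at hg
      obtain ⟨k, hk⟩ := hg'
      refine ⟨(k : ZMod (2 * N)), ?_⟩
      have h1 : g = (e.symm (QuaternionGroup.a 1)) ^ k := by
        apply Subtype.ext
        rw [Subgroup.coe_pow]
        exact hk.symm
      rw [h1, map_pow, MulEquiv.apply_symm_apply, QuaternionGroup.a_one_pow]
    · rintro ⟨i, hi⟩
      have h1 : (QuaternionGroup.a i : QuaternionGroup N) = (QuaternionGroup.a 1) ^ i.val := by
        rw [QuaternionGroup.a_one_pow, ZMod.natCast_zmod_val]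
      have h2 : g = (e.symm (QuaternionGroup.a 1)) ^ i.val := by
        rw [← map_pow, ← h1, ← hi, MulEquiv.symm_apply_apply]
      rw [h2, Subgroup.coe_pow]
      exact A.pow_mem (Subgroup.mem_zpowers a0) _
  have hnmem : ∀ g : (T : Subgroup G), (g : G) ∉ A → ∃ i, e g = QuaternionGroup.xa i := by
    intro g hg
    rcases h : e g with i | i
    · exact absurd ((hmem g).2 ⟨i, h⟩) hg
    · exact ⟨i, rfl⟩
  have hinj : ∀ g h : (T : Subgroup G), e g = e h → (g : G) = h := fun g h hgh => congrArg Subtype.val (e.injective hgh)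
  have F1 : ∀ g ∈ (T : Subgroup G), ∀ h ∈ (T : Subgroup G), g ∉ A → h ∉ A → g⁻¹ * h ∈ A := by
    intro g hg h hh hgA hhA
    obtain ⟨i, hi⟩ := hnmem ⟨g, hg⟩ hgA
    obtain ⟨j, hj⟩ := hnmem ⟨h, hh⟩ hhA
    apply (hmem ⟨g⁻¹ * h, T.mul_mem (T.inv_mem hg) hh⟩).2
    have h1 : (⟨g⁻¹ * h, T.mul_mem (T.inv_mem hg) hh⟩ : (T : Subgroup G)) = ⟨g, hg⟩⁻¹ * ⟨h, hh⟩ := rfl
    rw [h1, map_mul, map_inv, hi, hj]
    exact ⟨_, rfl⟩
  have F3 : ∀ g ∈ A, ∀ t ∈ (T : Subgroup G), t ∉ A → t * g * t⁻¹ = g⁻¹ := by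
    intro g hg t ht htA
    obtain ⟨i, hi⟩ := (hmem ⟨g, hAT hg⟩).1 hg
    obtain ⟨j, hj⟩ := hnmem ⟨t, ht⟩ htA
    have h1 := hinj (⟨t, ht⟩ * ⟨g, hAT hg⟩ * ⟨t, ht⟩⁻¹) (⟨g, hAT hg⟩⁻¹) (by
      rw [map_mul, map_mul, map_inv, map_inv, hi, hj, mul_inv_eq_iff_eq_mul]
      rw [QuaternionGroup.xa_mul_a]
      have : (QuaternionGroup.a i : QuaternionGroup N)⁻¹ = QuaternionGroup.a (-i) := rfl
      rw [this, QuaternionGroup.a_mul_xa, sub_neg_eq_add])
    exact h1
  have F4 : ∀ t ∈ (T : Subgroup G), t ∉ A → t ^ 4 = 1 ∧ t ^ 2 ≠ 1 := by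
    intro t ht htA
    obtain ⟨j, hj⟩ := hnmem ⟨t, ht⟩ htA
    have h1 : orderOf t = 4 := by
      have h2 := MulEquiv.orderOf_eq e ⟨t, ht⟩
      rw [hj, QuaternionGroup.orderOf_xa, Subgroup.orderOf_mk] at h2
      exact h2.symm
    refine ⟨by rw [← h1]; exact pow_orderOf_eq_one t, ?_⟩
    intro h
    have := orderOf_dvd_of_pow_eq_one h
    rw [h1] at this
    exact absurd (Nat.le_of_dvd (by norm_num) this) (by norm_num)
  have F5 : ∀ g ∈ A, g ^ 4 = 1 → g ^ 2 ≠ 1 → ∀ t ∈ (T : Subgroup G), t ∉ A → g ^ 2 = t ^ 2 := by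
    intro g hg h4 h2 t ht htA
    obtain ⟨i, hi⟩ := (hmem ⟨g, hAT hg⟩).1 hg
    obtain ⟨j, hj⟩ := hnmem ⟨t, ht⟩ htA
    have hi2 : (⟨g, hAT hg⟩ : (T : Subgroup G)) ^ 2 ≠ 1 := fun h => h2 (congrArg Subtype.val h)
    have hi4 : (⟨g, hAT hg⟩ : (T : Subgroup G)) ^ 4 = 1 := Subtype.ext h4
    have h5 : (i + i) + (i + i) = 0 := by
      have := congrArg e hi4
      rw [map_pow, hi, map_one, show (4 : ℕ) = 2 * 2 from rfl, pow_mul, pow_two, pow_two,
        QuaternionGroup.a_mul_a, QuaternionGroup.a_mul_a] at this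
      exact QuaternionGroup.a.inj this
    have h6 : i + i ≠ 0 := by
      intro h
      apply hi2
      apply e.injective
      rw [map_pow, hi, map_one, pow_two, QuaternionGroup.a_mul_a, h]
      rfl
    have h7 := zmod_double _ h5 h6
    have h8 := hinj (⟨g, hAT hg⟩ ^ 2) (⟨t, ht⟩ ^ 2) (by
      rw [map_pow, map_pow, hi, hj, QuaternionGroup.xa_sq, pow_two, QuaternionGroup.a_mul_a, h7])
    exact h8
  obtain ⟨H, K, hK, h⟩ := exists_section_of (T : Subgroup G) T.isPGroup' A hAT F1 F3 F4 F5 Q hQT x hx hodd hnc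
  exact ⟨H, K, hK, h⟩

end Cfsg.Agent.S0106
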