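import Cfsg.Statements.S2879
import Cfsg.Agent.H62.SL23Rec
import Cfsg.Agent.H20.QD
import Cfsg.Agent.S3742
import Cfsg.Agent.S0106
import Cfsg.Agent.FStar.AxB
import Cfsg.Agent.H47.Cop
import Cfsg.Agent.Solv.Core

set_option autoImplicit false
open Cfsg

namespace Cfsg.Agent.S2879

open Subgroup

/-- common shape of dihedral and semidihedral 2-groups. -/
def SGood (S : Type*) [Group S] (x : S) : Prop :=
  (∃ k, 2 ≤ k ∧ orderOf x = 2 ^ k) ∧
    (∀ t : S, t ∉ zpowers x → t ^ 4 = 1 ∧ ∀ c ∈ zpowers x, c ^ 4 = 1 → t * c * t⁻¹ = c⁻¹) ∧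
    (∀ t t' : S, t ∉ zpowers x → t' ∉ zpowers x → t⁻¹ * t' ∈ zpowers x)

theorem SGood.map {S S' : Type*} [Group S] [Group S'] (e : S ≃* S') {x : S} (h : SGood S x) : SGood S' (e x) := by
  obtain ⟨⟨k, hk, hx⟩, h2, h3⟩ := h
  have hz : ∀ y : S', y ∈ zpowers (e x) ↔ e.symm y ∈ zpowers x := by
    intro y
    rw [mem_zpowers_iff, mem_zpowers_iff]
    constructor
    · rintro ⟨k, rfl⟩
      exact ⟨k, by rw [map_zpow, MulEquiv.symm_apply_apply]⟩
    · rintro ⟨k, hk⟩
      exact ⟨k, by rw [← map_zpow, hk, MulEquiv.apply_symm_apply]⟩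
  refine ⟨⟨k, hk, by rw [MulEquiv.orderOf_eq, hx]⟩, ?_, ?_⟩
  · intro t ht
    rw [hz] at ht
    obtain ⟨h4, h5⟩ := h2 _ ht
    refine ⟨?_, ?_⟩
    · apply e.symm.injective
      rw [map_pow, h4, map_one]
    · intro c hc hc4
      rw [hz] at hc
      apply e.symm.injective
      rw [map_mul, map_mul, map_inv, map_inv]
      apply h5 _ hc
      rw [← map_pow, hc4, map_one]
  · intro t t' ht ht'
    rw [hz] at ht ht' ⊢
    rw [map_mul, map_inv]
    exact h3 _ _ ht ht'

theorem good_dihedral (k : ℕ) (hk : 2 ≤ k) : SGood (DihedralGroup (2 ^ k)) (DihedralGroup.r 1) := by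
  have hz : ∀ i : ZMod (2 ^ k), (DihedralGroup.r i : DihedralGroup (2 ^ k)) ∈ zpowers (DihedralGroup.r 1) := by
    intro i
    rw [mem_zpowers_iff]
    refine ⟨(i.val : ℤ), ?_⟩
    rw [zpow_natCast, DihedralGroup.r_one_pow, ZMod.natCast_zmod_val]
  have hz2 : ∀ y : DihedralGroup (2 ^ k), y ∈ zpowers (DihedralGroup.r 1) → ∃ i, y = DihedralGroup.r i := by
    intro y hy
    rw [mem_zpowers_iff] at hy
    obtain ⟨j, rfl⟩ := hy
    exact ⟨_, DihedralGroup.r_one_zpow j⟩
  refine ⟨⟨k, hk, DihedralGroup.orderOf_r_one⟩, ?_, ?_⟩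
  · intro t ht
    rcases t with i | i
    · exact absurd (hz i) ht
    · refine ⟨?_, ?_⟩
      · have : (DihedralGroup.sr i : DihedralGroup (2 ^ k)) * DihedralGroup.sr i = 1 := by
          rw [DihedralGroup.sr_mul_sr, sub_self]; rfl
        calc (DihedralGroup.sr i : DihedralGroup (2 ^ k)) ^ 4
            = (DihedralGroup.sr i * DihedralGroup.sr i) * (DihedralGroup.sr i * DihedralGroup.sr i) := by
              rw [show (4 : ℕ) = 2 + 2 by norm_num, pow_add, pow_two]
          _ = 1 := by rw [this, one_mul]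
      · intro c hc _
        obtain ⟨j, rfl⟩ := hz2 c hc
        rw [DihedralGroup.inv_sr, DihedralGroup.sr_mul_r, DihedralGroup.sr_mul_sr, DihedralGroup.inv_r]
        congr 1; ring
  · intro t t' ht ht'
    rcases t with i | i
    · exact absurd (hz i) ht
    · rcases t' with j | j
      · exact absurd (hz j) ht'
      · rw [DihedralGroup.inv_sr, DihedralGroup.sr_mul_sr]
        exact hz _

theorem good_qd {S : Type*} [Group S] {m : ℕ} (d : H20.QDData S m) : SGood S (d.e 1) := by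
  have hz : ∀ i, d.e i ∈ zpowers (d.e 1) := by
    intro i
    rw [mem_zpowers_iff]
    refine ⟨(i.val : ℤ), ?_⟩
    rw [zpow_natCast, ← d.e_nsmul, mul_one, ZMod.natCast_zmod_val]
  have hz2 : ∀ y, y ∈ zpowers (d.e 1) → ∃ i, y = d.e i := by
    intro y hy
    rcases d.cases y with ⟨i, hi⟩ | ⟨i, hi⟩
    · exact ⟨i, hi⟩
    · exfalso
      rw [hi] at hy
      have h1 : d.y ∈ zpowers (d.e 1) := by
        have := mul_mem (inv_mem (hz i)) hy
        rwa [inv_mul_cancel_left] at this
      have hfin : IsOfFinOrder (d.e 1) := by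
        rw [isOfFinOrder_iff_pow_eq_one]
        refine ⟨2 ^ (m + 3), by positivity, ?_⟩
        rw [← d.e_nsmul, ZMod.natCast_self, zero_mul, d.e_zero]
      obtain ⟨n, hn⟩ := (hfin.mem_powers_iff_mem_zpowers).2 h1
      change d.e 1 ^ n = d.y at hn
      rw [← d.e_nsmul] at hn
      exact d.ne _ hn
  have hout : ∀ t, t ∉ zpowers (d.e 1) → ∃ i, t = d.e i * d.y := by
    intro t ht
    rcases d.cases t with ⟨i, hi⟩ | ⟨i, hi⟩
    · exact absurd (hi ▸ hz i) ht
    · exact ⟨i, hi⟩
  have hzero : ((2 : ZMod (2 ^ (m + 3))) ^ (m + 3)) = 0 := H20.two_pow_zmod_self _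
  refine ⟨⟨m + 3, by omega, ?_⟩, ?_, ?_⟩
  · apply orderOf_eq_prime_pow
    · rw [← d.e_nsmul, mul_one, d.e_eq_one_iff]
      push_cast
      exact H20.QDData.h_ne
    · rw [← d.e_nsmul, mul_one, d.e_eq_one_iff]
      push_cast
      exact hzero
  · intro t ht
    obtain ⟨i, rfl⟩ := hout t ht
    refine ⟨?_, ?_⟩
    · rw [show (4 : ℕ) = 2 * 2 by norm_num, pow_mul, pow_two (d.e i * d.y), d.ey_sq, ← d.e_nsmul, d.e_eq_one_iff]
      push_cast
      rw [← mul_assoc, H20.QDData.two_h, zero_mul]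
    · intro c hc hc4
      obtain ⟨j, rfl⟩ := hz2 c hc
      rw [← d.e_nsmul, d.e_eq_one_iff] at hc4
      rw [d.ey_conj_e, ← d.e_neg]
      congr 1
      push_cast at hc4
      have : (2 : ZMod (2 ^ (m + 3))) ^ (m + 2) * j = 2 ^ m * (4 * j) := by ring
      rw [sub_mul, this, hc4]; ring
  · intro t t' ht ht'
    obtain ⟨i, rfl⟩ := hout t ht
    obtain ⟨j, rfl⟩ := hout t' ht'
    have : (d.e i * d.y)⁻¹ * (d.e j * d.y) = d.e ((2 ^ (m + 2) - 1) * (-i + j)) := by
      rw [mul_inv_rev, d.y_inv, ← d.e_neg]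
      calc d.y * d.e (-i) * (d.e j * d.y) = d.y * (d.e (-i) * d.e j) * d.y := by group
        _ = d.e ((2 ^ (m + 2) - 1) * (-i + j)) * d.y * d.y := by rw [← d.e_add, d.ye]
        _ = _ := by rw [mul_assoc, d.yy, mul_one]
    rw [this]
    exact hz _

section
variable {G : Type*} [Group G] [Finite G]

/-- An element of odd order normalizing `C ≤ O` cyclic 2-group with `[g,O] ≤ C` centralizes `O`. -/
theorem centralizes_of {C O : Subgroup G} {g : G} (hO : IsPGroup 2 O) (hCO : C ≤ O) [IsCyclic C] (hg : g ∈ normalizer (C : Set G))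
    (hodd : Nat.Coprime (orderOf g) 2) (h : ∀ o ∈ O, g * o * g⁻¹ * o⁻¹ ∈ C) : g ∈ centralizer (O : Set G) := by
  have hC : IsPGroup 2 C := hO.to_le hCO
  have h1 := S0106.mem_centralizer_of_cyclic C hC g hg hodd
  have h2 := H47.coprime_chain (x := g) (P := O) (Q := C) (W := ⊥) (by rw [normalizer_eq_top]; exact le_top)
    (H47.mem_normalizer_bot g) bot_le (by
      intro q hq
      obtain ⟨k, hk⟩ := hC ⟨q, hq⟩
      refine ⟨2 ^ k, hodd.pow_right _, ?_⟩
      have : q ^ 2 ^ k = 1 := congrArg Subtype.val hk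
      rw [this]; exact one_mem _) (by
      intro v hv
      exact h v hv) (by
      intro q hq
      have := mem_centralizer_iff.mp h1 q hq
      rw [mem_bot, commutatorElement_def, ← this]
      group)
  rw [mem_centralizer_iff]
  intro o ho
  have h3 := h2 o ho
  rw [mem_bot, commutatorElement_def] at h3
  have h4 : g * o * g⁻¹ = o := by
    have := mul_inv_eq_one.mp h3
    exact this
  calc o * g = (g * o * g⁻¹) * g := by rw [h4]
    _ = g * o := by group

end

open scoped commutatorElement in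
theorem core {G : Type*} [Group G] [Finite G] (T : Subgroup G) (x : G) (hxT : x ∈ T) (hTp : IsPGroup 2 T)
    (hx : ∃ k, 2 ≤ k ∧ orderOf x = 2 ^ k)
    (D2 : ∀ t ∈ T, t ∉ zpowers x → t ^ 4 = 1 ∧ ∀ c ∈ zpowers x, c ^ 4 = 1 → t * c * t⁻¹ = c⁻¹)
    (D3 : ∀ t ∈ T, ∀ t' ∈ T, t ∉ zpowers x → t' ∉ zpowers x → t⁻¹ * t' ∈ zpowers x)
    (hZ : (T ⊓ centralizer (T : Set G)).Normal)
    (O : Subgroup G) (hOn : O.Normal) (hOT : O ≤ T) (hCO : centralizer (O : Set G) ≤ O)
    (g : G) (hg : g ≠ 1) (hodd : Nat.Coprime (orderOf g) 2) :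
    ∃ c t : G, c ∈ O ∧ t ∈ O ∧ c ∈ zpowers x ∧ t ∉ zpowers x ∧ c ^ 2 ≠ 1 ∧ c ^ 4 = 1 ∧ t * t = c ^ 2 ∧ t = g * c * g⁻¹ ∧
      (∀ o ∈ O, o ∈ zpowers x → o ∈ zpowers c) := by
  have hOp : IsPGroup 2 O := hTp.to_le hOT
  obtain ⟨k, hk, hxk⟩ := hx
  set X := zpowers x with hX
  set C := O ⊓ X with hC
  have hXp : IsPGroup 2 X := hTp.to_le ((zpowers_le).mpr hxT)
  -- the unique involution
  have hinv : ∀ c ∈ X, ∀ d ∈ X, orderOf c = 2 → orderOf d = 2 → c = d := by
    intro c hc d hd hc2 hd2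
    classical
    have h1 : IsCyclic X := inferInstance
    have := Fintype.ofFinite X
    have h3 : (⟨c, hc⟩ : X) = ⟨d, hd⟩ := by
      have e1 : (⟨c, hc⟩ : X) ∈ zpowers (⟨d, hd⟩ : X) := by
        by_contra hne
        have f1 : (⟨c, hc⟩ : X) ≠ 1 := by
          intro h; rw [Subtype.ext_iff] at h; change c = 1 at h; rw [h, orderOf_one] at hc2; norm_num at hc2
        have f2 : (⟨d, hd⟩ : X) ≠ 1 := by
          intro h; rw [Subtype.ext_iff] at h; change d = 1 at h; rw [h, orderOf_one] at hd2; norm_num at hd2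
        have f3 : (⟨c, hc⟩ : X) ≠ ⟨d, hd⟩ := by
          intro h; apply hne; rw [h]; exact mem_zpowers _
        have h5 := IsCyclic.card_pow_eq_one_le (α := X) (n := 2) (by norm_num)
        have h6 : ({1, ⟨c, hc⟩, ⟨d, hd⟩} : Finset X) ⊆ Finset.univ.filter (fun a : X => a ^ 2 = 1) := by
          intro a ha
          simp only [Finset.mem_insert, Finset.mem_singleton] at ha
          rw [Finset.mem_filter]
          refine ⟨Finset.mem_univ _, ?_⟩
          rcases ha with rfl | rfl | rfl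
          · simp
          · apply Subtype.ext; change c ^ 2 = 1; rw [← hc2, pow_orderOf_eq_one]
          · apply Subtype.ext; change d ^ 2 = 1; rw [← hd2, pow_orderOf_eq_one]
        have h7 := Finset.card_le_card h6
        have h8 : ({1, ⟨c, hc⟩, ⟨d, hd⟩} : Finset X).card = 3 := by
          rw [Finset.card_insert_of_notMem, Finset.card_insert_of_notMem, Finset.card_singleton]
          · simpa using f3
          · simp only [Finset.mem_insert, Finset.mem_singleton, not_or]
            exact ⟨f1.symm, f2.symm⟩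
        have h9 : (Finset.univ.filter (fun a : X => a ^ 2 = 1)).card ≤ 2 := by
          convert h5
        omega
      obtain ⟨j, hj⟩ := e1
      have e2 : (d : G) ^ j = c := congrArg Subtype.val hj
      have e3 : (d : G) ^ 2 = 1 := by rw [← hd2, pow_orderOf_eq_one]
      rcases Int.even_or_odd' j with ⟨i, hi | hi⟩
      · exfalso
        rw [hi, zpow_mul, zpow_ofNat, e3, one_zpow] at e2
        rw [← e2, orderOf_one] at hc2
        norm_num at hc2
      · rw [hi, zpow_add, zpow_mul, zpow_ofNat, e3, one_zpow, one_mul, zpow_one] at e2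
        exact Subtype.ext e2.symm
    exact congrArg Subtype.val h3
  -- an element of order 4
  have hq : ∃ q ∈ X, q ^ 2 ≠ 1 ∧ q ^ 4 = 1 := by
    refine ⟨x ^ 2 ^ (k - 2), pow_mem (mem_zpowers x) _, ?_, ?_⟩
    · rw [← pow_mul, ← pow_succ]
      intro h
      have := orderOf_dvd_of_pow_eq_one h
      rw [hxk] at this
      have := (Nat.pow_dvd_pow_iff_le_right (by norm_num)).mp this
      omega
    · rw [← pow_mul, show 2 ^ (k - 2) * 4 = 2 ^ k by
        rw [show (4 : ℕ) = 2 ^ 2 by norm_num, ← pow_add]; congr 1; omega, ← hxk, pow_orderOf_eq_one]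
  -- C is cyclic
  have hCcyc : IsCyclic C := by
    have : IsCyclic X := inferInstance
    exact isCyclic_of_le (inf_le_right : C ≤ X)
  have hgC : g ∉ normalizer (C : Set G) := by
    intro hgN
    have h1 : g ∈ centralizer (O : Set G) := by
      apply centralizes_of hOp (inf_le_left : C ≤ O) hgN hodd
      intro o ho
      have h2 : g * o * g⁻¹ ∈ O := hOn.conj_mem o ho g
      refine Subgroup.mem_inf.mpr ⟨mul_mem h2 (inv_mem ho), ?_⟩
      by_cases hoX : o ∈ X
      · have h3 : g * o * g⁻¹ ∈ C := (mem_normalizer_iff.mp hgN o).mp ⟨ho, hoX⟩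
        exact mul_mem h3.2 (inv_mem hoX)
      · have h3 : g * o * g⁻¹ ∉ X := by
          intro h
          exact hoX ((mem_normalizer_iff.mp hgN o).mpr ⟨h2, h⟩).2
        have h4 : (g * o * g⁻¹)⁻¹ ∉ X := fun h => h3 (by simpa using inv_mem h)
        have h5 : o⁻¹ ∉ X := fun h => hoX (by simpa using inv_mem h)
        have := D3 _ (hOT (inv_mem h2)) _ (hOT (inv_mem ho)) h4 h5
        rwa [inv_inv] at this
    have h2 := hCO h1
    obtain ⟨j, hj⟩ := hOp ⟨g, h2⟩
    have h3 : g ^ 2 ^ j = 1 := congrArg Subtype.val hj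
    have h4 := orderOf_dvd_of_pow_eq_one h3
    have h5 := Nat.Coprime.eq_one_of_dvd (hodd.pow_right j) h4
    exact hg (orderOf_eq_one_iff.mp h5)
  -- a generator of C
  obtain ⟨⟨c, hcC⟩, hcgen⟩ := hCcyc.exists_generator
  have hCc : ∀ y ∈ C, y ∈ zpowers c := by
    intro y hy
    obtain ⟨j, hj⟩ := hcgen ⟨y, hy⟩
    exact ⟨j, congrArg Subtype.val hj⟩
  have hgc : g * c * g⁻¹ ∉ C := by
    intro h
    apply hgC
    apply H47.mem_normalizer_of_map_conj_le
    rintro _ ⟨y, hy, rfl⟩
    obtain ⟨j, rfl⟩ := hCc y hy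
    change g * c ^ j * g⁻¹ ∈ C
    rw [← conj_zpow]
    exact zpow_mem h j
  have hgcO : g * c * g⁻¹ ∈ O := hOn.conj_mem c hcC.1 g
  have hgcX : g * c * g⁻¹ ∉ X := fun h => hgc ⟨hgcO, h⟩
  obtain ⟨h4, h5⟩ := D2 _ (hOT hgcO) hgcX
  have hc4 : c ^ 4 = 1 := by
    rw [conj_pow] at h4
    exact conj_eq_one_iff.mp h4
  have hc1 : c ≠ 1 := by
    rintro rfl
    apply hgcX
    rw [mul_one, mul_inv_cancel]; exact one_mem _
  have hc2 : c ^ 2 ≠ 1 := by
    intro hc2
    -- c is the central involution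
    have hco : orderOf c = 2 := orderOf_eq_prime hc2 hc1
    obtain ⟨q, hqX, hq2, hq4⟩ := hq
    have hqo : orderOf (q ^ 2) = 2 := orderOf_eq_prime (by rw [← pow_mul]; exact hq4) hq2
    have hcZ : c ∈ T ⊓ centralizer (T : Set G) := by
      refine Subgroup.mem_inf.mpr ⟨hOT hcC.1, ?_⟩
      rw [mem_centralizer_iff]
      intro t ht
      by_cases htX : t ∈ X
      · obtain ⟨a, rfl⟩ := mem_zpowers_iff.mp htX
        obtain ⟨b, hb⟩ := mem_zpowers_iff.mp hcC.2
        rw [← hb, ← zpow_add, ← zpow_add, add_comm]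
      · have := (D2 t ht htX).2 c hcC.2 hc4
        have h6 : c⁻¹ = c := by
          rw [inv_eq_iff_mul_eq_one, ← pow_two]; exact hc2
        rw [h6] at this
        calc t * c = (t * c * t⁻¹) * t := by group
          _ = c * t := by rw [this]
    have h6 := hZ.conj_mem c hcZ g
    have h7 := (D2 _ (hOT hgcO) hgcX).2 q hqX hq4
    have h8 : q * (g * c * g⁻¹) = (g * c * g⁻¹) * q :=
      mem_centralizer_iff.mp h6.2 q ((zpowers_le.mpr hxT) hqX)
    apply hq2
    have h9 : q = q⁻¹ := by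
      rw [← h7, ← h8]; group
    rw [pow_two]
    nth_rewrite 2 [h9]
    exact mul_inv_cancel q
  refine ⟨c, g * c * g⁻¹, hcC.1, hgcO, hcC.2, hgcX, hc2, hc4, ?_, rfl, fun o ho hoX => hCc o ⟨ho, hoX⟩⟩
  -- t * t = c ^ 2
  set t := g * c * g⁻¹ with ht
  have ht2 : t * t ∈ X := by
    have h6 : t⁻¹ ∉ X := fun h => hgcX (by simpa using inv_mem h)
    have := D3 t⁻¹ (hOT (inv_mem hgcO)) t (hOT hgcO) h6 hgcX
    rwa [inv_inv] at this
  have ht2o : orderOf (t * t) = 2 := by
    apply orderOf_eq_prime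
    · calc (t * t) ^ 2 = t ^ 4 := by rw [← pow_two, ← pow_mul]
        _ = 1 := h4
    · intro h
      apply hc2
      have : t * t = g * (c ^ 2) * g⁻¹ := by rw [ht, pow_two]; group
      rw [this] at h
      exact conj_eq_one_iff.mp h
  have hc2o : orderOf (c ^ 2) = 2 := orderOf_eq_prime (by rw [← pow_mul]; exact hc4) hc2
  exact hinv _ ht2 _ (pow_mem hcC.2 2) ht2o hc2o

/-- `|MulAut Q₈| = 24`. -/
theorem card_mulAut_quat : Nat.card (MulAut (QuaternionGroup 2)) = 24 := by
  obtain ⟨e⟩ := S3742.result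
  rw [Nat.card_congr e.toEquiv, Nat.card_eq_fintype_card, Fintype.card_perm]
  rfl

theorem index_centralizer_dvd {G : Type*} [Group G] [Finite G] (O : Subgroup G) [O.Normal]
    (hO : Nonempty (O ≃* QuaternionGroup 2)) : (centralizer (O : Set G)).index ∣ 24 := by
  obtain ⟨e⟩ := hO
  have hker : (MulAut.conjNormal (H := O) : G →* MulAut O).ker = centralizer (O : Set G) := by
    ext g
    rw [MonoidHom.mem_ker, mem_centralizer_iff]
    constructor
    · intro h o ho
      have h1 : MulAut.conjNormal g (⟨o, ho⟩ : O) = ⟨o, ho⟩ := by rw [h]; rfl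
      have h2 := congrArg Subtype.val h1
      rw [MulAut.conjNormal_apply] at h2
      change g * o * g⁻¹ = o at h2
      calc o * g = (g * o * g⁻¹) * g := by rw [h2]
        _ = g * o := by group
    · intro h
      ext ⟨o, ho⟩
      rw [MulAut.conjNormal_apply]
      change g * o * g⁻¹ = o
      rw [← h o ho]; group
  rw [← hker, index_ker, ← card_mulAut_quat, Nat.card_congr (MulAut.congr e).symm.toEquiv]
  exact card_subgroup_dvd_card _

theorem card_SL23 : Nat.card (Matrix.SpecialLinearGroup (Fin 2) (ZMod 3)) = 24 := by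
  rw [Nat.card_eq_fintype_card]
  decide +kernel

/-- Let G be a finite solvable group with O(G) = 1 whose Sylow 2-subgroup T is dihedral of order at least 8 or semidihedral, with G ≠ T and Z(T) normal in G. Then G has a normal subgroup isomorphic to SL₂(3). -/
theorem result {G : Type*} [Group G] [Finite G] (hsol : IsSolvable G) (hO : Cfsg.oddCore G = ⊥) (T : Sylow 2 G) (hT : (∃ n : ℕ, 4 ≤ n ∧ Nonempty (↥(T : Subgroup G) ≃* DihedralGroup n)) ∨ Cfsg.IsQuasiDihedral ↥(T : Subgroup G)) (hne : (T : Subgroup G) ≠ ⊤) (hZ : ((T : Subgroup G) ⊓ Subgroup.centralizer ((T : Subgroup G) : Set G)).Normal) : ∃ U : Subgroup G, U.Normal ∧ Nonempty (↥U ≃* Matrix.SpecialLinearGroup (Fin 2) (ZMod 3)) := by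
  -- O = O_2(G), self-centralizing
  have hT2 : IsPGroup 2 (T : Subgroup G) := T.2
  set O := Cfsg.pCore 2 G with hOdef
  have hOn : O.Normal := inferInstance
  have hlay : Cfsg.layer G = ⊥ := by
    rw [eq_bot_iff, FStar.layer_le_iff]
    intro L hL
    exfalso
    apply FStar.not_isSolvable_of_isQuasisimple hL.2
    have hG : Group.IsSolvable G := hsol
    exact Group.isSolvable_of_isSolvable_injective (f := L.subtype) L.subtype_injective
  have hqs : ∀ q : ℕ, q.Prime → q ≠ 2 → Cfsg.pCore q G = ⊥ := by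
    intro q hq hq2
    haveI := Fact.mk hq
    rw [eq_bot_iff, ← hO]
    exact FStar.pCore_le_pPrimeCore_of_ne (p := 2) hq2
  have hCO : centralizer (O : Set G) ≤ O := by
    have h1 := FStar.isPGroup_generalizedFitting_of (p := 2) hlay hqs
    have h2 := FStar.generalizedFitting_eq_pCore_iff.2 h1
    rw [hOdef, ← h2]
    exact FStar.centralizer_generalizedFitting_le
  have hOT : O ≤ (T : Subgroup G) := Solv.pCore_le_sylow T
  have hOp : IsPGroup 2 O := hT2.to_le hOT
  -- shape of T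
  obtain ⟨x, hxgood⟩ : ∃ x : ↥(T : Subgroup G), SGood ↥(T : Subgroup G) x := by
    rcases hT with ⟨n, hn, ⟨e⟩⟩ | hT
    · have hcard : Nat.card (DihedralGroup n) = 2 * n := by
        exact DihedralGroup.nat_card
      obtain ⟨k, hk⟩ := hT2.exists_card_eq
      change Nat.card ↥(T : Subgroup G) = _ at hk
      rw [Nat.card_congr e.toEquiv, hcard] at hk
      have hn2 : ∃ j, 2 ≤ j ∧ n = 2 ^ j := by
        have h1 : n ∣ 2 ^ k := ⟨2, by rw [← hk]; ring⟩
        obtain ⟨j, -, hj⟩ := (Nat.dvd_prime_pow Nat.prime_two).mp h1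
        refine ⟨j, ?_, hj⟩
        by_contra hlt
        interval_cases j <;> omega
      obtain ⟨j, hj2, rfl⟩ := hn2
      exact ⟨_, (good_dihedral j hj2).map e.symm⟩
    · obtain ⟨m, -, ⟨d⟩⟩ := H20.QDData.exists_of_isQuasiDihedral hT
      exact ⟨_, good_qd d⟩
  obtain ⟨hx1, hx2, hx3⟩ := hxgood
  have hmem : ∀ t : G, ∀ ht : t ∈ (T : Subgroup G), t ∉ zpowers (x : G) → (⟨t, ht⟩ : ↥(T : Subgroup G)) ∉ zpowers x := by
    intro t ht h1 h2
    apply h1
    obtain ⟨j, hj⟩ := h2
    exact ⟨j, congrArg Subtype.val hj⟩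
  have D2 : ∀ t ∈ (T : Subgroup G), t ∉ zpowers (x : G) → t ^ 4 = 1 ∧ ∀ c ∈ zpowers (x : G), c ^ 4 = 1 → t * c * t⁻¹ = c⁻¹ := by
    intro t ht htx
    obtain ⟨h1, h2⟩ := hx2 ⟨t, ht⟩ (hmem t ht htx)
    refine ⟨congrArg Subtype.val h1, ?_⟩
    rintro c ⟨j, hj⟩ hc4
    have h3 := h2 (x ^ j) ⟨j, rfl⟩ (by
      apply Subtype.ext
      change ((x : G) ^ j) ^ 4 = 1
      rw [show (x : G) ^ j = c from hj]; exact hc4)
    have h4 := congrArg Subtype.val h3
    change t * ((x : G) ^ j) * t⁻¹ = ((x : G) ^ j)⁻¹ at h4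
    rwa [show (x : G) ^ j = c from hj] at h4
  have D3 : ∀ t ∈ (T : Subgroup G), ∀ t' ∈ (T : Subgroup G), t ∉ zpowers (x : G) → t' ∉ zpowers (x : G) → t⁻¹ * t' ∈ zpowers (x : G) := by
    intro t ht t' ht' h1 h2
    obtain ⟨j, hj⟩ := hx3 ⟨t, ht⟩ ⟨t', ht'⟩ (hmem t ht h1) (hmem t' ht' h2)
    exact ⟨j, congrArg Subtype.val hj⟩
  have hxo : ∃ k, 2 ≤ k ∧ orderOf (x : G) = 2 ^ k := by
    obtain ⟨k, hk, h⟩ := hx1
    exact ⟨k, hk, by rw [← h]; exact Subgroup.orderOf_coe x⟩
  have hcore := core (T : Subgroup G) (x : G) x.2 hT2 hxo D2 D3 hZ O hOn hOT hCO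
  -- G is not a 2-group: some odd prime divides
  obtain ⟨r, hr, hrd⟩ : ∃ r : ℕ, r.Prime ∧ r ≠ 2 ∧ r ∣ Nat.card G := by
    by_contra hcon
    push Not at hcon
    apply hne
    have h1 : IsPGroup 2 G := by
      rw [IsPGroup.iff_card]
      refine ⟨_, Nat.eq_prime_pow_of_unique_prime_dvd Nat.card_pos.ne' (fun {d} hd hdd => ?_)⟩
      by_contra hd2
      exact hcon d hd hd2 hdd
    have h2 : IsPGroup 2 (⊤ : Subgroup G) := h1.to_subgroup ⊤
    exact (T.3 h2 le_top).symm
  obtain ⟨hr2, hrd⟩ := hrd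
  haveI := Fact.mk hr
  obtain ⟨g, hgr⟩ := exists_prime_orderOf_dvd_card' (G := G) r hrd
  have hg1 : g ≠ 1 := by
    rintro rfl; rw [orderOf_one] at hgr; exact hr.ne_one hgr.symm
  have hgodd : Nat.Coprime (orderOf g) 2 := by
    rw [hgr]; exact (Nat.coprime_primes hr Nat.prime_two).mpr hr2
  obtain ⟨c, t, hcO, htO, hcX, htX, hc2, hc4, htt, htg, hOX⟩ := hcore g hg1 hgodd
  have htT := hOT htO
  have hst : t * c * t⁻¹ = c⁻¹ := (D2 t htT htX).2 c hcX hc4
  -- O = ⟨c, t⟩
  have hOcl : O = closure {c, t} := by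
    apply le_antisymm
    · intro o ho
      have hcc : c ∈ closure ({c, t} : Set G) := Subgroup.subset_closure (by simp)
      have htc : t ∈ closure ({c, t} : Set G) := Subgroup.subset_closure (by simp)
      have hzc : zpowers c ≤ closure ({c, t} : Set G) := zpowers_le.mpr hcc
      by_cases hoX : o ∈ zpowers (x : G)
      · exact hzc (hOX o ho hoX)
      · have h1 := D3 t htT o (hOT ho) htX hoX
        have h2 := hOX _ (mul_mem (inv_mem htO) ho) h1
        have : o = t * (t⁻¹ * o) := by group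
        rw [this]
        exact mul_mem htc (hzc h2)
    · rw [closure_le]
      rintro y (rfl | rfl)
      · exact hcO
      · exact htO
  have hquat : Nonempty (O ≃* QuaternionGroup 2) := by
    rw [hOcl]
    exact H62.closure_equiv_quat hc4 hc2 htt hst
  -- order of centralizer
  have hCcard : Nat.card (centralizer (O : Set G)) ∣ 2 := by
    have h1 : centralizer (O : Set G) ≤ zpowers (c ^ 2) := by
      intro o ho
      have hoO := hCO ho
      have hcomc : c * o = o * c := mem_centralizer_iff.mp ho c hcO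
      have hcomt : t * o = o * t := mem_centralizer_iff.mp ho t htO
      by_cases hoX : o ∈ zpowers (x : G)
      · obtain ⟨j, rfl⟩ := mem_zpowers_iff.mp (hOX o hoO hoX)
        have h2 : t * c ^ j * t⁻¹ = (c ^ j)⁻¹ := by
          rw [← conj_zpow, hst, inv_zpow]
        have h3 : t * c ^ j * t⁻¹ = c ^ j := by rw [hcomt]; group
        rw [h3] at h2
        have h4 : c ^ (2 * j) = 1 := by
          rw [two_mul, zpow_add]
          nth_rewrite 2 [h2]
          exact mul_inv_cancel _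
        rcases Int.even_or_odd' j with ⟨i, hi | hi⟩
        · rw [hi, zpow_mul, zpow_ofNat]
          exact zpow_mem (mem_zpowers _) i
        · exfalso
          apply hc2
          have h5 : (2 : ℤ) * j = 4 * i + 2 := by rw [hi]; ring
          rw [h5, zpow_add, zpow_mul] at h4
          have h6 : c ^ (4 : ℤ) = 1 := by exact_mod_cast hc4
          rw [h6, one_zpow, one_mul] at h4
          exact_mod_cast h4
      · exfalso
        have h2 := (D2 o (hOT hoO) hoX).2 c hcX hc4
        have h3 : o * c * o⁻¹ = c := by rw [← hcomc]; group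
        rw [h3] at h2
        apply hc2
        rw [pow_two]
        nth_rewrite 1 [h2]
        exact inv_mul_cancel c
    refine (card_dvd_of_le h1).trans ?_
    rw [Nat.card_zpowers]
    apply orderOf_dvd_of_pow_eq_one
    rw [← pow_mul]; exact hc4
  have hidx := index_centralizer_dvd O hquat
  have hG48 : Nat.card G ∣ 48 := by
    rw [← index_mul_card (centralizer (O : Set G))]
    exact mul_dvd_mul hidx hCcard
  -- r = 3
  have hr3 : r = 3 := by
    have h1 : r ∣ 48 := hrd.trans hG48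
    have h2 : r ∣ 2 ^ 4 * 3 := by norm_num; exact h1
    rcases (Nat.Prime.dvd_mul hr).mp h2 with h | h
    · exact absurd ((Nat.prime_dvd_prime_iff_eq hr Nat.prime_two).mp (hr.dvd_of_dvd_pow h)) hr2
    · exact (Nat.prime_dvd_prime_iff_eq hr Nat.prime_three).mp h
  subst hr3
  have hg3 : g ^ 3 = 1 := by rw [← hgr, pow_orderOf_eq_one]
  -- u = g t g⁻¹
  set u := g * t * g⁻¹ with hu
  have huO : u ∈ O := hOn.conj_mem t htO g
  have hgu : g * u * g⁻¹ = c := by
    rw [hu, htg]
    have hg3' : g * g * g = 1 := by rw [← hg3, pow_succ, pow_two]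
    calc g * (g * (g * c * g⁻¹) * g⁻¹) * g⁻¹ = (g * g * g) * c * (g * g * g)⁻¹ := by
          simp only [mul_inv_rev, mul_assoc]
      _ = c := by rw [hg3', one_mul, inv_one, mul_one]
  have htc4 : t ^ 4 = 1 := (D2 t htT htX).1
  have ct_notX : ∀ j : ℤ, t ≠ c ^ j := by
    intro j h
    exact htX (h ▸ zpow_mem hcX j)
  have ct_not2 : ∀ j : ℤ, c ≠ t ^ j := by
    intro j h
    rcases Int.even_or_odd' j with ⟨i, hi | hi⟩
    · rw [hi, zpow_mul, zpow_ofNat, pow_two, htt] at h
      apply hc2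
      rw [h, ← zpow_natCast, ← zpow_mul, mul_comm, zpow_mul, zpow_natCast, ← pow_mul]
      rw [show 2 * 2 = 4 by norm_num, hc4, one_zpow]
    · apply htX
      have h2 : t = c * (c ^ 2) ^ (-i) := by
        rw [hi, zpow_add, zpow_mul, zpow_ofNat, pow_two, htt, zpow_one] at h
        have : t = ((c ^ 2) ^ i)⁻¹ * c := by rw [eq_inv_mul_iff_mul_eq]; exact h.symm
        rw [this, zpow_neg]
        have hcomm : Commute c ((c ^ 2) ^ i)⁻¹ := (((Commute.refl c).pow_right 2).zpow_right i).inv_right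
        exact hcomm.symm.eq
      rw [h2]
      exact mul_mem hcX (zpow_mem (pow_mem hcX 2) _)
  have huX : u ∉ zpowers (x : G) := by
    intro h
    obtain ⟨j, hj⟩ := mem_zpowers_iff.mp (hOX u huO h)
    apply ct_not2 j
    rw [← hgu, ← hj, ← conj_zpow, ← htg]
  have h1 := D3 t htT u (hOT huO) htX huX
  obtain ⟨j, hj⟩ := mem_zpowers_iff.mp (hOX _ (mul_mem (inv_mem htO) huO) h1)
  have huj : u = t * c ^ j := by rw [hj, mul_inv_cancel_left]
  have hcti : t * c = c⁻¹ * t := by rw [← hst]; group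
  -- j is odd
  have hjodd : ¬ Even j := by
    intro hev
    obtain ⟨i, hi⟩ := hev
    rw [← two_mul] at hi
    -- u = t * (c^2)^i = t * (t*t)^i = t ^ (2i+1)
    have h2 : u = t ^ (2 * i + 1) := by
      rw [huj, hi, zpow_mul, zpow_ofNat, ← htt, zpow_add, zpow_mul, zpow_one, zpow_ofNat, pow_two]
      exact ((((Commute.refl t).mul_right (Commute.refl t))).zpow_right i).eq
    apply ct_notX (2 * i + 1)
    rw [htg, ← mul_left_cancel_iff (a := g), ← mul_right_cancel_iff (a := g⁻¹)] 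
    have h3 : g⁻¹ * u * g = t := by rw [hu]; group
    have h4 : g⁻¹ * t * g = c := by rw [htg]; group
    have h5 : g⁻¹ * u * g = c ^ (2 * i + 1) := by
      rw [h2]
      have := conj_zpow (i := 2 * i + 1) (a := g⁻¹) (b := t)
      rw [inv_inv] at this
      rw [← this, h4]
    rw [← htg, ← h5, h3]
  obtain ⟨i, hi⟩ := Int.not_even_iff_odd.mp hjodd
  have hcent : c ^ (2 : ℤ) = (c ^ (2 : ℤ))⁻¹ := by
    rw [eq_inv_iff_mul_eq_one, ← zpow_add]
    exact_mod_cast hc4
  have hcase : u = t * c ∨ u = t * c⁻¹ := by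
    rcases Int.even_or_odd' i with ⟨l, hl | hl⟩
    · left
      rw [huj, hi, hl]
      have : (2 : ℤ) * (2 * l) + 1 = 4 * l + 1 := by ring
      rw [this, zpow_add, zpow_mul]
      have h6 : c ^ (4 : ℤ) = 1 := by exact_mod_cast hc4
      rw [h6, one_zpow, one_mul, zpow_one]
    · right
      rw [huj, hi, hl]
      have : (2 : ℤ) * (2 * l + 1) + 1 = 4 * (l + 1) + (-1) := by ring
      rw [this, zpow_add, zpow_mul]
      have h6 : c ^ (4 : ℤ) = 1 := by exact_mod_cast hc4
      rw [h6, one_zpow, one_mul, zpow_neg_one]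
  have hiso : Nonempty (↥(O ⊔ zpowers g) ≃* Matrix.SpecialLinearGroup (Fin 2) (ZMod 3)) := by
    rcases hcase with h | h
    · -- s = c⁻¹, t = t⁻¹
      have e1 : closure ({c⁻¹, t⁻¹} : Set G) = O := by
        rw [hOcl]
        apply le_antisymm
        · rw [closure_le]
          rintro y (rfl | rfl)
          · exact inv_mem (Subgroup.subset_closure (by simp))
          · exact inv_mem (Subgroup.subset_closure (by simp))
        · rw [closure_le]
          rintro y (rfl | rfl)
          · have : y⁻¹ ∈ closure ({y⁻¹, t⁻¹} : Set G) := Subgroup.subset_closure (by simp)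
            simpa using inv_mem this
          · have : y⁻¹ ∈ closure ({c⁻¹, y⁻¹} : Set G) := Subgroup.subset_closure (by simp)
            simpa using inv_mem this
      rw [← e1]
      apply H62.sup_equiv_sl23 (s := c⁻¹) (t := t⁻¹) (x := g)
      · rw [inv_pow, inv_eq_one]; exact hc4
      · rw [inv_pow, Ne, inv_eq_one]; exact hc2
      · rw [← mul_inv_rev, htt, inv_pow]
      · rw [inv_inv, inv_inv]
        have : t⁻¹ * c⁻¹ * t = (t⁻¹ * c * t)⁻¹ := by group
        rw [this]
        have h7 : t⁻¹ * c * t = c⁻¹ := by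
          have h8 : t⁻¹ * c⁻¹ * t = c := by rw [← hst]; group
          have h9 : t⁻¹ * c * t = (t⁻¹ * c⁻¹ * t)⁻¹ := by group
          rw [h9, h8]
        rw [h7, inv_inv]
      · rw [htg]; group
      · have : g * t⁻¹ * g⁻¹ = u⁻¹ := by rw [hu]; group
        rw [this, h, mul_inv_rev]
      · exact hg3
      · exact hg1
    · rw [hOcl]
      apply H62.sup_equiv_sl23 (s := c) (t := t) (x := g) hc4 hc2 htt hst htg.symm _ hg3 hg1
      change u = c * t
      rw [h]
      calc t * c⁻¹ = c * (c⁻¹ * t) * c⁻¹ := by group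
        _ = c * (t * c) * c⁻¹ := by rw [hcti]
        _ = c * t := by group
  refine ⟨O ⊔ zpowers g, ?_, hiso⟩
  have hU : Nat.card ↥(O ⊔ zpowers g) = 24 := by
    obtain ⟨e⟩ := hiso
    rw [Nat.card_congr e.toEquiv, card_SL23]
  have hidx2 : (O ⊔ zpowers g).index ∣ 2 := by
    have h2 := index_mul_card (O ⊔ zpowers g)
    rw [hU] at h2
    rw [← h2] at hG48
    have h3 : (O ⊔ zpowers g).index * 24 ∣ 2 * 24 := by norm_num; exact hG48
    exact Nat.dvd_of_mul_dvd_mul_right (by norm_num) h3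
  rcases (Nat.dvd_prime Nat.prime_two).mp hidx2 with h2 | h2
  · rw [index_eq_one] at h2
    rw [h2]; infer_instance
  · exact normal_of_index_eq_two h2

end Cfsg.Agent.S2879
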