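import Cfsg.Statements.S0607
import Cfsg.Agent.H10.Timmesfeld
import Cfsg.Agent.S0606

set_option autoImplicit false
open Cfsg

namespace Cfsg.Agent.S0607

open Cfsg.Agent.H10 Cfsg.Agent.H11 commutatorElement in
theorem result {G : Type*} [Group G] [Finite G] {p : ℕ} [Fact p.Prime] (V : Subgroup G) [V.Normal] (hV : Cfsg.IsElementaryAbelian p V) (A : Subgroup G) (hA : A ∈ Cfsg.maxElementaryAbelianSubgroups p G) : (⁅V, A⁆ ⊔ (A ⊓ Subgroup.centralizer ((⁅V, A⁆ : Subgroup G) : Set G))) ∈ Cfsg.maxElementaryAbelianSubgroups p G ∧ ⁅⁅V, ⁅V, A⁆ ⊔ (A ⊓ Subgroup.centralizer ((⁅V, A⁆ : Subgroup G) : Set G))⁆, ⁅V, A⁆ ⊔ (A ⊓ Subgroup.centralizer ((⁅V, A⁆ : Subgroup G) : Set G))⁆ = ⊥ ∧ (⁅V, A⁆ ≠ ⊥ → ⁅V, ⁅V, A⁆ ⊔ (A ⊓ Subgroup.centralizer ((⁅V, A⁆ : Subgroup G) : Set G))⁆ ≠ ⊥) := by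
  have hAV : A ≤ Subgroup.normalizer (V : Set G) := Subgroup.le_normalizer_of_normal
  have hbo := Cfsg.Agent.S0606.result V hV A hA
  obtain ⟨h1, h2⟩ := replacement hV.1 hAV hbo.2.1 hbo.1 V le_rfl
  obtain ⟨-, -, h3⟩ := timmesfeld V A hV hAV hbo V le_rfl
  set X : Subgroup G := ⁅V, A⁆ with hX
  set B := A ⊓ Subgroup.centralizer (X : Set G) with hB
  have hXV : X ≤ V := Subgroup.commutator_le_left V A
  have hVc : V ≤ Subgroup.centralizer (V : Set G) := (comm_iff_le_centralizer V).mp hV.1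
  have hXc : X ≤ Subgroup.centralizer (X : Set G) :=
    (hXV.trans hVc).trans (Subgroup.centralizer_le (SetLike.coe_subset_coe.2 hXV))
  have hBc : B ≤ Subgroup.centralizer (X : Set G) := inf_le_right
  have hBel : IsElementaryAbelian p B := elem_mono inf_le_left hA.1
  have hXel : IsElementaryAbelian p X := elem_mono hXV hV
  -- `C_V(A) = V ⊓ A`
  have hcA : cent V A = V ⊓ A := by
    apply le_antisymm
    · intro x hx
      exact ⟨hx.1, mem_of_max_elem hA (hV.2 x hx.1) hx.2⟩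
    · exact inf_le_inf_left V ((comm_iff_le_centralizer A).mp hA.1.1)
  have hcB : cent V A ≤ B := by
    rw [hcA]
    refine le_inf inf_le_right ?_
    exact (inf_le_left.trans hVc).trans (Subgroup.centralizer_le (SetLike.coe_subset_coe.2 hXV))
  have hsup : X ⊔ B = cent V B ⊔ B := by
    rw [h2, sup_assoc, sup_eq_right.mpr hcB]
  have hel : IsElementaryAbelian p (X ⊔ B) :=
    elem_sup hXel hBel fun a ha b hb => (Subgroup.mem_centralizer_iff.mp (hBc hb) a ha)
  have hcard : Nat.card ↥(X ⊔ B) = Nat.card A := by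
    have hn : cent V B ≤ Subgroup.normalizer (B : Set G) := by
      have : B ≤ Subgroup.centralizer (cent V B : Set G) := by
        rw [Subgroup.le_centralizer_iff]; exact inf_le_right
      exact le_normalizer_of_le_centralizer this
    have h4 := card_sup_mul_card_inf hn
    have h5 : cent V B ⊓ B = V ⊓ A := by
      apply le_antisymm
      · exact inf_le_inf (cent_le V B) inf_le_left
      · refine le_inf ?_ (by rw [← hcA]; exact hcB)
        rw [← hcA]
        exact cent_anti V inf_le_left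
    rw [← hsup, h5] at h4
    have h6 : Nat.card B * Nat.card (cent V B) = Nat.card A * Nat.card (cent V A) := h1
    rw [hcA] at h6
    have h7 : Nat.card ↥(X ⊔ B) * Nat.card ↥(V ⊓ A) = Nat.card A * Nat.card ↥(V ⊓ A) := by
      rw [h4, ← h6, mul_comm]
    exact Nat.eq_of_mul_eq_mul_right Nat.card_pos h7
  have hXB : X ⊔ B ≤ Subgroup.centralizer (X : Set G) := sup_le hXc hBc
  refine ⟨⟨hel, fun D hD => ?_⟩, ?_, ?_⟩
  · rw [hcard]; exact hA.2 D hD
  · have h8 : ⁅V, X ⊔ B⁆ ≤ X := by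
      rw [Subgroup.commutator_le]
      intro v hv y hy
      have hn : X ≤ Subgroup.normalizer (B : Set G) := by
        apply le_normalizer_of_le_centralizer hBc
      have hy2 : y ∈ ((X ⊔ B : Subgroup G) : Set G) := hy
      rw [Subgroup.coe_mul_of_left_le_normalizer_right _ _ hn] at hy2
      obtain ⟨x, hx, b, hb, rfl⟩ := Set.mem_mul.mp hy2
      have h4 : ⁅v, x * b⁆ = ⁅v, x⁆ * (x * ⁅v, b⁆ * x⁻¹) := by
        simp only [commutatorElement_def]; group
      have h5 : ⁅v, x⁆ = 1 := by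
        rw [commutatorElement_eq_one_iff_mul_comm]
        exact (comm_iff V).mp hV.1 v hv x (hXV hx)
      rw [h4, h5, one_mul]
      have h6 : ⁅v, b⁆ ∈ X := Subgroup.commutator_mem_commutator hv hb.1
      exact X.mul_mem (X.mul_mem hx h6) (X.inv_mem hx)
    rw [Subgroup.commutator_eq_bot_iff_le_centralizer]
    exact h8.trans (Subgroup.le_centralizer_iff.mp hXB)
  · intro hne hb
    apply h3 hne
    rw [eq_bot_iff, ← hb]
    exact Subgroup.commutator_mono le_rfl le_sup_right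

end Cfsg.Agent.S0607
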