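import Cfsg.Statements.S1292
import Cfsg.Agent.SigF.PC

set_option autoImplicit false
open Cfsg

namespace Cfsg.Agent.S1292

/-- Let G be a finite group such that F*(C_G(t)) = O_2(C_G(t)) for every involution t. Then F*(N_G(T)) = O_2(N_G(T)) for every nontrivial 2-subgroup T of G. -/
theorem result {G : Type*} [Group G] [Finite G] (h : ∀ t : G, orderOf t = 2 → Cfsg.generalizedFittingSubgroup ↥(Subgroup.centralizer ({t} : Set G)) = Cfsg.pCore 2 ↥(Subgroup.centralizer ({t} : Set G))) (T : Subgroup G) (hT : IsPGroup 2 ↥T) (hT1 : T ≠ ⊥) : Cfsg.generalizedFittingSubgroup ↥(Subgroup.normalizer (T : Set G)) = Cfsg.pCore 2 ↥(Subgroup.normalizer (T : Set G)) := by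
  haveI : Fact (Nat.Prime 2) := ⟨Nat.prime_two⟩
  -- an involution in the centre of `T`
  haveI : Nontrivial T := (Subgroup.nontrivial_iff_ne_bot _).2 hT1
  have hnt : Nontrivial (Subgroup.center T) := hT.center_nontrivial
  have h2 : 2 ∣ Nat.card (Subgroup.center T) := by
    obtain ⟨n, hn, hcard⟩ := (hT.to_subgroup (Subgroup.center T)).nontrivial_iff_card.1 hnt
    rw [hcard]
    exact dvd_pow_self 2 (by omega)
  obtain ⟨z, hz⟩ := exists_prime_orderOf_dvd_card' 2 h2
  have hz2 : orderOf ((z : T) : G) = 2 := by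
    rw [Subgroup.orderOf_coe, Subgroup.orderOf_coe, hz]
  have h3 := h _ hz2
  rw [← SigF.PC.charP_iff_eq] at h3
  rw [← SigF.PC.charP_iff_eq]
  refine SigF.PC.charP_normalizer_of_centralizer hT (z : T).2 ?_ h3
  intro x hx
  rw [Subgroup.mem_centralizer_singleton_iff]
  exact congrArg Subtype.val (Subgroup.mem_center_iff.1 z.2 ⟨x, hx⟩)

end Cfsg.Agent.S1292
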