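import Cfsg.Statements.S3058
import Cfsg.Agent.H51.SPE2

set_option autoImplicit false
open Cfsg

namespace Cfsg.Agent.S3058

open Cfsg.Agent.H51

/-- Let p be a prime and G a finite group whose Sylow p-subgroups are not chain-connected through nontrivial intersections (so G has a strongly p-embedded subgroup). If N and M are normal subgroups of G whose orders are both divisible by p, then the order of N ∩ M is divisible by p. Consequently, among the normal subgroups of G whose order is divisible by p there is a smallest one (the intersection of all of them). -/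
theorem result {G : Type*} [Group G] [Finite G]
    (p : ℕ) [Fact p.Prime] (hG : ¬ Cfsg.IsSylowChainConnected p G)
    (N M : Subgroup G) [N.Normal] [M.Normal] (hN : p ∣ Nat.card N) (hM : p ∣ Nat.card M) :
    p ∣ Nat.card ↥(N ⊓ M) := by
  obtain ⟨H, hH⟩ := not_connected_iff.mp hG
  by_contra hK
  obtain ⟨P, hPH, hP1⟩ := hH.exists_sylow_le
  have hPN := dvd_card_inf_of_normal P N hN
  have hPM := dvd_card_inf_of_normal P M hM
  obtain ⟨x, hx, hxo⟩ := exists_orderOf_eq_mem hPN
  obtain ⟨y, hy, hyo⟩ := exists_orderOf_eq_mem hPM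
  have hp1 : (1 : ℕ) < p := (Fact.out : p.Prime).one_lt
  have hdisj : ∀ z ∈ (P : Subgroup G), z ∈ N ⊓ M → z = 1 := by
    intro z hzP hz
    have h4 : Nat.Coprime (Nat.card (P : Subgroup G)) (Nat.card ↥(N ⊓ M)) := by
      obtain ⟨n, hn⟩ := IsPGroup.iff_card.mp P.isPGroup'
      rw [hn]
      exact Nat.Coprime.pow_left _ ((Nat.Prime.coprime_iff_not_dvd Fact.out).mpr hK)
    have h5 := Subgroup.inf_eq_bot_of_coprime h4
    have h6 : z ∈ (P : Subgroup G) ⊓ (N ⊓ M) := ⟨hzP, hz⟩
    rwa [h5, Subgroup.mem_bot] at h6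
  have hcomm : ∀ a ∈ N, ∀ b ∈ M, a * b * a⁻¹ * b⁻¹ ∈ N ⊓ M := by
    intro a ha b hb
    constructor
    · have : a * b * a⁻¹ * b⁻¹ = a * (b * a⁻¹ * b⁻¹) := by group
      rw [this]
      exact N.mul_mem ha (Subgroup.Normal.conj_mem inferInstance _ (N.inv_mem ha) b)
    · exact M.mul_mem (Subgroup.Normal.conj_mem inferInstance _ hb a) (M.inv_mem hb)
  have hxy : Commute x y := by
    have h1 := hdisj _ (P.mul_mem (P.mul_mem (P.mul_mem hx.1 hy.1) (P.inv_mem hx.1)) (P.inv_mem hy.1))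
      (hcomm x hx.2 y hy.2)
    rw [mul_inv_eq_one, mul_inv_eq_iff_eq_mul] at h1
    exact h1
  have hyx : y ∉ Subgroup.zpowers x := by
    intro h1
    have h2 : y ∈ N := (Subgroup.zpowers_le.mpr hx.2) h1
    have h3 := hdisj y hy.1 ⟨h2, hy.2⟩
    rw [h3, orderOf_one] at hyo
    exact hp1.ne hyo
  obtain ⟨hE, hE2⟩ := exists_elem_of_commute hxy hxo hyo hyx
  have hEP : Subgroup.zpowers x ⊔ Subgroup.zpowers y ≤ (P : Subgroup G) := by
    rw [sup_le_iff, Subgroup.zpowers_le, Subgroup.zpowers_le]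
    exact ⟨hx.1, hy.1⟩
  have hnorm : ∀ X : Subgroup G, X ≤ Subgroup.normalizer ((N ⊓ M : Subgroup G) : Set G) := by
    intro X
    rw [Subgroup.normalizer_eq_top]
    exact le_top
  have hKH : N ⊓ M ≤ H := hH.le_of_elem hE hE2 (hEP.trans hPH) hK (hnorm _)
  have hPNH : (P : Subgroup G) ⊓ N ≤ H := inf_le_left.trans hPH
  have hPN1 : (P : Subgroup G) ⊓ N ≠ ⊥ := by
    intro h1
    rw [h1, Subgroup.card_bot] at hPN
    exact hp1.ne' (Nat.dvd_one.mp hPN)
  have hPM1 : (P : Subgroup G) ⊓ M ≠ ⊥ := by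
    intro h1
    rw [h1, Subgroup.card_bot] at hPM
    exact hp1.ne' (Nat.dvd_one.mp hPM)
  have hMH : M ≤ H := by
    intro m hm
    have hQ : IsPGroup p (((P : Subgroup G) ⊓ N).map (MulAut.conj m).toMonoidHom) :=
      (P.isPGroup'.to_le inf_le_left).map _
    have hQL : ((P : Subgroup G) ⊓ N).map (MulAut.conj m).toMonoidHom ≤
        (N ⊓ M) ⊔ ((P : Subgroup G) ⊓ N) := by
      rintro _ ⟨s, hs, rfl⟩
      have h1 : (MulAut.conj m).toMonoidHom s = (s * m * s⁻¹ * m⁻¹)⁻¹ * s := by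
        show m * s * m⁻¹ = (s * m * s⁻¹ * m⁻¹)⁻¹ * s
        group
      rw [h1]
      exact Subgroup.mul_mem _ (Subgroup.mem_sup_left (Subgroup.inv_mem _ (hcomm s hs.2 m hm)))
        (Subgroup.mem_sup_right hs)
    obtain ⟨l, hl, hlx⟩ := exists_conj_le_of_le_sup hK (P.isPGroup'.to_le inf_le_left)
      (hnorm _) hQ hQL
    have hlH : l ∈ H := (sup_le hKH hPNH) hl
    have h2 : l * m ∈ H := by
      refine hH.mem_of_conj_le (P.isPGroup'.to_le inf_le_left) hPN1 hPNH fun z hz => hPNH ?_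
      have h3 := hlx _ ⟨z, hz, rfl⟩
      have h4 : l * m * z * (l * m)⁻¹ = l * (MulAut.conj m).toMonoidHom z * l⁻¹ := by
        show l * m * z * (l * m)⁻¹ = l * (m * z * m⁻¹) * l⁻¹
        group
      rw [h4]
      exact h3
    have h5 := H.mul_mem (H.inv_mem hlH) h2
    rwa [inv_mul_cancel_left] at h5
  apply hH.1
  rw [eq_top_iff, ← frattini_inf P M]
  exact sup_le (hH.normalizer_le (P.isPGroup'.to_le inf_le_left) hPM1 (inf_le_left.trans hPH)) hMH

end Cfsg.Agent.S3058
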