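import Cfsg.Statements.S4709
import Cfsg.Agent.H79.AbelMain

set_option autoImplicit false
open Cfsg

namespace Cfsg.Agent.S4709

/-- Let p be a prime, M a maximal ideal of the algebraic integers containing p, and G a finite group with a nontrivial abelian Sylow p-subgroup P; put N = N_G(P), C = C_G(P). Suppose N/C is cyclic of order m with 1 < m < #P − 1 (C has index m in N and N is generated by C and one element), and C_G(y) ∩ N = C for every non-identity y ∈ P. Put r = (#P − 1)/m. Then there is s ≤ m such that the principal p-block is the disjoint union of a set X of s characters containing the principal character and a set Y of r characters, with integers a_χ ≠ 0 (χ ∈ X), d and a sign δ = ±1, such that: every χ ∈ X takes the value a_χ at every element whose p-part is a non-identity element of P; there is a map ζ from the non-principal linear characters ψ of P onto Y, constant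 on N-conjugacy classes, with ζ_ψ(z) = d + δ·Σ ψ'(y) for every z whose p-part y is a non-identity element of P, the sum running over the N-conjugates ψ' of ψ; (d − δ)^2 + (r − 1) d^2 + Σ_{χ ∈ X} a_χ^2 = m + 1; all members of Y agree on p-regular elements; and (r d − δ) η(g) + Σ_{χ ∈ X} a_χ χ(g) = 0 for every η ∈ Y and every p-regular g. -/
theorem result {G : Type*} [Group G] [Finite G] (p : ℕ) [Fact p.Prime] (M : Ideal Cfsg.AlgInt) (hM : Cfsg.IsPModular p M) (P : Sylow p G) (hab : IsMulCommutative P) (hP1 : Nat.card P ≠ 1) (m : ℕ) (hm1 : 1 < m) (hm2 : m + 1 < Nat.card P) (hCN : (Subgroup.centralizer ((P : Subgroup G) : Set G)).relIndex (Subgroup.normalizer ((P : Subgroup G) : Set G)) = m) (hcyc : ∃ g : G, g ∈ Subgroup.normalizer ((P : Subgroup G) : Set G) ∧ Subgroup.centralizer ((P : Subgroup G) : Set G) ⊔ Subgroup.zpowers g = Subgroup.normalizer ((P : Subgroup G) : Set G))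 (hfrob : ∀ y : G, y ∈ (P : Subgroup G) → y ≠ 1 → Subgroup.centralizer ({y} : Set G) ⊓ Subgroup.normalizer ((P : Subgroup G) : Set G) = Subgroup.centralizer ((P : Subgroup G) : Set G)) : ∃ (s : ℕ) (X Y : Set (Cfsg.IrrCharacter G)), s ≤ m ∧ Cfsg.principalBlock M G = X ∪ Y ∧ Disjoint X Y ∧ Nat.card X = s ∧ Nat.card Y = (Nat.card P - 1) / m ∧ (∃ χ₁ ∈ X, (χ₁ : G → ℂ) = fun _ => 1) ∧ ∃ (a : Cfsg.IrrCharacter G → ℤ) (d δ : ℤ) (ζ : (↥(P : Subgroup G) →* ℂˣ) → Cfsg.IrrCharacter G), (δ = 1 ∨ δ = -1) ∧ (∀ χ ∈ X, a χ ≠ 0 ∧ ∀ z y : G, Cfsg.IsPPart p z y → y ∈ (P : Subgroup G) → y ≠ 1 → (χ : G → ℂ) z = (a χ : ℂ)) ∧ (∀ ψ : ↥(P : Subgroup G) →* ℂˣ, ψ ≠ 1 → ζ ψ ∈ Y) ∧ (∀ η ∈ Y, ∃ ψ : ↥(P : Subgroup G) →* ℂˣ, ψ ≠ 1 ∧ ζ ψ = η) ∧ (∀ ψ ψ' : ↥(P : Subgroup G) →* ℂˣ, ψ ≠ 1 → (∃ n : G, n ∈ Subgroup.normalizer ((P : Subgroup G) : Set G) ∧ ∀ w w' : ↥(P : Subgroup G), (w' : G) = n * w * n⁻¹ → ψ' w' =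 ψ w) → ζ ψ' = ζ ψ) ∧ (∀ ψ : ↥(P : Subgroup G) →* ℂˣ, ψ ≠ 1 → ∀ (z : G) (y : ↥(P : Subgroup G)), Cfsg.IsPPart p z (y : G) → (y : G) ≠ 1 → (ζ ψ : G → ℂ) z = (d : ℂ) + (δ : ℂ) * ∑ᶠ ψ' ∈ {ψ' : ↥(P : Subgroup G) →* ℂˣ | ∃ n : G, n ∈ Subgroup.normalizer ((P : Subgroup G) : Set G) ∧ ∀ w w' : ↥(P : Subgroup G), (w' : G) = n * w * n⁻¹ → ψ' w' = ψ w}, ((ψ' y : ℂˣ) : ℂ)) ∧ ((d - δ) ^ 2 + ((Nat.card P - 1) / m - 1 : ℤ) * d ^ 2 + ∑ᶠ χ ∈ X, a χ ^ 2 = (m : ℤ) + 1) ∧ (∀ η ∈ Y, ∀ η' ∈ Y, ∀ g : G, ¬ p ∣ orderOf g → (η : G → ℂ) g = (η' : G → ℂ) g) ∧ (∀ η ∈ Y, ∀ g : G, ¬ p ∣ orderOf g → ((((Nat.card P - 1) / m : ℕ) : ℂ) * d - δ) * (η : G → ℂ) g + ∑ᶠ χ ∈ X, (a χ : ℂ) * (χ : G → ℂ) g = 0) := by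
  classical
  have hfr : Cfsg.Agent.H79.FrobAb (P : Subgroup G) m :=
    { hab := fun a ha b hb => congrArg Subtype.val
        (hab.is_comm.comm (⟨a, ha⟩ : (P : Subgroup G)) ⟨b, hb⟩)
      frob := hfrob
      idx := hCN }
  have hm0 : 0 < m := by omega
  obtain ⟨r, ψ, ε, μ, d, a, hr, hr2, hψ1, hcov, hψinj, hε, hinj, hmem, hX, hY, hsq, hreg, hlin, -, -,
    hone, -⟩ := Cfsg.Agent.H79.structure_principal hM hfr hm2
  have := Fintype.ofFinite (Cfsg.IrrCharacter G)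
  have hdiv : (Nat.card P - 1) / m = r := by
    rw [← hr, Nat.add_sub_cancel, Nat.mul_div_cancel_left r hm0]
  have hdivZ : ((Nat.card P : ℤ) - 1) / m = r := by
    rw [← hr]
    push_cast
    rw [add_sub_cancel_right, Int.mul_ediv_cancel_left _ (by exact_mod_cast hm0.ne')]
  let i₀ : Fin r := ⟨0, by omega⟩
  let ζ : ((P : Subgroup G) →* ℂˣ) → Cfsg.IrrCharacter G := fun φ =>
    if h : φ ≠ 1 then μ (Classical.choose (hcov φ h)) else μ i₀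
  have hζ : ∀ (φ : (P : Subgroup G) →* ℂˣ) (h : φ ≠ 1) (i : Fin r),
      Cfsg.Agent.H79.Rel φ (ψ i) → ζ φ = μ i := by
    intro φ h i hi
    have h1 : ζ φ = μ (Classical.choose (hcov φ h)) := dif_pos h
    rw [h1]
    congr 1
    exact hψinj _ _ ((Classical.choose_spec (hcov φ h)).symm.trans hi)
  have hset : ∀ φ : (P : Subgroup G) →* ℂˣ, {ψ' : ↥(P : Subgroup G) →* ℂˣ | ∃ n : G,
      n ∈ Subgroup.normalizer ((P : Subgroup G) : Set G) ∧
        ∀ w w' : ↥(P : Subgroup G), (w' : G) = n * w * n⁻¹ → ψ' w' = φ w} =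
      {ψ' | Cfsg.Agent.H79.Rel φ ψ'} := by
    intro φ
    ext ψ'
    exact (Cfsg.Agent.H79.rel_iff φ ψ').symm
  have hX1 : ∀ χ ∈ Cfsg.principalBlock M G \ Set.range μ, 1 ≤ a χ ^ 2 := by
    intro χ hχ
    have := (hX χ hχ).1
    have h2 : 0 < a χ ^ 2 := by positivity
    omega
  have hcardX : (Nat.card ↥(Cfsg.principalBlock M G \ Set.range μ) : ℤ) ≤
      ∑ᶠ χ ∈ Cfsg.principalBlock M G \ Set.range μ, a χ ^ 2 := by
    rw [finsum_mem_eq_finite_toFinset_sum _ (Set.toFinite _), Nat.card_coe_set_eq,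
      Set.ncard_eq_toFinset_card _ (Set.toFinite _), Finset.card_eq_sum_ones]
    push_cast
    refine Finset.sum_le_sum fun χ hχ => ?_
    exact hX1 χ ((Set.Finite.mem_toFinset _).1 hχ)
  refine ⟨Nat.card ↥(Cfsg.principalBlock M G \ Set.range μ), Cfsg.principalBlock M G \ Set.range μ,
    Set.range μ, ?_, ?_, disjoint_sdiff_self_left, rfl, ?_, ?_, a, d, ε, ζ, hε, ?_, ?_, ?_, ?_, ?_, ?_, ?_, ?_⟩
  · have h1 : 1 ≤ (d - ε) ^ 2 + ((r : ℤ) - 1) * d ^ 2 := by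
      by_cases hd : d = 0
      · rw [hd]
        rcases hε with h2 | h2 <;> rw [h2] <;> norm_num
      · have h2 : 1 ≤ d ^ 2 := by
          have : 0 < d ^ 2 := by positivity
          omega
        have h3 : (1 : ℤ) ≤ (r : ℤ) - 1 := by omega
        nlinarith [sq_nonneg (d - ε)]
    have h2 : (Nat.card ↥(Cfsg.principalBlock M G \ Set.range μ) : ℤ) ≤ m := by linarith
    exact_mod_cast h2
  · rw [Set.sdiff_union_of_subset]
    rintro _ ⟨i, rfl⟩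
    exact hmem i
  · rw [hdiv, Nat.card_congr (Equiv.ofInjective μ hinj).symm, Nat.card_eq_fintype_card,
      Fintype.card_fin]
  · exact ⟨_, hone, rfl⟩
  · exact fun χ hχ => hX χ hχ
  · intro φ hφ
    obtain ⟨i, hi⟩ := hcov φ hφ
    exact ⟨i, (hζ φ hφ i hi).symm⟩
  · rintro _ ⟨i, rfl⟩
    exact ⟨ψ i, hψ1 i, hζ (ψ i) (hψ1 i) i (Cfsg.Agent.H79.Rel.refl _)⟩
  · intro φ φ' hφ hn
    have hr' : Cfsg.Agent.H79.Rel φ φ' := (Cfsg.Agent.H79.rel_iff φ φ').2 hn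
    obtain ⟨i, hi⟩ := hcov φ hφ
    rw [hζ φ hφ i hi, hζ φ' (hr'.symm.ne_one hφ) i (hr'.symm.trans hi)]
  · intro φ hφ z y hz hy1
    obtain ⟨i, hi⟩ := hcov φ hφ
    rw [hζ φ hφ i hi, hY i z y hz hy1, hset]
    have h1 : {ψ' : ↥(P : Subgroup G) →* ℂˣ | Cfsg.Agent.H79.Rel φ ψ'} =
        {ψ' | Cfsg.Agent.H79.Rel (ψ i) ψ'} := by
      ext ψ'
      exact ⟨fun h => hi.symm.trans h, fun h => hi.trans h⟩
    rw [h1]
    rfl
  · rw [hdivZ]
    exact hsq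
  · rintro _ ⟨i, rfl⟩ _ ⟨j, rfl⟩ g hg
    exact hreg i j g hg
  · rintro _ ⟨i, rfl⟩ g hg
    rw [hdiv]
    exact hlin i g hg

end Cfsg.Agent.S4709
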