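import Cfsg.Statements.S2330
import Cfsg.Agent.H39.Class2

set_option autoImplicit false
open Cfsg

namespace Cfsg.Agent.S2330

open Matrix Cfsg.Agent.H39

/-- Over a finite field with q elements, the general linear group GL₂ has exactly q² − 1 conjugacy classes. -/
theorem result {F : Type*} [Field F] [Fintype F] :
    Nat.card (ConjClasses (Matrix.GeneralLinearGroup (Fin 2) F)) = Fintype.card F ^ 2 - 1 := by
  classical
  let f : Fˣ ⊕ (F × Fˣ) → ConjClasses (GL (Fin 2) F) := fun x => match x with
    | Sum.inl a => ConjClasses.mk (Matrix.GeneralLinearGroup.mkOfDetNeZero (Matrix.scalar (Fin 2) (a : F))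
        (by rw [Matrix.det_fin_two]; simp))
    | Sum.inr (t, d) => ConjClasses.mk (Matrix.GeneralLinearGroup.mkOfDetNeZero (comp2 t (d : F))
        (by rw [Matrix.det_fin_two]; simp [comp2]))
  have hf : Function.Bijective f := by
    constructor
    · rintro (a | ⟨t, d⟩) (a' | ⟨t', d'⟩) hh
      · simp only [f] at hh
        rw [ConjClasses.mk_eq_mk_iff_isConj, isConj_gl_iff] at hh
        obtain ⟨P, hP, hh⟩ := hh
        have h1 := scal2_of_mul hP hh (scal2_scalar _)
        have h2 := congrFun (congrFun h1 0) 0
        have h2' : (Matrix.scalar (Fin 2) (a' : F)) 0 0 = (Matrix.scalar (Fin 2) (a : F)) 0 0 := h2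
        have h3 : (a' : F) = a := by simpa using h2'
        rw [Units.ext h3]
      · exfalso
        simp only [f] at hh
        rw [ConjClasses.mk_eq_mk_iff_isConj, isConj_gl_iff] at hh
        obtain ⟨P, hP, hh⟩ := hh
        have h1 := scal2_of_mul hP hh (scal2_scalar _)
        have h2 : Scal2 (comp2 t' (d' : F)) := by
          have h3 : comp2 t' (d' : F) = Matrix.scalar (Fin 2) (a : F) := h1
          rw [h3]
          exact scal2_scalar _
        exact not_scal2_comp2 _ _ h2
      · exfalso
        simp only [f] at hh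
        rw [eq_comm, ConjClasses.mk_eq_mk_iff_isConj, isConj_gl_iff] at hh
        obtain ⟨P, hP, hh⟩ := hh
        have h1 := scal2_of_mul hP hh (scal2_scalar _)
        have h2 : Scal2 (comp2 t (d : F)) := by
          have h3 : comp2 t (d : F) = Matrix.scalar (Fin 2) (a' : F) := h1
          rw [h3]
          exact scal2_scalar _
        exact not_scal2_comp2 _ _ h2
      · simp only [f] at hh
        rw [ConjClasses.mk_eq_mk_iff_isConj, isConj_gl_iff] at hh
        obtain ⟨P, hP, hh⟩ := hh
        obtain ⟨h1, h2⟩ := trace_eq_of_mul hP hh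
        have h3 : (comp2 t (d : F)).trace = (comp2 t' (d' : F)).trace := h1
        have h4 : (comp2 t (d : F)).det = (comp2 t' (d' : F)).det := h2
        rw [Matrix.trace_fin_two, Matrix.trace_fin_two] at h3
        rw [Matrix.det_fin_two, Matrix.det_fin_two] at h4
        simp [comp2] at h3 h4
        rw [h3, Units.ext h4]
    · intro c
      obtain ⟨g, rfl⟩ := ConjClasses.exists_rep c
      by_cases hg : Scal2 (g : Matrix (Fin 2) (Fin 2) F)
      · have h0 : (g : Matrix (Fin 2) (Fin 2) F) 0 0 ≠ 0 := by
          intro h0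
          have h1 := (Matrix.isUnits_det_units g).ne_zero
          rw [Matrix.det_fin_two, h0, hg.1] at h1
          simp at h1
        refine ⟨Sum.inl (Units.mk0 _ h0), ?_⟩
        simp only [f]
        congr 1
        apply Units.ext
        exact (scal2_eq hg).symm
      · refine ⟨Sum.inr ((g : Matrix (Fin 2) (Fin 2) F).trace, Units.mk0 _ (Matrix.isUnits_det_units g).ne_zero), ?_⟩
        simp only [f]
        rw [ConjClasses.mk_eq_mk_iff_isConj]
        apply isConj_gl_comp2 g hg
        rfl
  rw [← Nat.card_congr (Equiv.ofBijective f hf), Nat.card_sum, Nat.card_prod, Nat.card_units, Nat.card_eq_fintype_card]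
  obtain ⟨n, hn⟩ : ∃ n, Fintype.card F = n + 1 := ⟨Fintype.card F - 1, by have := Fintype.card_pos (α := F); omega⟩
  rw [hn]
  have : (n + 1) ^ 2 = n * n + 2 * n + 1 := by ring
  rw [this]
  simp only [Nat.add_sub_cancel]
  ring

end Cfsg.Agent.S2330
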