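import Cfsg.Statements.S2331
import Cfsg.Agent.H39.Class2SL

set_option autoImplicit false
open Cfsg

namespace Cfsg.Agent.S2331

open Matrix Cfsg.Agent.H39

/-- Over a finite field with q elements, q even, the special linear group SL₂ has exactly q + 1 conjugacy classes. -/
theorem result {F : Type*} [Field F] [Fintype F] [CharP F 2] :
    Nat.card (ConjClasses (Matrix.SpecialLinearGroup (Fin 2) F)) = Fintype.card F + 1 := by
  classical
  let f : Option F → ConjClasses (SpecialLinearGroup (Fin 2) F) := fun x => match x with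
    | none => ConjClasses.mk 1
    | some t => ConjClasses.mk (compSL t)
  have hf : Function.Bijective f := by
    constructor
    · rintro (_ | t) (_ | t') hh
      · rfl
      · exfalso
        simp only [f] at hh
        rw [ConjClasses.mk_eq_mk_iff_isConj, isConj_sl_iff] at hh
        obtain ⟨P, hP, hh⟩ := hh
        have h0 : Scal2 ((1 : SpecialLinearGroup (Fin 2) F) : Matrix (Fin 2) (Fin 2) F) := by
          refine ⟨?_, ?_, ?_⟩ <;> simp
        have h1 := scal2_of_mul (by rw [hP]; exact one_ne_zero) hh h0
        rw [compSL_val] at h1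
        exact not_scal2_comp2 t' 1 (h1 ▸ h0)
      · exfalso
        simp only [f] at hh
        rw [eq_comm, ConjClasses.mk_eq_mk_iff_isConj, isConj_sl_iff] at hh
        obtain ⟨P, hP, hh⟩ := hh
        have h0 : Scal2 ((1 : SpecialLinearGroup (Fin 2) F) : Matrix (Fin 2) (Fin 2) F) := by
          refine ⟨?_, ?_, ?_⟩ <;> simp
        have h1 := scal2_of_mul (by rw [hP]; exact one_ne_zero) hh h0
        rw [compSL_val] at h1
        exact not_scal2_comp2 t 1 (h1 ▸ h0)
      · simp only [f] at hh
        rw [ConjClasses.mk_eq_mk_iff_isConj, isConj_sl_iff] at hh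
        obtain ⟨P, hP, hh⟩ := hh
        obtain ⟨h1, h2⟩ := trace_eq_of_mul (by rw [hP]; exact one_ne_zero) hh
        rw [compSL_val, compSL_val, Matrix.trace_fin_two, Matrix.trace_fin_two] at h1
        simp [comp2] at h1
        rw [h1]
    · intro c
      obtain ⟨g, rfl⟩ := ConjClasses.exists_rep c
      have h2 : (2 : F) = 0 := CharTwo.two_eq_zero
      by_cases hg : Scal2 (g : Matrix (Fin 2) (Fin 2) F)
      · refine ⟨none, ?_⟩
        simp only [f]
        congr 1
        apply Subtype.ext
        have h1 : (g : Matrix (Fin 2) (Fin 2) F).det = 1 := g.2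
        rw [Matrix.det_fin_two, hg.1, ← hg.2.2] at h1
        have h3 : (g : Matrix (Fin 2) (Fin 2) F) 0 0 = 1 := by
          have h4 : ((g : Matrix (Fin 2) (Fin 2) F) 0 0 - 1) ^ 2 = 0 := by
            linear_combination h1 + (1 - (g : Matrix (Fin 2) (Fin 2) F) 0 0) * h2
          have h5 := pow_eq_zero_iff (two_ne_zero) |>.1 h4
          linear_combination h5
        show (1 : Matrix (Fin 2) (Fin 2) F) = _
        rw [scal2_eq hg, h3, map_one]
      · obtain ⟨x, y, hxy⟩ := exists_qf2_ne_zero hg
        obtain ⟨s, hs⟩ : ∃ s : F, s ^ 2 = (qf2 (g : Matrix (Fin 2) (Fin 2) F) x y)⁻¹ := by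
          haveI : Fact (Nat.Prime 2) := ⟨Nat.prime_two⟩
          have hinj : Function.Injective (frobenius F 2) := frobenius_inj F 2
          obtain ⟨s, hs⟩ := (Finite.injective_iff_surjective.1 hinj) (qf2 (g : Matrix (Fin 2) (Fin 2) F) x y)⁻¹
          exact ⟨s, hs⟩
        refine ⟨some (g : Matrix (Fin 2) (Fin 2) F).trace, ?_⟩
        simp only [f]
        refine ConjClasses.mk_eq_mk_iff_isConj.2 (isConj_compSL (x := s * x) (y := s * y) ?_)
        rw [qf2_smul, hs, inv_mul_cancel₀ hxy]
  rw [← Nat.card_congr (Equiv.ofBijective f hf), Nat.card_eq_fintype_card, Fintype.card_option]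

end Cfsg.Agent.S2331
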