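import Cfsg.Statements.S2325
import Cfsg.Agent.H39.Class2SL

set_option autoImplicit false
open Cfsg

namespace Cfsg.Agent.S2325

open Matrix Cfsg.Agent.H39

theorem sq_or {F : Type*} [Field F] [Fintype F] (ν : F) (hν : ¬ IsSquare ν) (b : F) (hb : b ≠ 0) :
    (∃ s, s ≠ 0 ∧ b = s * s) ∨ (∃ s, s ≠ 0 ∧ b = s * s * ν) := by
  classical
  have hν0 : ν ≠ 0 := by rintro rfl; exact hν (by simp)
  by_cases h : IsSquare b
  · obtain ⟨s, rfl⟩ := h
    left
    refine ⟨s, ?_, rfl⟩
    rintro rfl
    simp at hb
  · right
    have h1 : IsSquare (b * ν⁻¹) := by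
      have hνi : ¬ IsSquare ν⁻¹ := by
        rwa [isSquare_inv]
      rw [← quadraticChar_one_iff_isSquare (mul_ne_zero hb (inv_ne_zero hν0)), map_mul]
      have h2 : quadraticChar F b = -1 := quadraticChar_neg_one_iff_not_isSquare.2 h
      have h3 : quadraticChar F ν⁻¹ = -1 := quadraticChar_neg_one_iff_not_isSquare.2 hνi
      rw [h2, h3]
      norm_num
    obtain ⟨s, hs⟩ := h1
    refine ⟨s, ?_, ?_⟩
    · rintro rfl
      simp [hb, hν0] at hs
    · rw [← hs, inv_mul_cancel_right₀ hν0]

/-- Over a finite field with q elements, q odd, the special linear group SL₂ has exactly q + 4 conjugacy classes. -/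
theorem result {F : Type*} [Field F] [Fintype F] (hodd : Odd (Fintype.card F)) :
    Nat.card (ConjClasses (Matrix.SpecialLinearGroup (Fin 2) F)) = Fintype.card F + 4 := by
  classical
  have h2 : (2 : F) ≠ 0 := by
    intro h2
    haveI : CharP F 2 := CharTwo.of_one_ne_zero_of_two_eq_zero one_ne_zero h2
    haveI : Fact (Nat.Prime 2) := ⟨Nat.prime_two⟩
    have h3 := FiniteField.even_card_iff_char_two.1 (ringChar.eq F 2)
    rw [Nat.odd_iff] at hodd
    omega
  have hchar : ringChar F ≠ 2 := by
    intro hc
    apply h2
    have := ringChar.Nat.cast_ringChar (R := F)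
    rw [hc] at this
    exact_mod_cast this
  obtain ⟨ν, hν⟩ := FiniteField.exists_nonsquare hchar
  have hν0 : ν ≠ 0 := by rintro rfl; exact hν (by simp)
  let eps : Bool → F := fun s => if s then 1 else -1
  have heps : ∀ s, eps s * eps s = 1 := by rintro (_ | _) <;> simp [eps]
  have hepsinj : ∀ s s', eps s + eps s = eps s' + eps s' → s = s' := by
    rintro (_ | _) (_ | _) h <;> simp [eps] at h ⊢
    · apply h2
      have h4 : (2 : F) * 2 = 0 := by linear_combination -h
      simpa using h4
    · apply h2
      have h4 : (2 : F) * 2 = 0 := by linear_combination h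
      simpa using h4
  let nu : Bool → F := fun s => if s then 1 else ν
  have hnu0 : ∀ s, nu s ≠ 0 := by rintro (_ | _) <;> simp [nu, hν0]
  let f : Bool ⊕ ({t : F // t ≠ 2 ∧ t ≠ -2} ⊕ (Bool × Bool)) → ConjClasses (SpecialLinearGroup (Fin 2) F) :=
    fun x => match x with
    | Sum.inl s => ConjClasses.mk (uniSL (eps s) 0 (heps s))
    | Sum.inr (Sum.inl t) => ConjClasses.mk (compSL (t : F))
    | Sum.inr (Sum.inr (s, r)) => ConjClasses.mk (uniSL (eps s) (nu r) (heps s))
  have hscal : ∀ s, Scal2 (uniSL (eps s) 0 (heps s) : Matrix (Fin 2) (Fin 2) F) := by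
    intro s
    rw [uniSL_val]
    refine ⟨?_, ?_, ?_⟩ <;> simp
  have hsc : ∀ (s : Bool) (g : SpecialLinearGroup (Fin 2) F), IsConj (uniSL (eps s) 0 (heps s)) g →
      uniSL (eps s) 0 (heps s) = g := by
    intro s g hh
    rw [isConj_sl_iff] at hh
    obtain ⟨P, hP, hh⟩ := hh
    have := scal2_of_mul (by rw [hP]; exact one_ne_zero) hh (hscal s)
    exact Subtype.ext this.symm
  have htr : ∀ (g g' : SpecialLinearGroup (Fin 2) F), IsConj g g' →
      (g : Matrix (Fin 2) (Fin 2) F).trace = (g' : Matrix (Fin 2) (Fin 2) F).trace := by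
    intro g g' hh
    rw [isConj_sl_iff] at hh
    obtain ⟨P, hP, hh⟩ := hh
    exact (trace_eq_of_mul (by rw [hP]; exact one_ne_zero) hh).1
  have htc : ∀ t : F, (compSL t : Matrix (Fin 2) (Fin 2) F).trace = t := by
    intro t
    rw [compSL_val, Matrix.trace_fin_two]
    simp [comp2]
  have htu : ∀ (ε b : F) (hε : ε * ε = 1), (uniSL ε b hε : Matrix (Fin 2) (Fin 2) F).trace = ε + ε := by
    intro ε b hε
    rw [uniSL_val, Matrix.trace_fin_two]
    simp
  have hepst : ∀ (s : Bool) (t : {t : F // t ≠ 2 ∧ t ≠ -2}), eps s + eps s ≠ (t : F) := by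
    rintro (_ | _) ⟨t, ht1, ht2⟩ h
    · apply ht2
      simp only [eps] at h
      rw [← h]
      simp
      ring
    · apply ht1
      simp only [eps] at h
      rw [← h]
      simp
      ring
  have hf : Function.Bijective f := by
    constructor
    · rintro (s | t | ⟨s, r⟩) (s' | t' | ⟨s', r'⟩) hh
      · simp only [f] at hh
        rw [ConjClasses.mk_eq_mk_iff_isConj] at hh
        have h3 := htr _ _ hh
        rw [htu, htu] at h3
        rw [hepsinj _ _ h3]
      · exfalso
        simp only [f] at hh
        rw [ConjClasses.mk_eq_mk_iff_isConj] at hh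
        have h3 := htr _ _ hh
        rw [htu, htc] at h3
        exact hepst s t' h3
      · exfalso
        simp only [f] at hh
        rw [ConjClasses.mk_eq_mk_iff_isConj] at hh
        have h3 := hsc s _ hh
        exact not_scal2_uniSL (heps s') (hnu0 r') (h3 ▸ hscal s)
      · exfalso
        simp only [f] at hh
        rw [eq_comm, ConjClasses.mk_eq_mk_iff_isConj] at hh
        have h3 := htr _ _ hh
        rw [htu, htc] at h3
        exact hepst s' t h3
      · simp only [f] at hh
        rw [ConjClasses.mk_eq_mk_iff_isConj] at hh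
        have h3 := htr _ _ hh
        rw [htc, htc] at h3
        rw [Subtype.ext h3]
      · exfalso
        simp only [f] at hh
        rw [eq_comm, ConjClasses.mk_eq_mk_iff_isConj] at hh
        have h3 := htr _ _ hh
        rw [htu, htc] at h3
        exact hepst s' t h3
      · exfalso
        simp only [f] at hh
        rw [eq_comm, ConjClasses.mk_eq_mk_iff_isConj] at hh
        have h3 := hsc s' _ hh
        exact not_scal2_uniSL (heps s) (hnu0 r) (h3 ▸ hscal s')
      · exfalso
        simp only [f] at hh
        rw [ConjClasses.mk_eq_mk_iff_isConj] at hh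
        have h3 := htr _ _ hh
        rw [htu, htc] at h3
        exact hepst s t' h3
      · simp only [f] at hh
        rw [ConjClasses.mk_eq_mk_iff_isConj] at hh
        have h3 := htr _ _ hh
        rw [htu, htu] at h3
        have h4 := hepsinj _ _ h3
        subst h4
        obtain ⟨v, hv, hv2⟩ := (of_isConj_uniSL _ _ (hnu0 r) hh).2 rfl
        have h5 : r = r' := by
          rcases r with _ | _ <;> rcases r' with _ | _
          · rfl
          · exfalso
            simp only [nu] at hv2
            apply hν
            refine ⟨v⁻¹, ?_⟩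
            have : (1 : F) = v * v * ν := by simpa using hv2
            field_simp
            linear_combination -this
          · exfalso
            simp only [nu] at hv2
            apply hν
            refine ⟨v, ?_⟩
            have : ν = v * v * 1 := by simpa using hv2
            linear_combination this
          · rfl
        rw [h5]
    · intro c
      obtain ⟨g, rfl⟩ := ConjClasses.exists_rep c
      by_cases hg : Scal2 (g : Matrix (Fin 2) (Fin 2) F)
      · have h1 : (g : Matrix (Fin 2) (Fin 2) F).det = 1 := g.2
        rw [Matrix.det_fin_two, hg.1, ← hg.2.2] at h1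
        have h3 : ((g : Matrix (Fin 2) (Fin 2) F) 0 0 - 1) * ((g : Matrix (Fin 2) (Fin 2) F) 0 0 + 1) = 0 := by
          linear_combination h1
        have h4 : ∃ s, (g : Matrix (Fin 2) (Fin 2) F) 0 0 = eps s := by
          rcases mul_eq_zero.1 h3 with h4 | h4
          · exact ⟨true, by simp only [eps, if_true]; linear_combination h4⟩
          · exact ⟨false, by simp only [eps]; simp; linear_combination h4⟩
        obtain ⟨s, hs⟩ := h4
        refine ⟨Sum.inl s, ?_⟩
        simp only [f]
        congr 1
        apply Subtype.ext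
        show (uniSL (eps s) 0 (heps s) : Matrix (Fin 2) (Fin 2) F) = g
        rw [uniSL_val]
        ext i j
        fin_cases i <;> fin_cases j
        · simp [hs]
        · simp [hg.1]
        · simp [hg.2.1]
        · simp [← hg.2.2, hs]
      · by_cases ht : ∃ s, (g : Matrix (Fin 2) (Fin 2) F).trace = eps s + eps s
        · obtain ⟨s, hs⟩ := ht
          obtain ⟨b, hb, hb2⟩ := exists_isConj_uniSL hg (heps s) hs
          have h5 : ∃ r, IsConj (uniSL (eps s) (nu r) (heps s)) (uniSL (eps s) b (heps s)) := by
            rcases sq_or ν hν b hb with ⟨v, hv, hv2⟩ | ⟨v, hv, hv2⟩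
            · refine ⟨true, ?_⟩
              have h6 := isConj_uniSL_sq (b := nu true) (heps s) hv
              have h7 : v * v * nu true = b := by rw [hv2]; simp [nu]
              rwa [h7] at h6
            · refine ⟨false, ?_⟩
              have h6 := isConj_uniSL_sq (b := nu false) (heps s) hv
              have h7 : v * v * nu false = b := by rw [hv2]; simp [nu]
              rwa [h7] at h6
          obtain ⟨r, hr⟩ := h5
          exact ⟨Sum.inr (Sum.inr (s, r)), ConjClasses.mk_eq_mk_iff_isConj.2 (hr.trans hb2)⟩
        · push Not at ht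
          have h5 : (g : Matrix (Fin 2) (Fin 2) F).trace ≠ 2 := by
            intro h6
            apply ht true
            rw [h6]
            simp only [eps, if_true]
            norm_num
          have h5' : (g : Matrix (Fin 2) (Fin 2) F).trace ≠ -2 := by
            intro h6
            apply ht false
            rw [h6]
            simp only [eps]
            simp
            norm_num
          have h6 : ((g : Matrix (Fin 2) (Fin 2) F).trace) ^ 2 - 4 * (g : Matrix (Fin 2) (Fin 2) F).det ≠ 0 := by
            have h7 : (g : Matrix (Fin 2) (Fin 2) F).det = 1 := g.2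
            rw [h7]
            have h8 : (g : Matrix (Fin 2) (Fin 2) F).trace ^ 2 - 4 * 1 =
              ((g : Matrix (Fin 2) (Fin 2) F).trace - 2) * ((g : Matrix (Fin 2) (Fin 2) F).trace - (-2)) := by ring
            rw [h8]
            exact mul_ne_zero (sub_ne_zero.2 h5) (sub_ne_zero.2 h5')
          obtain ⟨x, y, hxy⟩ := exists_qf2_eq_one h2 _ h6
          exact ⟨Sum.inr (Sum.inl ⟨_, h5, h5'⟩), ConjClasses.mk_eq_mk_iff_isConj.2 (isConj_compSL hxy)⟩
  have hcard : Nat.card {t : F // t ≠ 2 ∧ t ≠ -2} = Fintype.card F - 2 := by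
    have h3 : Nat.card {t : F // t ≠ 2 ∧ t ≠ -2} = ((Finset.univ : Finset F) \ {2, -2}).card := by
      rw [Nat.card_eq_fintype_card, Fintype.card_subtype]
      congr 1
      ext t
      simp
    rw [h3, Finset.card_sdiff_of_subset (Finset.subset_univ _), Finset.card_univ, Finset.card_pair]
    intro h4
    apply h2
    have h5 : (2 : F) * 2 = 0 := by linear_combination h4
    simpa using h5
  rw [← Nat.card_congr (Equiv.ofBijective f hf), Nat.card_sum, Nat.card_sum, Nat.card_prod, hcard, Nat.card_eq_fintype_card, Fintype.card_bool]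
  have h3 : 2 ≤ Fintype.card F := Fintype.one_lt_card
  omega

end Cfsg.Agent.S2325
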