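import Cfsg.Statements.S2431
import Cfsg.Agent.H41.PrincSeries
import Cfsg.Agent.H41.TorusSylow
import Cfsg.Agent.H81.SL2Card
import Cfsg.Agent.S5112
import Cfsg.Agent.S2879

set_option autoImplicit false
open Cfsg

namespace Cfsg.Agent.S2431

open Cfsg.Agent.H41

theorem comm_trans {F : Type*} [Field F] {c s t : Matrix.SpecialLinearGroup (Fin 2) F}
    (hc : c ∉ Subgroup.center (Matrix.SpecialLinearGroup (Fin 2) F)) (hs : s * c = c * s) (ht : t * c = c * t) :
    s * t = t * s := by
  have key : ∀ u : Matrix.SpecialLinearGroup (Fin 2) F, u * c = c * u →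
      (c 0 1 * u 1 0 = u 0 1 * c 1 0 ∧ (c 0 0 - c 1 1) * u 0 1 = c 0 1 * (u 0 0 - u 1 1) ∧
        (c 0 0 - c 1 1) * u 1 0 = c 1 0 * (u 0 0 - u 1 1)) := by
    intro u hu
    have e00 := congrArg (fun M : Matrix.SpecialLinearGroup (Fin 2) F => M 0 0) hu
    have e01 := congrArg (fun M : Matrix.SpecialLinearGroup (Fin 2) F => M 0 1) hu
    have e10 := congrArg (fun M : Matrix.SpecialLinearGroup (Fin 2) F => M 1 0) hu
    simp only [mul_00, mul_01, mul_10] at e00 e01 e10
    refine ⟨by linear_combination -e00, by linear_combination -e01, by linear_combination e10⟩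
  obtain ⟨a1, a2, a3⟩ := key s hs
  obtain ⟨b1, b2, b3⟩ := key t ht
  have goal : s 0 1 * t 1 0 = t 0 1 * s 1 0 ∧ s 0 1 * (t 0 0 - t 1 1) = t 0 1 * (s 0 0 - s 1 1) ∧
      s 1 0 * (t 0 0 - t 1 1) = t 1 0 * (s 0 0 - s 1 1) := by
    by_cases h01 : c 0 1 = 0
    · by_cases h10 : c 1 0 = 0
      · have hd : c 0 0 - c 1 1 ≠ 0 := by
          intro hd
          apply hc
          rw [mem_center_sl2]
          have hdet := det_eq c
          have e : c 0 0 = c 1 1 := by linear_combination hd
          rw [h01, e] at hdet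
          have : (c 1 1 - 1) * (c 1 1 + 1) = 0 := by linear_combination hdet
          rcases mul_eq_zero.mp this with h | h
          · left
            apply sl2_ext
            · rw [one_00]; linear_combination h + hd
            · rw [one_01, h01]
            · rw [one_10, h10]
            · rw [one_11]; linear_combination h
          · right
            apply sl2_ext
            · rw [neg_00, one_00]; linear_combination h + hd
            · rw [neg_01, one_01, h01, neg_zero]
            · rw [neg_10, one_10, h10, neg_zero]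
            · rw [neg_11, one_11]; linear_combination h
        have s01 : s 0 1 = 0 := (mul_eq_zero.mp (by rw [a2, h01, zero_mul])).resolve_left hd
        have s10 : s 1 0 = 0 := (mul_eq_zero.mp (by rw [a3, h10, zero_mul])).resolve_left hd
        have t01 : t 0 1 = 0 := (mul_eq_zero.mp (by rw [b2, h01, zero_mul])).resolve_left hd
        have t10 : t 1 0 = 0 := (mul_eq_zero.mp (by rw [b3, h10, zero_mul])).resolve_left hd
        rw [s01, s10, t01, t10]; simp
      · have s01 : s 0 1 = 0 := by
          have : s 0 1 * c 1 0 = 0 := by rw [← a1, h01, zero_mul]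
          exact (mul_eq_zero.mp this).resolve_right h10
        have t01 : t 0 1 = 0 := by
          have : t 0 1 * c 1 0 = 0 := by rw [← b1, h01, zero_mul]
          exact (mul_eq_zero.mp this).resolve_right h10
        rw [s01, t01]
        refine ⟨by simp, by simp, ?_⟩
        apply mul_left_cancel₀ h10
        linear_combination s 1 0 * (-b3) + t 1 0 * a3
    · refine ⟨?_, ?_, ?_⟩
      · apply mul_left_cancel₀ h01
        linear_combination s 0 1 * b1 - t 0 1 * a1
      · apply mul_left_cancel₀ h01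
        linear_combination -s 0 1 * b2 + t 0 1 * a2
      · apply mul_left_cancel₀ h01
        apply mul_left_cancel₀ h01
        linear_combination c 0 1 * (t 0 0 - t 1 1) * a1 - c 0 1 * (s 0 0 - s 1 1) * b1 - c 1 0 * s 0 1 * b2 + c 1 0 * t 0 1 * a2
  obtain ⟨g1, g2, g3⟩ := goal
  apply sl2_ext <;> simp only [mul_00, mul_01, mul_10, mul_11]
  · linear_combination g1
  · linear_combination -g2
  · linear_combination g3
  · linear_combination -g1

theorem two_ne {F : Type*} [Field F] [Fintype F] (hodd : Odd (Fintype.card F)) : (2 : F) ≠ 0 := by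
  intro h
  obtain ⟨p, hp⟩ := CharP.exists F
  obtain ⟨n, hpp, hcard⟩ := FiniteField.card F p
  have h3 : p ∣ 2 := by
    have := (CharP.cast_eq_zero_iff F p 2).mp (by exact_mod_cast h)
    exact this
  have h4 : p = 2 := (Nat.prime_dvd_prime_iff_eq hpp Nat.prime_two).mp h3
  rw [hcard, h4] at hodd
  have : Even (2 ^ (n : ℕ)) := by
    rw [Nat.even_pow]; exact ⟨even_two, n.ne_zero⟩
  exact (Nat.not_even_iff_odd.mpr hodd) this

/-- the element of order three -/
theorem exists_omega {F : Type*} [Field F] (h2 : (2 : F) ≠ 0) (I J : Matrix.SpecialLinearGroup (Fin 2) F)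
    (hI : I * I = -1) (hJ : J * J = -1) (hIJ : I * J = -(J * I)) :
    ∃ w : Matrix.SpecialLinearGroup (Fin 2) F, w * (w * w) = 1 ∧ w ≠ 1 ∧ w * I = I * J * w ∧ w * J = I * w := by
  have key : ∀ B : Matrix.SpecialLinearGroup (Fin 2) F, B * B = -1 → B 1 1 = -B 0 0 := by
    intro B hB
    have hd := det_eq B
    have c00 := congrArg (fun M : Matrix.SpecialLinearGroup (Fin 2) F => M 0 0) hB
    have c10 := congrArg (fun M : Matrix.SpecialLinearGroup (Fin 2) F => M 1 0) hB
    simp only [mul_00, mul_10, neg_00, neg_10, one_00, one_10] at c00 c10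
    linear_combination -B 0 0 * hd + B 1 1 * c00 - B 0 1 * c10 
  have i11 := key I hI
  have j11 := key J hJ
  have hdI := det_eq I
  have hdJ := det_eq J
  have e00 := congrArg (fun M : Matrix.SpecialLinearGroup (Fin 2) F => M 0 0) hIJ
  simp only [mul_00, neg_00] at e00
  rw [i11] at hdI
  rw [j11] at hdJ
  obtain ⟨h, hh⟩ : ∃ h : F, 2 * h = 1 := ⟨2⁻¹, mul_inv_cancel₀ h2⟩
  obtain ⟨a, ha⟩ : ∃ a, a = I 0 0 := ⟨_, rfl⟩
  obtain ⟨b, hb⟩ : ∃ a, a = I 0 1 := ⟨_, rfl⟩
  obtain ⟨c, hc⟩ : ∃ a, a = I 1 0 := ⟨_, rfl⟩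
  obtain ⟨x, hx⟩ : ∃ a, a = J 0 0 := ⟨_, rfl⟩
  obtain ⟨y, hy⟩ : ∃ a, a = J 0 1 := ⟨_, rfl⟩
  obtain ⟨z, hz⟩ : ∃ a, a = J 1 0 := ⟨_, rfl⟩
  rw [← ha, ← hb, ← hc] at hdI
  rw [← hx, ← hy, ← hz] at hdJ
  rw [← ha, ← hb, ← hc, ← hx, ← hy, ← hz] at e00
  have hdet : (h * (-1 + a + x + a * x + b * z)) * (h * (-1 - a - x + c * y + a * x)) -
      (h * (b + y + a * y - b * x)) * (h * (c + z + c * x - a * z)) = 1 := by
    grind
  obtain ⟨w, hw⟩ : ∃ w : Matrix.SpecialLinearGroup (Fin 2) F, w = mk4 (h * (-1 + a + x + a * x + b * z)) (h * (b + y + a * y - b * x))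
      (h * (c + z + c * x - a * z)) (h * (-1 - a - x + c * y + a * x)) hdet := ⟨_, rfl⟩
  have w00 : w 0 0 = h * (-1 + a + x + a * x + b * z) := by rw [hw, mk4_00]
  have w01 : w 0 1 = h * (b + y + a * y - b * x) := by rw [hw, mk4_01]
  have w10 : w 1 0 = h * (c + z + c * x - a * z) := by rw [hw, mk4_10]
  have w11 : w 1 1 = h * (-1 - a - x + c * y + a * x) := by rw [hw, mk4_11]
  have htr : w 0 0 + w 1 1 = -1 := by
    rw [w00, w11]; grind
  have hdw := det_eq w
  have hwI : w * I = I * J * w := by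
    apply sl2_ext <;> simp only [mul_00, mul_01, mul_10, mul_11, w00, w01, w10, w11, i11, j11, ← ha, ← hb, ← hc, ← hx, ← hy, ← hz]
    · grind
    · grind
    · grind
    · grind
  have hwJ : w * J = I * w := by
    apply sl2_ext <;> simp only [mul_00, mul_01, mul_10, mul_11, w00, w01, w10, w11, i11, j11, ← ha, ← hb, ← hc, ← hx, ← hy, ← hz]
    · grind
    · grind
    · grind
    · grind
  refine ⟨w, ?_, ?_, hwI, hwJ⟩
  · apply sl2_ext <;> simp only [mul_00, mul_01, mul_10, mul_11, one_00, one_01, one_10, one_11]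
    · grind
    · grind
    · grind
    · grind
  · intro h1
    rw [h1, one_mul, mul_one, left_eq_mul] at hwI
    rw [hwI, one_mul] at hJ
    have h3 := congrArg (fun M : Matrix.SpecialLinearGroup (Fin 2) F => M 0 0) hJ
    simp only [neg_00, one_00] at h3
    apply h2
    linear_combination h3

theorem eq_pm_one {F : Type*} [Field F] (h2 : (2 : F) ≠ 0) (B : Matrix.SpecialLinearGroup (Fin 2) F) (hB : B * B = 1) :
    B = 1 ∨ B = -1 := by
  have h1 : B = B⁻¹ := eq_inv_of_mul_eq_one_left hB
  have e00 := congrArg (fun M : Matrix.SpecialLinearGroup (Fin 2) F => M 0 0) h1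
  have e01 := congrArg (fun M : Matrix.SpecialLinearGroup (Fin 2) F => M 0 1) h1
  have e10 := congrArg (fun M : Matrix.SpecialLinearGroup (Fin 2) F => M 1 0) h1
  simp only [inv_00, inv_01, inv_10] at e00 e01 e10
  have f01 : B 0 1 = 0 := by
    have : (2 : F) * B 0 1 = 0 := by linear_combination e01
    exact (mul_eq_zero.mp this).resolve_left h2
  have f10 : B 1 0 = 0 := by
    have : (2 : F) * B 1 0 = 0 := by linear_combination e10
    exact (mul_eq_zero.mp this).resolve_left h2
  have hd := det_eq B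
  rw [f01, ← e00] at hd
  have : (B 0 0 - 1) * (B 0 0 + 1) = 0 := by linear_combination hd
  rcases mul_eq_zero.mp this with h | h
  · left
    apply sl2_ext
    · rw [one_00]; linear_combination h
    · rw [one_01, f01]
    · rw [one_10, f10]
    · rw [one_11, ← e00]; linear_combination h
  · right
    apply sl2_ext
    · rw [neg_00, one_00]; linear_combination h
    · rw [neg_01, one_01, f01, neg_zero]
    · rw [neg_10, one_10, f10, neg_zero]
    · rw [neg_11, one_11, ← e00]; linear_combination h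

/-- Let F be a finite field with q elements, q odd, and S a Sylow 2-subgroup of SL₂ over F. The centraliser of S is the centre of SL₂ (of order 2); S is its own normaliser when q ≡ ±1 mod 8, and has index 3 in its normaliser when q ≡ ±3 mod 8. -/
theorem result {F : Type*} [Field F] [Fintype F] (hodd : Odd (Fintype.card F)) (S : Sylow 2 (Matrix.SpecialLinearGroup (Fin 2) F)) :
    Subgroup.centralizer ((S : Subgroup (Matrix.SpecialLinearGroup (Fin 2) F)) : Set (Matrix.SpecialLinearGroup (Fin 2) F)) = Subgroup.center (Matrix.SpecialLinearGroup (Fin 2) F) ∧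
    ((Fintype.card F % 8 = 1 ∨ Fintype.card F % 8 = 7) →
      Subgroup.normalizer ((S : Subgroup (Matrix.SpecialLinearGroup (Fin 2) F)) : Set (Matrix.SpecialLinearGroup (Fin 2) F)) = (S : Subgroup (Matrix.SpecialLinearGroup (Fin 2) F))) ∧
    ((Fintype.card F % 8 = 3 ∨ Fintype.card F % 8 = 5) →
      Nat.card (Subgroup.normalizer ((S : Subgroup (Matrix.SpecialLinearGroup (Fin 2) F)) : Set (Matrix.SpecialLinearGroup (Fin 2) F))) = 3 * Nat.card S) := by
  have h2 := two_ne hodd
  have hne : ∀ B : Matrix.SpecialLinearGroup (Fin 2) F, B ≠ -B := by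
    intro B hB
    have hd := det_eq B
    have e00 := congrArg (fun M : Matrix.SpecialLinearGroup (Fin 2) F => M 0 0) hB
    have e10 := congrArg (fun M : Matrix.SpecialLinearGroup (Fin 2) F => M 1 0) hB
    simp only [neg_00, neg_10] at e00 e10
    have f00 : B 0 0 = 0 := by
      have : (2 : F) * B 0 0 = 0 := by linear_combination e00
      exact (mul_eq_zero.mp this).resolve_left h2
    have f10 : B 1 0 = 0 := by
      have : (2 : F) * B 1 0 = 0 := by linear_combination e10
      exact (mul_eq_zero.mp this).resolve_left h2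
    rw [f00, f10] at hd
    simp at hd
  obtain ⟨k, hk, hfac, -, ⟨e⟩⟩ := Cfsg.Agent.H81.sylow_two_sl2 hodd S
  have hScard : Nat.card S = 2 ^ (k + 2) := by
    rw [← hfac]; exact S.card_eq_multiplicity
  -- non-commuting elements
  obtain ⟨s, hs⟩ : ∃ s : S, s = e.symm (QuaternionGroup.a 1) := ⟨_, rfl⟩
  obtain ⟨t, ht⟩ : ∃ t : S, t = e.symm (QuaternionGroup.xa 0) := ⟨_, rfl⟩
  have h4 : 2 < 2 * 2 ^ k := by
    have : 2 ^ 1 ≤ 2 ^ k := Nat.pow_le_pow_right (by norm_num) hk
    omega
  have hst : s * t ≠ t * s := by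
    intro h
    rw [hs, ht, ← map_mul, ← map_mul] at h
    have h1 := e.symm.injective h
    rw [QuaternionGroup.a_mul_xa, QuaternionGroup.xa_mul_a] at h1
    have h3 : (0 - 1 : ZMod (2 * 2 ^ k)) = 0 + 1 := QuaternionGroup.xa.inj h1
    have h5 : ((2 : ℕ) : ZMod (2 * 2 ^ k)) = 0 := by
      push_cast
      linear_combination -h3
    rw [ZMod.natCast_eq_zero_iff] at h5
    exact absurd (Nat.le_of_dvd (by norm_num) h5) (by omega)
  have hcent : Subgroup.centralizer ((S : Subgroup (Matrix.SpecialLinearGroup (Fin 2) F)) : Set (Matrix.SpecialLinearGroup (Fin 2) F)) = Subgroup.center (Matrix.SpecialLinearGroup (Fin 2) F) := by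
    apply le_antisymm
    · intro c hc
      by_contra hcon
      rw [Subgroup.mem_centralizer_iff] at hc
      apply hst
      apply Subtype.ext
      exact comm_trans hcon (hc s s.2) (hc t t.2)
    · exact Subgroup.center_le_centralizer _
  have hcardG := card_sl2' (F := F)
  have hG0 : Nat.card (Matrix.SpecialLinearGroup (Fin 2) F) ≠ 0 := Nat.card_pos.ne'
  refine ⟨hcent, ?_, ?_⟩
  · intro hq
    have h16 : 2 ^ 4 ∣ Nat.card (Matrix.SpecialLinearGroup (Fin 2) F) := by
      rw [hcardG, ← mul_assoc]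
      apply Dvd.dvd.mul_right
      rcases hq with hq | hq
      · obtain ⟨u, hu⟩ : ∃ u, Fintype.card F = 8 * u + 1 := ⟨Fintype.card F / 8, by omega⟩
        rw [hu]
        refine ⟨u * (4 * u + 1), ?_⟩
        rw [Nat.add_sub_cancel]; ring
      · obtain ⟨u, hu⟩ : ∃ u, Fintype.card F = 8 * u + 7 := ⟨Fintype.card F / 8, by omega⟩
        rw [hu]
        refine ⟨(u + 1) * (4 * u + 3), ?_⟩
        have : 8 * u + 7 - 1 = 8 * u + 6 := by omega
        rw [this]; ring
    have hk2 : 2 ≤ k := by
      rw [Nat.Prime.pow_dvd_iff_le_factorization Nat.prime_two hG0, hfac] at h16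
      omega
    have hA : IsPGroup 2 (MulAut S) :=
      (Cfsg.Agent.S5112.isPGroup_mulAut_quaternion k hk2).of_equiv (MulAut.congr e.symm)
    have hN : IsPGroup 2 (Subgroup.normalizer ((S : Subgroup (Matrix.SpecialLinearGroup (Fin 2) F)) : Set (Matrix.SpecialLinearGroup (Fin 2) F))) := by
      intro g
      obtain ⟨m, hm⟩ := hA ((S : Subgroup (Matrix.SpecialLinearGroup (Fin 2) F)).normalizerMonoidHom g)
      rw [← map_pow] at hm
      have h1 : g ^ 2 ^ m ∈ ((S : Subgroup (Matrix.SpecialLinearGroup (Fin 2) F)).normalizerMonoidHom).ker := hm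
      rw [Subgroup.normalizerMonoidHom_ker, Subgroup.mem_subgroupOf, hcent, mem_center_sl2] at h1
      refine ⟨m + 1, ?_⟩
      rw [pow_succ, pow_mul]
      apply Subtype.ext
      rw [SubmonoidClass.coe_pow]
      rcases h1 with h1 | h1 <;> rw [h1] <;> simp
    exact S.is_maximal' hN Subgroup.le_normalizer
  · intro hq
    have h16 : ¬ 2 ^ 4 ∣ Nat.card (Matrix.SpecialLinearGroup (Fin 2) F) := by
      rw [hcardG, ← mul_assoc]
      rcases hq with hq | hq
      · obtain ⟨u, hu⟩ : ∃ u, Fintype.card F = 8 * u + 3 := ⟨Fintype.card F / 8, by omega⟩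
        rw [hu]
        have h1 : (8 * u + 3 + 1) * (8 * u + 3 - 1) * (8 * u + 3) = 2 ^ 3 * ((2 * u + 1) * (4 * u + 1) * (8 * u + 3)) := by
          have : 8 * u + 3 - 1 = 8 * u + 2 := by omega
          rw [this]; ring
        rw [h1, pow_succ]
        intro h3
        have h5 := Nat.dvd_of_mul_dvd_mul_left (by norm_num) h3
        rw [Nat.Prime.dvd_mul Nat.prime_two, Nat.Prime.dvd_mul Nat.prime_two] at h5
        omega
      · obtain ⟨u, hu⟩ : ∃ u, Fintype.card F = 8 * u + 5 := ⟨Fintype.card F / 8, by omega⟩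
        rw [hu]
        have h1 : (8 * u + 5 + 1) * (8 * u + 5 - 1) * (8 * u + 5) = 2 ^ 3 * ((4 * u + 3) * (2 * u + 1) * (8 * u + 5)) := by
          have : 8 * u + 5 - 1 = 8 * u + 4 := by omega
          rw [this]; ring
        rw [h1, pow_succ]
        intro h3
        have h5 := Nat.dvd_of_mul_dvd_mul_left (by norm_num) h3
        rw [Nat.Prime.dvd_mul Nat.prime_two, Nat.Prime.dvd_mul Nat.prime_two] at h5
        omega
    have hk1 : k = 1 := by
      rw [Nat.Prime.pow_dvd_iff_le_factorization Nat.prime_two hG0, hfac] at h16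
      omega
    subst hk1
    have hA : Nat.card (MulAut S) = 24 := by
      rw [Nat.card_congr (MulAut.congr e).toEquiv]
      exact Cfsg.Agent.S2879.card_mulAut_quat
    obtain ⟨N, hN⟩ : ∃ N, N = Subgroup.normalizer ((S : Subgroup (Matrix.SpecialLinearGroup (Fin 2) F)) : Set (Matrix.SpecialLinearGroup (Fin 2) F)) := ⟨_, rfl⟩
    have hSN : (S : Subgroup (Matrix.SpecialLinearGroup (Fin 2) F)) ≤ N := hN ▸ Subgroup.le_normalizer
    have h8 : 8 ∣ Nat.card N := by
      have := Subgroup.card_dvd_of_le hSN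
      rw [hScard] at this
      exact this
    have h16' : ¬ 16 ∣ Nat.card N := fun h => h16 (by
      have := h.trans (Subgroup.card_subgroup_dvd_card N)
      simpa using this)
    have h48 : Nat.card N ∣ 48 := by
      have hc : Nat.card (Subgroup.center (Matrix.SpecialLinearGroup (Fin 2) F)) = 2 := by
        have h1 : ((Subgroup.center (Matrix.SpecialLinearGroup (Fin 2) F)) : Set (Matrix.SpecialLinearGroup (Fin 2) F)) = {1, -1} := by
          ext x; exact mem_center_sl2
        have h3 : Nat.card (Subgroup.center (Matrix.SpecialLinearGroup (Fin 2) F)) =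
          Set.ncard ((Subgroup.center (Matrix.SpecialLinearGroup (Fin 2) F)) : Set (Matrix.SpecialLinearGroup (Fin 2) F)) := rfl
        rw [h3, h1, Set.ncard_pair (hne 1)]
      have h1 := Subgroup.card_mul_index ((S : Subgroup (Matrix.SpecialLinearGroup (Fin 2) F)).normalizerMonoidHom).ker
      rw [Subgroup.index_ker, Subgroup.normalizerMonoidHom_ker, hcent,
        Nat.card_congr (Subgroup.subgroupOfEquivOfLe (Subgroup.center_le_normalizer _)).toEquiv, hc] at h1
      rw [hN, ← h1, show 48 = 2 * 24 by norm_num]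
      apply Nat.mul_dvd_mul_left
      rw [← hA]
      exact Subgroup.card_subgroup_dvd_card _
    have hrel : ∀ x y : QuaternionGroup (2 ^ 1), ((e.symm x : S) : Matrix.SpecialLinearGroup (Fin 2) F) * (e.symm y : S) = ((e.symm (x * y) : S) : Matrix.SpecialLinearGroup (Fin 2) F) := by
      intro x y
      rw [map_mul, Subgroup.coe_mul]
    obtain ⟨I, hI⟩ : ∃ I : Matrix.SpecialLinearGroup (Fin 2) F, I = (e.symm (QuaternionGroup.a 1) : S) := ⟨_, rfl⟩
    obtain ⟨J, hJ⟩ : ∃ I : Matrix.SpecialLinearGroup (Fin 2) F, I = (e.symm (QuaternionGroup.xa 0) : S) := ⟨_, rfl⟩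
    have hIS : I ∈ S := hI ▸ (e.symm (QuaternionGroup.a 1)).2
    have hJS : J ∈ S := hJ ▸ (e.symm (QuaternionGroup.xa 0)).2
    have hII : I * I = -1 := by
      have h1 : (I * I) * (I * I) = 1 := by
        rw [hI, hrel, hrel]
        have : (QuaternionGroup.a 1 : QuaternionGroup (2 ^ 1)) * QuaternionGroup.a 1 * (QuaternionGroup.a 1 * QuaternionGroup.a 1) = 1 := by decide
        rw [this, map_one]; rfl
      rcases eq_pm_one h2 _ h1 with h3 | h3
      · exfalso
        rw [hI, hrel] at h3
        have h5 : (e.symm (QuaternionGroup.a 1 * QuaternionGroup.a 1) : S) = 1 := Subtype.ext h3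
        rw [map_eq_one_iff _ e.symm.injective] at h5
        exact absurd h5 (by decide)
      · exact h3
    have hJJ : J * J = -1 := by
      rw [← hII, hI, hJ, hrel, hrel]
      have : (QuaternionGroup.xa 0 : QuaternionGroup (2 ^ 1)) * QuaternionGroup.xa 0 = QuaternionGroup.a 1 * QuaternionGroup.a 1 := by decide
      rw [this]
    have hIJ : I * J = -(J * I) := by
      have h1 : -(J * I) = (I * I) * (J * I) := by rw [hII, neg_mul, one_mul]
      rw [h1, hI, hJ, hrel, hrel, hrel, hrel]
      have : (QuaternionGroup.a 1 : QuaternionGroup (2 ^ 1)) * QuaternionGroup.xa 0 = QuaternionGroup.a 1 * QuaternionGroup.a 1 * (QuaternionGroup.xa 0 * QuaternionGroup.a 1) := by decide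
      rw [this]
    obtain ⟨w, hw3, hw1, hwI, hwJ⟩ := exists_omega h2 I J hII hJJ hIJ
    have hgen : ∀ h ∈ S, ∃ m : ℕ, h = I ^ m ∨ h = J * I ^ m := by
      intro h hh
      have h1 : ∀ x : QuaternionGroup (2 ^ 1), ∃ m : ℕ, x = (QuaternionGroup.a 1) ^ m ∨ x = QuaternionGroup.xa 0 * (QuaternionGroup.a 1) ^ m := by
        intro x
        have h2 : ∀ x : QuaternionGroup (2 ^ 1), ∃ m : Fin 4, x = (QuaternionGroup.a 1) ^ (m : ℕ) ∨ x = QuaternionGroup.xa 0 * (QuaternionGroup.a 1) ^ (m : ℕ) := by decide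
        obtain ⟨m, hm⟩ := h2 x
        exact ⟨m, hm⟩
      obtain ⟨m, hm⟩ := h1 (e ⟨h, hh⟩)
      refine ⟨m, ?_⟩
      rcases hm with hm | hm
      · left
        rw [hI, ← SubmonoidClass.coe_pow, ← map_pow, ← hm, MulEquiv.symm_apply_apply]
      · right
        rw [hI, hJ, ← SubmonoidClass.coe_pow, ← map_pow, ← Subgroup.coe_mul, ← map_mul, ← hm, MulEquiv.symm_apply_apply]
    have hcI : w * I * w⁻¹ = I * J := by rw [hwI]; group
    have hcJ : w * J * w⁻¹ = I := by rw [hwJ]; group
    have hconj : ∀ h ∈ S, w * h * w⁻¹ ∈ S := by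
      intro h hh
      obtain ⟨m, hm | hm⟩ := hgen h hh
      · rw [hm, ← conj_pow, hcI]
        exact (S : Subgroup (Matrix.SpecialLinearGroup (Fin 2) F)).pow_mem (mul_mem hIS hJS) m
      · have : w * h * w⁻¹ = (w * J * w⁻¹) * (w * I * w⁻¹) ^ m := by
          rw [hm, conj_pow]; group
        rw [this, hcI, hcJ]
        exact (S : Subgroup (Matrix.SpecialLinearGroup (Fin 2) F)).mul_mem hIS ((S : Subgroup (Matrix.SpecialLinearGroup (Fin 2) F)).pow_mem (mul_mem hIS hJS) m)
    have hwN : w ∈ N := by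
      rw [hN, Subgroup.mem_normalizer_iff]
      intro h
      refine ⟨hconj h, fun h' => ?_⟩
      have h5 := hconj _ (hconj _ h')
      have h6 : w * (w * (w * h * w⁻¹) * w⁻¹) * w⁻¹ = h := by
        have : w * (w * (w * h * w⁻¹) * w⁻¹) * w⁻¹ = (w * (w * w)) * h * (w * (w * w))⁻¹ := by group
        rw [this, hw3]; simp
      rw [h6] at h5
      exact h5
    have h3 : 3 ∣ Nat.card N := by
      have ho : orderOf (⟨w, hwN⟩ : N) = 3 := by
        apply orderOf_eq_prime
        · apply Subtype.ext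
          rw [SubmonoidClass.coe_pow]
          show w ^ 3 = 1
          rw [pow_succ, pow_two, mul_assoc]; exact hw3
        · intro h
          exact hw1 (congrArg Subtype.val h)
      rw [← ho]
      exact orderOf_dvd_natCard _
    rw [← hN, hScard]
    have hle : Nat.card N ≤ 48 := Nat.le_of_dvd (by norm_num) h48
    obtain ⟨a, ha⟩ := h8
    obtain ⟨b, hb⟩ := h3
    interval_cases h : Nat.card N <;> omega

end Cfsg.Agent.S2431
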