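import Cfsg.Statements.S0658
import Cfsg.Agent.H47.Syl
import Cfsg.Agent.H51.ZJFun
import Cfsg.Agent.S0667
-- import your own Cfsg.Agent.* helpers here

set_option autoImplicit false
open Cfsg

namespace Cfsg.Agent.S0658

open Subgroup Cfsg.Agent.H47 Cfsg.Agent.ZJ

/-- `N(Q) ≤ N(Z(J(R)))` for a Sylow subgroup `R` of the local subgroup `N(Q)`. -/
theorem local_step {G : Type*} [Group G] [Finite G] {p : ℕ} [Fact p.Prime] (hp : p ≠ 2)
    {H R : Subgroup G} (h1 : Cfsg.pPrimeCore p ↥H = ⊥) (h2 : Cfsg.IsPConstrained p ↥H)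
    (h3 : Cfsg.IsPStable p ↥H) (hR : SylIn p R H) :
    H ≤ normalizer (Cfsg.centerThompsonAOf R : Set G) := by
  obtain ⟨P, hP⟩ := hR.subgroupOf
  have h4 := (Cfsg.Agent.S0667.result hp h2 h3 P).2 h1
  rw [hP] at h4
  have h5 : (Cfsg.centerThompsonAOf (R.subgroupOf H)).map H.subtype = Cfsg.centerThompsonAOf R := by
    rw [← rel_zja, ← rel_zja, rel_subgroupOf isNat_zja hR.le]
  have h6 : Cfsg.centerThompsonAOf R ≤ H := by
    rw [← h5]; exact map_subtype_le _
  have h7 : (Cfsg.centerThompsonAOf R).subgroupOf H = Cfsg.centerThompsonAOf (R.subgroupOf H) := by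
    rw [← h5, subgroupOf, comap_map_eq_self_of_injective H.subtype_injective]
  rw [← normal_subgroupOf_iff_le_normalizer h6, h7]
  exact h4

theorem center_ne_bot {G : Type*} [Group G] [Finite G] {p : ℕ} [Fact p.Prime] (hp : p ≠ 2)
    {R : Subgroup G} (hR : IsPGroup p R) (hR1 : R ≠ ⊥) : Cfsg.centerThompsonAOf R ≠ ⊥ := by
  rw [← rel_zja]
  exact Cfsg.Agent.H51.rel_ne_bot (Cfsg.Agent.H51.goodFun_zja hp) hR hR1

theorem center_le {G : Type*} [Group G] (R : Subgroup G) : Cfsg.centerThompsonAOf R ≤ R :=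
  inf_le_left.trans (map_subtype_le _)

theorem normalizer_le_center {G : Type*} [Group G] (R : Subgroup G) :
    normalizer (R : Set G) ≤ normalizer (Cfsg.centerThompsonAOf R : Set G) := by
  have h := normalizer_le_normalizer_rel isNat_zja R
  rwa [rel_zja] at h

/-- normalizers grow -/
theorem lt_normalizer_inf {G : Type*} [Group G] [Finite G] {p : ℕ} [Fact p.Prime] {R P : Subgroup G}
    (hP : IsPGroup p P) (h : R < P) : R < normalizer (R : Set G) ⊓ P := by
  refine lt_of_le_of_ne (le_inf le_normalizer h.le) ?_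
  intro he
  have hnil : Group.IsNilpotent ↥P := hP.isNilpotent
  have h1 : NormalizerCondition ↥P := Group.normalizerCondition_of_isNilpotent
  have h2 : R.subgroupOf P < ⊤ := by
    rw [lt_top_iff_ne_top, Ne, subgroupOf_eq_top]
    exact not_le_of_gt h
  have h3 := h1 _ h2
  obtain ⟨x, hx, hxR⟩ := SetLike.exists_of_lt h3
  apply hxR
  rw [mem_subgroupOf, he]
  refine ⟨?_, x.2⟩
  show (x : G) ∈ normalizer (R : Set G)
  rw [mem_normalizer_iff] at hx ⊢
  intro y
  constructor
  · intro hy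
    exact (hx ⟨y, h.le hy⟩).1 hy
  · intro hy
    have hyP : y ∈ P := by
      have h4 : (x : G)⁻¹ * (x * y * (x : G)⁻¹) * x ∈ P :=
        mul_mem (mul_mem (inv_mem x.2) (h.le hy)) x.2
      have h5 : (x : G)⁻¹ * (x * y * (x : G)⁻¹) * x = y := by group
      rwa [h5] at h4
    exact (hx ⟨y, hyP⟩).2 hy

theorem conj_reduce {G : Type*} [Group G] [Finite G] {p : ℕ} [Fact p.Prime] {M Q : Subgroup G} {g : G}
    (hg : g ∈ M) :
    (normalizer ((Q.map (MulAut.conj g).toMonoidHom : Subgroup G) : Set G) ≤ M →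
      normalizer (Q : Set G) ≤ M) ∧
    ∀ R, SylIn p R (normalizer (Q : Set G) ⊓ M) →
      SylIn p (R.map (MulAut.conj g).toMonoidHom)
        (normalizer ((Q.map (MulAut.conj g).toMonoidHom : Subgroup G) : Set G) ⊓ M) := by
  have hMg : M.map (MulAut.conj g).toMonoidHom = M := by
    apply map_conj_eq_of_mem_normalizer
    exact le_normalizer hg
  have hNg : (normalizer (Q : Set G)).map (MulAut.conj g).toMonoidHom =
      normalizer ((Q.map (MulAut.conj g).toMonoidHom : Subgroup G) : Set G) := by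
    ext x
    constructor
    · rintro ⟨y, hy, rfl⟩
      apply mem_normalizer_of_map_conj_eq
      have hy' := map_conj_eq_of_mem_normalizer (P := Q) hy
      rw [map_map]
      have e : (MulAut.conj ((MulAut.conj g).toMonoidHom y)).toMonoidHom.comp (MulAut.conj g).toMonoidHom =
          (MulAut.conj g).toMonoidHom.comp (MulAut.conj y).toMonoidHom := by
        ext z
        show g * y * g⁻¹ * (g * z * g⁻¹) * (g * y * g⁻¹)⁻¹ = g * (y * z * y⁻¹) * g⁻¹
        group
      rw [e, ← map_map, hy']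
    · intro hx
      refine ⟨g⁻¹ * x * g, ?_, by simp [mul_assoc]⟩
      have hx' := map_conj_eq_of_mem_normalizer hx
      apply mem_normalizer_of_map_conj_eq
      have h2 := congrArg (fun K : Subgroup G => K.map (MulAut.conj g⁻¹).toMonoidHom) hx'
      simp only [map_map] at h2
      have e1 : ((MulAut.conj g⁻¹).toMonoidHom.comp ((MulAut.conj x).toMonoidHom.comp (MulAut.conj g).toMonoidHom)) =
          (MulAut.conj (g⁻¹ * x * g)).toMonoidHom := by
        ext z
        show g⁻¹ * (x * (g * z * g⁻¹) * x⁻¹) * g⁻¹⁻¹ = g⁻¹ * x * g * z * (g⁻¹ * x * g)⁻¹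
        group
      have e2 : (MulAut.conj g⁻¹).toMonoidHom.comp (MulAut.conj g).toMonoidHom = MonoidHom.id G := by
        ext z
        show g⁻¹ * (g * z * g⁻¹) * g⁻¹⁻¹ = z
        group
      rw [e1, e2, Subgroup.map_id] at h2
      exact h2
  constructor
  · intro h3
    rw [← hNg] at h3
    intro x hx
    have h4 : g * x * g⁻¹ ∈ M := h3 ⟨x, hx, rfl⟩
    have h5 : g⁻¹ * (g * x * g⁻¹) * g ∈ M := mul_mem (mul_mem (inv_mem hg) h4) hg
    have h6 : g⁻¹ * (g * x * g⁻¹) * g = x := by group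
    rwa [h6] at h5
  · intro R hR
    have := hR.map_conj g
    rwa [Subgroup.map_inf _ _ _ (MulAut.conj g).injective, hNg, hMg] at this

theorem main {G : Type*} [Group G] [Finite G] {p : ℕ} [Fact p.Prime] (hp : p ≠ 2)
    (hloc : ∀ Q : Subgroup G, IsPGroup p Q → Q ≠ ⊥ →
      Cfsg.pPrimeCore p ↥(Subgroup.normalizer (Q : Set G)) = ⊥ ∧
      Cfsg.IsPConstrained p ↥(Subgroup.normalizer (Q : Set G)) ∧
      Cfsg.IsPStable p ↥(Subgroup.normalizer (Q : Set G))) (P : Sylow p G) (n : ℕ) :
    ∀ Q R : Subgroup G, IsPGroup p Q → Q ≠ ⊥ → R ≠ ⊥ →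
      SylIn p R (normalizer (Q : Set G) ⊓ normalizer (Cfsg.centerThompsonAOf (P : Subgroup G) : Set G)) →
      Nat.card (P : Subgroup G) - Nat.card R ≤ n →
      normalizer (Q : Set G) ≤ normalizer (Cfsg.centerThompsonAOf (P : Subgroup G) : Set G) := by
  obtain ⟨M, hM⟩ : ∃ M, M = normalizer (Cfsg.centerThompsonAOf (P : Subgroup G) : Set G) := ⟨_, rfl⟩
  rw [← hM]
  have hPM : (P : Subgroup G) ≤ M := by
    rw [hM]; exact le_normalizer.trans (normalizer_le_center _)
  have hPsyl : SylIn p (P : Subgroup G) M := sylIn_of_sylow P hPM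
  induction n with
  | zero =>
    intro Q R hQ hQ1 hR1 hR hn
    obtain ⟨g, hg, hgR⟩ := hPsyl.exists_conj_le (hR.le.trans inf_le_right) hR.isPGroup
    obtain ⟨c1, c2⟩ := conj_reduce (p := p) (Q := Q) hg
    apply c1
    have hR' := c2 R hR
    have h1 : R.map (MulAut.conj g).toMonoidHom = (P : Subgroup G) := by
      apply Subgroup.eq_of_le_of_card_ge hgR
      rw [card_map_of_injective (MulAut.conj g).injective]
      omega
    rw [h1] at hR'
    obtain ⟨l1, l2, l3⟩ := hloc (Q.map (MulAut.conj g).toMonoidHom) (hQ.map _) (by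
      rw [Ne, Subgroup.map_eq_bot_iff_of_injective _ (MulAut.conj g).injective]; exact hQ1)
    rw [hM]
    refine local_step hp l1 l2 l3 ?_
    exact sylIn_of_sylow P (hR'.le.trans inf_le_left)
  | succ n ih =>
    intro Q₀ R₀ hQ₀ hQ₀1 hR₀1 hR₀ hn₀
    obtain ⟨g, hg, hgR⟩ := hPsyl.exists_conj_le (hR₀.le.trans inf_le_right) hR₀.isPGroup
    obtain ⟨c1, c2⟩ := conj_reduce (p := p) (Q := Q₀) hg
    apply c1
    have hR := c2 R₀ hR₀
    have hcardR : Nat.card (R₀.map (MulAut.conj g).toMonoidHom) = Nat.card R₀ :=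
      card_map_of_injective (MulAut.conj g).injective
    have hQ : IsPGroup p (Q₀.map (MulAut.conj g).toMonoidHom) := hQ₀.map _
    have hQ1 : Q₀.map (MulAut.conj g).toMonoidHom ≠ ⊥ := by
      rw [Ne, Subgroup.map_eq_bot_iff_of_injective _ (MulAut.conj g).injective]; exact hQ₀1
    have hR1 : R₀.map (MulAut.conj g).toMonoidHom ≠ ⊥ := by
      rw [Ne, Subgroup.map_eq_bot_iff_of_injective _ (MulAut.conj g).injective]; exact hR₀1
    rw [← hcardR] at hn₀
    generalize Q₀.map (MulAut.conj g).toMonoidHom = Q at *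
    generalize R₀.map (MulAut.conj g).toMonoidHom = R at *
    obtain ⟨l1, l2, l3⟩ := hloc Q hQ hQ1
    rcases eq_or_lt_of_le hgR with h1 | h1
    · subst h1
      rw [hM]
      refine local_step hp l1 l2 l3 ?_
      exact sylIn_of_sylow P (hR.le.trans inf_le_left)
    · -- the maximality lemma
      have hmax : ∀ Q' X : Subgroup G, IsPGroup p Q' → Q' ≠ ⊥ → IsPGroup p X → R < X →
          X ≤ normalizer (Q' : Set G) ⊓ M → normalizer (Q' : Set G) ≤ M := by
        intro Q' X hQ' hQ'1 hX hRX hXle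
        obtain ⟨S, hS, hXS⟩ := SylIn.exists_of_le hXle hX
        have hcard : Nat.card R < Nat.card S := by
          have h2 : (R : Set G) ⊂ (S : Set G) := SetLike.coe_ssubset_coe.2 (lt_of_lt_of_le hRX hXS)
          exact Set.ncard_lt_ncard h2 (Set.toFinite _)
        refine ih Q' S hQ' hQ'1 ?_ hS (by omega)
        rintro rfl
        rw [card_bot] at hcard
        have : 0 < Nat.card R := Nat.card_pos
        omega
      have hX := lt_normalizer_inf P.2 h1
      have hXp : IsPGroup p ↥(normalizer (R : Set G) ⊓ (P : Subgroup G)) := P.2.to_le inf_le_right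
      have hNR : normalizer (R : Set G) ≤ M :=
        hmax R _ hR.isPGroup hR1 hXp hX (inf_le_inf_left _ hPM)
      -- `R` is a Sylow subgroup of `N(Q)`
      have hRN : SylIn p R (normalizer (Q : Set G)) := by
        obtain ⟨R₁, hR₁, hle⟩ := SylIn.exists_of_le (hR.le.trans inf_le_left) hR.isPGroup
        rcases eq_or_lt_of_le hle with h2 | h2
        · rwa [h2]
        · exfalso
          have h3 := lt_normalizer_inf hR₁.isPGroup h2
          have h4 := hR.eq_of_le (Q := normalizer (R : Set G) ⊓ R₁)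
            (le_inf (inf_le_right.trans hR₁.le) (inf_le_left.trans hNR))
            (hR₁.isPGroup.to_le inf_le_right) h3.le
          exact absurd h4 h3.ne'
      have h5 := local_step hp l1 l2 l3 hRN
      refine h5.trans ?_
      apply hmax (Cfsg.centerThompsonAOf R) _ (hR.isPGroup.to_le (center_le R))
        (center_ne_bot hp hR.isPGroup hR1) hXp hX
      exact le_inf (inf_le_left.trans (normalizer_le_center R)) (inf_le_right.trans hPM)

/-- In a group of characteristic p type all of whose p-locals are p-stable (p odd), the normalizer of Z(J(P)) contains the normalizer of every nontrivial subgroup of the Sylow p-subgroup P. -/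
theorem result {G : Type*} [Group G] [Finite G] {p : ℕ} [Fact p.Prime] (hp : p ≠ 2) (hloc : ∀ Q : Subgroup G, IsPGroup p Q → Q ≠ ⊥ → Cfsg.pPrimeCore p ↥(Subgroup.normalizer (Q : Set G)) = ⊥ ∧ Cfsg.IsPConstrained p ↥(Subgroup.normalizer (Q : Set G)) ∧ Cfsg.IsPStable p ↥(Subgroup.normalizer (Q : Set G))) (P : Sylow p G) (Q : Subgroup G) (hQP : Q ≤ (P : Subgroup G)) (hQ1 : Q ≠ ⊥) : Subgroup.normalizer (Q : Set G) ≤ Subgroup.normalizer (Cfsg.centerThompsonAOf ((P : Subgroup G)) : Set G) := by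
  have hQ : IsPGroup p Q := P.2.to_le hQP
  have hPM : (P : Subgroup G) ≤ normalizer (Cfsg.centerThompsonAOf (P : Subgroup G) : Set G) :=
    le_normalizer.trans (normalizer_le_center _)
  have hPsyl : SylIn p (P : Subgroup G) (normalizer (Cfsg.centerThompsonAOf (P : Subgroup G) : Set G)) :=
    sylIn_of_sylow P hPM
  obtain ⟨R, hR, hQR⟩ := SylIn.exists_of_le (p := p) (Q := Q)
    (L := normalizer (Q : Set G) ⊓ normalizer (Cfsg.centerThompsonAOf (P : Subgroup G) : Set G))
    (le_inf le_normalizer (hQP.trans hPM)) hQ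
  refine main hp hloc P _ Q R hQ hQ1 ?_ hR le_rfl
  rintro rfl
  exact hQ1 (le_bot_iff.1 hQR)

end Cfsg.Agent.S0658
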