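import Cfsg.Statements.S2507
import Cfsg.Agent.H41.ClassSize

set_option autoImplicit false
open Cfsg

namespace Cfsg.Agent.S2507

open Cfsg.Agent.H41

/-- Let F be a finite field with q = 2^f ≥ 4 elements. The conjugacy class sizes of PSL(2,F) are exactly 1, q(q − 1), q² − 1 and q(q + 1). -/
theorem result {F : Type*} [Field F] [Fintype F]
    (h2 : 2 ∣ Fintype.card F) (h4 : 4 ≤ Fintype.card F) :
    Set.range (fun g : (Matrix.ProjectiveSpecialLinearGroup (Fin 2) F) => (Subgroup.centralizer ({g} : Set (Matrix.ProjectiveSpecialLinearGroup (Fin 2) F))).index) =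
      {1, Fintype.card F * (Fintype.card F - 1), Fintype.card F ^ 2 - 1, Fintype.card F * (Fintype.card F + 1)} := by
  have hc : CharP F 2 := by
    obtain ⟨p, hp⟩ := CharP.exists F
    obtain ⟨n, hpp, hcard⟩ := FiniteField.card F p
    rw [hcard] at h2
    have h3 : 2 ∣ p := Nat.prime_two.dvd_of_dvd_pow h2
    have h4 : 2 = p := (Nat.prime_dvd_prime_iff_eq Nat.prime_two hpp).mp h3
    rw [h4]; exact hp
  have h20 : (2 : F) = 0 := by exact_mod_cast CharP.cast_eq_zero F 2
  have h40 : (4 : F) = 0 := by linear_combination 2 * h20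
  have hneg : ∀ x : F, -x = x := fun x => by linear_combination -x * h20
  have hnegM : ∀ B : Matrix.SpecialLinearGroup (Fin 2) F, -B = B := by
    intro B
    apply sl2_ext <;> simp only [neg_00, neg_01, neg_10, neg_11, hneg]
  have hsq : Nat.card {x : F // x ^ 2 = 1} = 1 := by
    rw [Nat.card_eq_one_iff_unique]
    refine ⟨⟨?_⟩, ⟨⟨1, by ring⟩⟩⟩
    have : ∀ x : F, x ^ 2 = 1 → x = 1 := by
      intro x hx
      have : (x - 1) ^ 2 = 0 := by linear_combination hx + (1 - x) * h20
      have := pow_eq_zero_iff (two_ne_zero) |>.mp this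
      linear_combination this
    rintro ⟨x, hx⟩ ⟨y, hy⟩
    apply Subtype.ext
    exact (this x hx).trans (this y hy).symm
  have hidx : ∀ A : Matrix.SpecialLinearGroup (Fin 2) F,
      (Subgroup.centralizer ({(QuotientGroup.mk A : Matrix.ProjectiveSpecialLinearGroup (Fin 2) F)} :
        Set (Matrix.ProjectiveSpecialLinearGroup (Fin 2) F))).index =
      (Subgroup.centralizer ({A} : Set (Matrix.SpecialLinearGroup (Fin 2) F))).index := by
    intro A
    apply index_centralizer_mk
    intro g hg
    rw [hg, hnegM]
  ext n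
  simp only [Set.mem_range, Set.mem_insert_iff, Set.mem_singleton_iff]
  constructor
  · rintro ⟨g, rfl⟩
    induction g using psl2_ind with
    | h A =>
      rw [hidx]
      by_cases hA : A ∈ Subgroup.center (Matrix.SpecialLinearGroup (Fin 2) F)
      · left
        rw [Subgroup.index_eq_one, Subgroup.centralizer_eq_top_iff_subset]
        simpa using hA
      · by_cases ht : tr A ^ 2 = 4
        · right; right; left
          have := index_unip A hA ht 1 hsq
          rwa [one_mul] at this
        · rcases eig_or_noEig (tr A) with ⟨a, ha⟩ | h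
          · right; right; right
            exact index_eig A ht a ha
          · right; left
            exact index_noEig A h
  · rintro (rfl | rfl | rfl | rfl)
    · refine ⟨1, ?_⟩
      rw [Subgroup.index_eq_one, Subgroup.centralizer_eq_top_iff_subset]
      simp
    · obtain ⟨A, hA, hA'⟩ := exists_nonsplit (F := F) (k := 2) (by norm_num) (by omega)
      exact ⟨QuotientGroup.mk A, (hidx A).trans (index_noEig A (hA' hA))⟩
    · refine ⟨QuotientGroup.mk (mk4 (1 : F) 1 0 1 (by ring)), (hidx _).trans ?_⟩
      have := index_unip (mk4 (1 : F) 1 0 1 (by ring)) unip_not_central (by rw [unip_tr]; norm_num) 1 hsq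
      rwa [one_mul] at this
    · obtain ⟨A, hA, hA'⟩ := exists_split (F := F) (k := 2) (by norm_num) (by omega)
      obtain ⟨h1, a, ha⟩ := hA' hA
      exact ⟨QuotientGroup.mk A, (hidx A).trans (index_eig A h1 a ha)⟩

end Cfsg.Agent.S2507
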