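import Cfsg.Statements.S2508
import Cfsg.Agent.H41.ClassSize

set_option autoImplicit false
open Cfsg

namespace Cfsg.Agent.S2508

open Cfsg.Agent.H41

theorem mem_center_cases {F : Type*} [Field F] [Fintype F] (h2 : (2 : F) ≠ 0)
    (hsq : Nat.card {x : F // x ^ 2 = 1} = 2) (A : Matrix.SpecialLinearGroup (Fin 2) F) :
    (Subgroup.centralizer ({(QuotientGroup.mk A : Matrix.ProjectiveSpecialLinearGroup (Fin 2) F)} :
        Set (Matrix.ProjectiveSpecialLinearGroup (Fin 2) F))).index = 1 ∨
    (tr A ≠ 0 ∧ 2 * (Subgroup.centralizer ({(QuotientGroup.mk A : Matrix.ProjectiveSpecialLinearGroup (Fin 2) F)} :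
        Set (Matrix.ProjectiveSpecialLinearGroup (Fin 2) F))).index = Fintype.card F ^ 2 - 1) ∨
    (tr A ^ 2 ≠ 4) := by
  by_cases ht : tr A ^ 2 = 4
  · by_cases hA : A ∈ Subgroup.center (Matrix.SpecialLinearGroup (Fin 2) F)
    · left
      rw [Subgroup.index_eq_one, Subgroup.centralizer_eq_top_iff_subset]
      rw [mem_center_sl2] at hA
      have : (QuotientGroup.mk A : Matrix.ProjectiveSpecialLinearGroup (Fin 2) F) = 1 := psl2_mk_eq_one_iff.mpr hA
      rw [this]; simp
    · right; left
      have h0 : tr A ≠ 0 := by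
        intro h
        rw [h] at ht
        apply h2
        have : (2 : F) ^ 2 = 0 := by linear_combination -ht
        exact pow_eq_zero_iff (two_ne_zero) |>.mp this
      refine ⟨h0, ?_⟩
      rw [index_centralizer_mk A]
      · exact index_unip A hA ht 2 hsq
      · intro g hg
        exfalso
        apply h0
        have h1 : g * A * g⁻¹ = -A := by rw [hg]; simp
        have h3 := tr_conj A g
        rw [h1, tr_neg] at h3
        have : (2 : F) * tr A = 0 := by linear_combination -h3
        exact (mul_eq_zero.mp this).resolve_left h2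
  · exact Or.inr (Or.inr ht)

theorem idx_ne {F : Type*} [Field F] [Fintype F] (h2 : (2 : F) ≠ 0) (A : Matrix.SpecialLinearGroup (Fin 2) F)
    (h0 : tr A ≠ 0) :
    (Subgroup.centralizer ({(QuotientGroup.mk A : Matrix.ProjectiveSpecialLinearGroup (Fin 2) F)} :
        Set (Matrix.ProjectiveSpecialLinearGroup (Fin 2) F))).index =
    (Subgroup.centralizer ({A} : Set (Matrix.SpecialLinearGroup (Fin 2) F))).index := by
  apply index_centralizer_mk A
  intro g hg
  exfalso
  apply h0
  have h1 : g * A * g⁻¹ = -A := by rw [hg]; simp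
  have h3 := tr_conj A g
  rw [h1, tr_neg] at h3
  have : (2 : F) * tr A = 0 := by linear_combination -h3
  exact (mul_eq_zero.mp this).resolve_left h2

theorem idx_zero {F : Type*} [Field F] [Fintype F] (h2 : (2 : F) ≠ 0) (A : Matrix.SpecialLinearGroup (Fin 2) F)
    (h0 : tr A = 0) :
    2 * (Subgroup.centralizer ({(QuotientGroup.mk A : Matrix.ProjectiveSpecialLinearGroup (Fin 2) F)} :
        Set (Matrix.ProjectiveSpecialLinearGroup (Fin 2) F))).index =
    (Subgroup.centralizer ({A} : Set (Matrix.SpecialLinearGroup (Fin 2) F))).index := by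
  obtain ⟨P, hP⟩ := exists_conj_of_tr_eq A (-A) (by
    rw [h0]
    intro h
    apply h2
    have : (2 : F) ^ 2 = 0 := by linear_combination -h
    exact pow_eq_zero_iff (two_ne_zero) |>.mp this) (by rw [tr_neg, h0]; simp)
  apply index_centralizer_mk_two h2 A P
  rw [eq_mul_inv_iff_mul_eq] at hP
  rw [← hP, neg_mul]

theorem pow_four_of_tr {F : Type*} [Field F] (A : Matrix.SpecialLinearGroup (Fin 2) F) (h : tr A = 0) : A ^ 4 = 1 := by
  have h1 := mul_self_eq_neg_one_of_tr_eq_zero h
  have : A ^ 4 = (A * A) * (A * A) := by simp only [pow_succ, pow_zero, one_mul, mul_assoc]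
  rw [this, h1]; simp

theorem ne_of_pow_four {F : Type*} [Field F] (A : Matrix.SpecialLinearGroup (Fin 2) F) (h : A ^ 4 ≠ 1) :
    tr A ≠ 0 ∧ A ^ 2 ≠ 1 := by
  refine ⟨fun h1 => h (pow_four_of_tr A h1), fun h1 => h ?_⟩
  rw [show 4 = 2 * 2 from rfl, pow_mul, h1, one_pow]

theorem main {F : Type*} [Field F] [Fintype F] (h2 : (2 : F) ≠ 0)
    (hsq : Nat.card {x : F // x ^ 2 = 1} = 2) (h7 : 7 ≤ Fintype.card F) (N N' : ℕ)
    (hN : ∀ A : Matrix.SpecialLinearGroup (Fin 2) F, tr A = 0 →
      (Subgroup.centralizer ({A} : Set (Matrix.SpecialLinearGroup (Fin 2) F))).index = N)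
    (hN' : N = 2 * N') :
    Set.range (fun g : (Matrix.ProjectiveSpecialLinearGroup (Fin 2) F) => (Subgroup.centralizer ({g} : Set (Matrix.ProjectiveSpecialLinearGroup (Fin 2) F))).index) =
      {1, (Fintype.card F ^ 2 - 1) / 2, N',
          Fintype.card F * (Fintype.card F - 1), Fintype.card F * (Fintype.card F + 1)} := by
  have h4 : (4 : F) ≠ 0 := by
    intro h
    apply h2
    have : (2 : F) ^ 2 = 0 := by linear_combination h
    exact pow_eq_zero_iff (two_ne_zero) |>.mp this
  ext n
  simp only [Set.mem_range, Set.mem_insert_iff, Set.mem_singleton_iff]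
  constructor
  · rintro ⟨g, rfl⟩
    induction g using psl2_ind with
    | h A =>
      rcases mem_center_cases h2 hsq A with h | ⟨-, h⟩ | ht
      · left; exact h
      · right; left; omega
      · by_cases h0 : tr A = 0
        · right; right; left
          have h1 := idx_zero h2 A h0
          rw [hN A h0] at h1
          omega
        · rw [idx_ne h2 A h0]
          rcases eig_or_noEig (tr A) with ⟨a, ha⟩ | h
          · right; right; right; right
            exact index_eig A ht a ha
          · right; right; right; left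
            exact index_noEig A h
  · rintro (rfl | rfl | rfl | rfl | rfl)
    · refine ⟨1, ?_⟩
      rw [Subgroup.index_eq_one, Subgroup.centralizer_eq_top_iff_subset]
      simp
    · refine ⟨QuotientGroup.mk (mk4 (1 : F) 1 0 1 (by ring)), ?_⟩
      rcases mem_center_cases h2 hsq (mk4 (1 : F) 1 0 1 (by ring)) with h | ⟨-, h⟩ | ht
      · exfalso
        rw [Subgroup.index_eq_one, Subgroup.centralizer_eq_top_iff_subset] at h
        have h3 : (QuotientGroup.mk (mk4 (1 : F) 1 0 1 (by ring)) : Matrix.ProjectiveSpecialLinearGroup (Fin 2) F) ∈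
            Subgroup.center (Matrix.ProjectiveSpecialLinearGroup (Fin 2) F) := by
          apply h; simp
        rw [Subgroup.mem_center_iff] at h3
        have h5 := h3 (QuotientGroup.mk (mk4 (1 : F) 0 1 1 (by ring)))
        rw [← QuotientGroup.mk_mul, ← QuotientGroup.mk_mul, psl2_mk_eq_iff] at h5
        rcases h5 with h5 | h5
        · have e := congrArg (fun M : Matrix.SpecialLinearGroup (Fin 2) F => M 0 0) h5
          simp [mul_00] at e
        · have e := congrArg (fun M : Matrix.SpecialLinearGroup (Fin 2) F => M 0 1) h5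
          simp only [neg_01, mul_01, mk4_00, mk4_01, mk4_10, mk4_11] at e
          apply h2
          linear_combination e
      · show (Subgroup.centralizer _).index = _
        omega
      · exfalso
        apply ht
        rw [unip_tr]; norm_num
    · refine ⟨QuotientGroup.mk (mk4 (0 : F) (-1) 1 0 (by ring)), ?_⟩
      have h0 : tr (mk4 (0 : F) (-1) 1 0 (by ring)) = 0 := by simp [tr]
      have h1 := idx_zero h2 _ h0
      rw [hN _ h0] at h1
      show (Subgroup.centralizer _).index = _
      omega
    · obtain ⟨A, hA, hA'⟩ := exists_nonsplit (F := F) (k := 4) (by norm_num) (by omega)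
      obtain ⟨h5, h6⟩ := ne_of_pow_four A hA
      exact ⟨QuotientGroup.mk A, (idx_ne h2 A h5).trans (index_noEig A (hA' h6))⟩
    · obtain ⟨A, hA, hA'⟩ := exists_split (F := F) (k := 4) (by norm_num) (by
        have := Fintype.card F
        omega)
      obtain ⟨h5, h6⟩ := ne_of_pow_four A hA
      obtain ⟨h1, a, ha⟩ := hA' h6
      exact ⟨QuotientGroup.mk A, (idx_ne h2 A h5).trans (index_eig A h1 a ha)⟩

/-- Let F be a finite field with q elements, q odd and q ≥ 7. If q ≡ 1 (mod 4) the conjugacy class sizes of PSL(2,F) are exactly 1, (q² − 1)/2, q(q + 1)/2, q(q − 1) and q(q + 1); if q ≡ 3 (mod 4) they are exactly 1, (q² − 1)/2, q(q − 1)/2, q(q + 1) and q(q − 1). -/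
theorem result {F : Type*} [Field F] [Fintype F]
    (hodd : ¬ 2 ∣ Fintype.card F) (h7 : 7 ≤ Fintype.card F) :
    (Fintype.card F % 4 = 1 →
      Set.range (fun g : (Matrix.ProjectiveSpecialLinearGroup (Fin 2) F) => (Subgroup.centralizer ({g} : Set (Matrix.ProjectiveSpecialLinearGroup (Fin 2) F))).index) =
        {1, (Fintype.card F ^ 2 - 1) / 2, Fintype.card F * (Fintype.card F + 1) / 2,
          Fintype.card F * (Fintype.card F - 1), Fintype.card F * (Fintype.card F + 1)}) ∧
    (Fintype.card F % 4 = 3 →
      Set.range (fun g : (Matrix.ProjectiveSpecialLinearGroup (Fin 2) F) => (Subgroup.centralizer ({g} : Set (Matrix.ProjectiveSpecialLinearGroup (Fin 2) F))).index) =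
        {1, (Fintype.card F ^ 2 - 1) / 2, Fintype.card F * (Fintype.card F - 1) / 2,
          Fintype.card F * (Fintype.card F + 1), Fintype.card F * (Fintype.card F - 1)}) := by
  have h2 : (2 : F) ≠ 0 := by
    intro h
    apply hodd
    obtain ⟨p, hp⟩ := CharP.exists F
    obtain ⟨n, hpp, hcard⟩ := FiniteField.card F p
    have h3 : p ∣ 2 := by
      have := (CharP.cast_eq_zero_iff F p 2).mp (by exact_mod_cast h)
      exact this
    have h4 : p = 2 := (Nat.prime_dvd_prime_iff_eq hpp Nat.prime_two).mp h3
    rw [hcard, h4]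
    exact dvd_pow_self 2 n.ne_zero
  have hsq : Nat.card {x : F // x ^ 2 = 1} = 2 := by
    have h1 : {x : F | x ^ 2 = 1} = {1, -1} := by
      ext x
      simp only [Set.mem_ofPred_eq, Set.mem_insert_iff, Set.mem_singleton_iff]
      rw [sq]; exact mul_self_eq_one_iff
    have h3 : Nat.card {x : F // x ^ 2 = 1} = Set.ncard {x : F | x ^ 2 = 1} := rfl
    rw [h3, h1, Set.ncard_pair]
    intro h
    apply h2
    linear_combination h
  constructor
  · intro hq
    have h5 : IsSquare (-1 : F) := FiniteField.isSquare_neg_one_iff.mpr (by omega)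
    obtain ⟨i, hi⟩ := h5
    obtain ⟨N', hN'⟩ : ∃ N', Fintype.card F * (Fintype.card F + 1) = 2 * N' := by
      have := Nat.even_mul_succ_self (Fintype.card F)
      obtain ⟨k, hk⟩ := this
      exact ⟨k, by omega⟩
    have h8 := main h2 hsq h7 (Fintype.card F * (Fintype.card F + 1)) N' (by
      intro A hA
      apply index_eig A _ i
      · rw [hA]; linear_combination -hi
      · rw [hA]
        intro h
        apply h2
        have : (2 : F) ^ 2 = 0 := by linear_combination -h
        exact pow_eq_zero_iff (two_ne_zero) |>.mp this) hN'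
    rw [h8]
    congr 3
    omega
  · intro hq
    have h5 : NoEig (0 : F) := by
      intro a ha
      have : IsSquare (-1 : F) := ⟨a, by linear_combination -ha⟩
      rw [FiniteField.isSquare_neg_one_iff] at this
      exact this hq
    obtain ⟨N', hN'⟩ : ∃ N', Fintype.card F * (Fintype.card F - 1) = 2 * N' := by
      have := Nat.even_mul_pred_self (Fintype.card F)
      obtain ⟨k, hk⟩ := this
      exact ⟨k, by omega⟩
    have h8 := main h2 hsq h7 (Fintype.card F * (Fintype.card F - 1)) N' (by
      intro A hA
      apply index_noEig A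
      rw [hA]; exact h5) hN'
    rw [h8]
    have h9 : Fintype.card F * (Fintype.card F - 1) / 2 = N' := by omega
    rw [h9]
    ext x
    simp only [Set.mem_insert_iff, Set.mem_singleton_iff]
    tauto

end Cfsg.Agent.S2508
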