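import Cfsg.Statements.S0222
import Cfsg.Agent.H30.BendR
import Cfsg.Agent.H30.BendLin
import Cfsg.Agent.H37.NSp
import Cfsg.Agent.H87.BCountFin
import Cfsg.Agent.RK.Simple

set_option autoImplicit false
open Cfsg

namespace Cfsg.Agent.S0222

/-- Bender's Theorem for simple groups: let G be a non-abelian finite simple group possessing a strongly embedded subgroup. Then G is isomorphic to PSL2 over a finite field of characteristic 2 with at least 4 elements, or G is a simple group whose order is that of a Suzuki group Sz(2^(2m+1)) with m ≥ 1, or G is isomorphic to PSU3 realised over a field with q^2 elements, q ≥ 4 a power of 2. -/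
theorem result {G : Type*} [Group G] [Finite G] [IsSimpleGroup G] (hna : ∃ a b : G, a * b ≠ b * a) (H : Subgroup G) (hH : Cfsg.IsStronglyEmbedded H) : (∃ (F : Type) (_ : Field F) (_ : Fintype F), CharP F 2 ∧ 4 ≤ Fintype.card F ∧ Nonempty (G ≃* Matrix.ProjectiveSpecialLinearGroup (Fin 2) F)) ∨ Cfsg.IsSuzuki G ∨ (∃ (F : Type) (_ : Field F) (_ : Fintype F) (q : ℕ), Fintype.card F = q ^ 2 ∧ Even q ∧ 4 ≤ q ∧ Nonempty (G ≃* Cfsg.PSU 3 F q)) := by
  have h4 : ∀ n : ℕ, 2 ≤ n → 4 ≤ 2 ^ n := by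
    intro n hn
    calc 4 = 2 ^ 2 := by norm_num
      _ ≤ 2 ^ n := Nat.pow_le_pow_right (by norm_num) hn
  rcases Cfsg.Agent.H30.Bend.bender_simple Cfsg.Agent.H37.NSp.nspec Cfsg.Agent.H30.Bend.linSpec
    Cfsg.Agent.H87.BC.betaStatement hna hH with ⟨F, i1, i2, ⟨n, hn, hc⟩, ⟨f⟩⟩ | h | ⟨F, i1, i2, n, hn, hc, ⟨f⟩⟩
  · refine Or.inl ⟨F, i1, i2, ?_, by rw [hc]; exact h4 n hn, ⟨f⟩⟩
    have := Fact.mk Nat.prime_two
    exact charP_of_card_eq_prime_pow hc
  · exact Or.inr (Or.inl (RK.isSuzuki_of_iso h))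
  · refine Or.inr (Or.inr ⟨F, i1, i2, 2 ^ n, hc, ?_, h4 n hn, ⟨f⟩⟩)
    rw [Nat.even_pow]
    exact ⟨even_two, by omega⟩

end Cfsg.Agent.S0222
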