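import Cfsg.Statements.S2362
import Cfsg.Agent.H39.SpecBC2
import Cfsg.Agent.H42.SpTori
import Cfsg.Agent.ClassO.Card

set_option autoImplicit false
open Cfsg

namespace Cfsg.Agent.S2362

open Cfsg.Agent.H42.SpSpec Module QuadraticMap Cfsg.Agent.Orth Cfsg.Agent.H39.SpecBC Cfsg.Agent.OrthCount

theorem spOrd_torus {F : Type*} [Field F] [Finite F] (p : ℕ) [Fact p.Prime] [CharP F p]
    (h2F : (2 : F) ≠ 0) {a : ℕ} (ha : 1 ≤ a) {σ : ℕ}
    (h : σ ∣ Nat.card F ^ a + 1 ∨ σ ∣ Nat.card F ^ a - 1) : SpOrd.{_, 0} F a σ := by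
  rcases h with h | h
  · haveI : NeZero (2 * a) := ⟨by omega⟩
    obtain ⟨t, ht, hto⟩ := torus_plus (F := F) p h2F ha h
    rw [← hto]
    exact ht.spOrd (FiniteField.finrank_extension F p (2 * a))
  · haveI : NeZero a := ⟨by omega⟩
    obtain ⟨t, ht, hto, htm⟩ := torus_minus (F := F) p h2F ha h
    rw [← hto]
    exact ht.spOrd (by
      rw [Module.finrank_prod, FiniteField.finrank_extension F p a]
      ring)

theorem dvd_iff {q r n0 : ℕ} (hq : 1 < q) (h : orderOf ((q : ℕ) : ZMod r) = n0) (j : ℕ) :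
    r ∣ q ^ j - 1 ↔ n0 ∣ j := by
  rw [Cfsg.Agent.S2904.dvd_pow_sub_one_iff q j r hq, ← orderOf_dvd_iff_pow_eq_one, h]

/-- the restricted element has order `r` -/
theorem dvd_card_OG {F V : Type*} [Field F] [Finite F] [AddCommGroup V] [Module F V] [FiniteDimensional F V]
    {Q : QuadraticForm F V} {W : Submodule F V} {y : OGrp Q} {r : ℕ} (hr : r.Prime) (hy : y ^ r = 1)
    (hW0 : W ≠ ⊥) (hWy : ∀ w ∈ W, (y : V ≃ₗ[F] V) w ∈ W) (hfix : W ⊓ fx y = ⊥) :
    r ∣ Nat.card (OG (Q.restrict W)) := by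
  haveI : Fact r.Prime := ⟨hr⟩
  haveI : Finite W := Module.finite_of_finite F
  let T : W →ₗ[F] W := ((y : V ≃ₗ[F] V) : V →ₗ[F] V).restrict hWy
  have hT : ∀ w : W, ((T w : W) : V) = (y : V ≃ₗ[F] V) w := fun w => rfl
  have hinj : Function.Injective T := by
    intro a b hab
    apply Subtype.ext
    apply (y : V ≃ₗ[F] V).injective
    rw [← hT, ← hT, hab]
  let e : W ≃ₗ[F] W := LinearEquiv.ofInjectiveEndo T hinj
  have he : ∀ w : W, ((e w : W) : V) = (y : V ≃ₗ[F] V) w := fun w => rfl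
  let E : OG (Q.restrict W) := ⟨e, fun w => OGrp_q y w⟩
  have hpow : ∀ (i : ℕ) (w : W), ((((E ^ i : OG (Q.restrict W)) : W ≃ₗ[F] W) w : W) : V) =
      ((y ^ i : OGrp Q) : V ≃ₗ[F] V) w := by
    intro i
    induction i with
    | zero => intro w; rfl
    | succ i ih =>
      intro w
      have h1 : ((E ^ (i + 1) : OG (Q.restrict W)) : W ≃ₗ[F] W) w = ((E ^ i : OG (Q.restrict W)) : W ≃ₗ[F] W) (e w) := by
        rw [pow_succ]; rfl
      rw [h1, ih, he, pow_succ, coe_mul_apply]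
  have h1 : orderOf E = r := by
    refine orderOf_eq_prime ?_ ?_
    · apply Subtype.ext
      apply LinearEquiv.ext
      intro w
      apply Subtype.ext
      rw [hpow, hy]
      rfl
    · intro h1
      apply hW0
      rw [eq_bot_iff, ← hfix]
      intro w hw
      refine ⟨hw, mem_fx.2 ?_⟩
      have h2 := he ⟨w, hw⟩
      have h3 : e ⟨w, hw⟩ = ⟨w, hw⟩ := by
        have h4 : (E : W ≃ₗ[F] W) ⟨w, hw⟩ = ((1 : OG (Q.restrict W)) : W ≃ₗ[F] W) ⟨w, hw⟩ := by rw [h1]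
        exact h4
      rw [h3] at h2
      exact h2.symm
  rw [← h1]
  exact orderOf_dvd_natCard E

theorem not_dvd_prod {q r n0 k : ℕ} (hr : r.Prime) (hq : 1 < q) (h : orderOf ((q : ℕ) : ZMod r) = n0) (hn : Num n0 k) :
    ¬ r ∣ ∏ i ∈ Finset.range (k - 1), (q ^ (2 * (i + 1)) - 1) := by
  rw [hr.prime.dvd_finset_prod_iff]
  rintro ⟨i, hi, hd⟩
  rw [Finset.mem_range] at hi
  rw [dvd_iff hq h] at hd
  obtain ⟨hk, h1 | ⟨h1, h2, h3⟩⟩ := hn
  · have := Nat.le_of_dvd (by omega) hd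
    omega
  · rw [h1] at hd
    have h4 : k ∣ i + 1 := by
      refine Nat.Coprime.dvd_of_dvd_mul_left ?_ hd
      exact Nat.coprime_two_right.2 h2
    have := Nat.le_of_dvd (by omega) h4
    omega

theorem key {F V : Type*} [Field F] [Fintype F] (hodd : Odd (Fintype.card F)) [AddCommGroup V] [Module F V]
    [FiniteDimensional F V] {Q : QuadraticForm F V}
    (hQ : (polarBilin Q).Nondegenerate) (hR : RGrp Q = ⊤)
    {p : ℕ} [Fact p.Prime] [CharP F p]
    {n0 r k : ℕ} (hn : Num n0 k) (hV : finrank F V = 2 * k + 3) (hr : r.Prime) (hr2 : r ≠ 2) (hrp : r ≠ p)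
    (hn0 : orderOf ((Nat.card F : ℕ) : ZMod r) = n0)
    (hcase : (Nat.card F ^ k % 4 = 1 ∧ n0 = 2 * k) ∨ (Nat.card F ^ k % 4 = 3 ∧ n0 = k ∧ Odd k))
    (y u z : OGrp Q)
    (hyu : Commute y u) (hyz : Commute y z) (huz : Commute u z)
    (hy : y ^ r = 1) (hy1 : y ≠ 1) (hu : u ^ p = 1) (hu1 : u ≠ 1) (hz : z ^ 2 = 1) (hz1 : z ≠ 1)
    (hzc : z ∈ commutator (OGrp Q)) : False := by
  have h2 := two_ne_zero_of_odd hodd
  have hq : 1 < Nat.card F := Finite.one_lt_card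
  have hk2 : 2 ≤ k := hn.1
  obtain ⟨W, b, hWd, hW, hWy, hfix, hsq⟩ := exists_W h2 hQ hR hn hV hr hr2 hrp hn0 y u z hyu hyz huz hy hy1 hu hu1
    hz hz1 hzc
  have hW0 : W ≠ ⊥ := by
    intro h0
    rw [h0, finrank_bot] at hWd
    omega
  have hdvd := dvd_card_OG hr hy hW0 hWy hfix
  have hnd := nondegenerate_restrict hW
  have htype := OCase.isPlus_iff_isSquare h2 hnd hWd b
  rw [mul_comm, isSquare_mul_iff_of_sq hsq (gram_det_ne_zero hnd b),
    isSquare_neg_one_pow_iff (Nat.card_eq_fintype_card.symm) (by rw [Nat.card_eq_fintype_card]; exact hodd)] at htype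
  have hrq : ¬ r ∣ Nat.card F := by
    intro h
    rw [(ZMod.natCast_eq_zero_iff _ _).2 h] at hn0
    haveI : Fact r.Prime := ⟨hr⟩
    have h1 : orderOf (0 : ZMod r) = 0 := by
      rw [orderOf_eq_zero_iff']
      intro n hn h
      rw [zero_pow (by omega)] at h
      exact zero_ne_one h
    rw [h1] at hn0
    rcases hn.2 with h3 | ⟨h3, -, -⟩ <;> omega
  have hr2' : ¬ r ∣ 2 := fun h => hr2 ((Nat.prime_dvd_prime_iff_eq hr Nat.prime_two).1 h)
  rcases hcase with ⟨hc, hc2⟩ | ⟨hc, hc2, hko⟩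
  · obtain ⟨g, hg⟩ := (htype.2 hc).exists_isom hnd hWd
    have h3 : Nat.card (OG (qfPlus k F)) = Nat.card (OG (Q.restrict W)) := card_OG_congr _ _ g hg
    have h4 := card_isometryGroup (qfPlus k F)
    have h5 := order_plus (F := F) k (by omega)
    have h6 : Nat.card (Cfsg.isometryGroup F (Cfsg.quadFormPlus k F)) = Nat.card (OG (Q.restrict W)) := by
      rw [← h3, ← h4]; rfl
    rw [← h6, h5, hr.dvd_mul, hr.dvd_mul, hr.dvd_mul] at hdvd
    rcases hdvd with ((h | h) | h) | h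
    · exact hr2' h
    · exact hrq (hr.dvd_of_dvd_pow h)
    · rw [dvd_iff hq hn0, hc2] at h
      have := Nat.le_of_dvd (by omega) h
      omega
    · exact not_dvd_prod hr hq hn0 hn h
  · obtain ⟨m, rfl⟩ : ∃ m, k = m + 1 := ⟨k - 1, by omega⟩
    have hnp : ¬ OCase.IsPlus (Q.restrict W) := by
      rw [htype, hc]
      decide
    obtain ⟨ζ, g, hζ, hg⟩ := OCase.exists_isom_of_not_isPlus hnd hWd hnp
    have h3 : Nat.card (OG (qfMinus m F 1 ζ)) = Nat.card (OG (Q.restrict W)) := card_OG_congr _ _ g hg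
    have h4 := card_isometryGroup (qfMinus m F 1 ζ)
    have h5 := order_minus (F := F) m (a := 1) (b := ζ) (OrthCount.aniso_of (Orth.aniso_of_root hζ))
    have h6 : Nat.card (Cfsg.isometryGroup F (Cfsg.quadFormMinus m F 1 ζ)) = Nat.card (OG (Q.restrict W)) := by
      rw [← h3, ← h4]; rfl
    rw [← h6, h5, hr.dvd_mul, hr.dvd_mul, hr.dvd_mul] at hdvd
    rcases hdvd with ((h | h) | h) | h
    · exact hr2' h
    · exact hrq (hr.dvd_of_dvd_pow h)
    · have h7 : r ∣ Nat.card F ^ (m + 1) - 1 := by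
        rw [dvd_iff hq hn0, hc2]
      have h8 := Nat.dvd_sub h h7
      have h9 : Nat.card F ^ (m + 1) + 1 - (Nat.card F ^ (m + 1) - 1) = 2 := by
        have : 1 ≤ Nat.card F ^ (m + 1) := Nat.one_le_pow _ _ (by omega)
        omega
      rw [h9] at h8
      exact hr2' h8
    · exact not_dvd_prod hr hq hn0 hn (by simpa using h)

/-- the primitive prime -/
theorem exists_r {q : ℕ} (hq : 1 < q) (hodd : Odd q) {k : ℕ} (hk : 2 ≤ k) :
    ∃ r n0 : ℕ, r.Prime ∧ r ≠ 2 ∧ Num n0 k ∧ orderOf ((q : ℕ) : ZMod r) = n0 ∧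
      ((q ^ k % 4 = 1 ∧ n0 = 2 * k) ∨ (q ^ k % 4 = 3 ∧ n0 = k ∧ Odd k)) ∧
      (r ∣ q ^ k + 1 ∨ r ∣ q ^ k - 1) ∧ ¬ r ∣ q := by
  have hzs : ∀ n : ℕ, 3 ≤ n → ∃ r : ℕ, r.Prime ∧ r ≠ 2 ∧ orderOf ((q : ℕ) : ZMod r) = n ∧ ¬ r ∣ q ∧ r ∣ q ^ n - 1 ∧
      ∀ k : ℕ, 0 < k → k < n → ¬ r ∣ q ^ k - 1 := by
    intro n hn
    obtain ⟨r, hr, hr1, hr2⟩ := Cfsg.Agent.S2904.result q n hq (by omega)
      (by rintro ⟨h, -⟩; rw [h] at hodd; exact absurd hodd (by decide)) (by rintro ⟨h, -⟩; omega)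
    have hord : orderOf ((q : ℕ) : ZMod r) = n := by
      rw [orderOf_eq_iff (by omega)]
      refine ⟨(Cfsg.Agent.S2904.dvd_pow_sub_one_iff q n r hq).1 hr1, fun m hm1 hm2 h => ?_⟩
      exact hr2 m hm2 hm1 ((Cfsg.Agent.S2904.dvd_pow_sub_one_iff q m r hq).2 h)
    refine ⟨r, hr, ?_, hord, ?_, hr1, hr2⟩
    · rintro rfl
      apply hr2 1 one_pos (by omega)
      rw [pow_one]
      obtain ⟨t, ht⟩ := hodd
      exact ⟨t, by omega⟩
    · intro h
      have h1 : r ∣ q ^ n := dvd_pow h (by omega)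
      have h2 := Nat.dvd_sub h1 hr1
      have h3 : 1 ≤ q ^ n := Nat.one_le_pow _ _ (by omega)
      have h4 : q ^ n - (q ^ n - 1) = 1 := by omega
      rw [h4] at h2
      exact hr.one_lt.ne' (Nat.dvd_one.1 h2)
  have hqk : q ^ k % 4 = 1 ∨ q ^ k % 4 = 3 := by
    obtain ⟨t, ht⟩ := (hodd.pow : Odd (q ^ k))
    omega
  rcases hqk with h | h
  · obtain ⟨r, h1, h2, h3, h4, h5, h6⟩ := hzs (2 * k) (by omega)
    refine ⟨r, 2 * k, h1, h2, ⟨hk, Or.inl rfl⟩, h3, Or.inl ⟨h, rfl⟩, Or.inl ?_, h4⟩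
    have h7 : q ^ (2 * k) - 1 = (q ^ k + 1) * (q ^ k - 1) := by
      have := Nat.sq_sub_sq (q ^ k) 1
      rw [one_pow, ← pow_mul, mul_comm k 2] at this
      exact this
    rw [h7, h1.dvd_mul] at h5
    rcases h5 with h5 | h5
    · exact h5
    · exact absurd h5 (h6 k (by omega) (by omega))
  · have hko : Odd k := by
      rw [← Nat.not_even_iff_odd]
      intro he
      have := Orth.pow_mod_four (m := k) hodd
      rw [if_pos he] at this
      omega
    obtain ⟨t, ht⟩ := hko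
    obtain ⟨r, h1, h2, h3, h4, h5, h6⟩ := hzs k (by omega)
    exact ⟨r, k, h1, h2, ⟨hk, Or.inr ⟨rfl, ⟨t, ht⟩, by omega⟩⟩, h3, Or.inr ⟨h, rfl, ⟨t, ht⟩⟩, Or.inr h5, h4⟩

theorem center_triv {F : Type*} [Field F] [Fintype F] (hodd : Odd (Fintype.card F)) (m : ℕ)
    (hm : 3 ≤ m) : Nat.card (Subgroup.center ↥(commutator (OGrp (qfOdd m F)))) = 1 := by
  have h2 := two_ne_zero_of_odd hodd
  have hQ := qfOdd_nondegenerate m F h2
  have hR := RGrp_top_of_two hQ h2
  have hH := ClassO.hyp_odd F m (Fin.castLE hm) (Fin.castLE_injective hm)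
  refine ClassO.card_center_one hQ hR hH _ (ClassO.commutator_eq_EGrp hQ hR hH) ?_
  right
  rw [ClassO.exists_neg_iff]
  rintro ⟨g, hg, hg1⟩
  rw [mem_Omega_iff] at hg
  obtain ⟨l, hl, hl2, -⟩ := exists_of_mem_commutator hR hg
  have h3 := det_of_reflProd _ g l hl.symm
  rw [hl2.neg_one_pow, hg1, Matrix.det_neg, Matrix.det_one, mul_one] at h3
  have h4 : (-1 : F) ^ Fintype.card (Unit ⊕ (Fin m ⊕ Fin m)) = -1 := by
    apply Odd.neg_one_pow
    simp
  rw [h4] at h3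
  apply h2
  linear_combination -h3

/-- Let F be a finite field of odd order and n ≥ 3. The simple orthogonal group PΩ(2n+1, F) (type B_n) and the projective symplectic group PSp(2n, F) (type C_n), which have the same order, do not have the same set of element orders. -/
theorem result {F : Type*} [Field F] [Fintype F] (hodd : Odd (Fintype.card F)) (n : ℕ) (hn : 3 ≤ n) :
    Set.range (orderOf : Cfsg.POmega F (Cfsg.quadFormOdd n F) → ℕ) ≠ Set.range (orderOf : Cfsg.PSp n F → ℕ) := by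
  classical
  intro heq
  obtain ⟨p, hpc⟩ := CharP.exists F
  haveI hpf : Fact p.Prime := ⟨CharP.char_is_prime F p⟩
  have hp : p.Prime := hpf.out
  have h2 := two_ne_zero_of_odd hodd
  have hp2 : p ≠ 2 := by
    rintro rfl
    exact h2 (by exact_mod_cast CharP.cast_eq_zero F 2)
  have hpodd : Odd p := hp.odd_of_ne_two hp2
  obtain ⟨k, rfl⟩ : ∃ k, n = k + 1 := ⟨n - 1, by omega⟩
  have hk : 2 ≤ k := by omega
  have hq : 1 < Nat.card F := Finite.one_lt_card
  obtain ⟨r, n0, hr, hr2, hn, hn0, hcase, htor, hrq⟩ := exists_r hq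
    (by rw [Nat.card_eq_fintype_card]; exact hodd) hk
  have hrodd : Odd r := hr.odd_of_ne_two hr2
  have hrp : r ≠ p := by
    rintro rfl
    apply hrq
    obtain ⟨e, he, hc⟩ := FiniteField.card F r
    rw [Nat.card_eq_fintype_card, hc]
    exact dvd_pow_self r e.pos.ne'
  -- the element of the symplectic group
  have hu : SpOrd F 1 p := by
    obtain ⟨t, ht, hto⟩ := unip (F := F) p h2 (b := 1) (j := 0) (by norm_num)
    haveI := finite_unip (F := F) 1
    have := ht.spOrd (a := 1) finrank_unip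
    rw [hto] at this
    simpa using this
  obtain ⟨x, hx⟩ := (spOrd_torus p h2 (by omega : 1 ≤ k) htor).prod hu h2 (by omega) le_rfl hrodd hpodd
  have hcop : Nat.Coprime r p := (Nat.coprime_primes hr hp).2 hrp
  rw [Nat.Coprime.lcm_eq_mul hcop] at hx
  have hmem : 2 * (r * p) ∈ Set.range (orderOf : Cfsg.POmega F (Cfsg.quadFormOdd (k + 1) F) → ℕ) := by
    rw [heq]
    exact ⟨x, hx⟩
  obtain ⟨x', hx'⟩ := hmem
  have hcen := center_triv hodd (k + 1) ‹3 ≤ k + 1›
  have hbot : Subgroup.center ↥(commutator (OGrp (qfOdd (k + 1) F))) = ⊥ := Subgroup.card_eq_one.1 hcen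
  let E : Cfsg.POmega F (Cfsg.quadFormOdd (k + 1) F) ≃* ↥(commutator (OGrp (qfOdd (k + 1) F))) :=
    ((ClassO.pomE (qfOdd (k + 1) F)).trans (QuotientGroup.quotientMulEquivOfEq hbot)).trans QuotientGroup.quotientBot
  set g : OGrp (qfOdd (k + 1) F) := ((E x' : ↥(commutator (OGrp (qfOdd (k + 1) F)))) : OGrp (qfOdd (k + 1) F)) with hg
  have hgo : orderOf g = 2 * (r * p) := by
    rw [hg, Subgroup.orderOf_coe, MulEquiv.orderOf_eq, hx']
  have hgc : g ∈ commutator (OGrp (qfOdd (k + 1) F)) := (E x').2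
  have hr0 := hr.pos
  have hp0 := hp.pos
  have hQ := qfOdd_nondegenerate (k + 1) F h2
  have hR := RGrp_top_of_two hQ h2
  have hne : ∀ a b : ℕ, a * b = 2 * (r * p) → b ≠ 1 → g ^ a ≠ 1 := by
    intro a b hab hb h
    have h1 := orderOf_dvd_of_pow_eq_one h
    rw [hgo, ← hab] at h1
    have ha : 0 < a := by
      apply Nat.pos_of_ne_zero
      rintro rfl
      rw [zero_mul] at hab
      have : 0 < 2 * (r * p) := by positivity
      omega
    have hb0 : 0 < b := by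
      apply Nat.pos_of_ne_zero
      rintro rfl
      rw [mul_zero] at hab
      have : 0 < 2 * (r * p) := by positivity
      omega
    have h2 := Nat.le_of_dvd ha h1
    have h3 : b ≤ 1 := by
      by_contra hlt
      push Not at hlt
      nlinarith
    omega
  have hone : ∀ a b : ℕ, a * b = 2 * (r * p) → (g ^ a) ^ b = 1 := by
    intro a b hab
    rw [← pow_mul, hab, ← hgo, pow_orderOf_eq_one]
  refine key (p := p) hodd hQ hR hn ?_ hr hr2 hrp hn0 hcase (g ^ (2 * p)) (g ^ (2 * r)) (g ^ (r * p))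
    ((Commute.refl g).pow_pow _ _) ((Commute.refl g).pow_pow _ _) ((Commute.refl g).pow_pow _ _)
    (hone _ _ (by ring)) (hne _ r (by ring) hr.one_lt.ne') (hone _ _ (by ring)) (hne _ p (by ring) hp.one_lt.ne')
    (hone _ _ (by ring)) (hne _ 2 (by ring) (by norm_num)) (Subgroup.pow_mem _ hgc _)
  rw [Module.finrank_fintype_fun_eq_card]
  simp
  ring

end Cfsg.Agent.S2362
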