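import Cfsg.Statements.S0190
import Cfsg.Agent.H75.Tools
import Cfsg.Agent.Char.Induced

set_option autoImplicit false
open Cfsg

namespace Cfsg.Agent.S0190

open Cfsg.Agent.CharBase Cfsg.Agent.H75

theorem card_fiber {G : Type*} [Group G] {X : Type*} [MulAction G X]
    [MulAction.IsPretransitive G X] (x z : X) :
    Nat.card {y : G // y • x = z} = Nat.card (MulAction.stabilizer G x) := by
  obtain ⟨y0, hy0⟩ := MulAction.exists_smul_eq G x z
  refine Nat.card_congr ⟨fun y => ⟨y0⁻¹ * y, ?_⟩, fun h => ⟨y0 * h, ?_⟩, ?_, ?_⟩
  · rw [MulAction.mem_stabilizer_iff, mul_smul, y.2, ← hy0, inv_smul_smul]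
  · rw [mul_smul, MulAction.mem_stabilizer_iff.mp h.2, hy0]
  · intro y; simp
  · intro y; simp

/-- For a transitive action of a finite group on X, the permutation character g ↦ (number of fixed points of g) is the function induced from the principal character of the stabilizer of any point. -/
theorem result {G : Type*} [Group G] [Fintype G] (X : Type*) [MulAction G X] [Finite X] [MulAction.IsPretransitive G X] (x : X) : (fun g : G => (Nat.card (MulAction.fixedBy X g) : ℂ)) = Cfsg.indFun (MulAction.stabilizer G x) (fun _ => 1) := by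
  classical
  have := Fintype.ofFinite X
  funext g
  have hH : (Nat.card (MulAction.stabilizer G x) : ℂ) ≠ 0 := by exact_mod_cast Nat.card_pos.ne'
  unfold indFun
  have h1 : ∀ y : G, extendByZero (MulAction.stabilizer G x) (fun _ => (1 : ℂ)) (y⁻¹ * g * y) =
      ∑ z : X, if y • x = z then (if g • z = z then (1 : ℂ) else 0) else 0 := by
    intro y
    rw [Finset.sum_ite_eq Finset.univ (y • x), if_pos (Finset.mem_univ _)]
    by_cases h : y⁻¹ * g * y ∈ MulAction.stabilizer G x
    · rw [Char.extendByZero_of_mem _ _ h]
      rw [MulAction.mem_stabilizer_iff, mul_smul, mul_smul, inv_smul_eq_iff] at h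
      rw [if_pos h]
    · rw [Char.extendByZero_of_notMem _ _ h]
      rw [MulAction.mem_stabilizer_iff, mul_smul, mul_smul, inv_smul_eq_iff] at h
      rw [if_neg h]
  simp only [h1]
  rw [Finset.sum_comm]
  have h2 : ∀ z : X, (∑ y : G, if y • x = z then (if g • z = z then (1 : ℂ) else 0) else 0) =
      (Nat.card (MulAction.stabilizer G x) : ℂ) * (if g • z = z then (1 : ℂ) else 0) := by
    intro z
    rw [← Finset.sum_filter, Finset.sum_const, nsmul_eq_mul]
    congr 1
    rw [← card_fiber (G := G) x z, Nat.card_eq_fintype_card, Fintype.card_subtype]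
  simp only [h2]
  rw [← Finset.mul_sum, inv_mul_cancel_left₀ hH, Finset.sum_boole]
  congr 1
  rw [Nat.card_eq_fintype_card]
  rw [← Fintype.card_subtype (fun z : X => g • z = z)]
  rfl

end Cfsg.Agent.S0190
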