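import Cfsg.Statements.S2238
import Cfsg.Agent.Suzuki.Partition

set_option autoImplicit false
open Cfsg

namespace Cfsg.Agent.S2238

/-- The partition of the Suzuki group: with q = 2^(2m+1), m ≥ 1, r = 2^m and the Suzuki group realised as the stabiliser in SL₄ of the Suzuki–Tits ovoid, every non-identity element lies in exactly one subgroup that is either a Sylow 2-subgroup or a cyclic subgroup of order q − 1, q + 2r + 1 or q − 2r + 1. -/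
theorem result {F : Type*} [Field F] [Fintype F] {m : ℕ} (hm : 1 ≤ m) (hF : Fintype.card F = 2 ^ (2 * m + 1)) (g : ↥(Cfsg.Sz F m)) (hg : g ≠ 1) :
    ∃! U : Subgroup ↥(Cfsg.Sz F m), ((∃ P : Sylow 2 ↥(Cfsg.Sz F m), U = (P : Subgroup ↥(Cfsg.Sz F m))) ∨
      (IsCyclic ↥U ∧ Nat.card ↥U ∈ ({2 ^ (2 * m + 1) - 1, 2 ^ (2 * m + 1) + 2 ^ (m + 1) + 1, 2 ^ (2 * m + 1) - 2 ^ (m + 1) + 1} : Set ℕ))) ∧ g ∈ U := by
  have := Cfsg.Agent.Suz.charP_two hF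
  have key : ∀ U : Subgroup (Cfsg.Sz F m), ((∃ P : Sylow 2 ↥(Cfsg.Sz F m), U = (P : Subgroup ↥(Cfsg.Sz F m))) ∨
      (IsCyclic ↥U ∧ Nat.card ↥U ∈ ({2 ^ (2 * m + 1) - 1, 2 ^ (2 * m + 1) + 2 ^ (m + 1) + 1, 2 ^ (2 * m + 1) - 2 ^ (m + 1) + 1} : Set ℕ))) ↔
      Cfsg.Agent.Suz.IsComp hF U := by
    intro U
    constructor
    · rintro (h | ⟨h1, h2⟩)
      · exact Or.inl ((Cfsg.Agent.Suz.sylow_iff hF hm U).1 h)
      · exact Or.inr (Cfsg.Agent.Suz.isCyc_of_card hm hF h2)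
    · rintro (h | h)
      · exact Or.inl ((Cfsg.Agent.Suz.sylow_iff hF hm U).2 h)
      · exact Or.inr ⟨Cfsg.Agent.Suz.IsCyc.isCyclic hm hF h, Cfsg.Agent.Suz.IsCyc.card_cases hm hF h⟩
  obtain ⟨K, hK, hgK, -⟩ := Cfsg.Agent.Suz.exists_comp hm hF hg
  refine ⟨K, ⟨(key K).2 hK, hgK⟩, ?_⟩
  rintro L ⟨hL, hgL⟩
  exact Cfsg.Agent.Suz.IsComp.unique hm hF ((key L).1 hL) hK hg hgL hgK

end Cfsg.Agent.S2238
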