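import Cfsg.Statements.S2495
import Cfsg.Agent.H41.ZsigElt
import Cfsg.Agent.S2904
import Cfsg.Agent.H41.Torus

set_option autoImplicit false
open Cfsg

namespace Cfsg.Agent.S2495

open Cfsg.Agent.H41 Matrix

/-- the arithmetic condition -/
theorem arith (q m : ℕ) (hq : 3 ≤ q) (hm : 0 < m) :
    Nat.gcd (2 * m) (q - 1) ∣ ∑ i ∈ Finset.range m, q ^ i ↔ padicValNat 2 (q - 1) < padicValNat 2 (2 * m) := by
  have hfact : Fact (Nat.Prime 2) := ⟨Nat.prime_two⟩
  obtain ⟨d, hd⟩ : ∃ d, d = Nat.gcd (2 * m) (q - 1) := ⟨_, rfl⟩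
  have hdq : d ∣ q - 1 := hd ▸ Nat.gcd_dvd_right _ _
  have hd2 : d ∣ 2 * m := hd ▸ Nat.gcd_dvd_left _ _
  rw [← hd]
  have h1 : (∑ i ∈ Finset.range m, q ^ i) ≡ m [MOD d] := by
    have hq1 : q ≡ 1 [MOD d] := by
      rw [Nat.ModEq.comm, Nat.modEq_iff_dvd' (by omega)]
      exact hdq
    have : (∑ i ∈ Finset.range m, q ^ i) ≡ ∑ i ∈ Finset.range m, 1 [MOD d] := by
      apply Nat.ModEq.sum
      intro i _
      have := hq1.pow i
      rwa [one_pow] at this
    simpa using this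
  have h2 : d ∣ ∑ i ∈ Finset.range m, q ^ i ↔ d ∣ m := by
    rw [← Nat.modEq_zero_iff_dvd, ← Nat.modEq_zero_iff_dvd]
    exact ⟨fun h => h1.symm.trans h, fun h => h1.trans h⟩
  rw [h2, padicValNat.mul (by norm_num) (by omega), padicValNat.self (by norm_num), add_comm, Nat.lt_succ_iff]
  constructor
  · intro h
    by_contra hcon
    push Not at hcon
    have h3 : 2 ^ (padicValNat 2 m + 1) ∣ 2 * m := by
      rw [pow_succ, mul_comm]
      exact mul_dvd_mul_left 2 pow_padicValNat_dvd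
    have h4 : 2 ^ (padicValNat 2 m + 1) ∣ q - 1 :=
      (pow_dvd_pow 2 hcon).trans pow_padicValNat_dvd
    have h5 : 2 ^ (padicValNat 2 m + 1) ∣ m := (hd ▸ Nat.dvd_gcd h3 h4 : _ ∣ d).trans h
    exact pow_succ_padicValNat_not_dvd (by omega) h5
  · intro h
    obtain ⟨a, b, hb, hab⟩ : ∃ a b, ¬ 2 ∣ b ∧ d = 2 ^ a * b := by
      have hd0 : d ≠ 0 := by
        rintro rfl
        rw [zero_dvd_iff] at hdq
        omega
      obtain ⟨a, b, hb, hab⟩ := Nat.exists_eq_pow_mul_and_not_dvd hd0 2 (by norm_num)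
      exact ⟨a, b, hb, hab⟩
    have hb1 : b ∣ m := by
      have h3 : b ∣ 2 * m := (Dvd.intro_left _ hab.symm).trans hd2
      have h4 : Nat.Coprime b 2 := ((Nat.Prime.coprime_iff_not_dvd Nat.prime_two).mpr hb).symm
      exact h4.dvd_of_dvd_mul_left h3
    have ha1 : 2 ^ a ∣ m := by
      have h3 : 2 ^ a ∣ q - 1 := (Dvd.intro _ hab.symm).trans hdq
      have h4 : a ≤ padicValNat 2 (q - 1) := (padicValNat_dvd_iff_le (by omega)).mp h3
      exact (padicValNat_dvd_iff_le (by omega)).mpr (h4.trans h)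
    rw [hab]
    apply Nat.Coprime.mul_dvd_of_dvd_of_dvd _ ha1 hb1
    exact Nat.Coprime.pow_left _ ((Nat.Prime.coprime_iff_not_dvd Nat.prime_two).mpr hb)

theorem dvd_geom (q n : ℕ) (hq : 1 ≤ q) : Nat.gcd n (q - 1) ∣ ∑ i ∈ Finset.range n, q ^ i := by
  obtain ⟨d, hd⟩ : ∃ d, d = Nat.gcd n (q - 1) := ⟨_, rfl⟩
  have hdq : d ∣ q - 1 := hd ▸ Nat.gcd_dvd_right _ _
  have hd2 : d ∣ n := hd ▸ Nat.gcd_dvd_left _ _
  rw [← hd]
  have hq1 : q ≡ 1 [MOD d] := by
    rw [Nat.ModEq.comm, Nat.modEq_iff_dvd' (by omega)]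
    exact hdq
  have : (∑ i ∈ Finset.range n, q ^ i) ≡ ∑ i ∈ Finset.range n, 1 [MOD d] := by
    apply Nat.ModEq.sum
    intro i _
    have := hq1.pow i
    rwa [one_pow] at this
  rw [← Nat.modEq_zero_iff_dvd]
  refine this.trans ?_
  simp only [Finset.sum_const, Finset.card_range, smul_eq_mul, mul_one]
  rwa [Nat.modEq_zero_iff_dvd]

theorem geom_mul (q m : ℕ) : ∑ i ∈ Finset.range (m + m), q ^ i = (q ^ m + 1) * ∑ i ∈ Finset.range m, q ^ i := by
  rw [Finset.sum_range_add, add_mul, one_mul, add_comm, Finset.mul_sum]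
  congr 1
  apply Finset.sum_congr rfl
  intro i _
  rw [pow_add]

theorem mem_range_of_pow {F K : Type*} [Field F] [Field K] [Algebra F K] [Finite K] (x : K) (hx : x ^ Nat.card F = x) :
    ∃ a : F, algebraMap F K a = x := mem_range_of_pow_card x hx

variable {F : Type*} [Field F] [Fintype F]

/-- upper bound part -/
theorem forward {q : ℕ} (hF : Fintype.card F = q) {n m : ℕ} (hm : 2 ≤ m) (hnm : n = m + m) (hq : 3 ≤ q)
    (g : Matrix.ProjectiveSpecialLinearGroup (Fin n) F) (hg : orderOf g = q ^ m + 1) :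
    Nat.gcd n (q - 1) ∣ ∑ i ∈ Finset.range m, q ^ i := by
  classical
  obtain ⟨p, hp⟩ := CharP.exists F
  obtain ⟨k, hpp, hcardF⟩ := FiniteField.card F p
  have hfact : Fact p.Prime := ⟨hpp⟩
  obtain ⟨r, hr, hrd, hrk⟩ := Cfsg.Agent.S2904.result q n (by omega) (by omega) (by omega) (by
    rintro ⟨h2, -⟩; omega)
  have hrF : (r : F) ≠ 0 := by
    intro h
    have h1 : p ∣ r := (CharP.cast_eq_zero_iff F p r).mp h
    have h2 : p = r := (Nat.prime_dvd_prime_iff_eq hpp hr).mp h1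
    have h3 : r ∣ q ^ n := by
      rw [← h2, ← hF, hcardF, ← pow_mul]
      exact dvd_pow_self p (Nat.mul_ne_zero k.ne_zero (by omega))
    have h4 : r ∣ 1 := by
      have h5 := Nat.dvd_sub h3 hrd
      have h6 : 0 < q ^ n := by positivity
      have h7 : q ^ n - (q ^ n - 1) = 1 := by omega
      rwa [h7] at h5
    exact hr.one_lt.ne' (Nat.dvd_one.mp h4)
  have hrq : r ∣ q ^ m + 1 := by
    have h1 : q ^ n - 1 = (q ^ m + 1) * (q ^ m - 1) := by
      rw [hnm, pow_add]
      have hqm0 : 0 < q ^ m := by positivity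
      obtain ⟨t, ht⟩ : ∃ t, q ^ m = t + 1 := ⟨q ^ m - 1, by omega⟩
      rw [ht]
      simp only [Nat.add_sub_cancel]
      rw [Nat.sub_eq_iff_eq_add (by nlinarith)]
      ring
    rw [h1] at hrd
    exact ((Nat.Prime.dvd_mul hr).mp hrd).resolve_right (hrk m (by omega) (by omega))
  obtain ⟨A, rfl⟩ := QuotientGroup.mk_surjective g
  obtain ⟨s, hs⟩ := hrq
  have hcent : A ^ (q ^ m + 1) ∈ Subgroup.center (Matrix.SpecialLinearGroup (Fin n) F) := by
    rw [← QuotientGroup.eq_one_iff, QuotientGroup.mk_pow, ← hg]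
    exact pow_orderOf_eq_one _
  rw [Matrix.SpecialLinearGroup.mem_center_iff] at hcent
  obtain ⟨c, hc, hcA⟩ := hcent
  have hc0 : c ≠ 0 := by
    rintro rfl
    rw [zero_pow (by simp; omega)] at hc
    exact zero_ne_one hc
  have hxr : (A ^ (s * (q - 1))) ^ r = 1 := by
    rw [← pow_mul, show s * (q - 1) * r = (q ^ m + 1) * (q - 1) by rw [hs]; ring, pow_mul]
    apply Subtype.ext
    rw [Matrix.SpecialLinearGroup.coe_pow, ← hcA, ← map_pow, ← hF, FiniteField.pow_card_sub_one_eq_one c hc0, map_one]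
    rfl
  have hx1 : A ^ (s * (q - 1)) ≠ 1 := by
    intro h
    have h1 : (QuotientGroup.mk A : Matrix.ProjectiveSpecialLinearGroup (Fin n) F) ^ (s * (q - 1)) = 1 := by
      rw [← QuotientGroup.mk_pow, h]; rfl
    have h2 := orderOf_dvd_of_pow_eq_one h1
    rw [hg, hs, mul_comm r s] at h2
    have hs0 : 0 < s := by
      rcases Nat.eq_zero_or_pos s with rfl | h
      · rw [mul_zero] at hs; omega
      · exact h
    have h3 := Nat.dvd_of_mul_dvd_mul_left hs0 h2
    have h4 := hrk 1 (by norm_num) (by omega)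
    rw [pow_one] at h4
    exact h4 h3
  obtain ⟨X, hX⟩ : ∃ X : Module.End F (Fin n → F), X = Matrix.toLin' ((A ^ (s * (q - 1)) : Matrix.SpecialLinearGroup (Fin n) F) : Matrix (Fin n) (Fin n) F) := ⟨_, rfl⟩
  have hfin : Module.finrank F (Fin n → F) = n := by simp
  obtain ⟨hirr, hdeg⟩ := minpoly_of_ppd X r hr (by
      rw [hX, ← Matrix.toLin'_pow, ← Matrix.SpecialLinearGroup.coe_pow, hxr, Matrix.SpecialLinearGroup.coe_one, Matrix.toLin'_one]
      rfl) (by
      intro h
      apply hx1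
      apply Subtype.ext
      apply Matrix.toLin'.injective
      rw [← hX, h, Matrix.SpecialLinearGroup.coe_one, Matrix.toLin'_one]
      rfl) (by
    intro j hj hj'
    rw [Nat.card_eq_fintype_card, hF]
    exact hrk j hj (by omega)) hrF
  have hn0 : NeZero n := ⟨by omega⟩
  obtain ⟨e, he⟩ := exists_field_str X hirr hdeg (FiniteField.Extension F p n)
    ((FiniteField.finrank_extension F p n).trans hfin.symm)
  obtain ⟨l, hl⟩ := he (Matrix.toLin' (A : Matrix (Fin n) (Fin n) F)) (by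
    rw [hX]
    have h1 : A * A ^ (s * (q - 1)) = A ^ (s * (q - 1)) * A := by rw [← pow_succ', ← pow_succ]
    have h2 := congrArg (fun y : Matrix.SpecialLinearGroup (Fin n) F => Matrix.toLin' (y : Matrix (Fin n) (Fin n) F)) h1
    simp only [Matrix.SpecialLinearGroup.coe_mul, Matrix.toLin'_mul] at h2
    exact h2)
  have hnorm : Algebra.norm F l = 1 := by
    have h1 : Matrix.toLin' (A : Matrix (Fin n) (Fin n) F) =
        (e : FiniteField.Extension F p n →ₗ[F] (Fin n → F)) ∘ₗ (Algebra.lmul F (FiniteField.Extension F p n) l) ∘ₗ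
          (e.symm : (Fin n → F) →ₗ[F] FiniteField.Extension F p n) := by
      apply LinearMap.ext
      intro v
      obtain ⟨w, rfl⟩ := e.surjective v
      rw [hl]
      simp
    have h2 := congrArg LinearMap.det h1
    rw [LinearMap.det_conj, LinearMap.det_toLin', A.det_coe] at h2
    rw [Algebra.norm_apply]
    exact h2.symm
  have hl1 : l ^ (∑ i ∈ Finset.range n, q ^ i) = 1 := by
    have h1 := FiniteField.algebraMap_norm_eq_pow_sum (K := F) (x := l)
    rw [hnorm, map_one, FiniteField.finrank_extension, Nat.card_eq_fintype_card, hF] at h1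
    exact h1.symm
  have hpow : ∀ (k : ℕ) (v : FiniteField.Extension F p n),
      ((A ^ k : Matrix.SpecialLinearGroup (Fin n) F) : Matrix (Fin n) (Fin n) F).mulVec (e v) = e (l ^ k * v) := by
    intro k
    induction k with
    | zero => intro v; simp
    | succ k ih =>
      intro v
      have h1 := hl v
      rw [Matrix.toLin'_apply] at h1
      rw [pow_succ, Matrix.SpecialLinearGroup.coe_mul, ← Matrix.mulVec_mulVec, h1, ih, pow_succ]
      congr 1; ring
  obtain ⟨d, hd⟩ : ∃ d, d = Nat.gcd n (q - 1) := ⟨_, rfl⟩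
  have hdq : d ∣ q - 1 := hd ▸ Nat.gcd_dvd_right _ _
  have hd0 : 0 < d := hd ▸ Nat.gcd_pos_of_pos_left _ (by omega)
  obtain ⟨M, hM⟩ := dvd_geom q n (by omega)
  rw [← hd] at hM ⊢
  have hy : (l ^ M) ^ Nat.card F = l ^ M := by
    rw [Nat.card_eq_fintype_card, hF]
    obtain ⟨t, ht⟩ := hdq
    have h1 : (l ^ M) ^ (q - 1) = 1 := by
      rw [ht, pow_mul, ← pow_mul l M d, mul_comm M d, ← hM, hl1, one_pow]
    have h2 : q = q - 1 + 1 := by omega
    rw [h2, pow_succ, h1, one_mul]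
  obtain ⟨a, ha⟩ := mem_range_of_pow (F := F) (l ^ M) hy
  have hAM : ((A ^ M : Matrix.SpecialLinearGroup (Fin n) F) : Matrix (Fin n) (Fin n) F) = a • (1 : Matrix (Fin n) (Fin n) F) := by
    apply Matrix.toLin'.injective
    apply LinearMap.ext
    intro v
    obtain ⟨w, rfl⟩ := e.surjective v
    rw [Matrix.toLin'_apply, hpow, ← ha, Matrix.toLin'_apply, Matrix.smul_mulVec, Matrix.one_mulVec, ← map_smul,
      Algebra.smul_def]
  have hAc : A ^ M ∈ Subgroup.center (Matrix.SpecialLinearGroup (Fin n) F) := by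
    rw [Subgroup.mem_center_iff]
    intro B
    apply Subtype.ext
    rw [Matrix.SpecialLinearGroup.coe_mul, Matrix.SpecialLinearGroup.coe_mul, hAM]
    simp
  have hgM : (QuotientGroup.mk A : Matrix.ProjectiveSpecialLinearGroup (Fin n) F) ^ M = 1 := by
    rw [← QuotientGroup.mk_pow]
    exact (QuotientGroup.eq_one_iff _).mpr hAc
  have hdM := orderOf_dvd_of_pow_eq_one hgM
  rw [hg] at hdM
  obtain ⟨t, ht⟩ := hdM
  rw [hnm, geom_mul, ht] at hM
  refine ⟨t, ?_⟩
  apply Nat.eq_of_mul_eq_mul_left (show 0 < q ^ m + 1 by omega)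
  rw [hM]; ring

/-- existence part -/
theorem backward {q : ℕ} (hF : Fintype.card F = q) {n m : ℕ} (hm : 2 ≤ m) (hnm : n = m + m) (hq : 3 ≤ q)
    (hdvd : Nat.gcd n (q - 1) ∣ ∑ i ∈ Finset.range m, q ^ i) :
    ∃ g : Matrix.ProjectiveSpecialLinearGroup (Fin n) F, orderOf g = q ^ m + 1 := by
  classical
  obtain ⟨p, hp⟩ := CharP.exists F
  obtain ⟨k, hpp, hcardF⟩ := FiniteField.card F p
  have hfact : Fact p.Prime := ⟨hpp⟩
  have hn0 : NeZero n := ⟨by omega⟩
  obtain ⟨K, hKf, hKa, hKfin, hK⟩ : ∃ (K : Type) (_ : Field K) (_ : Algebra F K) (_ : Finite K), Module.finrank F K = n :=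
    ⟨FiniteField.Extension F p n, inferInstance, inferInstance, inferInstance, FiniteField.finrank_extension F p n⟩
  have hKF : Module.Finite F K := Module.Finite.of_finite
  obtain ⟨b⟩ : Nonempty (Module.Basis (Fin n) F K) := ⟨Module.finBasisOfFinrankEq F K hK⟩
  have hcardK : Nat.card K = q ^ n := by
    rw [Module.natCard_eq_pow_finrank (K := F) (V := K), hK, Nat.card_eq_fintype_card, hF]
  obtain ⟨w, hw⟩ := IsCyclic.exists_ofOrder_eq_natCard (α := Kˣ)
  rw [Nat.card_units, hcardK] at hw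
  have hgeom : (q - 1) * ∑ i ∈ Finset.range n, q ^ i = q ^ n - 1 := by
    have h := mul_geom_sum (q : ℤ) n
    have h1 : 1 ≤ q ^ n := Nat.one_le_pow _ _ (by omega)
    zify [h1, (by omega : 1 ≤ q)]
    exact h
  have hNpos : 0 < ∑ i ∈ Finset.range n, q ^ i := Finset.sum_pos (fun i _ => by positivity) ⟨0, by simp; omega⟩
  -- the element `l`
  obtain ⟨l, hl⟩ : ∃ l : Kˣ, l = w ^ (q - 1) := ⟨_, rfl⟩
  have hlo : orderOf l = ∑ i ∈ Finset.range n, q ^ i := by
    rw [hl, orderOf_pow, hw, ← hgeom, Nat.gcd_eq_right (Dvd.intro _ rfl)]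
    exact Nat.mul_div_cancel_left _ (by omega)
  have hnorm : ∀ k : ℕ, Algebra.norm F (((l ^ k : Kˣ)) : K) = 1 := by
    intro k
    apply (algebraMap F K).injective
    rw [FiniteField.algebraMap_norm_eq_pow_sum, hK, Nat.card_eq_fintype_card, hF, map_one, ← Units.val_pow_eq_pow_val,
      ← pow_mul, mul_comm, pow_mul, ← hlo, pow_orderOf_eq_one, one_pow, Units.val_one]
  obtain ⟨A, hA⟩ : ∃ A : Matrix.SpecialLinearGroup (Fin n) F, (A : Matrix (Fin n) (Fin n) F) = Algebra.leftMulMatrix b (l : K) := by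
    refine ⟨⟨Algebra.leftMulMatrix b (l : K), ?_⟩, rfl⟩
    rw [← Algebra.norm_eq_matrix_det]
    have := hnorm 1
    rwa [pow_one] at this
  obtain ⟨k, hk⟩ : ∃ k, k = orderOf (QuotientGroup.mk A : Matrix.ProjectiveSpecialLinearGroup (Fin n) F) := ⟨_, rfl⟩
  have hkc : A ^ k ∈ Subgroup.center (Matrix.SpecialLinearGroup (Fin n) F) := by
    rw [← QuotientGroup.eq_one_iff, QuotientGroup.mk_pow, hk]
    exact pow_orderOf_eq_one _
  rw [Matrix.SpecialLinearGroup.mem_center_iff] at hkc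
  obtain ⟨c, hc, hcA⟩ := hkc
  have hlc : ((l ^ k : Kˣ) : K) = algebraMap F K c := by
    apply Algebra.leftMulMatrix_injective b
    rw [Units.val_pow_eq_pow_val, map_pow, ← hA, ← Matrix.SpecialLinearGroup.coe_pow, ← hcA]
    rw [AlgHom.commutes]
    rfl
  have hc0 : c ≠ 0 := by
    rintro rfl
    rw [zero_pow (by simp; omega)] at hc
    exact zero_ne_one hc
  have h1 : ∑ i ∈ Finset.range n, q ^ i ∣ k * (q - 1) := by
    rw [← hlo]
    apply orderOf_dvd_of_pow_eq_one
    apply Units.ext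
    rw [pow_mul, Units.val_pow_eq_pow_val, hlc, ← map_pow, ← hF, FiniteField.pow_card_sub_one_eq_one c hc0, map_one,
      Units.val_one]
  have h2 : ∑ i ∈ Finset.range n, q ^ i ∣ k * n := by
    rw [← hlo]
    apply orderOf_dvd_of_pow_eq_one
    apply Units.ext
    rw [Fintype.card_fin] at hc
    rw [pow_mul, Units.val_pow_eq_pow_val, hlc, ← map_pow, hc, map_one, Units.val_one]
  have h3 : ∑ i ∈ Finset.range n, q ^ i ∣ k * Nat.gcd n (q - 1) := by
    rw [← Nat.gcd_mul_left]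
    exact Nat.dvd_gcd h2 h1
  obtain ⟨t, ht⟩ := hdvd
  have hd0 : 0 < Nat.gcd n (q - 1) := Nat.gcd_pos_of_pos_left _ (by omega)
  have h4 : q ^ m + 1 ∣ k := by
    have h5 : ∑ i ∈ Finset.range n, q ^ i = (q ^ m + 1) * ∑ i ∈ Finset.range m, q ^ i := by
      rw [hnm, geom_mul]
    rw [h5, ht] at h3
    have h6 : (q ^ m + 1) * Nat.gcd n (q - 1) ∣ k * Nat.gcd n (q - 1) :=
      (mul_dvd_mul_left _ (Dvd.intro _ rfl)).trans h3
    exact Nat.dvd_of_mul_dvd_mul_right hd0 h6
  obtain ⟨u, hu⟩ := h4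
  have hk0 : 0 < k := by rw [hk]; exact orderOf_pos _
  have hu0 : 0 < u := by
    rcases Nat.eq_zero_or_pos u with rfl | h
    · rw [mul_zero] at hu; omega
    · exact h
  refine ⟨(QuotientGroup.mk A : Matrix.ProjectiveSpecialLinearGroup (Fin n) F) ^ u, ?_⟩
  rw [orderOf_pow, ← hk, hu, Nat.gcd_eq_right (Dvd.intro_left _ rfl)]
  exact Nat.mul_div_cancel _ hu0

/-- Let q be an odd prime power, n ≥ 4 even, and L = PSL(n,q). Then L has an element of order q^(n/2) + 1 if and only if the 2-part of n exceeds the 2-part of q − 1. -/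
theorem result {F : Type*} [Field F] [Fintype F] {q : ℕ} (hF : Fintype.card F = q) (hodd : Odd q)
    {n : ℕ} (hn : 4 ≤ n) (heven : Even n) :
    (∃ g : Matrix.ProjectiveSpecialLinearGroup (Fin n) F, orderOf g = q ^ (n / 2) + 1) ↔
      padicValNat 2 (q - 1) < padicValNat 2 n := by
  have hq : 3 ≤ q := by
    have h1 : 1 < q := hF ▸ Fintype.one_lt_card
    rcases hodd with ⟨t, ht⟩
    omega
  obtain ⟨m, hm⟩ := heven
  have h2 : n = 2 * m := by omega
  have h3 : 2 ≤ m := by omega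
  have h4 := arith q m hq (by omega)
  rw [← h2] at h4
  rw [← h4]
  constructor
  · rintro ⟨g, hg⟩
    have h5 : n / 2 = m := by omega
    rw [h5] at hg
    exact forward hF h3 hm hq g hg
  · intro h
    have h5 : n / 2 = m := by omega
    rw [h5]
    exact backward hF h3 hm hq h

end Cfsg.Agent.S2495
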