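import Cfsg.Statements.S5944

set_option autoImplicit false
open Cfsg

namespace Cfsg.Agent.S5944

/-- For n ≠ 4, every proper subgroup of the symmetric group S_n other than the alternating group A_n has index at least n. -/
theorem result (n : ℕ) (hn : n ≠ 4) (H : Subgroup (Equiv.Perm (Fin n))) (hH : H ≠ ⊤) (hA : H ≠ alternatingGroup (Fin n)) : n ≤ H.index := by
  have hpos : H.index ≠ 0 := Subgroup.index_ne_zero_of_finite
  have h1 : H.index ≠ 1 := fun h => hH (Subgroup.index_eq_one.mp h)
  have h2 : H.index ≠ 2 := fun h => hA (Equiv.Perm.eq_alternatingGroup_of_index_eq_two h)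
  by_cases h5 : 5 ≤ n
  · by_contra hlt
    push Not at hlt
    -- normal core
    have hcore : H.normalCore.index ∣ Nat.factorial H.index := by
      rw [Subgroup.normalCore_eq_ker, Subgroup.index_ker, Subgroup.index_eq_card, ← Nat.card_perm]
      exact Subgroup.card_subgroup_dvd_card _
    by_cases hbot : H.normalCore = ⊥
    · rw [hbot, Subgroup.index_bot, Nat.card_perm, Nat.card_fin] at hcore
      have h3 := Nat.le_of_dvd (Nat.factorial_pos _) hcore
      have h4 := (Nat.factorial_lt (Nat.pos_of_ne_zero hpos)).mpr hlt
      omega
    · have hnt : Nontrivial H.normalCore := by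
        rwa [Subgroup.nontrivial_iff_ne_bot]
      have hle := Equiv.Perm.alternatingGroup_le_of_normal (α := Fin n) (by simpa using h5) hnt
      have hle2 : alternatingGroup (Fin n) ≤ H := hle.trans H.normalCore_le
      have hd := Subgroup.index_dvd_of_le hle2
      have : Nontrivial (Fin n) := Fin.nontrivial_iff_two_le.mpr (by omega)
      rw [alternatingGroup.index_eq_two] at hd
      have := Nat.le_of_dvd (by norm_num) hd
      interval_cases h : H.index <;> simp_all
  · have : n = 0 ∨ n = 1 ∨ n = 2 ∨ n = 3 := by omega
    omega

end Cfsg.Agent.S5944
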