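import Cfsg.Statements.S0042
import Cfsg.Agent.Frob.Thompson
import Cfsg.Agent.Frob.Kernel
import Cfsg.Agent.S0108
-- import your own Cfsg.Agent.* helpers here

set_option autoImplicit false
open Cfsg

namespace Cfsg.Agent.S0042

/-- In a finite Frobenius group, the Frobenius kernel is (the carrier of) a normal subgroup which is nilpotent. -/
theorem result {G : Type*} [Group G] [Finite G] (H : Subgroup G) (hH : Cfsg.IsFrobeniusComplement H) :
    ∃ N : Subgroup G, (N : Set G) = Cfsg.frobeniusKernel H ∧ N.Normal ∧ Group.IsNilpotent N := by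
  have hT : Frob.ThompsonNPC := fun G _ _ q _ hq P h1 h2 => (Cfsg.Agent.S0108.result hq P).mpr ⟨h1, h2⟩
  obtain ⟨N, hN, hNn, hNH⟩ := Frob.exists_normal_complement hH
  refine ⟨N, hN, hNn, ?_⟩
  have hNb : N ≠ ⊥ := by
    rintro rfl
    rw [Subgroup.isComplement'_bot_left] at hNH
    exact hH.2.1 hNH
  have hfpf := (Frob.isFrobeniusComplement_iff_fpf hNH hNb hH.1).mp hH
  have hH1 : Nat.card H ≠ 1 := fun h => hH.1 (Subgroup.card_eq_one.mp h)
  obtain ⟨p, hp, hpH⟩ := Nat.exists_prime_and_dvd hH1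
  have := Fact.mk hp
  obtain ⟨h, hh⟩ := exists_prime_orderOf_dvd_card' p hpH
  have hh1 : (h : G) ≠ 1 := by
    intro h1
    have h2 : h = 1 := Subtype.ext h1
    rw [h2, orderOf_one] at hh
    exact hp.one_lt.ne hh
  refine Frob.isNilpotent_of_fpf_aut hT hp (Nat.card N) N rfl (MulAut.conjNormal (h : G)) ?_ ?_
  · intro g
    have h1 : (h : G) ^ p = 1 := by
      have := pow_orderOf_eq_one h
      rw [hh] at this
      exact congrArg Subtype.val this
    rw [← map_pow, h1, map_one]; rfl
  · intro g hg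
    have h1 : (h : G) * g * (h : G)⁻¹ = g := by
      have := congrArg Subtype.val hg
      rwa [MulAut.conjNormal_apply] at this
    have h2 : (g : G) ∈ N ⊓ Subgroup.centralizer {(h : G)} := by
      refine Subgroup.mem_inf.mpr ⟨g.2, ?_⟩
      rw [Subgroup.mem_centralizer_iff]
      rintro _ rfl
      exact mul_inv_eq_iff_eq_mul.mp h1
    rw [hfpf h h.2 hh1, Subgroup.mem_bot] at h2
    exact Subtype.ext h2

end Cfsg.Agent.S0042
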