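import Cfsg.Statements.S0175
import Cfsg.Agent.H75.Tools
import Cfsg.Agent.Char.Induced
import Cfsg.Agent.Char.IndRep

set_option autoImplicit false
open Cfsg

namespace Cfsg.Agent.S0175

open Cfsg.Agent.CharBase Cfsg.Agent.H75
open scoped commutatorElement

theorem mem_of_ind_one {G : Type*} [Group G] [Fintype G] (H : Subgroup G) (g : G)
    (h : indFun H (fun _ => (1 : ℂ)) g = indFun H (fun _ => (1 : ℂ)) 1) : g ∈ H := by
  classical
  by_contra hg
  have hH : (Nat.card H : ℂ) ≠ 0 := by exact_mod_cast Nat.card_pos.ne'
  have h1 : ∀ y : G, extendByZero H (fun _ => (1 : ℂ)) y = ((if y ∈ H then 1 else 0 : ℕ) : ℂ) := by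
    intro y
    rw [Char.extendByZero_eq_dite]
    by_cases hy : y ∈ H <;> simp [hy]
  unfold indFun at h
  have h2 := mul_left_cancel₀ (inv_ne_zero hH) h
  simp only [h1, mul_one, inv_mul_cancel] at h2
  have h3 : (∑ x : G, (if x⁻¹ * g * x ∈ H then 1 else 0)) = ∑ x : G, (if (1 : G) ∈ H then 1 else 0) := by
    exact_mod_cast h2
  have h4 : ∀ x ∈ (Finset.univ : Finset G), (if x⁻¹ * g * x ∈ H then 1 else 0) ≤
      (if (1 : G) ∈ H then 1 else 0) := by
    intro x _
    rw [if_pos H.one_mem]
    split_ifs <;> omega
  have h5 := (Finset.sum_eq_sum_iff_of_le h4).mp h3 1 (Finset.mem_univ 1)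
  simp only [inv_one, one_mul, mul_one, if_pos H.one_mem, if_neg hg] at h5
  exact absurd h5 (by norm_num)

/-- Taketa's Theorem on M-groups: if every irreducible complex character of a finite group is induced from a linear character (a homomorphism to ℂˣ) of some subgroup, the group is solvable. -/
theorem result {G : Type*} [Group G] [Fintype G] (hM : ∀ χ : G → ℂ, Cfsg.IsIrrCharacter G χ → ∃ (H : Subgroup G) (lam : H →* ℂˣ), χ = Cfsg.indFun H (fun h => (lam h : ℂ))) : Group.IsSolvable G := by
  classical
  have := Fintype.ofFinite (IrrCharacter G)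
  have key : ∀ n : ℕ, ∀ χ : IrrCharacter G, deg χ = n → ∀ g ∈ derivedSeries G n,
      (χ : G → ℂ) g = (χ : G → ℂ) 1 := by
    intro n
    induction n using Nat.strong_induction_on with
    | _ n ih =>
      intro χ hn g hg
      obtain ⟨H, lam, hχ⟩ := hM χ χ.2
      have hidx : H.index = n := by
        have h1 := deg_spec χ
        rw [hχ, Char.indFun_one_apply, map_one, Units.val_one, mul_one, hn] at h1
        exact_mod_cast h1
      have hnpos : 0 < n := by rw [← hn]; exact deg_pos χ
      have hD : derivedSeries G (n - 1) ≤ H := by
        by_cases h1 : n = 1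
        · subst h1
          rw [Subgroup.index_eq_one.mp hidx]
          exact le_top
        · intro x hx
          apply mem_of_ind_one
          have hπ : IsCharacter G (indFun H (fun _ => (1 : ℂ))) :=
            Char.indFun_isCharacter H _ (isCharacter_of_isIrr isIrrCharacter_one)
          have hπ1 : indFun H (fun _ => (1 : ℂ)) 1 = (n : ℂ) := by
            rw [Char.indFun_one_apply, hidx, mul_one]
          obtain ⟨m, hm, hsum⟩ := exists_mult_of_isCharacter hπ
          have hm1 : m (oneIrr G) ≠ 0 := by
            intro h0
            have h2 := hm (oneIrr G)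
            have := Fintype.ofFinite H
            rw [Char.frobenius_reciprocity H _ _ (irr_isClassFunction _)] at h2
            have h3 : classInner (fun _ : H => (1 : ℂ)) (fun h : H => (oneIrr G : G → ℂ) h) = 1 :=
              classInner_irr_self (oneIrr H)
            rw [h3, h0] at h2
            norm_num at h2
          have hdegone : deg (oneIrr G) = 1 := by
            have := deg_spec (oneIrr G)
            rw [oneIrr_apply] at this
            exact_mod_cast this.symm
          have hnsum : n = ∑ ψ : IrrCharacter G, m ψ * deg ψ := by
            have h2 := congrFun hsum 1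
            rw [hπ1] at h2
            have h3 : (n : ℂ) = ((∑ ψ : IrrCharacter G, m ψ * deg ψ : ℕ) : ℂ) := by
              rw [h2]
              simp only [Finset.sum_apply, Pi.smul_apply]
              push_cast
              refine Finset.sum_congr rfl (fun ψ _ => ?_)
              rw [deg_spec]; simp
            exact_mod_cast h3
          rw [hsum]
          simp only [Finset.sum_apply, Pi.smul_apply]
          refine Finset.sum_congr rfl (fun ψ _ => ?_)
          by_cases h0 : m ψ = 0
          · simp [h0]
          · have hlt : deg ψ < n := by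
              by_cases hψ : ψ = oneIrr G
              · rw [hψ, hdegone]; omega
              · have h5 : m (oneIrr G) * deg (oneIrr G) + m ψ * deg ψ ≤ n := by
                  rw [hnsum, ← Finset.sum_pair (fun h => hψ h.symm) (f := fun ψ => m ψ * deg ψ)]
                  exact Finset.sum_le_sum_of_subset (Finset.subset_univ _)
                rw [hdegone, mul_one] at h5
                have h6 : deg ψ ≤ m ψ * deg ψ := Nat.le_mul_of_pos_left _ (Nat.pos_of_ne_zero h0)
                have h7 := Nat.pos_of_ne_zero hm1
                omega
            have h8 : x ∈ derivedSeries G (deg ψ) := derivedSeries_antitone G (by omega) hx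
            rw [ih (deg ψ) hlt ψ rfl x h8]
      -- the commutator of `D` is killed by `lam`
      have hn2 : n = (n - 1) + 1 := by omega
      have hDn : (derivedSeries G (n - 1)).Normal := derivedSeries_normal G _
      have hcomm : ⁅derivedSeries G (n - 1), derivedSeries G (n - 1)⁆ ≤
          (lam.ker).map H.subtype := by
        rw [Subgroup.commutator_le]
        intro a ha b hb
        refine ⟨⁅(⟨a, hD ha⟩ : H), ⟨b, hD hb⟩⁆, ?_, ?_⟩
        · change lam _ = 1
          rw [map_commutatorElement]
          exact commutatorElement_eq_one_iff_mul_comm.mpr (mul_comm _ _)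
        · rfl
      have hval : ∀ x : G, extendByZero H (fun h => (lam h : ℂ)) (x⁻¹ * g * x) = 1 := by
        intro x
        have h1 : x⁻¹ * g * x ∈ derivedSeries G n := by
          have := (derivedSeries_normal G n).conj_mem g hg x⁻¹
          simpa using this
        rw [hn2, derivedSeries_succ] at h1
        obtain ⟨y, hy, hyx⟩ := hcomm h1
        rw [← hyx]
        have h2 : extendByZero H (fun h => (lam h : ℂ)) (H.subtype y) = (lam y : ℂ) :=
          Char.extendByZero_coe H _ y
        rw [h2]
        have h3 : lam y = 1 := hy
        rw [h3]; simp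
      rw [hχ]
      unfold indFun
      congr 1
      refine Finset.sum_congr rfl (fun x _ => ?_)
      rw [hval x]
      have h1 : x⁻¹ * (1 : G) * x = ((1 : H) : G) := by simp
      rw [h1, Char.extendByZero_coe H]
      simp
  refine ⟨Nat.card G, ?_⟩
  rw [eq_bot_iff]
  intro g hg
  rw [Subgroup.mem_bot]
  apply isConj_one_left.mp
  apply isConj_of_irr_eq
  intro χ
  refine key (deg χ) χ rfl g (derivedSeries_antitone G ?_ hg)
  exact Nat.le_of_dvd Nat.card_pos (deg_dvd χ)

end Cfsg.Agent.S0175
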