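import Cfsg.Statements.S0519
import Cfsg.Agent.H9.CyclicNormal
import Cfsg.Agent.FourGraph.Basic

set_option autoImplicit false
open Cfsg

namespace Cfsg.Agent.S0519

/-- Let P be a finite p-group in which every abelian normal subgroup is cyclic, but which has a non-cyclic abelian
subgroup. Then p = 2 and P is generalized quaternion, dihedral of order at least 16, or quasi-dihedral. -/
theorem result {P : Type*} [Group P] [Finite P] (p : ℕ) [Fact p.Prime]
    (hP : IsPGroup p P) (hn : ∀ A : Subgroup P, A.Normal → IsMulCommutative A → IsCyclic A)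
    (hm : ∃ B : Subgroup P, IsMulCommutative B ∧ ¬ IsCyclic B) :
    p = 2 ∧ ((∃ n : ℕ, Nonempty (P ≃* QuaternionGroup n)) ∨ (∃ n : ℕ, 8 ≤ n ∧ Nonempty (P ≃* DihedralGroup n)) ∨
      Cfsg.IsQuasiDihedral P) := by
  have hna : ∃ x y : P, x * y ≠ y * x := by
    by_contra hcon
    push Not at hcon
    obtain ⟨B, -, hBc⟩ := hm
    have h1 : IsMulCommutative (⊤ : Subgroup P) :=
      ⟨⟨fun x y => Subtype.ext (hcon x y)⟩⟩
    have h2 : IsCyclic (⊤ : Subgroup P) := hn ⊤ inferInstance h1
    exact hBc (Subgroup.isCyclic_of_le (le_top : B ≤ ⊤))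
  obtain ⟨hp2, a, hAn, hcent, hidx, m, hm2, ham⟩ :=
    Cfsg.Agent.H9.exists_cyclic_index_two hP hn hna
  subst hp2
  refine ⟨rfl, ?_⟩
  have hcard : Nat.card P = 2 ^ (m + 1) := by
    rw [← Subgroup.card_mul_index (Subgroup.zpowers a), hidx, Nat.card_zpowers, ham, pow_succ]
  obtain ⟨a', b', hz, ha', hb', hrel⟩ := Cfsg.Agent.MaxClass.two_group_cyclic_max (m + 1) (by omega)
    hcard (Subgroup.zpowers a) inferInstance hidx hna
  have e1 : m + 1 - 1 = m := by omega
  have e2 : m + 1 - 2 = m - 1 := by omega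
  rw [e1] at ha'
  rw [e2] at hrel
  have hnoE : ∀ E : Subgroup P, E.Normal → IsMulCommutative E → (∀ e ∈ E, e ^ 2 = 1) →
      Nat.card E ≠ 4 := by
    intro E hEn hEab hE2 hEc
    obtain ⟨e, he⟩ := (Subgroup.isCyclic_iff_exists_zpowers_eq_top E).1 (hn E hEn hEab)
    have h1 : orderOf e = 4 := by rw [← Nat.card_zpowers, he, hEc]
    have h2 := orderOf_dvd_of_pow_eq_one (hE2 e (by rw [← he]; exact Subgroup.mem_zpowers e))
    rw [h1] at h2
    omega
  rcases hrel with ⟨hb2, hconj⟩ | ⟨hb2, hconj⟩ | ⟨hm4, hb2, hconj⟩ | ⟨hm4, hb2, hconj⟩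
  · right; left
    refine ⟨2 ^ m, ?_, ?_⟩
    · by_contra hlt
      have hm' : m = 2 := by
        by_contra hne
        have : 2 ^ 3 ≤ 2 ^ m := Nat.pow_le_pow_right (by norm_num) (by omega)
        omega
      subst hm'
      -- normal four-subgroup
      have ha4 : a' ^ 4 = 1 := by
        have := pow_orderOf_eq_one a'
        rwa [ha'] at this
      have haa : a' ^ 2 * a' ^ 2 = 1 := by rw [← pow_add]; exact ha4
      have hbb : b' * b' = 1 := by rw [← pow_two]; exact hb2
      have ha2 : a' ^ 2 ≠ 1 := by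
        intro h
        have h1 := orderOf_dvd_of_pow_eq_one h
        rw [ha'] at h1
        omega
      have hb1 : b' ≠ 1 := fun h => hb' (by rw [h]; exact one_mem _)
      have hne : a' ^ 2 ≠ b' := fun h => hb' (by rw [← h]; exact pow_mem (Subgroup.mem_zpowers _) 2)
      have hcm : a' ^ 2 * b' = b' * a' ^ 2 := by
        have h1 := Cfsg.Agent.H9.conj_zpow_inv hconj 2
        have h2 : a' ^ (-2 : ℤ) = a' ^ (2 : ℤ) := by
          rw [zpow_neg, inv_eq_iff_mul_eq_one]
          exact_mod_cast haa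
        rw [h2] at h1
        exact_mod_cast h1
      have hK := Cfsg.Agent.FourGraph.isKleinFour_fourSubgroup (ha := haa) (hb := hbb)
        (hab := hcm) ha2 hb1 hne
      have hKi : (Cfsg.Agent.FourGraph.fourSubgroup (a' ^ 2) b' haa hbb hcm).index = 2 := by
        have h1 := Subgroup.card_mul_index (Cfsg.Agent.FourGraph.fourSubgroup (a' ^ 2) b' haa hbb hcm)
        rw [hK.card_four, hcard] at h1
        omega
      exact hnoE _ (Subgroup.normal_of_index_eq_two hKi) IsKleinFour.isMulCommutative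
        (fun e he => by rw [pow_two]; exact Cfsg.Agent.FourGraph.mul_self_of_mem hK he) hK.card_four
    · exact Cfsg.Agent.H9.nonempty_mulEquiv_dihedralGroup (2 ^ m) (by positivity) ha' hb' hb2 hconj
        (by rw [hcard, pow_succ, mul_comm])
  · left
    refine ⟨2 ^ (m - 1), Cfsg.Agent.H9.nonempty_mulEquiv_quaternionGroup (2 ^ (m - 1))
      (by positivity) ?_ hb' hb2 hconj ?_⟩
    · rw [ha', ← pow_succ']; congr 1; omega
    · rw [hcard]
      have : m + 1 = (m - 1) + 2 := by omega
      rw [this, pow_add]; ring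
  · exfalso
    rw [← hz] at hAn hcent
    obtain ⟨E, hEn, hEab, hE2, hEc⟩ := Cfsg.Agent.H9.exists_normal_elementary_of_conj (p := 2) a' hAn
      hcent m ha' hm2 (fun _ => by omega) b' hb' (1 + 2 ^ (m - 1)) (by rw [hconj]; norm_cast)
      ⟨1, by push_cast; ring⟩
    exact hnoE E hEn hEab hE2 (by rw [hEc]; norm_num)
  · right; right
    refine ⟨m, by omega, hcard, a', b', ha', ?_, hconj⟩
    exact orderOf_eq_prime hb2 (fun h => hb' (by rw [h]; exact one_mem _))

end Cfsg.Agent.S0519
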