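import Cfsg.Statements.S1898
import Mathlib.GroupTheory.PGroup
import Mathlib.GroupTheory.Commutator.Basic
import Mathlib.GroupTheory.Abelianization.Defs
import Mathlib.Tactic.Group

set_option autoImplicit false
open Cfsg

namespace Cfsg.Agent.S1898

open scoped commutatorElement in
lemma pow_four_mul {X : Type*} [Group X] (hel : ∀ a ∈ commutator X, a ^ 2 = 1)
    (hcen : commutator X ≤ Subgroup.center X) (x y : X) : (x * y) ^ 4 = x ^ 4 * y ^ 4 := by
  set c := ⁅y, x⁆ with hc
  have hcm : c ∈ commutator X := by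
    rw [commutator_def]
    exact Subgroup.commutator_mem_commutator (Subgroup.mem_top _) (Subgroup.mem_top _)
  have hc2 : c ^ 2 = 1 := hel c hcm
  have hcc : ∀ g, g * c = c * g := Subgroup.mem_center_iff.1 (hcen hcm)
  have h1 : y * x = c * (x * y) := by
    rw [hc, commutatorElement_def]; group
  have h2 : y * x ^ 2 = x ^ 2 * y := by
    calc y * x ^ 2 = (y * x) * x := by rw [pow_two, mul_assoc]
      _ = c * x * (y * x) := by rw [h1]; simp only [mul_assoc]; rw [h1]
      _ = c * (x * c) * (x * y) := by rw [h1]; simp only [mul_assoc]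
      _ = c ^ 2 * x ^ 2 * y := by rw [hcc]; simp only [pow_two, mul_assoc]
      _ = x ^ 2 * y := by rw [hc2, one_mul]
  have h3 : (x * y) ^ 2 = c * (x ^ 2 * y ^ 2) := by
    calc (x * y) ^ 2 = x * (y * x) * y := by rw [pow_two]; simp only [mul_assoc]
      _ = (x * c) * (x * y) * y := by rw [h1]; simp only [mul_assoc]
      _ = c * (x ^ 2 * y ^ 2) := by rw [hcc]; simp only [pow_two, mul_assoc]
  have h4 : y ^ 2 * x ^ 2 = x ^ 2 * y ^ 2 := by
    calc y ^ 2 * x ^ 2 = y * (y * x ^ 2) := by simp only [pow_two, mul_assoc]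
      _ = (y * x ^ 2) * y := by rw [h2, ← mul_assoc, h2]
      _ = x ^ 2 * y ^ 2 := by rw [h2]; simp only [pow_two, mul_assoc]
  calc (x * y) ^ 4 = ((x * y) ^ 2) ^ 2 := by rw [← pow_mul]
    _ = c * ((x ^ 2 * y ^ 2) * c) * (x ^ 2 * y ^ 2) := by rw [h3, pow_two]; simp only [mul_assoc]
    _ = c ^ 2 * (x ^ 2 * (y ^ 2 * x ^ 2) * y ^ 2) := by rw [hcc]; simp only [pow_two, mul_assoc]
    _ = x ^ 4 * y ^ 4 := by
      rw [hc2, h4, one_mul, ← mul_assoc, ← pow_add, mul_assoc, ← pow_add]

lemma fixes_aux {X : Type*} [Group X] (h4 : ∀ x y : X, (x * y) ^ 4 = x ^ 4 * y ^ 4)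
    (φ : MulAut X) (hφ : ∀ g : X, g ^ 4 = 1 → φ g = g) (j : ℕ) :
    ∀ g : X, g ^ (2 ^ (j + 2)) = 1 → (φ ^ (4 ^ j)) g = g := by
  induction j with
  | zero => intro g hg; simpa using hφ g (by simpa using hg)
  | succ j ih =>
    intro g hg
    set ψ := φ ^ (4 ^ j) with hψ
    have h1 : ψ (g ^ 2) = g ^ 2 := by
      apply ih
      rw [← pow_mul, ← hg]
      congr 1
      ring
    have h2 : (ψ g) ^ 2 = g ^ 2 := by rw [← map_pow, h1]
    have h3 : (g⁻¹ * ψ g) ^ 4 = 1 := by
      rw [h4]
      have : (ψ g) ^ 4 = g ^ 4 := by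
        calc (ψ g) ^ 4 = ((ψ g) ^ 2) ^ 2 := by rw [← pow_mul]
          _ = g ^ 4 := by rw [h2, ← pow_mul]
      rw [this]; group
    have h5 : ψ (g⁻¹ * ψ g) = g⁻¹ * ψ g := by
      apply ih
      have : 2 ^ (j + 2) = 4 * 2 ^ j := by ring
      rw [this, pow_mul, h3, one_pow]
    set c := g⁻¹ * ψ g with hcdef
    have h6 : ψ g = g * c := by rw [hcdef]; group
    have h7 : ∀ i : ℕ, (ψ ^ i) g = g * c ^ i := by
      intro i
      induction i with
      | zero => simp
      | succ i ihi =>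
        rw [pow_succ', MulAut.mul_apply, ihi, map_mul, map_pow, h5, h6, mul_assoc, ← pow_succ']
    have h8 : φ ^ (4 ^ (j + 1)) = ψ ^ 4 := by
      rw [hψ, ← pow_mul, pow_succ]
    rw [h8, h7, h3, mul_one]

/-- Let X be a finite 2-group whose derived subgroup is elementary abelian and central. Then the subgroup generated by the elements of order dividing 4 has exponent dividing 4, and every automorphism of X fixing each element of order dividing 4 has 2-power order. -/
theorem result {X : Type*} [Group X] [Finite X] (hX : IsPGroup 2 X)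
    (hel : Cfsg.IsElementaryAbelian 2 (commutator X)) (hcen : commutator X ≤ Subgroup.center X) :
    (∀ x ∈ Subgroup.closure {g : X | g ^ 4 = 1}, x ^ 4 = 1) ∧
      ∀ φ : MulAut X, (∀ g : X, g ^ 4 = 1 → φ g = g) → ∃ k : ℕ, φ ^ (2 ^ k) = 1 := by
  have h4 := pow_four_mul hel.2 hcen
  refine ⟨?_, ?_⟩
  · intro x hx
    induction hx using Subgroup.closure_induction with
    | mem x hx => exact hx
    | one => simp
    | mul x y _ _ hx hy => rw [h4, hx, hy, one_mul]
    | inv x _ hx => rw [inv_pow, hx, inv_one]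
  · intro φ hφ
    obtain ⟨e, he⟩ := hX.exists_card_eq
    refine ⟨2 * e, ?_⟩
    ext g
    have h5 := fixes_aux h4 φ hφ e g (by
      have : g ^ (2 ^ e) = 1 := by rw [← he]; exact pow_card_eq_one'
      rw [pow_add, pow_mul, this, one_pow])
    have : 2 ^ (2 * e) = 4 ^ e := by rw [pow_mul]; norm_num
    rw [this, h5]
    rfl

end Cfsg.Agent.S1898
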