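import Cfsg.Statements.S3889
-- import your own Cfsg.Agent.* helpers here

set_option autoImplicit false
open Cfsg

namespace Cfsg.Agent.S3889

/-- version with a commutativity hypothesis instead of a `CommGroup` instance -/
theorem exponent_prime {G : Type*} [Group G] [Finite G] (hcomm : ∀ a b : G, a * b = b * a)
    (𝓑 : Set (Subgroup G)) (hprop : ∀ B ∈ 𝓑, B ≠ ⊤)
    (hcov : ∀ g : G, ∃ B ∈ 𝓑, g ∈ B) (hdisj : ∀ B ∈ 𝓑, ∀ C ∈ 𝓑, B ≠ C → B ⊓ C = ⊥) :
    (Monoid.exponent G).Prime := by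
  -- key: different blocks
  have key : ∀ B ∈ 𝓑, ∀ x ∈ B, x ≠ 1 → ∀ y, y ∉ B → orderOf y ∣ orderOf x := by
    intro B hB x hx hx1 y hy
    obtain ⟨C, hC, hyC⟩ := hcov y
    obtain ⟨D, hD, hxyD⟩ := hcov (x * y)
    have hBC : B ≠ C := by rintro rfl; exact hy hyC
    have hCD : C ≠ D := by
      rintro rfl
      have h1 : x ∈ C := by
        have := C.mul_mem hxyD (C.inv_mem hyC)
        simpa using this
      have h2 : x ∈ B ⊓ C := ⟨hx, h1⟩
      rw [hdisj B hB C hC hBC] at h2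
      exact hx1 (Subgroup.mem_bot.mp h2)
    have hc : Commute x y := hcomm x y
    have h3 : (x * y) ^ orderOf x = y ^ orderOf x := by
      rw [hc.mul_pow, pow_orderOf_eq_one, one_mul]
    have h4 : y ^ orderOf x ∈ C ⊓ D := ⟨C.pow_mem hyC _, h3 ▸ D.pow_mem hxyD _⟩
    rw [hdisj C hC D hD hCD] at h4
    exact orderOf_dvd_of_pow_eq_one (Subgroup.mem_bot.mp h4)
  have key2 : ∀ B ∈ 𝓑, ∀ x ∈ B, x ≠ 1 → ∀ y, y ∉ B → orderOf y = orderOf x := by
    intro B hB x hx hx1 y hy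
    apply Nat.dvd_antisymm (key B hB x hx hx1 y hy)
    obtain ⟨C, hC, hyC⟩ := hcov y
    have hBC : B ≠ C := by rintro rfl; exact hy hyC
    have hy1 : y ≠ 1 := by rintro rfl; exact hy B.one_mem
    apply key C hC y hyC hy1
    intro hxC
    have h2 : x ∈ B ⊓ C := ⟨hx, hxC⟩
    rw [hdisj B hB C hC hBC] at h2
    exact hx1 (Subgroup.mem_bot.mp h2)
  have hout : ∀ B ∈ 𝓑, ∃ y, y ∉ B := by
    intro B hB
    by_contra h
    push Not at h
    exact hprop B hB ((Subgroup.eq_top_iff' B).mpr h)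
  have key3 : ∀ x y : G, x ≠ 1 → y ≠ 1 → orderOf x = orderOf y := by
    intro x y hx hy
    obtain ⟨B, hB, hxB⟩ := hcov x
    by_cases hyB : y ∈ B
    · obtain ⟨z, hz⟩ := hout B hB
      rw [← key2 B hB x hxB hx z hz, ← key2 B hB y hyB hy z hz]
    · exact (key2 B hB x hxB hx y hyB).symm
  obtain ⟨B, hB, -⟩ := hcov 1
  obtain ⟨y0, hy0⟩ := hout B hB
  have hy01 : y0 ≠ 1 := by rintro rfl; exact hy0 B.one_mem
  have hn1 : orderOf y0 ≠ 1 := by rwa [Ne, orderOf_eq_one_iff]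
  obtain ⟨q, hq, hqn⟩ := Nat.exists_prime_and_dvd hn1
  have hnt : Nontrivial G := ⟨⟨y0, 1, hy01⟩⟩
  have horder : orderOf (y0 ^ (orderOf y0 / q)) = q := by
    apply orderOf_pow_orderOf_div (orderOf_pos y0).ne' hqn
  have hne : y0 ^ (orderOf y0 / q) ≠ 1 := by
    intro h
    rw [h, orderOf_one] at horder
    exact hq.one_lt.ne horder
  have hexp : Monoid.exponent G = q := by
    have hall : ∀ g : G, g ≠ 1 → orderOf g = q := by
      intro g hg
      rw [← horder]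
      exact key3 g _ hg hne
    rw [Monoid.exponent_eq_prime_iff hq]
    exact hall
  rw [hexp]
  exact hq

/-- A finite abelian group that is the union of a family of proper subgroups any two of which intersect trivially is elementary abelian: its exponent is a prime. -/
theorem result {G : Type*} [CommGroup G] [Finite G] (𝓑 : Set (Subgroup G)) (hprop : ∀ B ∈ 𝓑, B ≠ ⊤)
    (hcov : ∀ g : G, ∃ B ∈ 𝓑, g ∈ B) (hdisj : ∀ B ∈ 𝓑, ∀ C ∈ 𝓑, B ≠ C → B ⊓ C = ⊥) :
    (Monoid.exponent G).Prime :=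
  exponent_prime mul_comm 𝓑 hprop hcov hdisj

end Cfsg.Agent.S3889
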