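import Cfsg.Statements.S0635
import Cfsg.Agent.H63.PLen
import Cfsg.Agent.H76.PSolvable
import Cfsg.Agent.Solv.Core
-- import your own Cfsg.Agent.* helpers here

set_option autoImplicit false
open Cfsg

namespace Cfsg.Agent.S0635

universe u

theorem isNilpotent_of_sylow {G : Type*} [Group G] [Finite G] {p : ℕ} [Fact p.Prime] (S : Sylow p G) :
    Group.IsNilpotent ↥(S : Subgroup G) := S.2.isNilpotent

theorem aux {p : ℕ} [Fact p.Prime] (c : ℕ) : ∀ (G : Type u) [Group G] [Finite G],
    Cfsg.IsPSolvable p G → ∀ S : Sylow p G, Group.nilpotencyClass ↥(S : Subgroup G) ≤ c →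
      Cfsg.PLengthLE p c G := by
  induction c with
  | zero =>
    intro G _ _ hsol S hS
    have hn := isNilpotent_of_sylow S
    rw [Nat.le_zero, nilpotencyClass_zero_iff_subsingleton] at hS
    apply H63.pLengthLE_zero_iff.2
    rw [Nat.coprime_comm, Nat.Prime.coprime_iff_not_dvd Fact.out]
    intro hd
    have h1 := S.card_eq_multiplicity
    have h2 : Nat.card ↥(S : Subgroup G) = 1 := Nat.card_unique
    rw [h2] at h1
    have h3 : p ∣ p ^ (Nat.card G).factorization p := by
      apply dvd_pow_self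
      have := (Fact.out : p.Prime).factorization_pos_of_dvd Nat.card_pos.ne' hd
      omega
    rw [← h1] at h3
    exact (Fact.out : p.Prime).one_lt.ne' (Nat.dvd_one.1 h3)
  | succ c ih =>
    intro G _ _ hsol S hS
    have hn := isNilpotent_of_sylow S
    apply H63.pLengthLE_of_quotient_coprime (Cfsg.pPrimeCore p G) (Solv.pPrimeCore_card_coprime p)
    obtain ⟨G₁, hG₁, hfin, f, hf, hsol₁, hcore⟩ : ∃ (G₁ : Type u) (_ : Group G₁) (_ : Finite G₁)
        (f : (G ⧸ Cfsg.pPrimeCore p G) ≃* G₁), Function.Surjective f ∧ Cfsg.IsPSolvable p G₁ ∧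
        Cfsg.pPrimeCore p G₁ = ⊥ :=
      ⟨G ⧸ Cfsg.pPrimeCore p G, inferInstance, inferInstance, MulEquiv.refl _,
        Function.surjective_id, H76.isPSolvable_quotient _ hsol, Solv.pPrimeCore_quotient_pPrimeCore p⟩
    have hred : Cfsg.PLengthLE p (c + 1) G₁ → Cfsg.PLengthLE p (c + 1) (G ⧸ Cfsg.pPrimeCore p G) :=
      fun h => H63.pLengthLE_of_injective h f.toMonoidHom f.injective
    apply hred
    -- the Sylow subgroup of `G₁`
    let φ : G →* G₁ := f.toMonoidHom.comp (QuotientGroup.mk' (Cfsg.pPrimeCore p G))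
    have hφ : Function.Surjective φ := f.surjective.comp (QuotientGroup.mk'_surjective _)
    obtain ⟨S₁, hS₁⟩ : ∃ S₁ : Sylow p G₁, (S₁ : Subgroup G₁) = (S : Subgroup G).map φ :=
      ⟨S.mapSurjective hφ, rfl⟩
    have hn₁ := isNilpotent_of_sylow S₁
    have hcl₁ : Group.nilpotencyClass ↥(S₁ : Subgroup G₁) ≤ c + 1 := by
      refine le_trans ?_ hS
      rw [hS₁]
      exact nilpotencyClass_le_of_surjective (φ.subgroupMap (S : Subgroup G))
        (MonoidHom.subgroupMap_surjective _ _)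
    apply H63.pLengthLE_of_quotient_pgroup (Cfsg.pCore p G₁) (Solv.pCore_isPGroup p)
    obtain ⟨S₂, hS₂⟩ : ∃ S₂ : Sylow p (G₁ ⧸ Cfsg.pCore p G₁), (S₂ : Subgroup (G₁ ⧸ Cfsg.pCore p G₁)) =
        (S₁ : Subgroup G₁).map (QuotientGroup.mk' (Cfsg.pCore p G₁)) :=
      ⟨S₁.mapSurjective (QuotientGroup.mk'_surjective _), rfl⟩
    apply ih _ (H76.isPSolvable_quotient _ hsol₁) S₂
    rw [hS₂]
    have hPS : Cfsg.pCore p G₁ ≤ (S₁ : Subgroup G₁) := Solv.pCore_le_sylow S₁
    have hcent := H76.centralizer_pCore_le hsol₁ hcore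
    let ψ : ↥(S₁ : Subgroup G₁) →* ↥((S₁ : Subgroup G₁).map (QuotientGroup.mk' (Cfsg.pCore p G₁))) :=
      (QuotientGroup.mk' (Cfsg.pCore p G₁)).subgroupMap (S₁ : Subgroup G₁)
    have hψ : Function.Surjective ψ := MonoidHom.subgroupMap_surjective _ _
    have hZ : Subgroup.center ↥(S₁ : Subgroup G₁) ≤ ψ.ker := by
      intro z hz
      rw [MonoidHom.mem_ker]
      apply Subtype.ext
      show QuotientGroup.mk' (Cfsg.pCore p G₁) (z : G₁) = 1
      apply (QuotientGroup.eq_one_iff (z : G₁)).2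
      apply hcent
      rw [Subgroup.mem_centralizer_iff]
      intro y hy
      have := Subgroup.mem_center_iff.1 hz ⟨y, hPS hy⟩
      exact congrArg Subtype.val this
    let χ := QuotientGroup.lift (Subgroup.center ↥(S₁ : Subgroup G₁)) ψ hZ
    have hχ : Function.Surjective χ := by
      intro y
      obtain ⟨x, rfl⟩ := hψ y
      exact ⟨QuotientGroup.mk x, rfl⟩
    have h1 := nilpotencyClass_le_of_surjective χ hχ
    have h2 : Group.nilpotencyClass (↥(S₁ : Subgroup G₁) ⧸ Subgroup.center ↥(S₁ : Subgroup G₁)) =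
      Group.nilpotencyClass ↥(S₁ : Subgroup G₁) - 1 := nilpotencyClass_quotient_center
    omega

/-- The p-length of a p-soluble group is at most the nilpotency class of its Sylow p-subgroups. -/
theorem result {G : Type*} [Group G] [Finite G] {p : ℕ} [Fact p.Prime] (hsol : Cfsg.IsPSolvable p G) (S : Sylow p G) : Cfsg.PLengthLE p (Group.nilpotencyClass ↥(S : Subgroup G)) G := by
  exact aux _ G hsol S le_rfl

end Cfsg.Agent.S0635
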