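import Cfsg.Statements.S4133
import Cfsg.Agent.H70.HallAb
import Cfsg.Agent.H69.Basic

set_option autoImplicit false
open Cfsg

namespace Cfsg.Agent.S4133

open Subgroup Cfsg.Agent.H70.HallAb Cfsg.Agent.SigF Cfsg.Agent

universe u

open scoped IsMulCommutative in
/-- abelian Sylow subgroups meet `G' ∩ Z(G)` trivially -/
theorem sylow_center {G : Type u} [Group G] [Finite G] {p : ℕ} [hp : Fact p.Prime] (P : Sylow p G)
    (hP : IsMulCommutative (P : Subgroup G)) {z : G} (hz : z ∈ center G) (hz' : z ∈ commutator G) (hzP : z ∈ P) :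
    z = 1 := by
  have h0 : ∀ (k : ℕ) (g₀ : G), g₀⁻¹ * z ^ k * g₀ ∈ (P : Subgroup G) → g₀⁻¹ * z ^ k * g₀ = z ^ k := by
    intro k g₀ _
    have h1 : z ^ k ∈ center G := pow_mem hz k
    rw [mul_assoc, ← mem_center_iff.1 h1 g₀, inv_mul_cancel_left]
  have key := MonoidHom.transfer_eq_pow (H := (P : Subgroup G)) (MonoidHom.id (P : Subgroup G)) z h0
  have h1 : MonoidHom.transfer (MonoidHom.id (P : Subgroup G)) z = 1 :=
    MonoidHom.mem_ker.1 (Abelianization.commutator_subset_ker _ hz')
  rw [h1] at key
  have h2 : z ^ (P : Subgroup G).index = 1 := (congrArg Subtype.val key).symm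
  obtain ⟨k, hk⟩ := Transfer.isPGroup_mem_pow P.2 hzP
  have h3 : ((P : Subgroup G).index).Coprime (p ^ k) := by
    apply Nat.Coprime.pow_right
    rw [Nat.coprime_comm, Nat.Prime.coprime_iff_not_dvd hp.out]
    exact P.not_dvd_index
  exact orderOf_eq_one_iff.1 (Nat.eq_one_of_dvd_coprimes h3 (orderOf_dvd_of_pow_eq_one h2) (orderOf_dvd_of_pow_eq_one hk))

/-- all class sizes odd implies solvable -/
theorem solv_of_odd {G : Type u} [Group G] [Finite G] (h : ∀ g : G, ¬ 2 ∣ (centralizer ({g} : Set G)).index) :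
    Group.IsSolvable G := by
  obtain ⟨P⟩ : Nonempty (Sylow 2 G) := inferInstance
  have h1 := H69.sylow_le_center_of_forall_not_dvd h P
  have hn : (P : Subgroup G).Normal := by
    refine ⟨fun n hn g => ?_⟩
    rw [mem_center_iff.1 (h1 hn) g, mul_inv_cancel_right]
    exact hn
  have h2 : Group.IsSolvable (P : Subgroup G) :=
    Group.isSolvable_of_comm fun a b => Subtype.ext (mem_center_iff.1 (h1 b.2) a)
  have h3 : Group.IsSolvable (G ⧸ (P : Subgroup G)) := by
    apply FT.solvable_of_odd
    rw [← index_eq_card, ← Nat.not_even_iff_odd]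
    intro h4
    exact P.not_dvd_index h4.two_dvd
  exact (Group.isSolvable_iff_subgroup_quotient (P : Subgroup G)).2 ⟨h2, h3⟩

theorem main {G : Type u} [Group G] [Finite G]
    (hA : ∀ (p : ℕ) [Fact p.Prime] (P : Sylow p G), IsMulCommutative (P : Subgroup G))
    (a : ℕ) (hmax : ∀ y : G, ¬ 2 ^ (a + 1) ∣ (Subgroup.centralizer ({y} : Set G)).index)
    (x : G) (hx : (Subgroup.centralizer ({x} : Set G)).index = 2 ^ a) :
    Group.IsSolvable G := by
  have hab : Ab2 G := by
    intro Q hQ y hy z hz
    obtain ⟨P, hP⟩ := hQ.exists_le_sylow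
    exact congrArg Subtype.val ((hA 2 P).is_comm.comm ⟨y, hP hy⟩ ⟨z, hP hz⟩)
  set C : Subgroup G := centralizer ({x} : Set G) with hC
  set M : Subgroup G := C.normalCore with hM
  have hMC : M ≤ C := C.normalCore_le
  -- a Sylow subgroup of `C`
  obtain ⟨T, hT⟩ := exists_isSyl 2 C
  obtain ⟨S, hS⟩ := hT.isPGroup.exists_le_sylow
  have hSC : ∀ g : G, ∃ s ∈ (S : Subgroup G), ∃ d ∈ C, g = s * d := by
    apply H72.exists_mul_of_coprime_index
    rw [hx]
    apply Nat.Coprime.pow_right
    rw [Nat.coprime_comm, Nat.Prime.coprime_iff_not_dvd Nat.prime_two]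
    exact S.not_dvd_index
  have hTM : T ≤ M := by
    intro t ht b
    obtain ⟨s, hs, d, hd, e⟩ := hSC b⁻¹
    have hts : t * s = s * t := hab _ S.2 t (hS ht) s hs
    have htx : t * x = x * t := mem_centralizer_singleton_iff.1 (hT.le ht)
    have hdx : d * x = x * d := mem_centralizer_singleton_iff.1 hd
    have e' : b = d⁻¹ * s⁻¹ := by rw [← inv_inv b, e]; group
    rw [e', mem_centralizer_singleton_iff]
    -- `b t b⁻¹ = d⁻¹ t d`
    have h1 : d⁻¹ * s⁻¹ * t * (d⁻¹ * s⁻¹)⁻¹ = d⁻¹ * t * d := by
      calc d⁻¹ * s⁻¹ * t * (d⁻¹ * s⁻¹)⁻¹ = d⁻¹ * s⁻¹ * (t * s) * d := by group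
        _ = d⁻¹ * s⁻¹ * (s * t) * d := by rw [hts]
        _ = d⁻¹ * t * d := by group
    rw [h1]
    calc d⁻¹ * t * d * x = d⁻¹ * t * (d * x) := by group
      _ = d⁻¹ * t * (x * d) := by rw [hdx]
      _ = d⁻¹ * (t * x) * d := by group
      _ = d⁻¹ * (x * t) * d := by rw [htx]
      _ = d⁻¹ * (x * d) * (d⁻¹ * t * d) := by group
      _ = d⁻¹ * (d * x) * (d⁻¹ * t * d) := by rw [hdx]
      _ = x * (d⁻¹ * t * d) := by group
  -- `G / M`
  have hQ : Group.IsSolvable (G ⧸ M) := by
    refine Cfsg.Agent.H70.HallAb.solvable (hab.quot M) ⟨C.map (QuotientGroup.mk' M), ?_, ?_⟩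
    · have h1 := relIndex_ker C (QuotientGroup.mk' M)
      rw [QuotientGroup.ker_mk'] at h1
      rw [← h1]
      intro hd
      apply hT.not_dvd_relIndex
      rw [← relIndex_mul_relIndex T M C hTM hMC]
      exact hd.mul_left _
    · have h1 : (C.map (QuotientGroup.mk' M)).index ∣ C.index := index_map_dvd C (QuotientGroup.mk'_surjective M)
      rw [hx] at h1
      obtain ⟨i, -, hi⟩ := (Nat.dvd_prime_pow Nat.prime_two).1 h1
      exact ⟨i, hi⟩
  -- `M` is solvable
  set N : Subgroup G := normalClosure ({x} : Set G) with hN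
  have hxN : x ∈ N := subset_normalClosure rfl
  have hMN : ∀ m ∈ M, ∀ y ∈ N, y * m = m * y := by
    intro m hm
    have h1 : N ≤ centralizer ({m} : Set G) := by
      rw [hN, normalClosure, closure_le]
      intro z hz
      rw [Group.mem_conjugatesOfSet_iff] at hz
      obtain ⟨w, hw, hwz⟩ := hz
      rw [Set.mem_singleton_iff] at hw
      subst hw
      obtain ⟨b, hb⟩ := isConj_iff.1 hwz
      rw [SetLike.mem_coe, mem_centralizer_singleton_iff, ← hb]
      have h2 : b⁻¹ * m * b⁻¹⁻¹ ∈ C := hm b⁻¹
      have h3 := mem_centralizer_singleton_iff.1 h2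
      calc b * w * b⁻¹ * m = b * (w * (b⁻¹ * m * b⁻¹⁻¹)) * b⁻¹ := by group
        _ = b * (b⁻¹ * m * b⁻¹⁻¹ * w) * b⁻¹ := by rw [h3]
        _ = m * (b * w * b⁻¹) := by group
    intro y hy
    exact mem_centralizer_singleton_iff.1 (h1 hy)
  set L : Subgroup G := ⁅M, M⁆ with hL
  have hLM : L ≤ M := commutator_le_self M
  have hLmap : L = (commutator M).map M.subtype := (map_subtype_commutator M).symm
  have hLN : L ⊓ N = ⊥ := by
    rw [eq_bot_iff]
    rintro y ⟨hyL, hyN⟩
    rw [mem_bot]
    by_contra hy1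
    obtain ⟨q, hq, hqd⟩ := Nat.exists_prime_and_dvd (fun h => hy1 (orderOf_eq_one_iff.1 h))
    have : Fact q.Prime := ⟨hq⟩
    rw [hLmap] at hyL
    obtain ⟨w, hw, hwy⟩ := hyL
    have hwy' : (w : G) = y := hwy
    have hwo : orderOf w = orderOf y := by rw [← hwy']; exact (orderOf_coe w).symm
    set z : M := w ^ (orderOf w / q) with hz
    have hzo : orderOf z = q := by
      rw [hz]
      exact orderOf_pow_orderOf_div (orderOf_pos w).ne' (hwo ▸ hqd)
    have hwc : w ∈ center M := by
      rw [mem_center_iff]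
      intro g
      apply Subtype.ext
      show (g : G) * w = w * g
      rw [hwy']
      exact (hMN g g.2 y hyN).symm
    have hzp : IsPGroup q (zpowers z) := IsPGroup.of_card (n := 1) (by rw [Nat.card_zpowers, hzo, pow_one])
    obtain ⟨P, hP⟩ := hzp.exists_le_sylow
    have hPc : IsMulCommutative (P : Subgroup M) := by
      obtain ⟨P', hP'⟩ := (P.2.map M.subtype).exists_le_sylow
      refine ⟨⟨fun b d => ?_⟩⟩
      have h1 := congrArg Subtype.val ((hA q P').is_comm.comm ⟨_, hP' ⟨(b : M), b.2, rfl⟩⟩ ⟨_, hP' ⟨(d : M), d.2, rfl⟩⟩)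
      have h2 : ((b : M) : G) * ((d : M) : G) = ((d : M) : G) * ((b : M) : G) := h1
      exact Subtype.ext (Subtype.ext h2)
    have h1 := sylow_center P hPc (pow_mem hwc _) (pow_mem hw _) (hP (mem_zpowers z))
    rw [← hz] at h1
    rw [h1, orderOf_one] at hzo
    exact hq.ne_one hzo.symm
  have hLodd : ∀ g : L, ¬ 2 ∣ (centralizer ({g} : Set L)).index := by
    intro y
    have hyM : (y : G) ∈ M := hLM y.2
    set K : Subgroup G := C ⊓ centralizer ({(y : G)} : Set G) with hK
    have hxy : centralizer ({x * (y : G)} : Set G) = K := by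
      apply le_antisymm
      · intro g hg
        have h1 := mem_centralizer_singleton_iff.1 hg
        have hyL' : (g * (y : G) * g⁻¹) ∈ L := (inferInstance : L.Normal).conj_mem _ y.2 g
        have hxN' : g * x * g⁻¹ ∈ N := (inferInstance : N.Normal).conj_mem _ hxN g
        have h2 : x⁻¹ * (g * x * g⁻¹) = (y : G) * (g * y * g⁻¹)⁻¹ := by
          have h3 : (g * x * g⁻¹) * (g * y * g⁻¹) = x * y := by
            calc (g * x * g⁻¹) * (g * y * g⁻¹) = g * (x * y) * g⁻¹ := by group
              _ = x * y := by rw [h1]; group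
          calc x⁻¹ * (g * x * g⁻¹) = x⁻¹ * ((g * x * g⁻¹) * (g * y * g⁻¹)) * (g * y * g⁻¹)⁻¹ := by group
            _ = x⁻¹ * (x * y) * (g * y * g⁻¹)⁻¹ := by rw [h3]
            _ = _ := by group
        have h4 : x⁻¹ * (g * x * g⁻¹) ∈ L ⊓ N := by
          refine ⟨?_, N.mul_mem (N.inv_mem hxN) hxN'⟩
          rw [h2]
          exact L.mul_mem y.2 (L.inv_mem hyL')
        rw [hLN, mem_bot] at h4
        have h5 : g * x = x * g := by
          have := inv_mul_eq_one.1 h4
          calc g * x = (g * x * g⁻¹) * g := by group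
            _ = x * g := by rw [← this]
        rw [h4] at h2
        have h6 : g * (y : G) = y * g := by
          have := mul_inv_eq_one.1 h2.symm
          calc g * (y : G) = (g * y * g⁻¹) * g := by group
            _ = y * g := by rw [← this]
        exact ⟨mem_centralizer_singleton_iff.2 h5, mem_centralizer_singleton_iff.2 h6⟩
      · rintro g ⟨h1, h2⟩
        have h1' := mem_centralizer_singleton_iff.1 h1
        have h2' := mem_centralizer_singleton_iff.1 h2
        rw [mem_centralizer_singleton_iff]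
        calc g * (x * y) = (g * x) * y := by group
          _ = x * (g * y) := by rw [h1']; group
          _ = x * y * g := by rw [h2']; group
    have hKC : K ≤ C := inf_le_left
    have h1 : ¬ 2 ∣ K.relIndex C := by
      intro h
      apply hmax (x * y)
      rw [hxy, ← relIndex_mul_index hKC, hx, pow_succ, mul_comm]
      exact Nat.mul_dvd_mul h dvd_rfl
    have h2 : ¬ 2 ∣ K.relIndex L := by
      intro h
      apply h1
      have h3 : K.relIndex L = K.relIndex (K ⊔ L) := Transfer.relIndex_eq_relIndex_sup K L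
      rw [← relIndex_mul_relIndex K (K ⊔ L) C le_sup_left (sup_le hKC (hLM.trans hMC)), ← h3]
      exact h.mul_right _
    have h3 : (centralizer ({y} : Set L)).index = K.relIndex L := by
      have h4 : (centralizer ({y} : Set L)) = K.subgroupOf L := by
        ext g
        rw [mem_centralizer_singleton_iff, mem_subgroupOf, hK]
        constructor
        · intro h
          exact ⟨hMC (hLM g.2), mem_centralizer_singleton_iff.2 (congrArg Subtype.val h)⟩
        · rintro ⟨-, h⟩
          exact Subtype.ext (mem_centralizer_singleton_iff.1 h)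
      rw [h4]; rfl
    rw [h3]
    exact h2
  have hLs : Group.IsSolvable L := solv_of_odd hLodd
  have hMs : Group.IsSolvable M := by
    refine (Group.isSolvable_iff_subgroup_quotient (commutator M)).2 ⟨?_, ?_⟩
    · have h1 : ∀ w : commutator M, ((w : M) : G) ∈ L := by
        intro w
        rw [hLmap]
        exact ⟨w, w.2, rfl⟩
      let f : commutator M →* L := (M.subtype.comp (commutator M).subtype).codRestrict L h1
      have hf : Function.Injective f := by
        intro u v huv
        have h5 := congrArg (fun z : L => (z : G)) huv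
        exact Subtype.ext (Subtype.ext h5)
      exact Group.isSolvable_of_isSolvable_injective hf
    · exact Group.isSolvable_of_comm (G := Abelianization M) mul_comm
  exact (Group.isSolvable_iff_subgroup_quotient M).2 ⟨hMs, hQ⟩

/-- Let G be a finite group all of whose Sylow subgroups are abelian, and let 2^a be the largest power of 2 dividing the size of any conjugacy class of G. If some element has a conjugacy class of size exactly 2^a, then G is solvable. -/
theorem result {G : Type*} [Group G] [Finite G]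
    (hA : ∀ (p : ℕ) [Fact p.Prime] (P : Sylow p G), IsMulCommutative (P : Subgroup G))
    (a : ℕ) (hmax : ∀ y : G, ¬ 2 ^ (a + 1) ∣ (Subgroup.centralizer ({y} : Set G)).index) (hx : ∃ x : G, (Subgroup.centralizer ({x} : Set G)).index = 2 ^ a) :
    Group.IsSolvable G := by
  obtain ⟨x, hx⟩ := hx
  exact main hA a hmax x hx

end Cfsg.Agent.S4133
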