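import Cfsg.Statements.S3380
import Cfsg.Agent.S0519
import Cfsg.Agent.S0016
import Cfsg.Agent.H23.PGroupNormal
import Cfsg.Agent.Frob.Complement

set_option autoImplicit false
open Cfsg

namespace Cfsg.Agent.S3380

open Subgroup

section group

variable {G : Type*} [Group G] [Finite G]

theorem exists_az (p : ℕ) [hp : Fact p.Prime] (hG : IsPGroup p G)
    (hnc : ¬ IsCyclic G) (hnq : ∀ n : ℕ, ¬ Nonempty (G ≃* QuaternionGroup n))
    (hnd : ∀ n : ℕ, ¬ Nonempty (G ≃* DihedralGroup n)) (hnsd : ¬ Cfsg.IsQuasiDihedral G) :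
    ∃ z a : G, orderOf z = p ∧ (∀ g : G, g * z = z * g) ∧ a ^ p = 1 ∧ a ∉ Subgroup.zpowers z ∧
      ∀ g : G, g * a * g⁻¹ * a⁻¹ ∈ Subgroup.zpowers z := by
  have hnt : Nontrivial G := by
    by_contra h
    rw [not_nontrivial_iff_subsingleton] at h
    exact hnc isCyclic_of_subsingleton
  obtain ⟨z0, -, hz0, hz0c⟩ := H23.exists_central_orderOf hG (N := ⊤) inferInstance (by
    exact (bot_ne_top (α := Subgroup G)).symm)
  have hA : ∃ A : Subgroup G, A.Normal ∧ IsMulCommutative A ∧ ¬ IsCyclic A := by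
    by_contra hcon
    push Not at hcon
    by_cases hB : ∃ B : Subgroup G, IsMulCommutative B ∧ ¬ IsCyclic B
    · obtain ⟨-, ⟨n, h⟩ | ⟨n, -, h⟩ | h⟩ := S0519.result p hG hcon hB
      · exact hnq n h
      · exact hnd n h
      · exact hnsd h
    · push Not at hB
      have huniq : ∀ H : Subgroup G, Nat.card H = p → H = Subgroup.zpowers z0 := by
        intro H hH
        have hHab : IsMulCommutative H := by
          haveI : IsCyclic H := isCyclic_of_prime_card hH
          infer_instance
        have hcomm : IsMulCommutative ↥(Subgroup.zpowers z0 ⊔ H) := by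
          apply H11.comm_sup inferInstance hHab
          rintro _ ⟨n, rfl⟩ b _
          have : Commute z0 b := ((Subgroup.mem_center_iff.1 hz0c) b).symm
          exact this.zpow_left n
        haveI := hB _ hcomm
        have h1 : Nat.card (H.subgroupOf (Subgroup.zpowers z0 ⊔ H)) = p := by
          rw [Nat.card_congr (Subgroup.subgroupOfEquivOfLe (le_sup_right : H ≤ Subgroup.zpowers z0 ⊔ H)).toEquiv, hH]
        have h2 : Nat.card ((Subgroup.zpowers z0).subgroupOf (Subgroup.zpowers z0 ⊔ H)) = p := by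
          rw [Nat.card_congr (Subgroup.subgroupOfEquivOfLe (le_sup_left : Subgroup.zpowers z0 ≤ Subgroup.zpowers z0 ⊔ H)).toEquiv,
            Nat.card_zpowers, hz0]
        have h3 := Frob.eq_of_card_eq_of_isCyclic _ _ (h1.trans h2.symm)
        rw [Subgroup.subgroupOf_inj, inf_eq_left.2 le_sup_right, inf_eq_left.2 le_sup_left] at h3
        exact h3
      rcases S0016.result p hG (fun H K hH hK => (huniq H hH).trans (huniq K hK).symm) with h | ⟨-, n, h⟩
      · exact hnc h
      · exact hnq _ h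
  obtain ⟨A, hAn, hAab, hAc⟩ := hA
  letI iA : CommGroup A := { (inferInstance : Group A) with
    mul_comm := fun a b => hAab.is_comm.comm a b }
  have hpA : IsPGroup p A := hG.to_subgroup A
  set K : Subgroup A := (powMonoidHom p : A →* A).ker with hK
  have hKc : p < Nat.card K := by
    by_contra h
    exact hAc (H23.isCyclic_of_card_pow_p_le hpA (not_lt.1 h))
  set Ω : Subgroup G := K.map A.subtype with hΩ
  have hmemΩ : ∀ x : G, x ∈ Ω ↔ x ∈ A ∧ x ^ p = 1 := by
    intro x
    constructor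
    · rintro ⟨y, hy, rfl⟩
      exact ⟨y.2, congrArg Subtype.val (show y ^ p = 1 from hy)⟩
    · rintro ⟨hx, hxp⟩
      exact ⟨⟨x, hx⟩, Subtype.ext hxp, rfl⟩
  have hΩn : Ω.Normal := by
    constructor
    intro n hn g
    rw [hmemΩ] at hn ⊢
    exact ⟨hAn.conj_mem _ hn.1 g, by rw [conj_pow, hn.2, mul_one, mul_inv_cancel]⟩
  have hΩc : Nat.card Ω = Nat.card K :=
    Nat.card_congr (K.equivMapOfInjective A.subtype A.subtype_injective).toEquiv.symm
  have hΩbot : Ω ≠ ⊥ := by
    intro h
    rw [h, Subgroup.card_bot] at hΩc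
    have := hp.out.one_lt
    omega
  obtain ⟨z, hz, hzo, hzc⟩ := H23.exists_central_orderOf hG hΩn hΩbot
  have hzn : (Subgroup.zpowers z).Normal := by
    constructor
    intro n hn g
    obtain ⟨i, rfl⟩ := Subgroup.mem_zpowers_iff.1 hn
    have : Commute z g := ((Subgroup.mem_center_iff.1 hzc) g).symm
    rw [(this.zpow_left i).symm.eq, mul_inv_cancel_right]
    exact hn
  have hlt : Subgroup.zpowers z < Ω := by
    refine lt_of_le_of_ne (by rwa [Subgroup.zpowers_le]) ?_
    intro h
    rw [← h, Nat.card_zpowers, hzo] at hΩc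
    omega
  obtain ⟨a, haΩ, haz, -, hag, -, -⟩ := H23.exists_step hG hzn hΩn hlt
  refine ⟨z, a, hzo, fun g => (Subgroup.mem_center_iff.1 hzc) g, ((hmemΩ a).1 haΩ).2, haz, ?_⟩
  intro g
  have h1 := inv_mem (hag g)
  have h2 : (a * g * a⁻¹ * g⁻¹)⁻¹ = g * a * g⁻¹ * a⁻¹ := by group
  rwa [h2] at h1

end group

section rep

variable {q : ℕ} [Fact q.Prime] {V : Type*} [AddCommGroup V] [Module (ZMod q) V]
variable {G : Type*} [Group G] (ρ : G →* (V ≃ₗ[ZMod q] V))

/-- fixed submodule of an element -/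
def fx (x : G) : Submodule (ZMod q) V where
  carrier := {v | ρ x v = v}
  add_mem' := by
    intro a b ha hb
    simp only [Set.mem_setOf_eq] at ha hb ⊢
    rw [map_add, ha, hb]
  zero_mem' := by simp
  smul_mem' := by
    intro c v hv
    simp only [Set.mem_setOf_eq] at hv ⊢
    rw [map_smul, hv]

theorem mem_fx {x : G} {v : V} : v ∈ fx ρ x ↔ ρ x v = v := Iff.rfl

theorem fx_smul_mem {x y : G} (h : x * y = y * x) {v : V} (hv : v ∈ fx ρ x) : ρ y v ∈ fx ρ x := by
  rw [mem_fx] at hv ⊢
  rw [← LinearEquiv.mul_apply, ← map_mul, h, map_mul, LinearEquiv.mul_apply, hv]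

/-- averaging operator -/
noncomputable def av (p : ℕ) (x : G) : V →ₗ[ZMod q] V :=
  ((p : ZMod q)⁻¹) • ∑ j ∈ Finset.range p, ((ρ (x ^ j) : V ≃ₗ[ZMod q] V) : V →ₗ[ZMod q] V)

theorem av_apply (p : ℕ) (x : G) (v : V) :
    av ρ p x v = ((p : ZMod q)⁻¹) • ∑ j ∈ Finset.range p, ρ (x ^ j) v := by
  rw [av, LinearMap.smul_apply, LinearMap.sum_apply]
  rfl

theorem av_mem {p : ℕ} {x : G} (hx : x ^ p = 1) (v : V) : av ρ p x v ∈ fx ρ x := by
  rw [mem_fx, av_apply, map_smul, map_sum]
  congr 1
  have h1 : ∀ j, ρ x (ρ (x ^ j) v) = ρ (x ^ (j + 1)) v := by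
    intro j
    rw [← LinearEquiv.mul_apply, ← map_mul, ← pow_succ']
  rw [Finset.sum_congr rfl (fun j _ => h1 j)]
  have h2 := Finset.sum_range_succ (fun j => ρ (x ^ j) v) p
  have h3 := Finset.sum_range_succ' (fun j => ρ (x ^ j) v) p
  rw [h2, hx, pow_zero] at h3
  exact (add_right_cancel h3).symm

theorem av_of_mem {p : ℕ} (hp : (p : ZMod q) ≠ 0) {x : G} {v : V} (hv : v ∈ fx ρ x) :
    av ρ p x v = v := by
  have h1 : ∀ j : ℕ, ρ (x ^ j) v = v := by
    intro j
    induction j with
    | zero => simp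
    | succ j ih => rw [pow_succ', map_mul, LinearEquiv.mul_apply, ih]; exact hv
  rw [av_apply, Finset.sum_congr rfl (fun j _ => h1 j), Finset.sum_const, Finset.card_range,
    ← Nat.cast_smul_eq_nsmul (ZMod q), smul_smul, inv_mul_cancel₀ hp, one_smul]

theorem av_comm {p : ℕ} {x y : G} (h : x * y = y * x) {v : V} (hv : v ∈ fx ρ y) :
    av ρ p x v ∈ fx ρ y := by
  rw [av_apply]
  apply Submodule.smul_mem
  apply Submodule.sum_mem
  intro j _
  exact fx_smul_mem ρ ((Commute.pow_left h j).symm.eq) hv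

end rep

/-- Let a finite p-group G act faithfully and irreducibly on a non-trivial finite vector space V over the field with q elements (q prime), and suppose G is not cyclic, generalized quaternion, dihedral or semidihedral. Then G has a subgroup H of index p and V is the direct sum of p subspaces, each invariant under H, on none of which H acts faithfully, and which every element of G outside H permutes in a single p-cycle. -/
theorem result
    (q : ℕ) [Fact q.Prime] {V : Type*} [AddCommGroup V] [Module (ZMod q) V] [Finite V] [Nontrivial V]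
    {G : Type*} [Group G] [Finite G] (p : ℕ) [Fact p.Prime] (hG : IsPGroup p G)
    (ρ : G →* (V ≃ₗ[ZMod q] V)) (hρ : Function.Injective ρ)
    (hirr : ∀ W : Submodule (ZMod q) V, (∀ g : G, ∀ w ∈ W, ρ g w ∈ W) → W = ⊥ ∨ W = ⊤)
    (hnc : ¬ IsCyclic G) (hnq : ∀ n : ℕ, ¬ Nonempty (G ≃* QuaternionGroup n))
    (hnd : ∀ n : ℕ, ¬ Nonempty (G ≃* DihedralGroup n)) (hnsd : ¬ Cfsg.IsQuasiDihedral G) :
    ∃ (H : Subgroup G) (W : Fin p → Submodule (ZMod q) V), H.index = p ∧
      iSup W = ⊤ ∧ iSupIndep W ∧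
      (∀ h ∈ H, ∀ i, ∀ w ∈ W i, ρ h w ∈ W i) ∧
      (∀ i, ∃ h ∈ H, h ≠ 1 ∧ ∀ w ∈ W i, ρ h w = w) ∧
      ∀ g : G, g ∉ H → ∃ σ : Equiv.Perm (Fin p), orderOf σ = p ∧ ∀ i, (W i).map (ρ g : V →ₗ[ZMod q] V) = W (σ i) := by
  have hpp : p.Prime := Fact.out
  obtain ⟨z, a, hzo, hzc, hap, haz, hag⟩ := exists_az p hG hnc hnq hnd hnsd
  have hzp : z ^ p = 1 := by rw [← hzo, pow_orderOf_eq_one]
  have hnt : Nontrivial G := by
    by_contra h
    rw [not_nontrivial_iff_subsingleton] at h
    exact hnc isCyclic_of_subsingleton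
  -- the characteristic is not p
  have hpq : (p : ZMod q) ≠ 0 := by
    intro h0
    rw [ZMod.natCast_eq_zero_iff] at h0
    have hqp : q = p := ((Nat.prime_dvd_prime_iff_eq Fact.out hpp).1 h0)
    subst hqp
    let act : MulAction G V :=
      { smul := fun g v => ρ g v
        one_smul := fun v => by show ρ 1 v = v; simp
        mul_smul := fun g h v => by show ρ (g * h) v = ρ g (ρ h v); rw [map_mul]; rfl }
    have hcard : q ∣ Nat.card V := by
      obtain ⟨v, hv⟩ := exists_ne (0 : V)
      have h1 : addOrderOf v ∣ q := by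
        apply addOrderOf_dvd_of_nsmul_eq_zero
        rw [← Nat.cast_smul_eq_nsmul (ZMod q), ZMod.natCast_self, zero_smul]
      have h2 : addOrderOf v = q := by
        rcases (Nat.dvd_prime hpp).1 h1 with h | h
        · exact absurd (AddMonoid.addOrderOf_eq_one_iff.1 h) hv
        · exact h
      rw [← h2]
      exact addOrderOf_dvd_natCard v
    have h0 : (0 : V) ∈ MulAction.fixedPoints G V := fun g => map_zero (ρ g)
    obtain ⟨b, hb, hb0⟩ := hG.exists_fixed_point_of_prime_dvd_card_of_fixed_point V hcard h0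
    have hb' : ∀ g : G, ρ g b = b := fun g => hb g
    -- fixed space is everything
    rcases hirr (Submodule.span (ZMod q) {b}) (by
      intro g w hw
      rw [Submodule.mem_span_singleton] at hw ⊢
      obtain ⟨c, rfl⟩ := hw
      exact ⟨c, by rw [map_smul, hb']⟩) with h | h
    · apply hb0
      have : b ∈ Submodule.span (ZMod q) {b} := Submodule.mem_span_singleton_self b
      rw [h, Submodule.mem_bot] at this
      exact this.symm
    · obtain ⟨g, hg⟩ := exists_ne (1 : G)
      apply hg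
      apply hρ
      rw [map_one]
      ext v
      have hv : v ∈ Submodule.span (ZMod q) {b} := by rw [h]; trivial
      rw [Submodule.mem_span_singleton] at hv
      obtain ⟨c, rfl⟩ := hv
      rw [map_smul, hb', LinearEquiv.coe_one, id]
  -- central elements have no fixed vectors
  have hcen : ∀ c : G, (∀ g : G, g * c = c * g) → c ≠ 1 → fx ρ c = ⊥ := by
    intro c hc hc1
    rcases hirr (fx ρ c) (fun g w hw => fx_smul_mem ρ (hc g).symm hw) with h | h
    · exact h
    · exfalso
      apply hc1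
      apply hρ
      rw [map_one]
      ext v
      have hv : v ∈ fx ρ c := by rw [h]; trivial
      exact hv
  have hpw : ∀ i : ℕ, ∀ g : G, g * z ^ i = z ^ i * g := fun i g => by
    have : Commute g z := hzc g
    exact (this.pow_right i).eq
  have haz' : ∀ i : ℕ, a * z ^ i ≠ 1 := by
    intro i h
    apply haz
    have : a = (z ^ i)⁻¹ := mul_eq_one_iff_eq_inv.1 h
    rw [this]
    exact inv_mem (pow_mem (Subgroup.mem_zpowers z) i)
  have hazp : ∀ i : ℕ, (a * z ^ i) ^ p = 1 := by
    intro i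
    have : Commute a (z ^ i) := hpw i a
    rw [this.mul_pow, hap, one_mul, ← pow_mul, mul_comm, pow_mul, hzp, one_pow]
  have hazc : ∀ i j : ℕ, (a * z ^ i) * (a * z ^ j) = (a * z ^ j) * (a * z ^ i) := by
    intro i j
    have h1 : Commute a (z ^ i) := hpw i a
    have h2 : Commute a (z ^ j) := hpw j a
    have h3 : Commute (z ^ i) (z ^ j) := Commute.pow_pow (Commute.refl z) i j
    exact (((Commute.refl a).mul_left h1.symm).mul_right (h2.mul_left h3)).eq
  -- sums over powers of a central element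
  have hsum : ∀ j : ℕ, 0 < j → j < p → ∀ v : V, ∑ i ∈ Finset.range p, ρ ((z ^ j) ^ i) v = 0 := by
    intro j hj0 hjp v
    have hzj : z ^ j ≠ 1 := by
      intro h
      have := orderOf_dvd_of_pow_eq_one h
      rw [hzo] at this
      exact absurd (Nat.le_of_dvd hj0 this) (not_le.2 hjp)
    have h1 := av_mem ρ (p := p) (x := z ^ j) (by rw [← pow_mul, mul_comm, pow_mul, hzp, one_pow]) v
    rw [hcen (z ^ j) (hpw j) hzj, Submodule.mem_bot, av_apply, smul_eq_zero] at h1
    rcases h1 with h1 | h1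
    · exact absurd h1 (inv_ne_zero hpq)
    · exact h1
  -- the decomposition of the identity
  have hone : ∀ v : V, ∑ i ∈ Finset.range p, av ρ p (a * z ^ i) v = v := by
    intro v
    have h1 : ∀ i j : ℕ, ρ ((a * z ^ i) ^ j) v = ρ (a ^ j) (ρ ((z ^ j) ^ i) v) := by
      intro i j
      have : Commute a (z ^ i) := hpw i a
      rw [this.mul_pow, ← pow_mul, mul_comm i j, pow_mul, map_mul, LinearEquiv.mul_apply]
    have h2 : ∑ i ∈ Finset.range p, av ρ p (a * z ^ i) v =
        ((p : ZMod q)⁻¹) • ∑ j ∈ Finset.range p, ρ (a ^ j) (∑ i ∈ Finset.range p, ρ ((z ^ j) ^ i) v) := by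
      rw [Finset.sum_congr rfl (fun i _ => av_apply ρ p (a * z ^ i) v), ← Finset.smul_sum,
        Finset.sum_comm]
      congr 1
      refine Finset.sum_congr rfl (fun j _ => ?_)
      rw [map_sum]
      exact Finset.sum_congr rfl (fun i _ => h1 i j)
    have h3 : ∑ j ∈ Finset.range p, ρ (a ^ j) (∑ i ∈ Finset.range p, ρ ((z ^ j) ^ i) v) = (p : ZMod q) • v := by
      rw [Finset.sum_eq_single 0]
      · simp only [pow_zero, one_pow, map_one]
        rw [LinearEquiv.coe_one, id, Finset.sum_const, Finset.card_range, ← Nat.cast_smul_eq_nsmul (ZMod q)]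
        rfl
      · intro j hj hj0
        rw [hsum j (Nat.pos_of_ne_zero hj0) (Finset.mem_range.1 hj), map_zero]
      · intro h
        exact absurd (Finset.mem_range.2 hpp.pos) h
    rw [h2, h3, smul_smul, inv_mul_cancel₀ hpq, one_smul]
  have hkill : ∀ i j : ℕ, i < p → j < p → i ≠ j → ∀ v ∈ fx ρ (a * z ^ j), av ρ p (a * z ^ i) v = 0 := by
    intro i j hi hj hij v hv
    have h1 := av_mem ρ (hazp i) v
    have h2 := av_comm ρ (p := p) (hazc i j) hv
    set w := av ρ p (a * z ^ i) v with hw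
    rw [mem_fx] at h1 h2
    have h3 : w ∈ fx ρ ((a * z ^ j)⁻¹ * (a * z ^ i)) := by
      rw [mem_fx, map_mul, LinearEquiv.mul_apply, h1]
      rw [map_inv]
      have : ρ (a * z ^ j) w = w := h2
      calc (ρ (a * z ^ j))⁻¹ w = (ρ (a * z ^ j))⁻¹ (ρ (a * z ^ j) w) := by rw [this]
        _ = w := by
          rw [← LinearEquiv.mul_apply, inv_mul_cancel, LinearEquiv.coe_one, id]
    have h4 : (a * z ^ j)⁻¹ * (a * z ^ i) = (z ^ j)⁻¹ * z ^ i := by group
    rw [h4] at h3
    have h5 : fx ρ ((z ^ j)⁻¹ * z ^ i) = ⊥ := by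
      apply hcen
      · intro g
        have c1 : Commute g (z ^ j) := hpw j g
        have c2 : Commute g (z ^ i) := hpw i g
        exact (c1.inv_right.mul_right c2).eq
      · intro h
        rw [inv_mul_eq_one] at h
        have := pow_injOn_Iio_orderOf (x := z) (Set.mem_Iio.2 (hzo.symm ▸ hj)) (Set.mem_Iio.2 (hzo.symm ▸ hi)) h
        exact hij this.symm
    rw [h5, Submodule.mem_bot] at h3
    exact h3
  -- a is not central
  have hanc : ∃ g : G, g * a ≠ a * g := by
    by_contra hcon
    push Not at hcon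
    obtain ⟨v, hv⟩ := exists_ne (0 : V)
    apply hv
    rw [← hone v]
    apply Finset.sum_eq_zero
    intro i _
    have h1 := av_mem ρ (hazp i) v
    rw [hcen (a * z ^ i) (fun g => by
      have c1 : Commute g a := hcon g
      have c2 : Commute g (z ^ i) := hpw i g
      exact (c1.mul_right c2).eq) (haz' i), Submodule.mem_bot] at h1
    exact h1
  -- the homomorphism g ↦ [g, a]
  let f : G →* ↥(Subgroup.zpowers z) :=
    { toFun := fun g => ⟨g * a * g⁻¹ * a⁻¹, hag g⟩
      map_one' := by apply Subtype.ext; simp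
      map_mul' := by
        intro g h
        apply Subtype.ext
        show g * h * a * (g * h)⁻¹ * a⁻¹ = (g * a * g⁻¹ * a⁻¹) * (h * a * h⁻¹ * a⁻¹)
        obtain ⟨i, hi⟩ := Subgroup.mem_zpowers_iff.1 (hag h)
        have hc : Commute g (z ^ i) := (show Commute g z from hzc g).zpow_right i
        have h1 : h * a * h⁻¹ = z ^ i * a := by rw [hi]; group
        have h2 : g * h * a * (g * h)⁻¹ * a⁻¹ = g * (h * a * h⁻¹) * g⁻¹ * a⁻¹ := by group
        have hc2 : Commute (g * a * g⁻¹ * a⁻¹) (z ^ i) :=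
          (show Commute (g * a * g⁻¹ * a⁻¹) z from hzc _).zpow_right i
        rw [h2, h1, mul_inv_cancel_right, hc2.eq, ← mul_assoc g, hc.eq]
        group }
  have hfker : ∀ g : G, g ∈ f.ker ↔ g * a = a * g := by
    intro g
    rw [MonoidHom.mem_ker]
    constructor
    · intro h
      have h1 : g * a * g⁻¹ * a⁻¹ = 1 := congrArg Subtype.val h
      rw [mul_inv_eq_one, mul_inv_eq_iff_eq_mul] at h1
      exact h1
    · intro h
      apply Subtype.ext
      show g * a * g⁻¹ * a⁻¹ = 1
      rw [h]; group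
  have hzcard : Nat.card ↥(Subgroup.zpowers z) = p := by rw [Nat.card_zpowers, hzo]
  have hrange : f.range = ⊤ := by
    have hpc : (Nat.card ↥(Subgroup.zpowers z)).Prime := by rw [hzcard]; exact hpp
    haveI : Fact (Nat.card ↥(Subgroup.zpowers z)).Prime := ⟨hpc⟩
    rcases f.range.eq_bot_or_eq_top_of_prime_card with h | h
    · exfalso
      obtain ⟨g, hg⟩ := hanc
      apply hg
      rw [← hfker, MonoidHom.mem_ker]
      have : f g ∈ f.range := ⟨g, rfl⟩
      rw [h, Subgroup.mem_bot] at this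
      exact this
    · exact h
  have hidx : f.ker.index = p := by
    rw [Subgroup.index_ker, hrange, Subgroup.card_top, hzcard]
  haveI : NeZero p := ⟨hpp.ne_zero⟩
  refine ⟨f.ker, fun i : Fin p => fx ρ (a * z ^ (i : ℕ)), hidx, ?_, ?_, ?_, ?_, ?_⟩
  · rw [eq_top_iff]
    intro v _
    rw [← hone v]
    apply Submodule.sum_mem
    intro i hi
    exact Submodule.mem_iSup_of_mem (⟨i, Finset.mem_range.1 hi⟩ : Fin p) (av_mem ρ (hazp i) v)
  · intro i
    rw [Submodule.disjoint_def]
    intro v hv hv'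
    have h1 : (⨆ (j : Fin p) (_ : j ≠ i), fx ρ (a * z ^ (j : ℕ))) ≤ LinearMap.ker (av ρ p (a * z ^ (i : ℕ))) := by
      refine iSup₂_le fun j hji => ?_
      intro w hw
      rw [LinearMap.mem_ker]
      exact hkill i j i.2 j.2 (fun h => hji (Fin.ext h.symm)) w hw
    have h2 := h1 hv'
    rw [LinearMap.mem_ker, av_of_mem ρ hpq hv] at h2
    exact h2
  · intro h hh i w hw
    refine fx_smul_mem ρ ?_ hw
    have c1 : Commute h a := (hfker h).1 hh
    have c2 : Commute h (z ^ (i : ℕ)) := hpw i h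
    exact (c1.mul_right c2).symm.eq
  · intro i
    refine ⟨a * z ^ (i : ℕ), ?_, haz' i, fun w hw => hw⟩
    rw [hfker]
    have c2 : Commute a (z ^ (i : ℕ)) := hpw i a
    exact ((Commute.refl a).mul_left c2.symm).eq
  · intro g hg
    obtain ⟨k, hk, hkz⟩ : ∃ k : ℕ, k < p ∧ z ^ k = g * a * g⁻¹ * a⁻¹ := by
      classical
      have h1 := hag g
      rw [mem_zpowers_iff_mem_range_orderOf] at h1
      simp only [Finset.mem_image, Finset.mem_range] at h1
      obtain ⟨k, hk, hk2⟩ := h1
      exact ⟨k, by rwa [hzo] at hk, hk2⟩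
    have hk0 : k ≠ 0 := by
      rintro rfl
      apply hg
      rw [hfker]
      rw [pow_zero, eq_comm, mul_inv_eq_one, mul_inv_eq_iff_eq_mul] at hkz
      exact hkz
    let k' : Fin p := ⟨k, hk⟩
    refine ⟨Equiv.addRight k', ?_, ?_⟩
    · apply orderOf_eq_prime
      · have h0 : ∀ (n : ℕ) (i : Fin p), ((Equiv.addRight k') ^ n) i = i + n • k' := by
          intro n
          induction n with
          | zero => intro i; simp
          | succ n ih =>
            intro i
            rw [pow_succ, Equiv.Perm.mul_apply, ih, Equiv.coe_addRight, succ_nsmul', add_assoc]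
        have : p • k' = 0 := by
          have h1 := card_nsmul_eq_zero' (x := k')
          rwa [Nat.card_eq_fintype_card, Fintype.card_fin] at h1
        ext i
        rw [h0, this, add_zero]
        rfl
      · intro h
        have h1 : (Equiv.addRight k') 0 = (1 : Equiv.Perm (Fin p)) 0 := by rw [h]
        simp only [Equiv.coe_addRight, zero_add, Equiv.Perm.coe_one, id] at h1
        exact hk0 (congrArg Fin.val h1)
    · intro i
      have hconj : g * (a * z ^ (i : ℕ)) * g⁻¹ = a * z ^ ((i + k' : Fin p) : ℕ) := by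
        have h1 : g * a * g⁻¹ = z ^ k * a := by rw [hkz]; group
        have h2 : g * (a * z ^ (i : ℕ)) * g⁻¹ = (g * a * g⁻¹) * z ^ (i : ℕ) := by
          have : Commute g⁻¹ (z ^ (i : ℕ)) := hpw i g⁻¹
          have h3 := this.eq
          calc g * (a * z ^ (i : ℕ)) * g⁻¹ = g * a * (z ^ (i : ℕ) * g⁻¹) := by group
            _ = g * a * (g⁻¹ * z ^ (i : ℕ)) := by rw [h3]
            _ = _ := by group
        have h3 : z ^ ((i + k' : Fin p) : ℕ) = z ^ ((i : ℕ) + k) := by
          have h9 : ∀ m : ℕ, z ^ (m % p) = z ^ m := fun m => by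
            conv_lhs => rw [← hzo]
            rw [pow_mod_orderOf]
          rw [Fin.val_add]
          exact h9 _
        have h4 : Commute (z ^ k) a := (hpw k a).symm
        rw [h2, h1, h3, h4.eq, mul_assoc, ← pow_add, add_comm]
      show (fx ρ (a * z ^ (i : ℕ))).map _ = fx ρ (a * z ^ ((i + k' : Fin p) : ℕ))
      rw [← hconj]
      ext v
      constructor
      · rintro ⟨w, hw, rfl⟩
        have hw' : ρ (a * z ^ (i : ℕ)) w = w := hw
        show ρ (g * (a * z ^ (i : ℕ)) * g⁻¹) (ρ g w) = ρ g w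
        rw [← LinearEquiv.mul_apply, ← map_mul, inv_mul_cancel_right, map_mul, LinearEquiv.mul_apply, hw']
      · intro hv
        have hv' : ρ (g * (a * z ^ (i : ℕ)) * g⁻¹) v = v := hv
        refine ⟨ρ g⁻¹ v, ?_, ?_⟩
        · show ρ (a * z ^ (i : ℕ)) (ρ g⁻¹ v) = ρ g⁻¹ v
          have h5 : g⁻¹ * (g * (a * z ^ (i : ℕ)) * g⁻¹) = a * z ^ (i : ℕ) * g⁻¹ := by group
          rw [← LinearEquiv.mul_apply, ← map_mul, ← h5, map_mul, LinearEquiv.mul_apply, hv']
        · show ρ g (ρ g⁻¹ v) = v
          rw [← LinearEquiv.mul_apply, ← map_mul, mul_inv_cancel, map_one, LinearEquiv.coe_one, id]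

end Cfsg.Agent.S3380
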