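import Cfsg.Statements.S0154
import Cfsg.Agent.Char.Linear
import Cfsg.Agent.CharBase.Column

set_option autoImplicit false
open Cfsg

namespace Cfsg.Agent.S0154

/-- A finite group has exactly as many irreducible complex characters of degree 1 as the index of its commutator subgroup. -/
theorem result {G : Type*} [Group G] [Finite G] : Nat.card {χ : Cfsg.IrrCharacter G // (χ : G → ℂ) 1 = 1} = (commutator G).index := by
  have h1 : Nat.card (Abelianization G →* ℂˣ) = Nat.card (Abelianization G) := by
    have : HasEnoughRootsOfUnity ℂ (Monoid.exponent (Abelianization G)) := by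
      have : NeZero (Monoid.exponent (Abelianization G)) := ⟨Monoid.exponent_ne_zero_of_finite⟩
      infer_instance
    exact CommGroup.card_monoidHom_of_hasEnoughRootsOfUnity _ _
  have h2 : (commutator G).index = Nat.card (Abelianization G) := rfl
  rw [h2, ← h1]
  let e : (Abelianization G →* ℂˣ) ≃ (G →* ℂˣ) := Abelianization.lift.symm
  rw [Nat.card_congr e]
  let f : (G →* ℂˣ) → {χ : Cfsg.IrrCharacter G // (χ : G → ℂ) 1 = 1} := fun l =>
    ⟨⟨(fun g => ((l g : ℂˣ) : ℂ)), Cfsg.Agent.Char.isIrrCharacter_of_hom ((Units.coeHom ℂ).comp l)⟩, by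
      change ((l 1 : ℂˣ) : ℂ) = 1
      simp⟩
  symm
  refine Nat.card_congr (Equiv.ofBijective f ⟨?_, ?_⟩)
  · intro a b hab
    ext g
    have h3 := congrArg (fun x => (x.1 : G → ℂ) g) hab
    exact h3
  · rintro ⟨⟨χ, hχ⟩, h⟩
    have hc := Cfsg.Agent.CharBase.isCharacter_of_isIrr hχ
    refine ⟨(Cfsg.Agent.Char.linHom hc h).toHomUnits, ?_⟩
    apply Subtype.ext
    apply Subtype.ext
    funext g
    rfl

end Cfsg.Agent.S0154
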