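import Cfsg.Statements.S4456
import Cfsg.Agent.Glaub.Over

set_option autoImplicit false
set_option linter.style.haveILetI false
open Cfsg

namespace Cfsg.Agent.S4456

open Cfsg.Agent.CharBase Cfsg.Agent.Char Cfsg.Agent.Glaub

universe u

theorem card_lin {G : Type u} [Group G] [Finite G] (p : ℕ) [hp : Fact p.Prime] 
    (X : Finset (IrrCharacter G))
    (hX : ∀ χ : IrrCharacter G, χ ∈ X ↔ (χ : G → ℂ) 1 = 1 ∧ ¬ p ∣ detOrder (χ : G → ℂ)) :
    ¬ p ∣ X.card := by
  classical
  -- the linear characters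
  let L : Subgroup (G →* ℂˣ) :=
    { carrier := {μ | ∃ m : ℕ, ¬ p ∣ m ∧ ∀ x, μ x ^ m = 1}
      one_mem' := ⟨1, by rw [Nat.dvd_one]; exact hp.out.one_lt.ne', fun x => by
        rw [MonoidHom.one_apply, one_pow]⟩
      mul_mem' := by
        rintro a b ⟨m, hm, hm'⟩ ⟨n, hn, hn'⟩
        refine ⟨m * n, ?_, fun x => ?_⟩
        · rw [hp.out.dvd_mul]; push Not; exact ⟨hm, hn⟩
        · rw [MonoidHom.mul_apply, mul_pow, pow_mul, hm', one_pow, mul_comm m n, pow_mul, hn',
            one_pow, one_mul]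
      inv_mem' := by
        rintro a ⟨m, hm, hm'⟩
        exact ⟨m, hm, fun x => by rw [MonoidHom.inv_apply, inv_pow, hm', inv_one]⟩ }
  have hmem : ∀ μ : G →* ℂˣ, μ ∈ L ↔ ∃ m : ℕ, ¬ p ∣ m ∧ ∀ x, μ x ^ m = 1 := fun μ => Iff.rfl
  let toC : (G →* ℂˣ) → (G →* ℂ) := fun μ => (Units.coeHom ℂ).comp μ
  have htoC : ∀ (μ : G →* ℂˣ) (g : G), toC μ g = (μ g : ℂ) := fun _ _ => rfl
  have hdet : ∀ μ : G →* ℂˣ, detOrder (toC μ : G → ℂ) = orderOf (toC μ : G → ℂ) := fun μ => by
    unfold detOrder
    rw [detChar_of_hom]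
  have hLmem : ∀ μ : G →* ℂˣ, μ ∈ L ↔ ¬ p ∣ orderOf (toC μ : G → ℂ) := by
    intro μ
    have hpow : ∀ m : ℕ, (∀ x, μ x ^ m = 1) ↔ (toC μ : G → ℂ) ^ m = 1 := by
      intro m
      rw [pow_fun_eq_one_iff]
      constructor
      · intro h x
        rw [htoC, ← Units.val_pow_eq_pow_val, h x, Units.val_one]
      · intro h x
        ext
        have := h x
        rw [htoC] at this
        rw [Units.val_pow_eq_pow_val, this, Units.val_one]
    rw [hmem]
    constructor
    · rintro ⟨m, hm, hm'⟩ h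
      exact hm (h.trans (orderOf_dvd_of_pow_eq_one ((hpow m).mp hm')))
    · intro h
      exact ⟨_, h, (hpow _).mpr (pow_orderOf_eq_one _)⟩
  -- bijection of `L` with `X`
  let E : L → X := fun μ => ⟨⟨(toC μ : G → ℂ), linChar_isIrr (isCharacter_of_hom _) (map_one _)⟩, by
    rw [hX]
    refine ⟨map_one _, ?_⟩
    show ¬ p ∣ detOrder (toC μ : G → ℂ)
    rw [hdet]
    exact (hLmem μ).mp μ.2⟩
  have hE : Function.Bijective E := by
    constructor
    · intro μ ν h
      apply Subtype.ext
      ext g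
      have := congrArg (fun z : X => ((z : IrrCharacter G) : G → ℂ) g) h
      exact this
    · rintro ⟨χ, hχ⟩
      have hχ' := (hX χ).mp hχ
      have hmul : ∀ a b : G, (χ : G → ℂ) (a * b) = (χ : G → ℂ) a * (χ : G → ℂ) b :=
        linChar_mul (irr_isCharacter χ) hχ'.1
      let f : G →* ℂ := { toFun := (χ : G → ℂ), map_one' := hχ'.1, map_mul' := hmul }
      have hf : toC f.toHomUnits = f := by
        ext g; rfl
      refine ⟨⟨f.toHomUnits, ?_⟩, ?_⟩
      · rw [hLmem, hf]
        show ¬ p ∣ orderOf (χ : G → ℂ)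
        have h3 := hχ'.2
        have h4 : detOrder (χ : G → ℂ) = orderOf (χ : G → ℂ) := by
          unfold detOrder
          rw [show (χ : G → ℂ) = (f : G → ℂ) from rfl, detChar_of_hom]
        rwa [h4] at h3
      · apply Subtype.ext
        apply Subtype.ext
        exact congrArg (fun z : G →* ℂ => (z : G → ℂ)) hf
  haveI : Finite L := Finite.of_injective E hE.1
  have hcard : Nat.card L = X.card := by
    rw [Nat.card_congr (Equiv.ofBijective E hE), Nat.card_eq_fintype_card, Fintype.card_coe]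
  rw [← hcard]
  intro hdvd
  obtain ⟨μ, hμ⟩ := exists_prime_orderOf_dvd_card' p hdvd
  obtain ⟨m, hm, hm'⟩ := (hmem μ).mp μ.2
  have h1 : μ ^ m = 1 := by
    apply Subtype.ext
    refine MonoidHom.ext fun x => ?_
    exact hm' x
  have := orderOf_dvd_of_pow_eq_one h1
  rw [hμ] at this
  exact hm this

/-- Let p be a prime and G a finite group such that p divides the degree of every irreducible character of G of degree greater than one. Then G has a normal p-complement: a normal subgroup of order prime to p whose index is a power of p. -/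
theorem result {G : Type*} [Group G] [Finite G] (p : ℕ) (hp : p.Prime) (hdeg : ∀ χ : Cfsg.IrrCharacter G, Cfsg.charDegree (χ : G → ℂ) ≠ 1 → p ∣ Cfsg.charDegree (χ : G → ℂ)) : ∃ N : Subgroup G, N.Normal ∧ (Nat.card N).Coprime p ∧ ∃ k : ℕ, N.index = p ^ k := by
  classical
  haveI : Fact p.Prime := ⟨hp⟩
  haveI : Fintype (IrrCharacter G) := Fintype.ofFinite _
  haveI hNn : (pResidual p G).Normal := H20.pResidual_normal p
  refine ⟨pResidual p G, hNn, ?_, index_residual p⟩
  rw [Nat.coprime_comm, Nat.Prime.coprime_iff_not_dvd hp]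
  intro hdvd
  have h1 := residual_congr (G := G) p
  rw [(ZMod.natCast_eq_zero_iff _ _).mpr hdvd] at h1
  have h2 : ∀ χ ∈ Finset.univ.filter (fun χ : IrrCharacter G => ¬ p ∣ charDegree (χ : G → ℂ) ∧
      ¬ p ∣ detOrder (χ : G → ℂ)), ((charDegree (χ : G → ℂ) : ℕ) : ZMod p) ^ 2 = 1 := by
    intro χ hχ
    simp only [Finset.mem_filter, Finset.mem_univ, true_and] at hχ
    have : charDegree (χ : G → ℂ) = 1 := by
      by_contra h
      exact hχ.1 (hdeg χ h)
    rw [this]; simp
  rw [Finset.sum_congr rfl h2, Finset.sum_const, nsmul_eq_mul, mul_one] at h1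
  refine card_lin p (Finset.univ.filter (fun χ : IrrCharacter G => ¬ p ∣ charDegree (χ : G → ℂ) ∧
      ¬ p ∣ detOrder (χ : G → ℂ))) (fun χ => ?_) ((ZMod.natCast_eq_zero_iff _ _).mp h1.symm)
  simp only [Finset.mem_filter, Finset.mem_univ, true_and]
  have h3 : ¬ p ∣ charDegree (χ : G → ℂ) ↔ (χ : G → ℂ) 1 = 1 := by
    rw [H75.deg_spec]
    constructor
    · intro h
      have : charDegree (χ : G → ℂ) = 1 := by
        by_contra h'
        exact h (hdeg χ h')
      rw [H75.charDegree_eq_deg] at this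
      rw [this, Nat.cast_one]
    · intro h
      have : H75.deg χ = 1 := by exact_mod_cast h
      rw [H75.charDegree_eq_deg, this, Nat.dvd_one]
      exact hp.one_lt.ne'
  rw [h3]

end Cfsg.Agent.S4456
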