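import Cfsg.Statements.S4435
import Cfsg.Agent.H76.FongReynolds

set_option autoImplicit false
open Cfsg

namespace Cfsg.Agent.S4435

open Cfsg.Agent.CharBase Cfsg.Agent.Blk Cfsg.Agent.Char Cfsg.Agent.H76

/-- Let N be a normal subgroup of the finite group G, b a block of N (relative to a maximal ideal M of the algebraic integers containing p), and T the stabilizer of b in G (the elements g such that conjugating any member of b by g gives a member of b); N ≤ T. Say that a block of T (or of G) covers b when some member has a constituent in b on restriction to N. Then: (i) every block B′ of T covering b induces a block B of G, B covers b, every ψ ∈ B′ induces to an irreducible character of G, and B consists exactly of the characters induced from members of B′; (ii) distinct blocks of T covering b induce distinct blocks of G; (iii) every block of G covering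 b is induced by some block of T covering b. -/
theorem result {G : Type*} [Group G] [Fintype G] (p : ℕ) [Fact p.Prime] (M : Ideal Cfsg.AlgInt) (hM : Cfsg.IsPModular p M) (N : Subgroup G) [hN : N.Normal] [Fintype N] (b : Set (Cfsg.IrrCharacter N)) (hb : Cfsg.IsPBlock M b) (T : Subgroup G) [Fintype T] (hT : ∀ g : G, g ∈ T ↔ ∀ θ ∈ b, ∀ θ' : Cfsg.IrrCharacter N, (∀ n : N, (θ' : N → ℂ) n = (θ : N → ℂ) ⟨g * n * g⁻¹, hN.conj_mem n n.2 g⟩) → θ' ∈ b) (hNT : N ≤ T) : (∀ B' : Set (Cfsg.IrrCharacter T), Cfsg.IsPBlock M B' → (∃ ψ ∈ B', ∃ θ ∈ b, Cfsg.classInner (fun n : N => (ψ : T → ℂ) ⟨(n : G), hNT n.2⟩) (θ : N → ℂ) ≠ 0) → ∃ B : Set (Cfsg.IrrCharacter G), Cfsg.IsInducedBlock M T B' B ∧ (∃ χ ∈ B, ∃ θ ∈ b, Cfsg.classInner (fun n : N => (χ : G → ℂ) n) (θ : N → ℂ) ≠ 0) ∧ (∀ ψ ∈ B', Cfsg.IsIrrCharacter G (Cfsg.indFun T (ψ : T → ℂ))) ∧ ∀ χ : Cfsg.IrrCharacter G, χ ∈ B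 ↔ ∃ ψ ∈ B', (χ : G → ℂ) = Cfsg.indFun T (ψ : T → ℂ)) ∧ (∀ B'₁ B'₂ : Set (Cfsg.IrrCharacter T), Cfsg.IsPBlock M B'₁ → Cfsg.IsPBlock M B'₂ → (∃ ψ ∈ B'₁, ∃ θ ∈ b, Cfsg.classInner (fun n : N => (ψ : T → ℂ) ⟨(n : G), hNT n.2⟩) (θ : N → ℂ) ≠ 0) → (∃ ψ ∈ B'₂, ∃ θ ∈ b, Cfsg.classInner (fun n : N => (ψ : T → ℂ) ⟨(n : G), hNT n.2⟩) (θ : N → ℂ) ≠ 0) → ∀ B : Set (Cfsg.IrrCharacter G), Cfsg.IsInducedBlock M T B'₁ B → Cfsg.IsInducedBlock M T B'₂ B → B'₁ = B'₂) ∧ (∀ B : Set (Cfsg.IrrCharacter G), Cfsg.IsPBlock M B → (∃ χ ∈ B, ∃ θ ∈ b, Cfsg.classInner (fun n : N => (χ : G → ℂ) n) (θ : N → ℂ) ≠ 0) → ∃ B' : Set (Cfsg.IrrCharacter T), Cfsg.IsPBlock M B' ∧ (∃ ψ ∈ B', ∃ θ ∈ b, Cfsg.classInner (fun n : N => (ψ : T → ℂ) ⟨(n : G), hNT n.2⟩) (θ : N → ℂ) ≠ 0) ∧ Cfsg.IsInducedBlock M T B' B) := by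
  have hMp := isPrime_of_isPModular hM
  have h := isStab_of (T := T) hb hT
  refine ⟨?_, ?_, ?_⟩
  · rintro B' hB' ⟨ψ, hψB, hψ⟩
    have hψ' : OverT N T hNT b ψ := hψ
    obtain ⟨χ, hχ⟩ := h.exists_indFun hNT hψ'
    have hind := h.isInducedBlock hNT hb hB' hψB hψ' hχ
    refine ⟨blockOf M (χ : G → ℂ), hind, ?_, ?_, ?_⟩
    · refine ⟨χ, mem_blockOf_self χ, ?_⟩
      exact h.overG_indFun hNT hψ' (by rw [classInner_indFun_self hχ]; exact one_ne_zero)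
    · intro ξ hξ
      obtain ⟨χξ, hχξ⟩ := h.exists_indFun hNT
        (h.overT_of_sameBlock hNT hb (sameBlock_of_mem hB' hψB hξ) hψ')
      rw [← hχξ]
      exact χξ.2
    · exact h.mem_iff hNT hb hind ⟨ψ, hψB, hψ'⟩
  · rintro B₁ B₂ hB₁ hB₂ ⟨ψ₁, hψ₁B, hψ₁⟩ ⟨ψ₂, hψ₂B, hψ₂⟩ B hind₁ hind₂
    have hψ₁' : OverT N T hNT b ψ₁ := hψ₁
    have hψ₂' : OverT N T hNT b ψ₂ := hψ₂
    obtain ⟨χ₁, hχ₁⟩ := h.exists_indFun hNT hψ₁'
    obtain ⟨χ₂, hχ₂⟩ := h.exists_indFun hNT hψ₂'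
    have h1 := h.mem_of_isInducedBlock hind₁ hψ₁B hχ₁
    have h2 := h.mem_of_isInducedBlock hind₂ hψ₂B hχ₂
    have h3 := (h.sameBlock_iff hNT hb hψ₁' hψ₂' hχ₁ hχ₂).mp
      (sameBlock_of_mem hind₁.2.1 h1 h2)
    rw [isPBlock_eq_blockOf hB₁ hψ₁B, isPBlock_eq_blockOf hB₂ hψ₂B]
    exact blockOf_eq_of_sameBlock h3
  · rintro B hB ⟨χ, hχB, hχ⟩
    obtain ⟨ψ, hψ, hχψ⟩ := h.exists_of_overG hNT (χ := χ) hχ
    refine ⟨blockOf M (ψ : T → ℂ), isPBlock_blockOf ψ, ⟨ψ, mem_blockOf_self ψ, hψ⟩, ?_⟩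
    have hind := h.isInducedBlock hNT hb (isPBlock_blockOf ψ) (mem_blockOf_self ψ) hψ hχψ
    rwa [← isPBlock_eq_blockOf hB hχB] at hind

end Cfsg.Agent.S4435
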