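import Cfsg.Statements.S4436
import Cfsg.Agent.H76.FongReynolds
import Cfsg.Agent.BlkInd.DefectApp

set_option autoImplicit false
open Cfsg

namespace Cfsg.Agent.S4436

open Cfsg.Agent.CharBase Cfsg.Agent.Blk Cfsg.Agent.Char Cfsg.Agent.H76

/-- Let N be a normal subgroup of the finite group G, b a block of N (relative to a maximal ideal M of the algebraic integers containing p), T the stabilizer of b in G, N ≤ T, and B′ a block of T covering b (some member of B′ has a constituent in b on restriction to N) that induces the block B of G. Then every defect group of B′ is a defect group of B, and for every ψ ∈ B′ the induced character ψ^G is an irreducible character of G lying in B with the same height as ψ. -/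
theorem result {G : Type*} [Group G] [Fintype G] (p : ℕ) [Fact p.Prime] (M : Ideal Cfsg.AlgInt) (hM : Cfsg.IsPModular p M) (N : Subgroup G) [hN : N.Normal] [Fintype N] (b : Set (Cfsg.IrrCharacter N)) (hb : Cfsg.IsPBlock M b) (T : Subgroup G) [Fintype T] (hT : ∀ g : G, g ∈ T ↔ ∀ θ ∈ b, ∀ θ' : Cfsg.IrrCharacter N, (∀ n : N, (θ' : N → ℂ) n = (θ : N → ℂ) ⟨g * n * g⁻¹, hN.conj_mem n n.2 g⟩) → θ' ∈ b) (hNT : N ≤ T) (B' : Set (Cfsg.IrrCharacter T)) (hB' : Cfsg.IsPBlock M B') (hcov : (∃ ψ ∈ B', ∃ θ ∈ b, Cfsg.classInner (fun n : N => (ψ : T → ℂ) ⟨(n : G), hNT n.2⟩) (θ : N → ℂ) ≠ 0)) (B : Set (Cfsg.IrrCharacter G)) (hind : Cfsg.IsInducedBlock M T B' B) : (∀ D : Subgroup T, Cfsg.IsDefectGroup p M B' D → Cfsg.IsDefectGroup p M B (D.map T.subtype)) ∧ ∀ ψ ∈ B', ∃ χ ∈ B, (χ : G → ℂ) = Cfsg.indFun T (ψ : T → ℂ) ∧ Cfsg.blockHeight p B (χ : G → ℂ) = Cfsg.blockHeight p B' (ψ : T → ℂ) := by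
  have hMp := isPrime_of_isPModular hM
  have hpp : p.Prime := Fact.out
  have h := isStab_of (T := T) hb hT
  have hmem := h.mem_iff hNT hb hind hcov
  have hTi : T.index ≠ 0 := Subgroup.index_ne_zero_of_finite
  have hdeg : ∀ (χ : IrrCharacter G) (ψ : IrrCharacter T), (χ : G → ℂ) = indFun T (ψ : T → ℂ) →
      (charDegree (χ : G → ℂ)).factorization p =
        T.index.factorization p + (charDegree (ψ : T → ℂ)).factorization p := by
    intro χ ψ hχ
    have h1 : (χ : G → ℂ) 1 = ((T.index * H75.deg ψ : ℕ) : ℂ) := by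
      rw [hχ, indFun_one_apply, H75.deg_spec]; push_cast; rfl
    rw [H75.charDegree_eq h1, H75.charDegree_eq_deg, Nat.factorization_mul hTi (H75.deg_pos ψ).ne']
    rfl
  have hover : ∀ ψ ∈ B', ∃ χ ∈ B, (χ : G → ℂ) = indFun T (ψ : T → ℂ) := by
    intro ψ hψ
    obtain ⟨ψ₀, hψ₀, hov⟩ := hcov
    obtain ⟨χ, hχ⟩ := h.exists_indFun hNT
      (h.overT_of_sameBlock hNT hb (sameBlock_of_mem hB' hψ₀ hψ) hov)
    exact ⟨χ, (hmem χ).mpr ⟨ψ, hψ, hχ⟩, hχ⟩
  -- the least exponents
  set FB : Set ℕ := (fun χ : IrrCharacter G => (charDegree (χ : G → ℂ)).factorization p) '' B with hFB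
  set FB' : Set ℕ :=
    (fun χ : IrrCharacter T => (charDegree (χ : T → ℂ)).factorization p) '' B' with hFB'
  have hne' : FB'.Nonempty := (isPBlock_nonempty hB').image _
  have hne : FB.Nonempty := (isPBlock_nonempty hind.2.1).image _
  have hinf : sInf FB = T.index.factorization p + sInf FB' := by
    apply le_antisymm
    · obtain ⟨ψ, hψ, hψe⟩ := Nat.sInf_mem hne'
      obtain ⟨χ, hχB, hχ⟩ := hover ψ hψ
      refine Nat.sInf_le ⟨χ, hχB, ?_⟩
      simp only at hψe ⊢
      rw [hdeg χ ψ hχ, hψe]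
    · obtain ⟨χ, hχB, hχe⟩ := Nat.sInf_mem hne
      obtain ⟨ψ, hψ, hχ⟩ := (hmem χ).mp hχB
      have h1 : sInf FB' ≤ (charDegree (ψ : T → ℂ)).factorization p := Nat.sInf_le ⟨ψ, hψ, rfl⟩
      simp only at hχe
      rw [← hχe, hdeg χ ψ hχ]
      omega
  have hdef : blockDefect p B = blockDefect p B' := by
    unfold blockDefect
    rw [← hFB, ← hFB', hinf]
    have h1 : (Nat.card G).factorization p =
        (Nat.card T).factorization p + T.index.factorization p := by
      rw [← Subgroup.card_mul_index T, Nat.factorization_mul Nat.card_pos.ne' hTi]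
      rfl
    rw [h1]
    omega
  constructor
  · intro D hD
    obtain ⟨E, hE, hDE⟩ := BlkInd.defect_le_of_induced hM hind hD
    have h1 := BlkInd.card_defectGroup hM hind.2.1 hE
    have h2 := BlkInd.card_defectGroup hM hind.1 hD
    have h3 : D.map T.subtype = E := by
      refine Subgroup.eq_of_le_of_card_ge hDE ?_
      rw [Subgroup.card_map_of_injective T.subtype_injective, h1, h2, hdef]
    rw [h3]
    exact hE
  · intro ψ hψ
    obtain ⟨χ, hχB, hχ⟩ := hover ψ hψ
    refine ⟨χ, hχB, hχ, ?_⟩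
    unfold blockHeight
    rw [← hFB, ← hFB', hinf, hdeg χ ψ hχ]
    omega

end Cfsg.Agent.S4436
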