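import Cfsg.Statements.S2503
import Mathlib.FieldTheory.IsAlgClosed.AlgebraicClosure

set_option autoImplicit false
open Cfsg

namespace Cfsg.Agent.S2503

section lemmas

open Matrix


section
variable {F : Type*} [Field F]

/-- norm form -/
def N (c x y : F) : F := x ^ 2 + x * y + c * y ^ 2

theorem N_ne_zero (h2 : (2 : F) = 0) {c : F} (hc : ∀ x : F, x ^ 2 + x ≠ c) {x y : F} (h : N c x y = 0) :
    x = 0 ∧ y = 0 := by
  by_cases hy : y = 0
  · subst hy
    simp [N] at h
    exact ⟨h, rfl⟩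
  · exfalso
    apply hc (x / y)
    unfold N at h
    field_simp
    linear_combination h - (c * y ^ 2) * h2

/-- the matrix of multiplication -/
def M (c x y : F) (h : N c x y = 1) (h2 : (2 : F) = 0) : SpecialLinearGroup (Fin 2) F :=
  ⟨!![x, c * y; y, x + y], by
    rw [Matrix.det_fin_two_of]; unfold N at h; linear_combination h - (c * y ^ 2) * h2⟩

theorem M_coe {c x y : F} (h : N c x y = 1) (h2 : (2 : F) = 0) :
    (M c x y h h2 : Matrix (Fin 2) (Fin 2) F) = !![x, c * y; y, x + y] := rfl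

theorem N_mul {c x y x' y' : F} (h2 : (2 : F) = 0) :
    N c (x * x' + c * y * y') (x * y' + y * x' + y * y') = N c x y * N c x' y' := by
  unfold N
  linear_combination (2 * c * x * y * x' * y' + c * x * y * y' ^ 2 + c * x' * y ^ 2 * y' +
    c * y^2*y'^2 ) * h2

theorem sl_ext {a b : SpecialLinearGroup (Fin 2) F} (h : (a : Matrix (Fin 2) (Fin 2) F) = b) : a = b :=
  Subtype.ext h

def A (c : F) (h2 : (2 : F) = 0) : Subgroup (SpecialLinearGroup (Fin 2) F) where
  carrier := {g | ∃ x y h, g = M c x y h h2}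
  mul_mem' := by
    rintro _ _ ⟨x, y, h, rfl⟩ ⟨x', y', h', rfl⟩
    refine ⟨x * x' + c * y * y', x * y' + y * x' + y * y', by rw [N_mul h2, h, h', one_mul], ?_⟩
    apply sl_ext
    show !![x, c * y; y, x + y] * !![x', c * y'; y', x' + y'] =
      !![x * x' + c * y * y', c * (x * y' + y * x' + y * y'); x * y' + y * x' + y * y',
        x * x' + c * y * y' + (x * y' + y * x' + y * y')]
    ext i j
    fin_cases i <;> fin_cases j <;> simp [Matrix.mul_apply] <;> ring
  one_mem' := ⟨1, 0, by simp [N], by apply sl_ext; simp [M_coe, Matrix.one_fin_two]⟩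
  inv_mem' := by
    rintro _ ⟨x, y, h, rfl⟩
    have h' : N c (x + y) y = 1 := by
      unfold N at h ⊢; linear_combination h + (x * y + y ^ 2) * h2
    refine ⟨x + y, y, h', ?_⟩
    rw [inv_eq_iff_mul_eq_one]
    apply sl_ext
    show !![x, c * y; y, x + y] * !![x + y, c * y; y, x + y + y] = (1 : Matrix (Fin 2) (Fin 2) F)
    unfold N at h
    ext i j
    fin_cases i <;> fin_cases j <;> simp [Matrix.mul_apply]
    · linear_combination h
    · linear_combination (x * c * y + c * y ^ 2) * h2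
    · linear_combination (x * y + y ^ 2) * h2
    · linear_combination h + (x * y + y ^ 2) * h2

theorem mem_A {c : F} {h2 : (2 : F) = 0} {g : SpecialLinearGroup (Fin 2) F} :
    g ∈ A c h2 ↔ ∃ x y h, g = M c x y h h2 := Iff.rfl

def B : Subgroup (SpecialLinearGroup (Fin 2) F) where
  carrier := {g | ∃ t : F, (g : Matrix (Fin 2) (Fin 2) F) = !![1, t; 0, 1]}
  mul_mem' := by
    rintro a b ⟨t, ht⟩ ⟨s, hs⟩
    exact ⟨t + s, (Matrix.SpecialLinearGroup.coe_mul a b).trans (by rw [ht, hs]; simp [add_comm])⟩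
  one_mem' := ⟨0, by simp [Matrix.one_fin_two]⟩
  inv_mem' := by
    rintro a ⟨t, ht⟩
    refine ⟨-t, (Matrix.SpecialLinearGroup.coe_inv a).trans ?_⟩
    rw [ht, Matrix.adjugate_fin_two_of]
    simp

theorem mem_B {g : SpecialLinearGroup (Fin 2) F} :
    g ∈ B ↔ ∃ t : F, (g : Matrix (Fin 2) (Fin 2) F) = !![1, t; 0, 1] := Iff.rfl

/-- `A` is cyclic -/
theorem A_cyclic [Finite F] {c : F} (h2 : (2 : F) = 0) (hc : ∀ x : F, x ^ 2 + x ≠ c) :
    IsCyclic (A c h2) := by
  classical
  let P : Polynomial F := Polynomial.X ^ 2 + Polynomial.X + Polynomial.C c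
  have hdeg : P.degree ≠ 0 := by
    have : P.degree = 2 := by
      simp only [P]
      compute_degree!
    rw [this]; decide
  obtain ⟨w, hw⟩ := IsAlgClosed.exists_aeval_eq_zero (AlgebraicClosure F) P hdeg
  simp only [P, map_add, map_pow, Polynomial.aeval_X, Polynomial.aeval_C] at hw
  set ι := algebraMap F (AlgebraicClosure F) with hι
  have h2' : (2 : AlgebraicClosure F) = 0 := by
    have := congrArg ι h2
    rwa [map_ofNat, map_zero] at this
  -- the hom
  let f : A c h2 →* AlgebraicClosure F :=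
    { toFun := fun g => ι (g.1.1 0 0) + ι (g.1.1 1 0) * w
      map_one' := by simp
      map_mul' := by
        rintro ⟨_, x, y, h, rfl⟩ ⟨_, x', y', h', rfl⟩
        have e1 : (M c x y h h2 * M c x' y' h' h2 : SpecialLinearGroup (Fin 2) F).1 =
          !![x, c * y; y, x + y] * !![x', c * y'; y', x' + y'] := rfl
        show ι ((M c x y h h2 * M c x' y' h' h2 : SpecialLinearGroup (Fin 2) F).1 0 0) +
          ι ((M c x y h h2 * M c x' y' h' h2 : SpecialLinearGroup (Fin 2) F).1 1 0) * w =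
          (ι x + ι y * w) * (ι x' + ι y' * w)
        rw [e1]
        simp [Matrix.mul_apply]
        linear_combination (-(ι y * ι y')) * hw + (ι y * ι y' * (ι c + w)) * h2' }
  refine isCyclic_of_injective_ringHom f ?_
  rintro ⟨_, x, y, h, rfl⟩ ⟨_, x', y', h', rfl⟩ hxy
  have hxy' : ι x + ι y * w = ι x' + ι y' * w := hxy
  have hyy : y = y' := by
    by_contra hne
    have hne' : y - y' ≠ 0 := sub_ne_zero.2 hne
    have hιne : ι (y - y') ≠ 0 := by
      rw [Ne, map_eq_zero]; exact hne'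
    have hw' : w = ι ((x' - x) / (y - y')) := by
      rw [map_div₀, eq_div_iff hιne, map_sub, map_sub]
      linear_combination hxy'
    apply hc ((x' - x) / (y - y'))
    apply (algebraMap F (AlgebraicClosure F)).injective
    rw [← hι, map_add, map_pow, ← hw']
    linear_combination hw - ι c * h2'
  subst hyy
  have : x = x' := by
    apply (algebraMap F (AlgebraicClosure F)).injective
    rw [← hι]
    linear_combination hxy'
  subst this
  rfl

/-- squares -/
theorem sq_bij [Finite F] (h2 : (2 : F) = 0) : Function.Bijective (fun x : F => x ^ 2) := by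
  have : Function.Injective (fun x : F => x ^ 2) := by
    intro x y hxy
    simp only at hxy
    have : (x - y) ^ 2 = 0 := by linear_combination hxy - (x * y - y ^ 2) * h2
    exact sub_eq_zero.1 (pow_eq_zero_iff (two_ne_zero)|>.1 this)
  exact (Finite.injective_iff_bijective).1 this

theorem card_A [Fintype F] {c : F} (h2 : (2 : F) = 0) (hc : ∀ x : F, x ^ 2 + x ≠ c) :
    Nat.card (A c h2) = Fintype.card F + 1 := by
  classical
  -- A × Fˣ ≃ nonzero vectors
  have e : (A c h2) × {s : F // s ≠ 0} ≃ {v : F × F // v ≠ 0} := by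
    refine Equiv.ofBijective (fun p => ⟨(p.2.1 * p.1.1.1 0 0, p.2.1 * p.1.1.1 1 0), ?_⟩) ⟨?_, ?_⟩
    · obtain ⟨⟨_, x, y, h, rfl⟩, s, hs⟩ := p
      intro h0
      have hx : s * x = 0 := congrArg Prod.fst h0
      have hy : s * y = 0 := congrArg Prod.snd h0
      have hx' := (mul_eq_zero.1 hx).resolve_left hs
      have hy' := (mul_eq_zero.1 hy).resolve_left hs
      subst hx'; subst hy'
      simp [N] at h
    · rintro ⟨⟨_, x, y, h, rfl⟩, s, hs⟩ ⟨⟨_, x', y', h', rfl⟩, s', hs'⟩ heq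
      have heq' := congrArg Subtype.val heq
      have hx : s * x = s' * x' := congrArg Prod.fst heq'
      have hy : s * y = s' * y' := congrArg Prod.snd heq'
      have hss : s ^ 2 = s' ^ 2 := by
        have e1 : s ^ 2 * N c x y = s' ^ 2 * N c x' y' := by
          unfold N
          linear_combination (s * x + s' * x') * hx + (s * y) * hx + (s' * x') * hy + c * (s * y + s' * y') * hy
        rwa [h, h', mul_one, mul_one] at e1
      have hss' : s = s' := (sq_bij h2).1 hss
      subst hss'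
      have hx' := mul_left_cancel₀ hs hx
      have hy' := mul_left_cancel₀ hs hy
      subst hx'; subst hy'
      rfl
    · rintro ⟨⟨x, y⟩, hv⟩
      have hN : N c x y ≠ 0 := by
        intro h0
        obtain ⟨rfl, rfl⟩ := N_ne_zero h2 hc h0
        exact hv rfl
      obtain ⟨s, hs⟩ := (sq_bij h2).2 (N c x y)
      simp only at hs
      have hs0 : s ≠ 0 := by
        rintro rfl
        apply hN; rw [← hs]; ring
      have h1 : N c (x / s) (y / s) = 1 := by
        have : N c (x / s) (y / s) = N c x y / s ^ 2 := by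
          unfold N; field_simp
        rw [this, hs, div_self hN]
      refine ⟨⟨⟨M c (x / s) (y / s) h1 h2, ⟨_, _, h1, rfl⟩⟩, ⟨s, hs0⟩⟩, ?_⟩
      apply Subtype.ext
      show (s * (x / s), s * (y / s)) = (x, y)
      rw [mul_div_cancel₀ _ hs0, mul_div_cancel₀ _ hs0]
  have h := Nat.card_congr e
  rw [Nat.card_prod] at h
  have h3 : Nat.card {s : F // s ≠ 0} = Fintype.card F - 1 := by
    rw [Nat.card_eq_fintype_card, Fintype.card_subtype_compl]
    simp
  have h4 : Nat.card {v : F × F // v ≠ 0} = Fintype.card F * Fintype.card F - 1 := by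
    rw [Nat.card_eq_fintype_card, Fintype.card_subtype_compl]
    simp
  rw [h3, h4] at h
  have h5 : 2 ≤ Fintype.card F := Fintype.one_lt_card
  obtain ⟨q, hq⟩ := Nat.exists_eq_add_of_le' h5
  rw [hq] at h ⊢
  have h6 : (q + 2) * (q + 2) - 1 = (q + 3) * (q + 1) := by
    have : (q + 2) * (q + 2) = (q + 3) * (q + 1) + 1 := by ring
    omega
  rw [h6, show q + 2 - 1 = q + 1 by omega] at h
  exact Nat.eq_of_mul_eq_mul_right (by omega) h

/-- the factorization in `SL` -/
theorem factor [Fintype F] {c : F} (h2 : (2 : F) = 0) (hc : ∀ x : F, x ^ 2 + x ≠ c)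
    (g : SpecialLinearGroup (Fin 2) F) :
    ∃ a ∈ A c h2, ∃ b ∈ B, ∃ a' ∈ A c h2, g = a * b * a' := by
  -- g⁻¹ = !![g11, g01; g10, g00] (char 2)
  obtain ⟨α, hα⟩ : ∃ α, α = g.1 0 0 := ⟨_, rfl⟩
  obtain ⟨β, hβ⟩ : ∃ β, β = g.1 0 1 := ⟨_, rfl⟩
  obtain ⟨γ, hγ⟩ : ∃ γ, γ = g.1 1 0 := ⟨_, rfl⟩
  obtain ⟨δ, hδ⟩ : ∃ δ, δ = g.1 1 1 := ⟨_, rfl⟩
  have hg : (g : Matrix (Fin 2) (Fin 2) F) = !![α, β; γ, δ] := by
    rw [hα, hβ, hγ, hδ]
    exact Matrix.eta_fin_two _
  have hdet : α * δ - β * γ = 1 := by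
    have := g.2
    rw [hg, Matrix.det_fin_two_of] at this
    exact this
  -- N (g v) - N v is a diagonal form in v
  obtain ⟨p, hp⟩ := (sq_bij h2).2 (α ^ 2 + α * γ + c * γ ^ 2 - 1)
  obtain ⟨r, hr⟩ := (sq_bij h2).2 (β ^ 2 + β * δ + c * δ ^ 2 - c)
  simp only at hp hr
  -- a nonzero vector with p x + r y = 0
  obtain ⟨x0, y0, hne, hxy0⟩ : ∃ x0 y0 : F, ¬ (x0 = 0 ∧ y0 = 0) ∧ p * x0 + r * y0 = 0 := by
    by_cases hr0 : r = 0
    · exact ⟨0, 1, by simp, by rw [hr0]; ring⟩
    · exact ⟨r, -p, fun h => hr0 h.1, by ring⟩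
  have hN : N c x0 y0 ≠ 0 := fun h => hne (N_ne_zero h2 hc h)
  obtain ⟨s, hs⟩ := (sq_bij h2).2 (N c x0 y0)
  simp only at hs
  have hs0 : s ≠ 0 := by
    rintro rfl
    apply hN; rw [← hs]; ring
  obtain ⟨x, hx⟩ : ∃ x, x = x0 / s := ⟨_, rfl⟩
  obtain ⟨y, hy⟩ : ∃ y, y = y0 / s := ⟨_, rfl⟩
  have h1 : N c x y = 1 := by
    have : N c x y = N c x0 y0 / s ^ 2 := by
      rw [hx, hy]; unfold N; field_simp
    rw [this, hs, div_self hN]
  have hxy : p * x + r * y = 0 := by
    rw [hx, hy]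
    have : p * (x0 / s) + r * (y0 / s) = (p * x0 + r * y0) / s := by ring
    rw [this, hxy0, zero_div]
  -- N (g v) = 1
  have h3 : N c (α * x + β * y) (γ * x + δ * y) = 1 := by
    have e0 : (p * x + r * y) ^ 2 = 0 := by rw [hxy]; ring
    unfold N at h1 ⊢
    linear_combination h1 + e0 - x ^ 2 * hp - y ^ 2 * hr + x * y * hdet +
      (α * β * x * y + β * γ * x * y + c * γ * δ * x * y - p * r * x * y) * h2
  obtain ⟨a', ha'⟩ : ∃ a', a' = M c x y h1 h2 := ⟨_, rfl⟩
  obtain ⟨a, ha⟩ : ∃ a, a = M c (α * x + β * y) (γ * x + δ * y) h3 h2 := ⟨_, rfl⟩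
  refine ⟨a, ⟨_, _, h3, ha⟩, a⁻¹ * g * a', ?_, a'⁻¹, (A c h2).inv_mem ⟨_, _, h1, ha'⟩, by group⟩
  -- the first column of a⁻¹ g a' is e
  have hcol : ∀ i, (g * a').1 i 0 = a.1 i 0 := by
    intro i
    have e1 : (g * a').1 = !![α, β; γ, δ] * !![x, c * y; y, x + y] := by
      rw [ha', Matrix.SpecialLinearGroup.coe_mul, hg]; rfl
    rw [e1, ha]
    fin_cases i <;> simp [Matrix.mul_apply, M]
  have hcol' : ∀ i, (a⁻¹ * g * a').1 i 0 = (1 : Matrix (Fin 2) (Fin 2) F) i 0 := by
    intro i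
    have e2 : (a⁻¹ * g * a').1 = (a⁻¹).1 * (g * a').1 := by
      rw [mul_assoc]; rfl
    have e3 : (a⁻¹).1 * a.1 = 1 := by
      have : (a⁻¹ * a) = 1 := inv_mul_cancel a
      have := congrArg Subtype.val this
      exact this
    rw [e2, ← e3, Matrix.mul_apply, Matrix.mul_apply]
    exact Finset.sum_congr rfl (fun j _ => by rw [hcol j])
  rw [mem_B]
  set b := a⁻¹ * g * a' with hb
  have h00 : b.1 0 0 = 1 := by rw [hcol' 0]; rfl
  have h10 : b.1 1 0 = 0 := by rw [hcol' 1]; rfl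
  have h11 : b.1 1 1 = 1 := by
    have := b.2
    rw [Matrix.det_fin_two, h00, h10] at this
    linear_combination this
  refine ⟨b.1 0 1, ?_⟩
  show b.1 = _
  conv_lhs => rw [Matrix.eta_fin_two b.1, h00, h10, h11]

theorem B_card [Fintype F] : Nat.card (B : Subgroup (SpecialLinearGroup (Fin 2) F)) = Fintype.card F := by
  rw [← Nat.card_eq_fintype_card]
  refine (Nat.card_congr (Equiv.ofBijective
    (fun t : F => (⟨⟨!![1, t; 0, 1], by rw [Matrix.det_fin_two_of]; ring⟩, ⟨t, rfl⟩⟩ : B (F := F)))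
    ⟨?_, ?_⟩)).symm
  · intro t s h
    have h' := congrArg (fun z : B (F := F) => z.1.1 0 1) h
    exact h'
  · rintro ⟨g, t, ht⟩
    exact ⟨t, Subtype.ext (sl_ext ht.symm)⟩

theorem mk_inj (h2 : (2 : F) = 0) : Function.Injective
    (QuotientGroup.mk' (Subgroup.center (SpecialLinearGroup (Fin 2) F))) := by
  rw [← MonoidHom.ker_eq_bot_iff, QuotientGroup.ker_mk', eq_bot_iff]
  intro g hg
  rw [Matrix.SpecialLinearGroup.mem_center_iff] at hg
  obtain ⟨r, hr, hg⟩ := hg
  simp only [Fintype.card_fin] at hr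
  have hr1 : r = 1 := by
    have : (r - 1) ^ 2 = 0 := by linear_combination hr - (r - 1) * h2
    exact sub_eq_zero.1 (pow_eq_zero_iff (two_ne_zero)|>.1 this)
  rw [Subgroup.mem_bot]
  apply sl_ext
  rw [← hg, hr1]
  simp

end


end lemmas

/-- Let F be a finite field with q = 2^t ≥ 4 elements and L = PSL(2,F). Then L has a cyclic subgroup A of order q + 1 and an elementary abelian 2-subgroup B of order q such that L = ABA: every element of L is a product a·b·a' with a, a' ∈ A and b ∈ B. -/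
theorem result {F : Type*} [Field F] [Fintype F]
    (h2 : 2 ∣ Fintype.card F) (h4 : 4 ≤ Fintype.card F) :
    ∃ A B : Subgroup (Matrix.ProjectiveSpecialLinearGroup (Fin 2) F),
      IsCyclic A ∧ Nat.card A = Fintype.card F + 1 ∧ IsMulCommutative B ∧ (∀ b ∈ B, b * b = 1) ∧
        Nat.card B = Fintype.card F ∧
        ∀ g : Matrix.ProjectiveSpecialLinearGroup (Fin 2) F, ∃ a ∈ A, ∃ b ∈ B, ∃ c ∈ A, g = a * b * c := by
  classical
  obtain ⟨p, hp⟩ := CharP.exists F
  haveI := hp
  have hpp : p.Prime := (CharP.char_is_prime F p)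
  haveI : Fact p.Prime := ⟨hpp⟩
  have hp2 : p = 2 := by
    obtain ⟨n, _, hn⟩ := FiniteField.card F p
    rw [hn] at h2
    exact ((Nat.prime_dvd_prime_iff_eq Nat.prime_two hpp).1 (Nat.prime_two.dvd_of_dvd_pow h2)).symm
  subst hp2
  have h20 : (2 : F) = 0 := CharTwo.two_eq_zero
  obtain ⟨c, hc⟩ : ∃ c : F, ∀ x : F, x ^ 2 + x ≠ c := by
    by_contra hcon
    push Not at hcon
    have hsurj : Function.Surjective (fun x : F => x ^ 2 + x) := hcon
    have hinj := (Finite.injective_iff_surjective).2 hsurj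
    have : (0 : F) = 1 := hinj (by simp only; linear_combination -h20)
    exact zero_ne_one this
  set φ := QuotientGroup.mk' (Subgroup.center (Matrix.SpecialLinearGroup (Fin 2) F)) with hφ
  have hφi : Function.Injective φ := mk_inj h20
  refine ⟨(A c h20).map φ, (B (F := F)).map φ, ?_, ?_, ?_, ?_, ?_, ?_⟩
  · haveI := A_cyclic h20 hc
    exact (MulEquiv.isCyclic ((A c h20).equivMapOfInjective φ hφi)).1 this
  · rw [← card_A h20 hc]
    exact (Nat.card_congr ((A c h20).equivMapOfInjective φ hφi).toEquiv).symm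
  · refine ⟨⟨?_⟩⟩
    rintro ⟨_, a, ⟨t, ht⟩, rfl⟩ ⟨_, b, ⟨s, hs⟩, rfl⟩
    apply Subtype.ext
    show φ a * φ b = φ b * φ a
    rw [← map_mul, ← map_mul]
    congr 1
    apply sl_ext
    rw [Matrix.SpecialLinearGroup.coe_mul, Matrix.SpecialLinearGroup.coe_mul, ht, hs]
    simp [add_comm]
  · rintro _ ⟨b, ⟨t, ht⟩, rfl⟩
    rw [← map_mul, ← map_one φ]
    congr 1
    apply sl_ext
    rw [Matrix.SpecialLinearGroup.coe_mul, ht]
    have : t + t = 0 := by linear_combination t * h20
    simp [Matrix.one_fin_two, this]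
  · rw [← B_card (F := F)]
    exact (Nat.card_congr ((B (F := F)).equivMapOfInjective φ hφi).toEquiv).symm
  · intro g
    obtain ⟨g, rfl⟩ := QuotientGroup.mk'_surjective _ g
    obtain ⟨a, ha, b, hb, a', ha', rfl⟩ := factor h20 hc g
    exact ⟨φ a, ⟨a, ha, rfl⟩, φ b, ⟨b, hb, rfl⟩, φ a', ⟨a', ha', rfl⟩, by rw [map_mul, map_mul]⟩

end Cfsg.Agent.S2503
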