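import Cfsg.Statements.S0633
import Cfsg.Agent.HH.GroupB

set_option autoImplicit false
open Cfsg

namespace Cfsg.Agent.S0633


open Cfsg.Agent.HH TensorProduct


/-- Theorem B of Hall and Higman on the minimal polynomial of a p-element of order p^n in a p-solvable linear group on a nonzero vector space in characteristic p with no nontrivial normal p-subgroup: its degree is p^n, except when some p^n₀ - 1 (n₀ ≤ n) is a power of a prime q for which the Sylow q-subgroups are non-abelian, in which case the degree is at least p^(n-n₀)(p^n₀ - 1). -/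
theorem result {F : Type*} [Field F] {p : ℕ} [Fact p.Prime] [CharP F p] {V : Type*} [AddCommGroup V] [Module F V] [FiniteDimensional F V] [Nontrivial V] (H : Subgroup (V ≃ₗ[F] V)) [Finite H] (hsol : Cfsg.IsPSolvable p H) (hOp : Cfsg.pCore p H = ⊥) (x : V ≃ₗ[F] V) (hx : x ∈ H) (n : ℕ) (hn : orderOf x = p ^ n) (r : ℕ) (hr : minpoly F (x : Module.End F V) = (Polynomial.X - 1) ^ r) : r = p ^ n ∨ ∃ n₀ q m : ℕ, 1 ≤ n₀ ∧ n₀ ≤ n ∧ q.Prime ∧ 1 ≤ m ∧ p ^ n₀ - 1 = q ^ m ∧ (∀ Q : Sylow q H, ¬ IsMulCommutative Q) ∧ p ^ (n - n₀) * (p ^ n₀ - 1) ≤ r := by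
  classical
  have hpp : p.Prime := Fact.out
  set T : Module.End F V := (x : Module.End F V) with hT
  haveI : CharP (Module.End F V) p :=
    charP_of_injective_algebraMap (FaithfulSMul.algebraMap_injective F (Module.End F V)) p
  have hT1 : (T - 1) ^ r = 0 := by
    have := minpoly.aeval F T
    rw [hr, map_pow, map_sub, Polynomial.aeval_X, map_one] at this
    exact this
  have hTpow : ∀ k : ℕ, T ^ k = ((x ^ k : V ≃ₗ[F] V) : Module.End F V) := by
    intro k
    induction k with
    | zero => rfl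
    | succ k ih => rw [pow_succ, ih, pow_succ]; rfl
  have hle : ∀ m, (T - 1) ^ m = 0 → r ≤ m := by
    intro m hm
    have h1 : minpoly F T ∣ (Polynomial.X - 1) ^ m := minpoly.dvd F T (by
      rw [map_pow, map_sub, Polynomial.aeval_X, map_one, hm])
    rw [hr] at h1
    have h3 : (Polynomial.X : Polynomial F) - 1 ≠ 0 := by
      have := Polynomial.X_sub_C_ne_zero (1 : F)
      rwa [Polynomial.C_1] at this
    have h2 := Polynomial.natDegree_le_of_dvd h1 (pow_ne_zero m h3)
    have h4 : ((Polynomial.X : Polynomial F) - 1).natDegree = 1 := by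
      have := Polynomial.natDegree_X_sub_C (1 : F)
      rwa [Polynomial.C_1] at this
    rw [Polynomial.natDegree_pow, Polynomial.natDegree_pow, h4, mul_one, mul_one] at h2
    exact h2
  have hlt : ∀ m, (T - 1) ^ m ≠ 0 → m < r := by
    intro m hm
    by_contra hcon
    push Not at hcon
    apply hm
    rw [← Nat.add_sub_of_le hcon, pow_add, hT1, zero_mul]
  have hrle : r ≤ p ^ n := by
    apply hle
    rw [sub_pow_char_pow_of_commute _ _ (Commute.one_right _), one_pow, hTpow, ← hn, pow_orderOf_eq_one]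
    exact sub_self _
  have hppos : 0 < p ^ n := pow_pos hpp.pos n
  rcases Nat.eq_zero_or_pos n with rfl | hnpos
  · left
    have : (T - 1) ^ 0 ≠ 0 := by rw [pow_zero]; exact one_ne_zero
    have := hlt _ this
    rw [pow_zero] at hrle ⊢
    omega
  -- group theory
  set x' : H := ⟨x, hx⟩ with hx'
  have hox : orderOf x' = p ^ n := by rw [← hn, hx', Subgroup.orderOf_mk]
  set x₀ := x' ^ p ^ (n - 1) with hx₀
  have hox₀ : orderOf x₀ = p := by
    rw [hx₀, orderOf_pow_of_dvd (pow_pos hpp.pos _).ne' (by rw [hox]; exact pow_dvd_pow p (by omega)), hox,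
      Nat.pow_div (by omega) hpp.pos, show n - (n - 1) = 1 by omega, pow_one]
  have hcore := H79.centralizer_pPrimeCore_le hsol hOp
  have hcop : (Nat.card (Cfsg.pPrimeCore p H)).Coprime p := Solv.pPrimeCore_card_coprime p
  have hnt : ⁅Cfsg.pPrimeCore p H, Subgroup.zpowers x₀⁆ ≠ ⊥ := by
    intro h0
    rw [Subgroup.commutator_comm, Subgroup.commutator_eq_bot_iff_le_centralizer] at h0
    have h1 : x₀ ∈ Cfsg.pPrimeCore p H := hcore (h0 (Subgroup.mem_zpowers x₀))
    have h2 : orderOf (⟨x₀, h1⟩ : Cfsg.pPrimeCore p H) ∣ Nat.card (Cfsg.pPrimeCore p H) := orderOf_dvd_natCard _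
    rw [Subgroup.orderOf_mk, hox₀] at h2
    have h3 := Nat.Coprime.coprime_dvd_left h2 hcop
    exact hpp.one_lt.ne' ((Nat.coprime_self p).1 h3)
  have hnorm : x' ∈ Subgroup.normalizer (Cfsg.pPrimeCore p H : Set H) := by
    haveI : (Cfsg.pPrimeCore p H).Normal := (Solv.coprime_card_sSup p _ (fun _ h => h)).1
    rw [Subgroup.normalizer_eq_top]
    exact Subgroup.mem_top _
  obtain ⟨q, hq, Q, hpq, hQq, -, hxQ, hc1, hQ1, hc2, hc3, -⟩ := exists_min_q (Cfsg.pPrimeCore p H) hcop hox hnorm hnt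
  -- representation over the algebraic closure
  let K := AlgebraicClosure F
  haveI : CharP K p := charP_of_injective_algebraMap (algebraMap F K).injective p
  let ρ₀ : H →* Module.End F V :=
    { toFun := fun g => ((g : V ≃ₗ[F] V) : Module.End F V)
      map_one' := rfl
      map_mul' := fun _ _ => rfl }
  let ρ : Representation K H (K ⊗[F] V) :=
    ((Module.End.baseChangeHom F K V) : Module.End F V →* Module.End K (K ⊗[F] V)).comp ρ₀
  have hρ : ∀ g : H, ρ g = Module.End.baseChangeHom F K V (ρ₀ g) := fun _ => rfl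
  have hρnt : ∃ g ∈ Q, ρ g ≠ 1 := by
    obtain ⟨g, hg⟩ := Subgroup.ne_bot_iff_exists_ne_one.1 hQ1
    refine ⟨g, g.2, ?_⟩
    intro h0
    apply hg
    apply Subtype.ext
    apply Subtype.ext
    apply LinearEquiv.ext
    intro v
    have h1 := congrArg (fun f : Module.End K (K ⊗[F] V) => f (1 ⊗ₜ v)) h0
    have h2 : (1 : K) ⊗ₜ[F] (((g : H) : V ≃ₗ[F] V) v) = (1 : K) ⊗ₜ[F] v := h1
    exact (Module.FaithfullyFlat.tensorProduct_mk_injective (A := F) (B := K) V) h2
  have hres := core_B (ρ := ρ) hpq hQq hox hxQ hc1 hc2 hc3 hρnt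
  have hne : ∀ m, (ρ x' - 1) ^ m ≠ 0 → (T - 1) ^ m ≠ 0 := by
    intro m hm h0
    apply hm
    have h1 : ρ x' - 1 = Module.End.baseChangeHom F K V (T - 1) := by
      rw [map_sub, map_one]; rfl
    rw [h1, ← map_pow, h0, map_zero]
  rcases hres with h1 | ⟨n₀, b, hn₀, hn₀n, hb, hpb, ⟨g, hg, h, hh, hgh⟩, h1⟩
  · left
    have := hlt _ (hne _ h1)
    omega
  · right
    refine ⟨n₀, q, b, hn₀, hn₀n, hq.out, hb, hpb, ?_, ?_⟩
    · intro S hS
      obtain ⟨S', hS'⟩ := hQq.exists_le_sylow
      apply hgh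
      let e := Sylow.equiv S' S
      have h2 : (⟨g, hS' hg⟩ : S') * ⟨h, hS' hh⟩ = ⟨h, hS' hh⟩ * ⟨g, hS' hg⟩ := by
        apply e.injective
        rw [map_mul, map_mul]
        exact hS.is_comm.comm _ _
      exact congrArg Subtype.val h2
    · have := hlt _ (hne _ h1)
      omega

end Cfsg.Agent.S0633
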