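import Cfsg.Statements.S4025
import Cfsg.Agent.BT.SAe
import Cfsg.Agent.LE.SylRel
import Cfsg.Agent.Solv.Core

set_option autoImplicit false
open Cfsg

namespace Cfsg.Agent.S4025

/-- Let p be a prime and G a finite group in which any two p-subgroups of the same order are conjugate, and suppose a Sylow p-subgroup P of G is elementary abelian of order pⁿ with n ≥ 3. Let N be the normalizer of P and K the largest normal subgroup of N of order prime to p, and assume N/K is solvable. Then either n = 3 and N/K embeds in the one-dimensional semi-affine group over the field with p³ elements (and for p = 2 it is isomorphic to the affine or the semi-affine group over the field with 8 elements), or n = 5, p = 2 and N/K is isomorphic to the one-dimensional semi-affine group over the field with 32 elements. -/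
theorem result {G : Type*} [Group G] [Finite G]
    {p : ℕ} [Fact p.Prime] (hC : ∀ H K : Subgroup G, IsPGroup p H → IsPGroup p K → Nat.card H = Nat.card K →
      ∃ g : G, K = H.map (MulAut.conj g).toMonoidHom) (P : Sylow p G) (n : ℕ) (hn : 3 ≤ n)
    (hel : Cfsg.IsElementaryAbelian p (P : Subgroup G)) (hcard : Nat.card P = p ^ n)
    (N : Subgroup G) (hN : N = Subgroup.normalizer ((P : Subgroup G) : Set G))
    (hsolv : Group.IsSolvable (↥N ⧸ Cfsg.pPrimeCore p ↥N)) :
    (n = 3 ∧ (∃ f : ↥N ⧸ Cfsg.pPrimeCore p ↥N →* ↥(Cfsg.semiaffineGroup (GaloisField p 3)), Function.Injective f) ∧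
      (p = 2 → Nonempty (↥N ⧸ Cfsg.pPrimeCore p ↥N ≃* Cfsg.semiaffineGroup (GaloisField 2 3)) ∨
               Nonempty (↥N ⧸ Cfsg.pPrimeCore p ↥N ≃* Cfsg.affineGroup (GaloisField 2 3)))) ∨
    (n = 5 ∧ p = 2 ∧ Nonempty (↥N ⧸ Cfsg.pPrimeCore p ↥N ≃* Cfsg.semiaffineGroup (GaloisField 2 5))) := by
  classical
  subst hN
  set N := Subgroup.normalizer ((P : Subgroup G) : Set G) with hNdef
  have hPN : (P : Subgroup G) ≤ N := Subgroup.le_normalizer
  set P' : Subgroup N := (P : Subgroup G).subgroupOf N with hP'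
  have hP'n : P'.Normal := Subgroup.normal_in_normalizer
  set K := Cfsg.pPrimeCore p N with hK
  have hKn : K.Normal := inferInstance
  let π : N →* N ⧸ K := QuotientGroup.mk' K
  have hπ : Function.Surjective π := QuotientGroup.mk'_surjective K
  have hcP' : Nat.card P' = p ^ n := by
    rw [← hcard, hP']
    exact Nat.card_congr (Subgroup.subgroupOfEquivOfLe hPN).toEquiv
  have hKc : (Nat.card K).Coprime p := Solv.pPrimeCore_card_coprime p
  have hdisj : ∀ x : N, x ∈ P' → x ∈ K → x = 1 := by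
    intro x hx hxK
    have h1 : orderOf x ∣ p ^ n := by rw [← hcP']; exact Subgroup.orderOf_dvd_natCard P' hx
    have h2 : orderOf x ∣ Nat.card K := Subgroup.orderOf_dvd_natCard K hxK
    have h3 : orderOf x ∣ 1 := by
      rw [← (Nat.Coprime.pow_right n hKc)]
      exact Nat.dvd_gcd h2 h1
    exact orderOf_eq_one_iff.mp (Nat.dvd_one.mp h3)
  have hπP' : ∀ x ∈ P', ∀ y ∈ P', π x = π y → x = y := by
    intro x hx y hy hxy
    have h1 : x⁻¹ * y ∈ K := QuotientGroup.eq.mp hxy
    have h2 := hdisj _ (P'.mul_mem (P'.inv_mem hx) hy) h1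
    rw [inv_mul_eq_one] at h2
    exact h2
  set Q : Subgroup (N ⧸ K) := P'.map π with hQ
  have hQn : Q.Normal := hP'n.map π hπ
  -- preimages
  have hpre : ∀ A : Subgroup (N ⧸ K), A ≤ Q → Nat.card ((A.comap π ⊓ P').map N.subtype : Subgroup G) = Nat.card A := by
    intro A hA
    rw [Subgroup.card_map_of_injective N.subtype_injective]
    refine Nat.card_congr (Equiv.ofBijective (fun x => (⟨π x.1, x.2.1⟩ : A)) ⟨?_, ?_⟩)
    · intro x y hxy
      apply Subtype.ext
      exact hπP' _ x.2.2 _ y.2.2 (congrArg Subtype.val hxy)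
    · rintro ⟨a, ha⟩
      obtain ⟨x, hx, hxa⟩ := hA ha
      refine ⟨⟨x, ?_, hx⟩, Subtype.ext hxa⟩
      change π x ∈ A
      rw [hxa]; exact ha
  have hcQ : Nat.card Q = p ^ n := by
    rw [← hpre Q le_rfl, Subgroup.card_map_of_injective N.subtype_injective, ← hcP']
    have h1 : Q.comap π ⊓ P' = P' := inf_eq_right.mpr (Subgroup.le_comap_map π P')
    rw [h1]
  have hcommP : ∀ a ∈ (P : Subgroup G), ∀ b ∈ (P : Subgroup G), a * b = b * a := fun a ha b hb =>
    congrArg Subtype.val (hel.1.is_comm.comm ⟨a, ha⟩ ⟨b, hb⟩)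
  have helQ : Cfsg.IsElementaryAbelian p Q := by
    refine ⟨⟨⟨?_⟩⟩, ?_⟩
    · rintro ⟨a, x, hx, rfl⟩ ⟨b, y, hy, rfl⟩
      apply Subtype.ext
      change π x * π y = π y * π x
      rw [← map_mul, ← map_mul]
      congr 1
      exact Subtype.ext (hcommP _ hx _ hy)
    · rintro a ⟨x, hx, rfl⟩
      rw [← map_pow]
      have : x ^ p = 1 := Subtype.ext (hel.2 _ hx)
      rw [this, map_one]
  have hidx : Q.index.Coprime p := by
    have h1 : Q.index ∣ P'.index := Subgroup.index_map_dvd P' hπ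
    have h2 : P'.index ∣ (P : Subgroup G).index := Subgroup.relIndex_dvd_index_of_le hPN
    have h3 : ¬ p ∣ (P : Subgroup G).index := P.not_dvd_index
    have h4 : ((P : Subgroup G).index).Coprime p := ((Nat.Prime.coprime_iff_not_dvd Fact.out).mpr h3).symm
    exact Nat.Coprime.coprime_dvd_left (h1.trans h2) h4
  have hO : Cfsg.pPrimeCore p (N ⧸ K) = ⊥ := Solv.pPrimeCore_quotient_pPrimeCore p
  refine BT.SA.group_main hsolv Q hn helQ hcQ hidx hO ?_
  intro A B hA hB hAB
  set A₁ : Subgroup G := (A.comap π ⊓ P').map N.subtype with hA₁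
  set B₁ : Subgroup G := (B.comap π ⊓ P').map N.subtype with hB₁
  have hAP : A₁ ≤ P := by
    rintro _ ⟨x, hx, rfl⟩
    exact hx.2
  have hBP : B₁ ≤ P := by
    rintro _ ⟨x, hx, rfl⟩
    exact hx.2
  have hPp : IsPGroup p (P : Subgroup G) := P.isPGroup'
  obtain ⟨g, hg⟩ := hC A₁ B₁ (hPp.to_le hAP) (hPp.to_le hBP) (by rw [hA₁, hB₁, hpre A hA, hpre B hB, hAB])
  obtain ⟨m, hm, hmB⟩ := LE.burnside_fusion (p := p) (LE.isSylowIn_top P) hcommP hAP hBP (g := g) hg.symm
  have hmem : ∀ x, x ∈ B₁ ↔ m⁻¹ * x * m ∈ A₁ := by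
    intro x
    rw [← hmB, H80.mem_cj]
  have hAm : ∀ x : N, (x : G) ∈ A₁ ↔ (π x ∈ A ∧ x ∈ P') := by
    intro x
    constructor
    · rintro ⟨y, hy, hyx⟩
      have : y = x := Subtype.ext hyx
      rw [← this]; exact hy
    · intro h
      exact ⟨x, h, rfl⟩
  have hBm : ∀ x : N, (x : G) ∈ B₁ ↔ (π x ∈ B ∧ x ∈ P') := by
    intro x
    constructor
    · rintro ⟨y, hy, hyx⟩
      have : y = x := Subtype.ext hyx
      rw [← this]; exact hy
    · intro h
      exact ⟨x, h, rfl⟩
  refine ⟨π ⟨m, hm⟩, fun x => ?_⟩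
  constructor
  · intro hx
    obtain ⟨b, hb, rfl⟩ := hB hx
    have h1 := (hmem _).mp ((hBm b).mpr ⟨hx, hb⟩)
    have h2 := (hAm ((⟨m, hm⟩ : N)⁻¹ * b * ⟨m, hm⟩)).mp h1
    rw [map_mul, map_mul, map_inv] at h2
    exact h2.1
  · intro hx
    obtain ⟨a, ha, hax⟩ := hA hx
    have h1 : (a : G) ∈ A₁ := (hAm a).mpr ⟨by rw [hax]; exact hx, ha⟩
    have h2 : ((⟨m, hm⟩ * a * (⟨m, hm⟩ : N)⁻¹ : N) : G) ∈ B₁ := by
      rw [hmem]
      change m⁻¹ * (m * a * m⁻¹) * m ∈ A₁
      have : m⁻¹ * (m * a * m⁻¹) * m = a := by group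
      rw [this]; exact h1
    have h3 := (hBm _).mp h2
    rw [map_mul, map_mul, map_inv, hax] at h3
    have h4 : π ⟨m, hm⟩ * ((π ⟨m, hm⟩)⁻¹ * x * π ⟨m, hm⟩) * (π ⟨m, hm⟩)⁻¹ = x := by group
    rw [h4] at h3
    exact h3.1

end Cfsg.Agent.S4025
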