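import Cfsg.Statements.S1578
import Cfsg.Agent.Leech.Census

set_option autoImplicit false
open Cfsg

namespace Cfsg.Agent.S1578

/-- A lattice vector of customary norm 6 is the sum of an unordered pair of minimal vectors in exactly 276 ways (552 ordered summands). -/
theorem result (u : ↥Cfsg.leechLattice) (hu : Cfsg.sqNorm (u : Cfsg.GolayPt → ℤ) = 48) : {v : ↥Cfsg.leechLattice | Cfsg.sqNorm (v : Cfsg.GolayPt → ℤ) = 32 ∧ Cfsg.sqNorm ((u - v) : Cfsg.GolayPt → ℤ) = 32}.ncard = 552 := by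
  obtain ⟨g, hg⟩ := Leech.trans_48 u Spor.leechV hu Leech.norm_leechV
  rw [← Leech.census_48_24, ← Leech.ncard_lattice (fun x => sqNorm x = 32 ∧ dotInt Spor.vecV x = 24 ∧ dotInt 0 x = 0 ∧
        dotInt 0 x = 0)]
  apply Leech.ncard_transport g
  intro x
  have h1 := Leech.co0_dot g u x
  rw [hg] at h1
  have h0 : ∀ y : GolayPt → ℤ, dotInt 0 y = 0 := fun y => by simp [dotInt]
  have h2 : dotInt Spor.vecV ((g • x : leechLattice) : GolayPt → ℤ) = dotInt (u : GolayPt → ℤ) x := h1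
  have h3 := Leech.sqNorm_sub (u : GolayPt → ℤ) x
  show (sqNorm (x : GolayPt → ℤ) = 32 ∧ sqNorm ((u : GolayPt → ℤ) - (x : GolayPt → ℤ)) = 32) ↔
    (sqNorm ((g • x : leechLattice) : GolayPt → ℤ) = 32 ∧
      dotInt Spor.vecV ((g • x : leechLattice) : GolayPt → ℤ) = 24 ∧ dotInt 0 _ = 0 ∧ dotInt 0 _ = 0)
  rw [Leech.co0_norm, h0, h2, h3, hu]
  constructor
  · rintro ⟨h4, h5⟩; exact ⟨h4, by omega, rfl, rfl⟩
  · rintro ⟨h4, h5, -, -⟩; exact ⟨h4, by omega⟩

end Cfsg.Agent.S1578
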