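import Cfsg.Statements.S3153
import Cfsg.Agent.H52.Basic
import Cfsg.Agent.H52.Four
import Cfsg.Agent.H52.QS
import Cfsg.Agent.Solv.Core

set_option autoImplicit false
open Cfsg

namespace Cfsg.Agent.S3153

open scoped commutatorElement in
/-- If `P` is quasisimple (as a subgroup of `X`), `D` a subset of elements with `⁅P, D⁆ ≤ Z(P)`, then `P` centralises `D`. -/
theorem centralizes_of_commutator_central {X : Type*} [Group X] (P D : Subgroup X)
    (hP : Group.IsPerfect ↥P)
    (h : ∀ q ∈ P, ∀ o ∈ D, ⁅q, o⁆ ∈ (Subgroup.center ↥P).map P.subtype) : ⁅P, D⁆ = ⊥ := by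
  have h1 : ⁅P, D⁆ ≤ (Subgroup.center ↥P).map P.subtype := by
    rw [Subgroup.commutator_le]
    exact fun q hq o ho => h q hq o ho
  have h2 : ⁅⁅P, D⁆, P⁆ = ⊥ := by
    rw [eq_bot_iff, Subgroup.commutator_le]
    intro z hz q hq
    obtain ⟨z', hz', rfl⟩ := h1 hz
    rw [Subgroup.mem_bot, commutatorElement_eq_one_iff_mul_comm]
    have := Subgroup.mem_center_iff.mp hz' ⟨q, hq⟩
    have := congrArg Subtype.val this
    simpa using this.symm
  have h3 : ⁅⁅D, P⁆, P⁆ = ⊥ := by rw [Subgroup.commutator_comm D P]; exact h2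
  have h4 : ⁅⁅P, P⁆, D⁆ = ⊥ := Subgroup.commutator_commutator_eq_bot_of_rotate h2 h3
  rwa [Subgroup.isPerfect_iff.mp hP] at h4

/-- In a group of 2-rank at most one, commuting elements of square one are equal or trivial. -/
theorem rank_one_comm {H : Type*} [Group H] [Finite H] (hr : Cfsg.PRankLE 2 1 H) (u v : H)
    (hu : u * u = 1) (hv : v * v = 1) (huv : u * v = v * u) (hu1 : u ≠ 1) : v = 1 ∨ v = u := by
  classical
  by_contra hcon
  push Not at hcon
  obtain ⟨hv1, hvu⟩ := hcon
  have hcl : IsMulCommutative (Subgroup.closure ({u, v} : Set H)) := by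
    apply Subgroup.isMulCommutative_closure
    intro a ha b hb
    rcases ha with rfl | ha <;> rcases hb with rfl | hb
    · rfl
    · rw [Set.mem_singleton_iff.mp hb]; exact huv
    · rw [Set.mem_singleton_iff.mp ha]; exact huv.symm
    · rw [Set.mem_singleton_iff.mp ha, Set.mem_singleton_iff.mp hb]
  have hexp : ∀ a ∈ Subgroup.closure ({u, v} : Set H), a ^ 2 = 1 := by
    intro a ha
    induction ha using Subgroup.closure_induction with
    | mem x hx =>
      rcases hx with rfl | hx
      · rw [pow_two]; exact hu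
      · rw [Set.mem_singleton_iff.mp hx, pow_two]; exact hv
    | one => simp
    | mul x y hx hy ihx ihy =>
      have hc : x * y = y * x := by
        have := hcl.is_comm.comm ⟨x, hx⟩ ⟨y, hy⟩
        exact congrArg Subtype.val this
      rw [Commute.mul_pow hc, ihx, ihy, one_mul]
    | inv x hx ih => rw [inv_pow, ih, inv_one]
  have h1 := hr _ hcl hexp
  have hsub : ({1, u, v} : Set H) ⊆ ((Subgroup.closure ({u, v} : Set H) : Subgroup H) : Set H) := by
    intro x hx
    simp only [Set.mem_insert_iff, Set.mem_singleton_iff] at hx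
    rcases hx with rfl | rfl | rfl
    · exact Subgroup.one_mem _
    · exact Subgroup.subset_closure (by simp)
    · exact Subgroup.subset_closure (by simp)
  have hc3 : ({1, u, v} : Set H).ncard = 3 := by
    rw [Set.ncard_eq_three]
    exact ⟨1, u, v, hu1.symm, hv1.symm, hvu.symm, rfl⟩
  have h2 := Set.ncard_le_ncard hsub (Set.toFinite _)
  rw [hc3] at h2
  have h3 : ((Subgroup.closure ({u, v} : Set H) : Subgroup H) : Set H).ncard = Nat.card ↥(Subgroup.closure ({u, v} : Set H)) := rfl
  omega

/-- A nontrivial 2-group of 2-rank at most one inside a group: uniqueness of the involution. -/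
theorem unique_involution {H : Type*} [Group H] [Finite H] (hr : Cfsg.PRankLE 2 1 H) (R : Subgroup H)
    (hR : IsPGroup 2 R) (u v : H) (hu : u ∈ R) (hv : v ∈ R) (hu2 : u * u = 1) (hv2 : v * v = 1)
    (hu1 : u ≠ 1) (hv1 : v ≠ 1) : u = v := by
  have hnt : Nontrivial R := ⟨⟨u, hu⟩, 1, fun h => hu1 (congrArg Subtype.val h)⟩
  have hc : Nontrivial (Subgroup.center R) := hR.center_nontrivial
  have hpc : IsPGroup 2 (Subgroup.center R) := hR.to_subgroup _
  have hdvd : 2 ∣ Nat.card (Subgroup.center R) := by
    obtain ⟨n, hn⟩ := IsPGroup.iff_card.mp hpc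
    have h1 : 1 < Nat.card (Subgroup.center R) := Finite.one_lt_card
    rcases n with _ | n
    · rw [hn] at h1; simp at h1
    · rw [hn, pow_succ]; exact Dvd.intro_left _ rfl
  obtain ⟨w, hw⟩ := exists_prime_orderOf_dvd_card' 2 hdvd
  have hw1 : w ≠ 1 := by intro h; rw [h, orderOf_one] at hw; omega
  have hww : w * w = 1 := by rw [← pow_two, ← hw, pow_orderOf_eq_one]
  have hW1 : ((w : R) : H) ≠ 1 := by
    intro h; apply hw1; ext; simpa using h
  have hWW : ((w : R) : H) * ((w : R) : H) = 1 := by
    have := congrArg (fun z : Subgroup.center R => ((z : R) : H)) hww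
    simpa using this
  have hcomm : ∀ x ∈ R, ((w : R) : H) * x = x * ((w : R) : H) := by
    intro x hx
    have := Subgroup.mem_center_iff.mp w.2 ⟨x, hx⟩
    have := congrArg Subtype.val this
    simpa using this.symm
  have e1 := rank_one_comm hr _ u hWW hu2 (hcomm u hu) hW1
  have e2 := rank_one_comm hr _ v hWW hv2 (hcomm v hv) hW1
  rw [e1.resolve_left hu1, e2.resolve_left hv1]

open scoped commutatorElement in
theorem main {X : Type*} [Group X] [Finite X] (P : Subgroup X) (hP : Cfsg.IsStandardSubgroup P)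
    (hr : Cfsg.PRankLE 2 1 ↥(Subgroup.centralizer (P : Set X))) (hZ : Odd (Nat.card ↥(Subgroup.center ↥P)))
    (S : Sylow 2 ↥(Subgroup.normalizer (P : Set X))) (t : X) (ht : orderOf t = 2) (htS : t ∈ (S : Subgroup ↥(Subgroup.normalizer (P : Set X))).map (Subgroup.normalizer (P : Set X)).subtype)
    (htP : t ∈ Subgroup.centralizer (P : Set X))
    (g : X) (hgN : ∀ s ∈ (S : Subgroup ↥(Subgroup.normalizer (P : Set X))).map (Subgroup.normalizer (P : Set X)).subtype, g * s * g⁻¹ ∈ (S : Subgroup ↥(Subgroup.normalizer (P : Set X))).map (Subgroup.normalizer (P : Set X)).subtype)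
    (hgS : g ∉ (S : Subgroup ↥(Subgroup.normalizer (P : Set X))).map (Subgroup.normalizer (P : Set X)).subtype) (hg2 : g ^ 2 ∈ (S : Subgroup ↥(Subgroup.normalizer (P : Set X))).map (Subgroup.normalizer (P : Set X)).subtype)
    (hgt : g * t * g⁻¹ ∈ P ⊔ Subgroup.centralizer (P : Set X)) :
    ⁅P, Cfsg.oddCore X⁆ = ⊥ ∧
      ∀ L : Subgroup X, Cfsg.IsPComponent 2 L → P ≤ L → (∀ l ∈ L, t * l * t⁻¹ ∈ L) → Cfsg.IsQuasisimple ↥L := by
  classical
  obtain ⟨hqs, ⟨hCeven, hCtight⟩, -, hNN⟩ := hP
  have hPperf : Group.IsPerfect ↥P := hqs.1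
  have htt : t * t = 1 := by rw [← pow_two, ← ht, pow_orderOf_eq_one]
  have ht1 : t ≠ 1 := by rintro rfl; rw [orderOf_one] at ht; omega
  have htinv : t⁻¹ = t := inv_eq_of_mul_eq_one_left htt
  -- elements commuting with `t` normalise `P`
  have hcentN : ∀ x : X, x * t * x⁻¹ = t → x ∈ Subgroup.normalizer (P : Set X) := by
    intro x hx
    rw [hNN]
    by_contra hcon
    have hodd := hCtight x hcon
    have hmem : t ∈ Subgroup.centralizer (P : Set X) ⊓ (Subgroup.centralizer (P : Set X)).map (MulAut.conj x).toMonoidHom := by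
      refine ⟨htP, ?_⟩
      exact ⟨t, htP, by simpa using hx⟩
    have h2 : orderOf (⟨t, hmem⟩ : ↥(Subgroup.centralizer (P : Set X) ⊓ (Subgroup.centralizer (P : Set X)).map (MulAut.conj x).toMonoidHom)) = 2 := by
      rw [Subgroup.orderOf_mk]; exact ht
    have h3 : 2 ∣ Nat.card ↥(Subgroup.centralizer (P : Set X) ⊓ (Subgroup.centralizer (P : Set X)).map (MulAut.conj x).toMonoidHom) := by
      rw [← h2]; exact orderOf_dvd_natCard _
    exact (Nat.not_even_iff_odd.mpr hodd) (even_iff_two_dvd.mpr h3)
  set S' : Subgroup X := (S : Subgroup ↥(Subgroup.normalizer (P : Set X))).map (Subgroup.normalizer (P : Set X)).subtype with hS'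
  have hS'p : IsPGroup 2 S' := S.2.map _
  have hS'N : ∀ x ∈ S', x ∈ Subgroup.normalizer (P : Set X) := by
    rintro x ⟨y, _, rfl⟩; exact y.2
  -- uniqueness of the involution in `S' ⊓ C(P)`
  have huniq : ∀ u v : X, u ∈ S' → v ∈ S' → u ∈ Subgroup.centralizer (P : Set X) → v ∈ Subgroup.centralizer (P : Set X) →
      u * u = 1 → v * v = 1 → u ≠ 1 → v ≠ 1 → u = v := by
    intro u v hu hv huC hvC hu2 hv2 hu1 hv1
    have := unique_involution hr (S'.subgroupOf (Subgroup.centralizer (P : Set X)))
      (hS'p.comap_of_injective _ (Subgroup.subtype_injective _)) ⟨u, huC⟩ ⟨v, hvC⟩ hu hv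
      (by ext; exact hu2) (by ext; exact hv2)
      (fun h => hu1 (congrArg Subtype.val h)) (fun h => hv1 (congrArg Subtype.val h))
    exact congrArg Subtype.val this
  -- `t` is central in `S'`
  have htcent : ∀ x ∈ S', x * t * x⁻¹ = t := by
    intro x hx
    apply huniq _ _ (S'.mul_mem (S'.mul_mem hx htS) (S'.inv_mem hx)) htS _ htP
    · calc x * t * x⁻¹ * (x * t * x⁻¹) = x * (t * t) * x⁻¹ := by group
        _ = 1 := by rw [htt]; group
    · exact htt
    · intro h
      apply ht1
      have : t = x⁻¹ * (x * t * x⁻¹) * x := by group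
      rw [this, h]; group
    · exact ht1
    · have hxN : x ∈ Subgroup.normalizer (Subgroup.centralizer (P : Set X) : Set X) := by
        rw [← hNN]; exact hS'N x hx
      exact (Subgroup.mem_normalizer_iff.mp hxN t).mp htP
  -- the conjugate involution
  obtain ⟨s, hs⟩ : ∃ s, s = g * t * g⁻¹ := ⟨_, rfl⟩
  have hsS' : s ∈ S' := by rw [hs]; exact hgN t htS
  have hss : s * s = 1 := by
    rw [hs]
    calc g * t * g⁻¹ * (g * t * g⁻¹) = g * (t * t) * g⁻¹ := by group
      _ = 1 := by rw [htt]; group
  have hst : s * t = t * s := by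
    have := htcent s hsS'
    rwa [mul_inv_eq_iff_eq_mul] at this
  have hs1 : s ≠ 1 := by
    intro h
    apply ht1
    have : t = g⁻¹ * (g * t * g⁻¹) * g := by group
    rw [this, ← hs, h]; group
  have hsnet : s ≠ t := by
    intro h
    have hgN' : g ∈ Subgroup.normalizer (P : Set X) := hcentN g (by rw [← hs, h])
    apply hgS
    have hg' : (⟨g, hgN'⟩ : ↥(Subgroup.normalizer (P : Set X))) ∈ (S : Subgroup ↥(Subgroup.normalizer (P : Set X))) := by
      obtain ⟨y, hy, hyg⟩ := hg2
      have hyg' : (⟨g, hgN'⟩ : ↥(Subgroup.normalizer (P : Set X))) ^ 2 = y := by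
        ext; exact hyg.symm
      have hpz : IsPGroup 2 (Subgroup.zpowers (⟨g, hgN'⟩ : ↥(Subgroup.normalizer (P : Set X)))) := by
        obtain ⟨k, hk⟩ := S.2 ⟨y, hy⟩
        have hk' : y ^ 2 ^ k = 1 := by
          have := congrArg Subtype.val hk
          simpa using this
        have hgk : (⟨g, hgN'⟩ : ↥(Subgroup.normalizer (P : Set X))) ^ 2 ^ (k + 1) = 1 := by
          rw [pow_succ', pow_mul, hyg', hk']
        rintro ⟨_, i, rfl⟩
        refine ⟨k + 1, ?_⟩
        ext1
        simp only [Subgroup.coe_pow, Subgroup.coe_one]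
        rw [← zpow_natCast, ← zpow_mul, mul_comm, zpow_mul, zpow_natCast, hgk, one_zpow]
      have hinf := hpz.inf_normalizer_sylow S
      have hmem : (⟨g, hgN'⟩ : ↥(Subgroup.normalizer (P : Set X))) ∈
          Subgroup.zpowers (⟨g, hgN'⟩ : ↥(Subgroup.normalizer (P : Set X))) ⊓ Subgroup.normalizer ((S : Subgroup ↥(Subgroup.normalizer (P : Set X))) : Set ↥(Subgroup.normalizer (P : Set X))) := by
        refine ⟨Subgroup.mem_zpowers _, ?_⟩
        apply Cfsg.Agent.H52.mem_normalizer_of_conj_mem (S : Subgroup ↥(Subgroup.normalizer (P : Set X)))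
        intro z hz
        have := hgN z ⟨z, hz, rfl⟩
        obtain ⟨w, hw, hwz⟩ := this
        have : w = (⟨g, hgN'⟩ : ↥(Subgroup.normalizer (P : Set X))) * z * (⟨g, hgN'⟩ : ↥(Subgroup.normalizer (P : Set X)))⁻¹ := by
          ext; exact hwz
        rw [← this]; exact hw
      exact (hinf.le hmem).2
    exact ⟨_, hg', rfl⟩
  -- write `s = p * c`
  have hcommPC : ∀ q ∈ P, ∀ c ∈ Subgroup.centralizer (P : Set X), q * c = c * q := by
    intro q hq c hc
    exact Subgroup.mem_centralizer_iff.mp hc q hq
  obtain ⟨p, hp, c, hc, hspc⟩ : ∃ p ∈ P, ∃ c ∈ Subgroup.centralizer (P : Set X), s = p * c := by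
    let K : Subgroup X :=
      { carrier := {x | ∃ p ∈ P, ∃ c ∈ Subgroup.centralizer (P : Set X), x = p * c}
        one_mem' := ⟨1, P.one_mem, 1, Subgroup.one_mem _, by simp⟩
        mul_mem' := by
          rintro _ _ ⟨p, hp, c, hc, rfl⟩ ⟨p', hp', c', hc', rfl⟩
          refine ⟨p * p', P.mul_mem hp hp', c * c', Subgroup.mul_mem _ hc hc', ?_⟩
          have := hcommPC p' hp' c hc
          calc p * c * (p' * c') = p * (c * p') * c' := by group
            _ = p * (p' * c) * c' := by rw [this]
            _ = p * p' * (c * c') := by group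
        inv_mem' := by
          rintro _ ⟨p, hp, c, hc, rfl⟩
          refine ⟨p⁻¹, P.inv_mem hp, c⁻¹, Subgroup.inv_mem _ hc, ?_⟩
          rw [hcommPC p hp c hc]; group }
    have hK : P ⊔ Subgroup.centralizer (P : Set X) ≤ K := by
      apply sup_le
      · intro x hx; exact ⟨x, hx, 1, Subgroup.one_mem _, by simp⟩
      · intro x hx; exact ⟨1, P.one_mem, x, hx, by simp⟩
    have := hK hgt
    rw [← hs] at this
    exact this
  -- make p, c of square one
  obtain ⟨p₀, hp₀, c₀, hc₀, hspc₀, hp₀2, hc₀2⟩ : ∃ p₀ ∈ P, ∃ c₀ ∈ Subgroup.centralizer (P : Set X),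
      s = p₀ * c₀ ∧ p₀ * p₀ = 1 ∧ c₀ * c₀ = 1 := by
    have hpc : p * c = c * p := hcommPC p hp c hc
    have h1 : p * p = (c * c)⁻¹ := by
      rw [eq_inv_iff_mul_eq_one]
      calc p * p * (c * c) = p * (p * c) * c := by group
        _ = p * (c * p) * c := by rw [hpc]
        _ = (p * c) * (p * c) := by group
        _ = 1 := by rw [← hspc, hss]
    have hzc : (⟨p * p, P.mul_mem hp hp⟩ : P) ∈ Subgroup.center P := by
      rw [Subgroup.mem_center_iff]
      intro q
      ext
      simp only [Subgroup.coe_mul]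
      rw [h1]
      exact hcommPC q q.2 _ (Subgroup.inv_mem _ (Subgroup.mul_mem _ hc hc))
    obtain ⟨m, hm⟩ := hZ
    have hzm : (p * p) ^ (Nat.card ↥(Subgroup.center ↥P)) = 1 := by
      have := pow_card_eq_one' (x := (⟨_, hzc⟩ : Subgroup.center P))
      have := congrArg (fun z : Subgroup.center P => ((z : P) : X)) this
      exact this
    refine ⟨p ^ (2 * m + 1), P.pow_mem hp _, c ^ (2 * m + 1), Subgroup.pow_mem _ hc _, ?_, ?_, ?_⟩
    · have hcm : Commute p c := hpc
      rw [← hcm.mul_pow, ← hspc, pow_succ, pow_mul, pow_two, hss, one_pow, one_mul]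
    · rw [← (Commute.refl p).mul_pow, ← hm, hzm]
    · rw [← (Commute.refl c).mul_pow, ← hm]
      have h2 : c * c = (p * p)⁻¹ := by rw [h1, inv_inv]
      rw [h2, inv_pow, hzm, inv_one]
  have htP' : ∀ q ∈ P, q * t = t * q := fun q hq => hcommPC q hq t htP
  have hc₀t : t * c₀ = c₀ * t := by
    have h1 : c₀ = p₀⁻¹ * s := by rw [hspc₀]; group
    have h2 := htP' _ (P.inv_mem hp₀)
    rw [h1]
    calc t * (p₀⁻¹ * s) = (t * p₀⁻¹) * s := by group
      _ = (p₀⁻¹ * t) * s := by rw [h2]
      _ = p₀⁻¹ * (t * s) := by group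
      _ = p₀⁻¹ * (s * t) := by rw [hst]
      _ = p₀⁻¹ * s * t := by group
  have hc₀cases : c₀ = 1 ∨ c₀ = t := by
    have := rank_one_comm hr ⟨t, htP⟩ ⟨c₀, hc₀⟩ (by ext; exact htt) (by ext; exact hc₀2)
      (by ext; exact hc₀t) (fun h => ht1 (congrArg Subtype.val h))
    rcases this with h | h
    · left; exact congrArg Subtype.val h
    · right; exact congrArg Subtype.val h
  have hp₀1 : p₀ ≠ 1 := by
    intro h
    rw [h, one_mul] at hspc₀
    rcases hc₀cases with h' | h'
    · exact hs1 (hspc₀.trans h')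
    · exact hsnet (hspc₀.trans h')
  have hp₀ord : orderOf p₀ = 2 := orderOf_eq_prime (by rw [pow_two]; exact hp₀2) hp₀1
  -- the odd core
  set O : Subgroup X := Cfsg.oddCore X with hO
  have hOn : O.Normal := Cfsg.Agent.Solv.pPrimeCore_normal 2
  have hOcop : (Nat.card O).Coprime 2 := Cfsg.Agent.Solv.pPrimeCore_card_coprime 2
  have hOodd : Odd (Nat.card O) := Nat.coprime_two_right.mp hOcop
  have hp₀O : p₀ ∉ O := by
    intro h
    have h1 : orderOf p₀ ∣ Nat.card O := by
      have := orderOf_dvd_natCard (⟨p₀, h⟩ : O)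
      rwa [Subgroup.orderOf_mk] at this
    rw [hp₀ord] at h1
    exact (Nat.not_even_iff_odd.mpr hOodd) (even_iff_two_dvd.mpr h1)
  have hPO : ∀ x ∈ P, x ∈ O → x ∈ (Subgroup.center ↥P).map P.subtype := by
    intro x hx hxO
    rcases Cfsg.Agent.H52.quasisimple_normal_le_center_or_top hqs (O.subgroupOf P)
      (hOn.subgroupOf P) with h | h
    · exact ⟨⟨x, hx⟩, h hxO, rfl⟩
    · exfalso
      apply hp₀O
      have : (⟨p₀, hp₀⟩ : P) ∈ O.subgroupOf P := by rw [h]; trivial
      exact this
  -- `C_O(t)` centralises `P`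
  have hCOt : ∀ o ∈ O, t * o = o * t → ∀ q ∈ P, q * o = o * q := by
    have hbot : ⁅P, O ⊓ Subgroup.centralizer ({t} : Set X)⁆ = ⊥ := by
      apply centralizes_of_commutator_central P _ hPperf
      intro q hq o ho
      have hoN : o ∈ Subgroup.normalizer (P : Set X) := by
        apply hcentN
        have := Subgroup.mem_centralizer_singleton_iff.mp ho.2
        rw [mul_inv_eq_iff_eq_mul]
        exact this
      apply hPO
      · rw [commutatorElement_def, mul_assoc, mul_assoc]
        apply P.mul_mem hq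
        rw [← mul_assoc]
        exact (Subgroup.mem_normalizer_iff.mp hoN _).mp (P.inv_mem hq)
      · rw [commutatorElement_def]
        exact O.mul_mem (hOn.conj_mem o ho.1 q) (O.inv_mem ho.1)
    intro o ho hto q hq
    rw [← commutatorElement_eq_one_iff_mul_comm, ← Subgroup.mem_bot, ← hbot]
    apply Subgroup.commutator_mem_commutator hq
    exact ⟨ho, Subgroup.mem_centralizer_singleton_iff.mpr hto.symm⟩
  -- `C_O(t) = C_O(s)`
  have hle : O ⊓ Subgroup.centralizer ({t} : Set X) ≤ O ⊓ Subgroup.centralizer ({s} : Set X) := by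
    rintro o ⟨ho, hot⟩
    refine ⟨ho, ?_⟩
    have hot' := Subgroup.mem_centralizer_singleton_iff.mp hot
    apply Subgroup.mem_centralizer_singleton_iff.mpr
    have h1 := hCOt o ho hot'.symm p₀ hp₀
    rcases hc₀cases with h | h
    · rw [hspc₀, h, mul_one]; exact h1.symm
    · rw [hspc₀, h]
      calc o * (p₀ * t) = (o * p₀) * t := by group
        _ = (p₀ * o) * t := by rw [h1]
        _ = p₀ * (o * t) := by group
        _ = p₀ * (t * o) := by rw [hot']
        _ = p₀ * t * o := by group
  have heq : O ⊓ Subgroup.centralizer ({t} : Set X) = O ⊓ Subgroup.centralizer ({s} : Set X) := by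
    apply Subgroup.eq_of_le_of_card_ge hle
    have hmap : O ⊓ Subgroup.centralizer ({s} : Set X) = (O ⊓ Subgroup.centralizer ({t} : Set X)).map (MulAut.conj g).toMonoidHom := by
      ext o
      constructor
      · rintro ⟨ho, hos⟩
        refine ⟨g⁻¹ * o * g, ⟨?_, ?_⟩, by simp [mul_assoc]⟩
        · have := hOn.conj_mem o ho g⁻¹
          simpa using this
        · replace hos := Subgroup.mem_centralizer_singleton_iff.mp hos
          apply Subgroup.mem_centralizer_singleton_iff.mpr
          rw [hs] at hos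
          calc g⁻¹ * o * g * t = g⁻¹ * (o * (g * t * g⁻¹)) * g := by group
            _ = g⁻¹ * (g * t * g⁻¹ * o) * g := by rw [hos]
            _ = t * (g⁻¹ * o * g) := by group
      · rintro ⟨y, ⟨hy, hyt⟩, rfl⟩
        refine ⟨?_, ?_⟩
        · have := hOn.conj_mem y hy g
          simpa using this
        · replace hyt := Subgroup.mem_centralizer_singleton_iff.mp hyt
          apply Subgroup.mem_centralizer_singleton_iff.mpr
          simp only [MulEquiv.coe_toMonoidHom, MulAut.conj_apply]
          rw [hs]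
          calc g * y * g⁻¹ * (g * t * g⁻¹) = g * (y * t) * g⁻¹ := by group
            _ = g * (t * y) * g⁻¹ := by rw [hyt]
            _ = g * t * g⁻¹ * (g * y * g⁻¹) := by group
    rw [hmap]
    exact (Subgroup.card_map_of_injective (MulAut.conj g).injective).le
  -- `t s` centralises `O`
  have hts : O ≤ Subgroup.centralizer ({t * s} : Set X) := by
    apply Cfsg.Agent.H52.four_group_le O hOodd t s htt hss hst.symm
      (fun x hx => hOn.conj_mem x hx t) (fun x hx => hOn.conj_mem x hx s)
    · intro x hx hxt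
      have h1 : x ∈ O ⊓ Subgroup.centralizer ({t} : Set X) :=
        ⟨hx, Subgroup.mem_centralizer_singleton_iff.mpr hxt.symm⟩
      have h2 := Subgroup.mem_centralizer_singleton_iff.mp (heq ▸ h1).2
      rw [Subgroup.mem_centralizer_singleton_iff]
      calc x * (t * s) = (x * t) * s := by group
        _ = (t * x) * s := by rw [hxt]
        _ = t * (x * s) := by group
        _ = t * (s * x) := by rw [h2]
        _ = t * s * x := by group
    · intro x hx hxs
      have h1 : x ∈ O ⊓ Subgroup.centralizer ({s} : Set X) :=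
        ⟨hx, Subgroup.mem_centralizer_singleton_iff.mpr hxs.symm⟩
      have h2 := Subgroup.mem_centralizer_singleton_iff.mp (heq.symm ▸ h1).2
      rw [Subgroup.mem_centralizer_singleton_iff]
      calc x * (t * s) = (x * t) * s := by group
        _ = (t * x) * s := by rw [h2]
        _ = t * (x * s) := by group
        _ = t * (s * x) := by rw [hxs]
        _ = t * s * x := by group
    · intro x _ hx
      exact Subgroup.mem_centralizer_singleton_iff.mpr hx.symm
  -- commutators `[q, p₀]` centralise `O`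
  have hCO : (Subgroup.centralizer (O : Set X)).Normal := Subgroup.normal_centralizer
  have hcomO : ∀ q ∈ P, ⁅q, p₀⁆ ∈ Subgroup.centralizer (O : Set X) := by
    intro q hq
    have htsC : t * s ∈ Subgroup.centralizer (O : Set X) := by
      rw [Subgroup.mem_centralizer_iff]
      intro o ho
      exact Subgroup.mem_centralizer_singleton_iff.mp (hts ho)
    have h1 : ⁅q, t * s⁆ ∈ Subgroup.centralizer (O : Set X) := by
      rw [commutatorElement_def]
      exact Subgroup.mul_mem _ (hCO.conj_mem _ htsC q) (Subgroup.inv_mem _ htsC)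
    have hqt := htP' q hq
    have hp₀t := htP' p₀ hp₀
    have h2 : ⁅q, t * s⁆ = ⁅q, p₀⁆ := by
      rcases hc₀cases with h | h
      · rw [hspc₀, h, mul_one, commutatorElement_def, commutatorElement_def]
        have hqt' : q⁻¹ * t⁻¹ = t⁻¹ * q⁻¹ := by
          have := htP' _ (P.inv_mem hq)
          rw [htinv]; exact this
        calc q * (t * p₀) * q⁻¹ * (t * p₀)⁻¹ = (q * t) * p₀ * q⁻¹ * p₀⁻¹ * t⁻¹ := by group
          _ = (t * q) * p₀ * q⁻¹ * p₀⁻¹ * t⁻¹ := by rw [hqt]
          _ = t * (q * p₀ * q⁻¹ * p₀⁻¹) * t⁻¹ := by group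
          _ = q * p₀ * q⁻¹ * p₀⁻¹ := by
            have h3 : (q * p₀ * q⁻¹ * p₀⁻¹) * t = t * (q * p₀ * q⁻¹ * p₀⁻¹) :=
              htP' _ (P.mul_mem (P.mul_mem (P.mul_mem hq hp₀) (P.inv_mem hq)) (P.inv_mem hp₀))
            rw [← h3]; group
      · have h4 : t * s = p₀ := by
          rw [hspc₀, h]
          calc t * (p₀ * t) = t * (t * p₀) := by rw [hp₀t]
            _ = (t * t) * p₀ := by group
            _ = p₀ := by rw [htt, one_mul]
        rw [h4]
    rw [← h2]; exact h1
  have hPCO : P ≤ Subgroup.centralizer (O : Set X) := by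
    rcases Cfsg.Agent.H52.quasisimple_normal_le_center_or_top hqs
      ((Subgroup.centralizer (O : Set X)).subgroupOf P) (hCO.subgroupOf P) with h | h
    · exfalso
      have hc : (⟨p₀, hp₀⟩ : P) ∈ Subgroup.center P := by
        apply Cfsg.Agent.H52.mem_center_of_commutator_mem_center hPperf
        intro y
        apply h
        exact hcomO y y.2
      have h1 : orderOf (⟨⟨p₀, hp₀⟩, hc⟩ : Subgroup.center P) ∣ Nat.card (Subgroup.center P) :=
        orderOf_dvd_natCard _
      rw [Subgroup.orderOf_mk, Subgroup.orderOf_mk, hp₀ord] at h1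
      exact (Nat.not_even_iff_odd.mpr hZ) (even_iff_two_dvd.mpr h1)
    · intro x hx
      have : (⟨x, hx⟩ : P) ∈ (Subgroup.centralizer (O : Set X)).subgroupOf P := by rw [h]; trivial
      exact this
  refine ⟨?_, ?_⟩
  · rw [Subgroup.commutator_eq_bot_iff_le_centralizer]; exact hPCO
  · intro L hL hPL _
    obtain ⟨hsub, ⟨hmsub, hmqs⟩, hmin⟩ := hL
    set π := QuotientGroup.mk' O with hπ
    -- the map L → L.map π
    let φ : ↥L →* ↥(L.map π) := π.subgroupMap L
    have hφs : Function.Surjective φ := π.subgroupMap_surjective L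
    have hLperf : Group.IsPerfect ↥L := by
      rw [Subgroup.isPerfect_iff]
      apply hmin
      · -- subnormal
        have : (⁅L, L⁆ : Subgroup X).subgroupOf L = commutator ↥L := by
          rw [Subgroup.subgroupOf, ← Subgroup.map_subtype_commutator]
          exact Subgroup.comap_map_eq_self_of_injective (Subgroup.subtype_injective L) _
        apply Subgroup.IsSubnormal.step _ L (Subgroup.commutator_le_self L) hsub
        rw [this]; infer_instance
      · exact Subgroup.commutator_le_self L
      · rw [Subgroup.map_commutator]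
        exact Subgroup.isPerfect_iff.mp hmqs.1
    have hELe : L ⊓ Subgroup.centralizer (O : Set X) = L := by
      apply hmin
      · apply Subgroup.IsSubnormal.step _ L inf_le_left hsub
        rw [Subgroup.inf_subgroupOf_left]
        exact hCO.subgroupOf L
      · exact inf_le_left
      · -- dichotomy in the quotient
        have hn : ((L ⊓ Subgroup.centralizer (O : Set X)).map π).subgroupOf (L.map π) =
            ((Subgroup.centralizer (O : Set X)).subgroupOf L).map φ := by
          ext y
          constructor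
          · rintro ⟨x, ⟨hxL, hxC⟩, hxy⟩
            exact ⟨⟨x, hxL⟩, hxC, Subtype.ext hxy⟩
          · rintro ⟨x, hx, rfl⟩
            exact ⟨x, ⟨x.2, hx⟩, rfl⟩
        have hnn : (((L ⊓ Subgroup.centralizer (O : Set X)).map π).subgroupOf (L.map π)).Normal := by
          rw [hn]
          exact (hCO.subgroupOf L).map φ hφs
        rcases Cfsg.Agent.H52.quasisimple_normal_le_center_or_top hmqs _ hnn with h | h
        · exfalso
          -- then the image of P is abelian
          have hab : ∀ x ∈ P, ∀ y ∈ P, ⁅x, y⁆ ∈ O := by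
            intro x hx y hy
            rw [← QuotientGroup.ker_mk' O, MonoidHom.mem_ker, map_commutatorElement,
              commutatorElement_eq_one_iff_mul_comm]
            have hx' : (⟨π x, ⟨x, hPL hx, rfl⟩⟩ : ↥(L.map π)) ∈ Subgroup.center ↥(L.map π) := by
              apply h
              exact ⟨x, ⟨hPL hx, hPCO hx⟩, rfl⟩
            have := Subgroup.mem_center_iff.mp hx' ⟨π y, ⟨y, hPL hy, rfl⟩⟩
            exact (congrArg Subtype.val this).symm
          have hPO' : P ≤ O := by
            rw [← Subgroup.isPerfect_iff.mp hPperf, Subgroup.commutator_le]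
            exact hab
          exact hp₀O (hPO' hp₀)
        · apply le_antisymm (Subgroup.map_mono inf_le_left)
          exact Subgroup.subgroupOf_eq_top.mp h
    apply Cfsg.Agent.H52.quasisimple_of_surjective_ker_le_center φ hφs _ hLperf hmqs
    intro x hx
    rw [Subgroup.mem_center_iff]
    intro y
    have hxO : (x : X) ∈ O := by
      rw [MonoidHom.mem_ker] at hx
      have := congrArg Subtype.val hx
      change π (x : X) = 1 at this
      exact (QuotientGroup.eq_one_iff (x : X)).mp this
    have hyC : (y : X) ∈ Subgroup.centralizer (O : Set X) := by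
      have : (y : X) ∈ L ⊓ Subgroup.centralizer (O : Set X) := by rw [hELe]; exact y.2
      exact this.2
    ext
    exact (Subgroup.mem_centralizer_iff.mp hyC x hxO).symm


/-- Let X be a finite group and P a standard subgroup of X whose centralizer has 2-rank at most 1 and whose centre has odd order. Let S be a Sylow 2-subgroup of N_X(P) and t an involution of S centralizing P. Suppose some element g of X normalizes S, does not lie in S, has its square in S, and conjugates t into P·C_X(P). Then P commutes elementwise with the largest normal odd-order subgroup O(X) of X; consequently every t-invariant 2-component of X containing P is quasisimple. -/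
theorem result {X : Type*} [Group X] [Finite X] (P : Subgroup X) (hP : Cfsg.IsStandardSubgroup P)
    (hr : Cfsg.PRankLE 2 1 ↥(Subgroup.centralizer (P : Set X))) (hZ : Odd (Nat.card ↥(Subgroup.center ↥P)))
    (S : Sylow 2 ↥(Subgroup.normalizer (P : Set X))) (t : X) (ht : orderOf t = 2) (htS : t ∈ (S : Subgroup ↥(Subgroup.normalizer (P : Set X))).map (Subgroup.normalizer (P : Set X)).subtype)
    (htP : t ∈ Subgroup.centralizer (P : Set X))
    (g : X) (hgN : ∀ s ∈ (S : Subgroup ↥(Subgroup.normalizer (P : Set X))).map (Subgroup.normalizer (P : Set X)).subtype, g * s * g⁻¹ ∈ (S : Subgroup ↥(Subgroup.normalizer (P : Set X))).map (Subgroup.normalizer (P : Set X)).subtype)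
    (hgS : g ∉ (S : Subgroup ↥(Subgroup.normalizer (P : Set X))).map (Subgroup.normalizer (P : Set X)).subtype) (hg2 : g ^ 2 ∈ (S : Subgroup ↥(Subgroup.normalizer (P : Set X))).map (Subgroup.normalizer (P : Set X)).subtype)
    (hgt : g * t * g⁻¹ ∈ P ⊔ Subgroup.centralizer (P : Set X)) :
    ⁅P, Cfsg.oddCore X⁆ = ⊥ ∧
      ∀ L : Subgroup X, Cfsg.IsPComponent 2 L → P ≤ L → (∀ l ∈ L, t * l * t⁻¹ ∈ L) → Cfsg.IsQuasisimple ↥L := by
  exact main P hP hr hZ S t ht htS htP g hgN hgS hg2 hgt

end Cfsg.Agent.S3153
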