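import Cfsg.Statements.S2389
import Cfsg.Agent.H41.SemisMat
import Cfsg.Agent.H43.SemiConj3

set_option autoImplicit false
set_option linter.unusedSimpArgs false
open Cfsg

namespace Cfsg.Agent.S2389

open Cfsg.Agent.H41

theorem simil_aux {F : Type*} [Field F] {ι : Type*} [Fintype ι] [DecidableEq ι] (A B : Matrix ι ι F) (m : ℕ) (hm : (m : F) ≠ 0)
    (hA : A ^ m = 1) (hB : B ^ m = 1) (hc : A.charpoly = B.charpoly) : IsConj A B := by
  let e : ι ≃ Fin (Fintype.card ι) := Fintype.equivFin ι
  let φ := Matrix.reindexAlgEquiv F F e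
  obtain ⟨P, hP, hPAB⟩ := exists_simil_of_charpoly (φ A) (φ B) m hm (by rw [← map_pow, hA, map_one]) (by rw [← map_pow, hB, map_one])
    (by
      have h1 : ∀ M, (φ M).charpoly = M.charpoly := fun M => Matrix.charpoly_reindex e M
      rw [h1, h1, hc])
  have hPu : IsUnit (φ.symm P) := by
    rw [Matrix.isUnit_iff_isUnit_det]
    have h2 : (φ.symm P).det = P.det := by
      have : φ.symm P = Matrix.reindex e.symm e.symm P := rfl
      rw [this, Matrix.det_reindex_self]
    rw [h2]; exact hP.isUnit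
  obtain ⟨u, hu⟩ := hPu
  refine ⟨u, ?_⟩
  rw [SemiconjBy, hu]
  apply φ.injective
  rw [map_mul, map_mul, AlgEquiv.apply_symm_apply, hPAB]

/-- In the symplectic group `Sp_{2n}(q)`, `q` a power of the prime `p`, two elements of order prime to `p` with the same characteristic polynomial are conjugate in `Sp_{2n}(q)`. -/
theorem result {F : Type*} [Field F] [Fintype F] (p : ℕ) [Fact p.Prime] [CharP F p] (n : ℕ)
    (g h : ↥(Matrix.symplecticGroup (Fin n) F)) (hg : (orderOf g).Coprime p) (hh : (orderOf h).Coprime p)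
    (hc : (g : Matrix (Fin n ⊕ Fin n) (Fin n ⊕ Fin n) F).charpoly = (h : Matrix (Fin n ⊕ Fin n) (Fin n ⊕ Fin n) F).charpoly) :
    IsConj g h := by
  have hcop : (orderOf g * orderOf h).Coprime p := Nat.Coprime.mul_left hg hh
  have hm : ((orderOf g * orderOf h : ℕ) : F) ≠ 0 := by
    rw [Ne, CharP.cast_eq_zero_iff F p]
    intro h1
    exact (Nat.Prime.coprime_iff_not_dvd Fact.out).mp hcop.symm h1
  rw [Cfsg.Agent.H43.isConj_symp_semisimple_iff g h hg]
  refine simil_aux _ _ _ hm ?_ ?_ hc
  · have : g ^ (orderOf g * orderOf h) = 1 := by rw [pow_mul, pow_orderOf_eq_one, one_pow]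
    exact congrArg Subtype.val this
  · have : h ^ (orderOf g * orderOf h) = 1 := by rw [mul_comm, pow_mul, pow_orderOf_eq_one, one_pow]
    exact congrArg Subtype.val this

end Cfsg.Agent.S2389
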