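import Cfsg.Statements.S2385
import Cfsg.Agent.H41.SpCount
import Cfsg.Agent.S2389

set_option autoImplicit false
set_option linter.unusedSimpArgs false
open Cfsg

namespace Cfsg.Agent.S2385

open Cfsg.Agent.H41 Polynomial

/-- coefficients of the characteristic polynomial of a symplectic matrix are symmetric -/
theorem sp_charpoly {F : Type*} [Field F] (m : ℕ) (g : ↥(Matrix.symplecticGroup (Fin m) F)) :
    (g : Matrix (Fin m ⊕ Fin m) (Fin m ⊕ Fin m) F).charpoly.reverse = (g : Matrix (Fin m ⊕ Fin m) (Fin m ⊕ Fin m) F).charpoly := by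
  have hdet : (g : Matrix (Fin m ⊕ Fin m) (Fin m ⊕ Fin m) F).det = 1 := SymplecticGroup.det_eq_one g.2
  have hu : IsUnit (g : Matrix (Fin m ⊕ Fin m) (Fin m ⊕ Fin m) F) := by
    rw [Matrix.isUnit_iff_isUnit_det, hdet]; exact isUnit_one
  have h1 := Matrix.charpoly_inv (g : Matrix (Fin m ⊕ Fin m) (Fin m ⊕ Fin m) F) hu
  rw [hdet, Ring.inverse_one, C_1, mul_one, Fintype.card_sum, Fintype.card_fin, ← two_mul, pow_mul, neg_one_sq, one_pow, one_mul,
    ← Matrix.reverse_charpoly] at h1
  rw [← h1, ← SymplecticGroup.coe_inv', SymplecticGroup.coe_inv]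
  have hJ : IsUnit (Matrix.J (Fin m) F) := by
    rw [Matrix.isUnit_iff_isUnit_det]; exact Matrix.isUnit_det_J _ _
  have h2 : (-Matrix.J (Fin m) F) = (Matrix.J (Fin m) F)⁻¹ := (Matrix.J_inv _ _).symm
  obtain ⟨u, hu⟩ := hJ
  rw [h2, ← hu]
  have h3 := Matrix.charpoly_units_conj' u (g : Matrix (Fin m ⊕ Fin m) (Fin m ⊕ Fin m) F).transpose
  rw [h3, Matrix.charpoly_transpose]

/-- In the symplectic group `Sp_{2n}(q)`, `q` a power of the prime `p`, the number of conjugacy classes of elements of order prime to `p` is `q^n`. -/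
theorem result {F : Type*} [Field F] [Fintype F] {q : ℕ} (hq : Fintype.card F = q) (p : ℕ) [Fact p.Prime] [CharP F p] (n : ℕ) :
    Nat.card {c : ConjClasses ↥(Matrix.symplecticGroup (Fin n) F) //
      ∃ g : ↥(Matrix.symplecticGroup (Fin n) F), ConjClasses.mk g = c ∧ (orderOf g).Coprime p} = q ^ n := by
  classical
  have hpp : p.Prime := Fact.out
  have hcardfun : Nat.card (Fin n → F) = q ^ n := by
    rw [Nat.card_fun, Nat.card_eq_fintype_card (α := F), hq, Nat.card_eq_fintype_card, Fintype.card_fin]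
  have hfinG : Finite ↥(Matrix.symplecticGroup (Fin n) F) := Subtype.finite
  have hconj : ∀ g h : ↥(Matrix.symplecticGroup (Fin n) F), IsConj g h →
      (g : Matrix (Fin n ⊕ Fin n) (Fin n ⊕ Fin n) F).charpoly = (h : Matrix (Fin n ⊕ Fin n) (Fin n ⊕ Fin n) F).charpoly := by
    intro g h hgh
    obtain ⟨c, hc⟩ := isConj_iff.mp hgh
    have hcu : IsUnit (c : Matrix (Fin n ⊕ Fin n) (Fin n ⊕ Fin n) F) := by
      rw [Matrix.isUnit_iff_isUnit_det, SymplecticGroup.det_eq_one c.2]; exact isUnit_one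
    obtain ⟨u, hu⟩ := hcu
    have h1 : (h : Matrix (Fin n ⊕ Fin n) (Fin n ⊕ Fin n) F) = c * g * (c : Matrix (Fin n ⊕ Fin n) (Fin n ⊕ Fin n) F)⁻¹ := by
      rw [← hc, ← SymplecticGroup.coe_inv']; rfl
    rw [h1, ← hu]
    exact (Matrix.charpoly_units_conj u _).symm
  have hex : ∀ c : {c : ConjClasses ↥(Matrix.symplecticGroup (Fin n) F) //
      ∃ g : ↥(Matrix.symplecticGroup (Fin n) F), ConjClasses.mk g = c ∧ (orderOf g).Coprime p},
      ∃ g : ↥(Matrix.symplecticGroup (Fin n) F), ConjClasses.mk g = c.1 ∧ (orderOf g).Coprime p := fun c => c.2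
  choose r hr1 hr2 using hex
  apply le_antisymm
  · rw [← hcardfun]
    apply Nat.card_le_card_of_injective (fun c (i : Fin n) => (r c : Matrix (Fin n ⊕ Fin n) (Fin n ⊕ Fin n) F).charpoly.coeff (i + 1))
    intro c d hcd
    have hsym : ∀ g : ↥(Matrix.symplecticGroup (Fin n) F), ∀ i ≤ 2 * n, (g : Matrix (Fin n ⊕ Fin n) (Fin n ⊕ Fin n) F).charpoly.coeff i =
        (g : Matrix (Fin n ⊕ Fin n) (Fin n ⊕ Fin n) F).charpoly.coeff (2 * n - i) := by
      intro g i hi
      have h1 := congrArg (fun f => coeff f i) (sp_charpoly n g)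
      simp only [coeff_reverse] at h1
      rw [Matrix.charpoly_natDegree_eq_dim, Fintype.card_sum, Fintype.card_fin, ← two_mul, revAt_le hi] at h1
      exact h1.symm
    have hmon : ∀ g : ↥(Matrix.symplecticGroup (Fin n) F), (g : Matrix (Fin n ⊕ Fin n) (Fin n ⊕ Fin n) F).charpoly.coeff (2 * n) = 1 := by
      intro g
      have h1 := (Matrix.charpoly_monic (g : Matrix (Fin n ⊕ Fin n) (Fin n ⊕ Fin n) F)).coeff_natDegree
      rwa [Matrix.charpoly_natDegree_eq_dim, Fintype.card_sum, Fintype.card_fin, ← two_mul] at h1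
    have hle : ∀ i ≤ n, (r c : Matrix (Fin n ⊕ Fin n) (Fin n ⊕ Fin n) F).charpoly.coeff i = (r d : Matrix (Fin n ⊕ Fin n) (Fin n ⊕ Fin n) F).charpoly.coeff i := by
      intro i hi
      rcases Nat.eq_zero_or_pos i with h0 | h0
      · rw [h0, hsym (r c) 0 (by omega), hsym (r d) 0 (by omega), Nat.sub_zero, hmon, hmon]
      · have := congrFun hcd ⟨i - 1, by omega⟩
        simp only at this
        rwa [Nat.sub_add_cancel h0] at this
    have heq : (r c : Matrix (Fin n ⊕ Fin n) (Fin n ⊕ Fin n) F).charpoly = (r d : Matrix (Fin n ⊕ Fin n) (Fin n ⊕ Fin n) F).charpoly := by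
      ext i
      rcases Nat.lt_or_ge (2 * n) i with h1 | h1
      · rw [coeff_eq_zero_of_natDegree_lt, coeff_eq_zero_of_natDegree_lt]
        · rw [Matrix.charpoly_natDegree_eq_dim, Fintype.card_sum, Fintype.card_fin]; omega
        · rw [Matrix.charpoly_natDegree_eq_dim, Fintype.card_sum, Fintype.card_fin]; omega
      · rcases Nat.lt_or_ge n i with h2 | h2
        · rw [hsym (r c) i h1, hsym (r d) i h1, hle _ (by omega)]
        · exact hle i h2
    apply Subtype.ext
    rw [← hr1 c, ← hr1 d]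
    exact ConjClasses.mk_eq_mk_iff_isConj.mpr (Cfsg.Agent.S2389.result p n _ _ (hr2 c) (hr2 d) heq)
  · rw [← hcardfun]
    -- an element for each polynomial
    have hel : ∀ a : Fin n → F, ∃ g : ↥(Matrix.symplecticGroup (Fin n) F), (orderOf g).Coprime p ∧
        ∀ x : AlgebraicClosure F, x ≠ 0 → aeval x (g : Matrix (Fin n ⊕ Fin n) (Fin n ⊕ Fin n) F).charpoly = x ^ n * aeval (x + x⁻¹) (monicOf n a) := by
      intro a
      obtain ⟨D, L, hD, hL, hdet, hDL⟩ := exists_symm_gram n (monicOf n a) (monicOf_monic _ _) (monicOf_natDegree _ _)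
      obtain ⟨B, hB⟩ : ∃ B : ↥(Matrix.symplecticGroup (Fin n) F), (B : Matrix (Fin n ⊕ Fin n) (Fin n ⊕ Fin n) F) =
        Matrix.fromBlocks 0 (-L⁻¹) L D := ⟨⟨_, mem_sp_of_symm n D L hL hdet hDL⟩, rfl⟩
      obtain ⟨j, hj⟩ := exists_coprime_pow p hpp (Fintype.card F) (by
        obtain ⟨m, hm0, hm⟩ := FiniteField.card F p
        rw [hm]; exact dvd_pow_self _ m.ne_zero) B
      refine ⟨_, hj, ?_⟩
      intro x hx
      have h1 : ((B ^ (Fintype.card F ^ j) : ↥(Matrix.symplecticGroup (Fin n) F)) : Matrix (Fin n ⊕ Fin n) (Fin n ⊕ Fin n) F) =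
        (B : Matrix (Fin n ⊕ Fin n) (Fin n ⊕ Fin n) F) ^ (Fintype.card F ^ j) := rfl
      have h2 : ∀ (A : Matrix (Fin n ⊕ Fin n) (Fin n ⊕ Fin n) F) (j : ℕ), (A ^ (Fintype.card F ^ j)).charpoly = A.charpoly := by
        intro A j
        induction j with
        | zero => simp
        | succ j ih => rw [pow_succ, pow_mul, FiniteField.Matrix.charpoly_pow_card, ih]
      rw [h1, h2, hB, eval_charpoly_sp n D L hdet x hx, hD]
    choose s hs1 hs2 using hel
    apply Nat.card_le_card_of_injective (fun a => (⟨ConjClasses.mk (s a), s a, rfl, hs1 a⟩ : {c : ConjClasses ↥(Matrix.symplecticGroup (Fin n) F) //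
      ∃ g : ↥(Matrix.symplecticGroup (Fin n) F), ConjClasses.mk g = c ∧ (orderOf g).Coprime p}))
    intro a b hab
    have h1 : IsConj (s a) (s b) := ConjClasses.mk_eq_mk_iff_isConj.mp (congrArg Subtype.val hab)
    have h2 := hconj _ _ h1
    have h3 : ∀ y : AlgebraicClosure F, aeval y (monicOf n a) = aeval y (monicOf n b) := by
      intro y
      -- `y = x + x⁻¹`
      obtain ⟨x, hx⟩ : ∃ x : AlgebraicClosure F, (X ^ 2 - C y * X + 1 : (AlgebraicClosure F)[X]).IsRoot x := by
        apply IsAlgClosed.exists_root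
        have : (X ^ 2 - C y * X + 1 : (AlgebraicClosure F)[X]).degree = 2 := by
          compute_degree!
        rw [this]; decide
      simp only [IsRoot.def, eval_add, eval_sub, eval_pow, eval_mul, eval_X, eval_C, eval_one] at hx
      have hx0 : x ≠ 0 := by rintro rfl; simp at hx
      have hy : y = x + x⁻¹ := by
        have : y * x = (x + x⁻¹) * x := by rw [add_mul, inv_mul_cancel₀ hx0]; linear_combination -hx
        exact mul_right_cancel₀ hx0 this
      have h4 := hs2 a x hx0
      rw [h2, hs2 b x hx0] at h4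
      rw [hy]
      exact (mul_left_cancel₀ (pow_ne_zero _ hx0) h4).symm
    have h4 : (monicOf n a).map (algebraMap F (AlgebraicClosure F)) = (monicOf n b).map (algebraMap F (AlgebraicClosure F)) := by
      apply Polynomial.funext
      intro y
      rw [eval_map_algebraMap, eval_map_algebraMap]
      exact h3 y
    have h5 := Polynomial.map_injective _ (algebraMap F (AlgebraicClosure F)).injective h4
    funext i
    rw [← monicOf_coeff n a i, ← monicOf_coeff n b i, h5]

end Cfsg.Agent.S2385
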