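import Cfsg.Statements.S3050
import Cfsg.Agent.BT.SLTwoF

set_option autoImplicit false
open Cfsg

namespace Cfsg.Agent.S3050

/-- Let G be a finite group with a normal 2-subgroup Q such that G/Q is isomorphic to SL(2, 2ⁿ) with n ≥ 2, and suppose some element of G of order 3 fixes no nonidentity element of Q under conjugation. Then Q is elementary abelian and is the direct product of normal subgroups of G on each of which G acts as SL(2, 2ⁿ) acts on its natural two-dimensional module (a Galois twist of the natural action allowed). -/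
theorem result {G : Type*} [Group G] [Finite G]
    (Q : Subgroup G) [Q.Normal] (hQ : IsPGroup 2 ↥Q) (n : ℕ) (hn : 2 ≤ n)
    (K : Type*) [Field K] [Fintype K] (hK : Fintype.card K = 2 ^ n)
    (e : G ⧸ Q ≃* Matrix.SpecialLinearGroup (Fin 2) K)
    (x : G) (hx : orderOf x = 3) (hfpf : ∀ q ∈ Q, x * q * x⁻¹ = q → q = 1) :
    Cfsg.IsElementaryAbelian 2 Q ∧
      ∃ (k : ℕ) (V : Fin k → Subgroup G), (∀ i, V i ≤ Q ∧ (V i).Normal ∧
        Cfsg.ActsAsSL2OnSection K ⊤ ⊤ (V i) ⊥) ∧ iSupIndep V ∧ ⨆ i, V i = Q := by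
  haveI : CharP K 2 := charP_of_card_eq_prime_pow hK
  haveI : Fact (Nat.Prime 2) := ⟨Nat.prime_two⟩
  have hs : ∀ x : K, ∃ y : K, y ^ 2 = x := by
    intro x
    obtain ⟨y, hy⟩ := FiniteField.isSquare_of_char_two (ringChar.eq K 2) x
    exact ⟨y, by rw [hy, sq]⟩
  have hcard : 4 ≤ Fintype.card K := by
    rw [hK]
    calc 4 = 2 ^ 2 := by norm_num
      _ ≤ 2 ^ n := Nat.pow_le_pow_right (by norm_num) hn
  have hbig : ∃ a b c : Kˣ, (c : K) = a + b := by
    classical
    obtain ⟨b, hb⟩ : ∃ b : K, b ∉ ({0, 1} : Finset K) := by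
      by_contra hcon
      push Not at hcon
      have h1 : (Finset.univ : Finset K) ⊆ {0, 1} := fun x _ => hcon x
      have h2 := Finset.card_le_card h1
      rw [Finset.card_univ] at h2
      have h3 : ({0, 1} : Finset K).card ≤ 2 := Finset.card_le_two
      omega
    simp only [Finset.mem_insert, Finset.mem_singleton, not_or] at hb
    have hc : 1 + b ≠ 0 := by
      intro h
      apply hb.2
      rw [← CharTwo.sub_eq_add, sub_eq_zero] at h
      exact h.symm
    exact ⟨1, Units.mk0 b hb.1, Units.mk0 (1 + b) hc, by simp⟩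
  let π : G →* Matrix.SpecialLinearGroup (Fin 2) K := e.toMonoidHom.comp (QuotientGroup.mk' Q)
  have hπ : Function.Surjective π := e.surjective.comp (QuotientGroup.mk'_surjective Q)
  have hker : ∀ q, π q = 1 ↔ q ∈ Q := by
    intro q
    rw [← QuotientGroup.eq_one_iff]
    exact e.map_eq_one_iff
  have hx3 : x * x * x = 1 := by
    have := pow_orderOf_eq_one x
    rw [hx] at this
    rw [← this, pow_succ, pow_two]
  have hx1 : π x ≠ 1 := by
    rw [Ne, hker]
    intro h
    obtain ⟨k, hk⟩ := hQ ⟨x, h⟩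
    have h1 : x ^ 2 ^ k = 1 := congrArg Subtype.val hk
    have h2 := orderOf_dvd_of_pow_eq_one h1
    rw [hx] at h2
    have h3 := (Nat.prime_three.dvd_of_dvd_pow h2)
    omega
  exact BT.SLT.natural_sum hs hbig π hπ Q hker hQ x hx3 hx1 hfpf

end Cfsg.Agent.S3050
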