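import Cfsg.Statements.S3958
import Mathlib
import Cfsg.Agent.SchurMult.Basic

set_option autoImplicit false
universe u v
open Cfsg

namespace Cfsg.Agent.S3958

open Cfsg.Agent.SchurMult Subgroup
open scoped commutatorElement

/-- Let `σ : Γ →* Q` be a finite stem extension of the finite group `Q` with `Γ` of trivial Schur multiplier. Then `σ` is a Schur covering group of `Q`: for every finite stem extension `τ : Δ →* Q` with `Δ` in the same universe as `Q`, the kernel of `τ` is a homomorphic image of the kernel of `σ`. -/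
theorem result {Q : Type u} [Group Q] [Finite Q] {Γ : Type v} [Group Γ] [Finite Γ] (σ : Γ →* Q) (hσ : Cfsg.IsStemExtension σ) (hΓ : Cfsg.HasCyclicSchurMultiplier Γ 1) (Δ : Type u) [Group Δ] [Finite Δ] (τ : Δ →* Q) (hτ : Cfsg.IsStemExtension τ) : ∃ π : σ.ker →* τ.ker, Function.Surjective π := by
  obtain ⟨hs, hc, hcomm⟩ := hσ
  have hQ : Finite Q := Finite.of_surjective σ hs
  -- free presentation of `Γ`
  let φ := FreeGroup.lift (id : Γ → Γ)
  have hφ : Function.Surjective φ := fun q => ⟨FreeGroup.of q, by simp [φ]⟩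
  have h0 : hopf φ = ⊥ := (hasCyclicSchurMultiplier_one_iff_hopf φ hφ).mp hΓ
  have hφ2 : Function.Surjective (σ.comp φ) := hs.comp hφ
  -- the multiplier of `Q` through `σ ∘ φ`
  have hM := hasSchurMultiplier_hopf hφ2
  -- map from `hopf (σ ∘ φ)` to `σ.ker` is injective
  obtain ⟨ψ', h1, h2⟩ := exists_lift_relComm (σ.comp φ) σ hc φ rfl
  let f : hopf (σ.comp φ) →* σ.ker :=
    { toFun := fun x => ⟨ψ' x.1, by
        rw [MonoidHom.mem_ker, ← MonoidHom.comp_apply, h2]
        exact x.2.1⟩
      map_one' := by ext; simp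
      map_mul' := by intro a b; ext; simp }
  have hinj : Function.Injective f := by
    rw [injective_iff_map_eq_one]
    rintro ⟨x, hx⟩ hfx
    obtain ⟨w, rfl⟩ := QuotientGroup.mk_surjective x
    have h3 : φ w = 1 := by
      have h4 : ψ' (QuotientGroup.mk w) = 1 := congrArg Subtype.val hfx
      rw [← h1]; exact h4
    have h5 := (mk_mem_hopf_iff (σ.comp φ) w).mp hx
    have h6 : (QuotientGroup.mk w : FreeGroup Γ ⧸ relComm φ) ∈ hopf φ :=
      (mk_mem_hopf_iff φ w).mpr ⟨h3, h5.2⟩
    rw [h0, Subgroup.mem_bot, QuotientGroup.eq_one_iff] at h6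
    apply Subtype.ext
    show (QuotientGroup.mk w : FreeGroup Γ ⧸ relComm (σ.comp φ)) = 1
    rw [QuotientGroup.eq_one_iff]
    have h7 : relComm φ ≤ relComm (σ.comp φ) := by
      unfold relComm
      refine Subgroup.commutator_mono le_rfl ?_
      intro y hy
      rw [MonoidHom.mem_ker, MonoidHom.comp_apply, MonoidHom.mem_ker.mp hy, map_one]
    exact h7 h6
  have hfin : Finite (hopf (σ.comp φ)) := finite_hopf _
  have hfin2 : Finite σ.ker := inferInstance
  obtain ⟨p, hp⟩ := exists_surjective_ker hM σ ⟨hs, hc, hcomm⟩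
  have hle : Nat.card (hopf (σ.comp φ)) ≤ Nat.card σ.ker := Nat.card_le_card_of_injective f hinj
  have hbij : Function.Bijective p := by
    refine (Nat.bijective_iff_surjective_and_card p).mpr ⟨hp, ?_⟩
    exact le_antisymm hle (Nat.card_le_card_of_surjective p hp)
  obtain ⟨q, hq⟩ := exists_surjective_ker hM τ hτ
  exact ⟨q.comp (MulEquiv.ofBijective p hbij).symm.toMonoidHom, hq.comp (MulEquiv.ofBijective p hbij).symm.surjective⟩

end Cfsg.Agent.S3958
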