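import Cfsg.Statements.S4211
import Mathlib
import Cfsg.Agent.MaxClass.Pres
import Cfsg.Agent.Solv.Core

set_option autoImplicit false
open Cfsg

namespace Cfsg.Agent.S4211

open Subgroup
open scoped commutatorElement

/-- the formula for `(y u)^k` in class two. -/
theorem mul_pow_class_two {G : Type*} [Group G] {y u d : G} (hd : u * y = d * y * u) (hdy : Commute d y)
    (hdu : Commute d u) (k : ℕ) : (y * u) ^ k = d ^ (k * (k - 1) / 2) * (y ^ k * u ^ k) := by
  have h1 : ∀ k : ℕ, u ^ k * y = d ^ k * y * u ^ k := by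
    intro k
    induction k with
    | zero => simp
    | succ k ih =>
      calc u ^ (k + 1) * y = u * (u ^ k * y) := by rw [pow_succ']; group
        _ = (u * d ^ k) * y * u ^ k := by rw [ih]; group
        _ = d ^ k * (u * y) * u ^ k := by rw [← (hdu.pow_left k).eq]; group
        _ = d ^ (k + 1) * y * u ^ (k + 1) := by rw [hd, pow_succ, pow_succ']; group
  induction k with
  | zero => simp
  | succ k ih =>
    have h2 : (k + 1) * (k + 1 - 1) / 2 = k * (k - 1) / 2 + k := by
      exact Nat.triangle_succ k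
    calc (y * u) ^ (k + 1) = (d ^ (k * (k - 1) / 2) * (y ^ k * u ^ k)) * (y * u) := by rw [pow_succ, ih]
      _ = d ^ (k * (k - 1) / 2) * y ^ k * (u ^ k * y) * u := by group
      _ = d ^ (k * (k - 1) / 2) * (y ^ k * d ^ k) * y * u ^ k * u := by rw [h1]; group
      _ = d ^ (k * (k - 1) / 2) * (d ^ k * y ^ k) * y * u ^ k * u := by rw [((hdy.pow_pow k k)).eq]
      _ = d ^ ((k + 1) * (k + 1 - 1) / 2) * (y ^ (k + 1) * u ^ (k + 1)) := by
        rw [h2, pow_add, pow_succ, pow_succ]; group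

theorem pow_mul_comm_class_two {G : Type*} [Group G] {x y c : G} (hc : x * y = c * y * x)
    (hcx : Commute c x) (k : ℕ) : x ^ k * y = c ^ k * y * x ^ k := by
  induction k with
  | zero => simp
  | succ k ih =>
    calc x ^ (k + 1) * y = x * (x ^ k * y) := by rw [pow_succ']; group
      _ = (x * c ^ k) * y * x ^ k := by rw [ih]; group
      _ = c ^ k * (x * y) * x ^ k := by rw [← (hcx.pow_left k).eq]; group
      _ = c ^ (k + 1) * y * x ^ (k + 1) := by rw [hc, pow_succ, pow_succ']; group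

theorem mem_zpowers_pow {G : Type*} [Group G] {x c : G} {p a : ℕ} (hp : p.Prime)
    (hx : orderOf x = p ^ (a + 1)) (hc : c ∈ zpowers x) (hcp : c ^ p = 1) :
    ∃ i : ℕ, c = (x ^ p ^ a) ^ i := by
  have hfin : IsOfFinOrder x := by
    rw [← orderOf_pos_iff, hx]; exact pow_pos hp.pos _
  rw [← hfin.mem_powers_iff_mem_zpowers] at hc
  obtain ⟨j, rfl⟩ := hc
  have h1 : x ^ (j * p) = 1 := by
    have : (x ^ j) ^ p = 1 := hcp
    rwa [← pow_mul] at this
  have h2 := orderOf_dvd_of_pow_eq_one h1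
  rw [hx, pow_succ] at h2
  obtain ⟨i, hi⟩ := Nat.dvd_of_mul_dvd_mul_right hp.pos h2
  exact ⟨i, by change x ^ j = _; rw [← pow_mul, ← hi]⟩

theorem core {G : Type*} [Group G] [Finite G] (hn : ∀ H : Subgroup G, H.Normal) (x y : G)
    (hxy : x * y ≠ y * x)
    (hmin : ∀ x' y' : G, x' * y' ≠ y' * x' → orderOf x + orderOf y ≤ orderOf x' + orderOf y')
    (hle : orderOf y ≤ orderOf x) :
    orderOf x = 4 ∧ orderOf y = 4 ∧ x ^ 2 = y ^ 2 ∧ x * y * x⁻¹ = y⁻¹ := by
  obtain ⟨c, hcdef⟩ : ∃ c, c = ⁅x, y⁆ := ⟨_, rfl⟩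
  have hcxy : x * y = c * y * x := by rw [hcdef, commutatorElement_def]; group
  have hcy' : c ∈ zpowers y := by
    have h1 := (hn (zpowers y)).conj_mem y (mem_zpowers y) x
    have h2 := mul_mem h1 (inv_mem (mem_zpowers y))
    rw [hcdef, commutatorElement_def]
    exact h2
  have hcx' : c ∈ zpowers x := by
    have h1 := (hn (zpowers x)).conj_mem x⁻¹ (inv_mem (mem_zpowers x)) y
    have h2 := mul_mem (mem_zpowers x) h1
    rw [hcdef, commutatorElement_def]
    convert h2 using 1
    group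
  have hcy : Commute c y := by
    obtain ⟨i, hi⟩ := hcy'
    change y ^ i = c at hi
    rw [← hi]
    exact (Commute.refl y).zpow_left i
  have hcx : Commute c x := by
    obtain ⟨i, hi⟩ := hcx'
    change x ^ i = c at hi
    rw [← hi]
    exact (Commute.refl x).zpow_left i
  have hc1 : c ≠ 1 := by
    rintro rfl
    apply hxy
    rw [hcxy]; group
  have hpowx := fun k => pow_mul_comm_class_two hcxy hcx k
  -- the other side
  have hcxy' : y * x = c⁻¹ * x * y := by
    have h1 : c⁻¹ * x * y = c⁻¹ * (x * y) := by group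
    rw [h1, hcxy]; group
  have hpowy := fun k => pow_mul_comm_class_two hcxy' hcy.inv_left k
  have hx1 : x ≠ 1 := by rintro rfl; apply hxy; simp
  have hy1 : y ≠ 1 := by rintro rfl; apply hxy; simp
  have hpx : ∀ p : ℕ, p.Prime → p ∣ orderOf x → orderOf c = p := by
    intro p hp hpd
    apply orderOf_eq_prime _ hc1 (hp := ⟨hp⟩)
    have h1 : orderOf (x ^ p) < orderOf x := by
      rw [orderOf_pow_of_dvd hp.ne_zero hpd]
      exact Nat.div_lt_self (orderOf_pos x) hp.one_lt
    have h2 : x ^ p * y = y * x ^ p := by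
      by_contra h
      have := hmin _ _ h
      omega
    have h3 := hpowx p
    rw [h2] at h3
    have h4 : c ^ p * (y * x ^ p) = 1 * (y * x ^ p) := by rw [one_mul, ← mul_assoc]; exact h3.symm
    exact mul_right_cancel h4
  have hpy : ∀ p : ℕ, p.Prime → p ∣ orderOf y → orderOf c = p := by
    intro p hp hpd
    apply orderOf_eq_prime _ hc1 (hp := ⟨hp⟩)
    have h1 : orderOf (y ^ p) < orderOf y := by
      rw [orderOf_pow_of_dvd hp.ne_zero hpd]
      exact Nat.div_lt_self (orderOf_pos y) hp.one_lt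
    have h2 : y ^ p * x = x * y ^ p := by
      by_contra h
      have := hmin x (y ^ p) (fun h' => h h'.symm)
      omega
    have h3 := hpowy p
    rw [h2] at h3
    have h4 : c⁻¹ ^ p * (x * y ^ p) = 1 * (x * y ^ p) := by rw [one_mul, ← mul_assoc]; exact h3.symm
    have h5 := mul_right_cancel h4
    rwa [inv_pow, inv_eq_one] at h5
  obtain ⟨p, hp, hpd⟩ := Nat.exists_prime_and_dvd (fun h => hx1 (orderOf_eq_one_iff.mp h))
  have hcp := hpx p hp hpd
  have hxa : orderOf x = p ^ (orderOf x).primeFactorsList.length :=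
    Nat.eq_prime_pow_of_unique_prime_dvd (orderOf_pos x).ne' (fun {d} hd hdx => by
      rw [← hpx d hd hdx, hcp])
  have hya : orderOf y = p ^ (orderOf y).primeFactorsList.length :=
    Nat.eq_prime_pow_of_unique_prime_dvd (orderOf_pos y).ne' (fun {d} hd hdx => by
      rw [← hpy d hd hdx, hcp])
  obtain ⟨a, ha⟩ : ∃ a, orderOf x = p ^ (a + 1) := by
    rcases h : (orderOf x).primeFactorsList.length with _ | a
    · rw [h, pow_zero] at hxa
      exact absurd (orderOf_eq_one_iff.mp hxa) hx1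
    · exact ⟨a, by rw [hxa, h]⟩
  obtain ⟨b, hb⟩ : ∃ b, orderOf y = p ^ (b + 1) := by
    rcases h : (orderOf y).primeFactorsList.length with _ | b
    · rw [h, pow_zero] at hya
      exact absurd (orderOf_eq_one_iff.mp hya) hy1
    · exact ⟨b, by rw [hya, h]⟩
  have hba : b ≤ a := by
    rw [ha, hb] at hle
    have := (Nat.pow_le_pow_iff_right hp.one_lt).mp hle
    omega
  have hcpow : c ^ p = 1 := by rw [← hcp]; exact pow_orderOf_eq_one c
  obtain ⟨i, hi⟩ := mem_zpowers_pow hp ha hcx' hcpow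
  obtain ⟨j, hj⟩ := mem_zpowers_pow hp hb hcy' hcpow
  have hYp : (y ^ p ^ b) ^ p = 1 := by rw [← pow_mul, ← pow_succ, ← hb, pow_orderOf_eq_one]
  have hXp : (x ^ p ^ a) ^ p = 1 := by rw [← pow_mul, ← pow_succ, ← ha, pow_orderOf_eq_one]
  obtain ⟨t, ht⟩ : ∃ t : ℕ, y ^ p ^ b = c ^ t := by
    have hjp : Nat.Coprime j p := by
      rw [Nat.coprime_comm, Nat.Prime.coprime_iff_not_dvd hp]
      rintro ⟨j', rfl⟩
      apply hc1
      rw [hj, pow_mul, hYp, one_pow]
    obtain ⟨t, ht⟩ := Nat.exists_mul_mod_eq_one_of_coprime hjp hp.one_lt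
    refine ⟨t, ?_⟩
    rw [hj, ← pow_mul]
    conv_lhs => rw [← pow_one (y ^ p ^ b)]
    rw [pow_eq_pow_iff_modEq]
    have h1 : j * t ≡ 1 [MOD p] := by
      rw [Nat.ModEq, ht.2, Nat.mod_eq_of_lt hp.one_lt]
    exact (h1.of_dvd (orderOf_dvd_of_pow_eq_one hYp)).symm
  -- Y = X ^ s
  obtain ⟨s, hs⟩ : ∃ s : ℕ, y ^ p ^ b = (x ^ p ^ a) ^ s := ⟨i * t, by rw [ht, hi, pow_mul]⟩
  obtain ⟨m, hm⟩ : ∃ m, p ^ a = m * p ^ b := ⟨p ^ (a - b), by rw [← pow_add, Nat.sub_add_cancel hba]⟩
  set u := (x ^ (s * m))⁻¹ with hu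
  set d := (c ^ (s * m))⁻¹ with hd
  have hdu : u * y = d * y * u := by
    have h1 := hpowx (s * m)
    have h3 : y = u * (c ^ (s * m) * y * x ^ (s * m)) := by
      rw [← h1, hu]; group
    have h4 : y * u = u * c ^ (s * m) * y := by
      conv_lhs => rw [h3]
      rw [hu]; group
    have h5 : Commute u (c ^ (s * m)) := ((hcx.pow_pow (s * m) (s * m)).symm).inv_left
    rw [mul_assoc d, h4, h5.eq, hd]
    group
  have hdy : Commute d y := (hcy.pow_left _).inv_left
  have hdu' : Commute d u := ((hcx.pow_pow (s * m) (s * m)).inv_left).inv_right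
  have hform := mul_pow_class_two hdu hdy hdu' (p ^ b)
  have hyu : y ^ p ^ b * u ^ p ^ b = 1 := by
    rw [hu, inv_pow, ← pow_mul, show s * m * p ^ b = p ^ a * s by rw [hm]; ring, pow_mul, ← hs,
      mul_inv_cancel]
  rw [hyu, mul_one] at hform
  set T := p ^ b * (p ^ b - 1) / 2 with hT
  have hpT : ¬ p ∣ m * T := by
    intro hdvd
    have h1 : d ^ T = 1 := by
      rw [hd, inv_pow, ← pow_mul, inv_eq_one]
      obtain ⟨w, hw⟩ := hdvd
      rw [show s * m * T = p * (s * w) by rw [mul_assoc, hw]; ring, pow_mul, hcpow, one_pow]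
    rw [h1] at hform
    have h2 : x * (y * u) ≠ y * u * x := by
      intro h
      apply hxy
      have h3 : Commute x u := ((Commute.refl x).pow_right (s * m)).inv_right
      have h4 : (x * y) * u = (y * x) * u := by
        rw [mul_assoc, h, mul_assoc, mul_assoc, ← h3.eq]
      exact mul_right_cancel h4
    have h3 := hmin x (y * u) h2
    have h4 : orderOf (y * u) ≤ p ^ b := Nat.le_of_dvd (pow_pos hp.pos _) (orderOf_dvd_of_pow_eq_one hform)
    have h5 : p ^ b < p ^ (b + 1) := Nat.pow_lt_pow_right hp.one_lt (by omega)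
    omega
  have hp2 : p = 2 ∧ b = 1 := by
    by_contra hne
    apply hpT
    apply Dvd.dvd.mul_left
    rcases Nat.eq_zero_or_pos b with hb0 | hb0
    · rw [hT, hb0]; simp
    · rcases hp.eq_two_or_odd' with h2 | h2
      · have hb2 : 2 ≤ b := by
          rcases Nat.lt_or_ge b 2 with h3 | h3
          · exfalso; apply hne; exact ⟨h2, by omega⟩
          · exact h3
        rw [hT, h2]
        obtain ⟨b', rfl⟩ : ∃ b', b = b' + 2 := ⟨b - 2, by omega⟩
        have h3 : 2 ^ (b' + 2) * (2 ^ (b' + 2) - 1) / 2 = 2 * (2 ^ b' * (2 ^ (b' + 2) - 1)) := by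
          rw [show 2 ^ (b' + 2) * (2 ^ (b' + 2) - 1) = 2 * (2 * (2 ^ b' * (2 ^ (b' + 2) - 1))) by ring]
          exact Nat.mul_div_cancel_left _ (by norm_num)
        rw [h3]
        exact Dvd.intro _ rfl
      · have h3 : Odd (p ^ b) := h2.pow
        obtain ⟨w, hw⟩ := h3
        rw [hT, hw, Nat.add_sub_cancel]
        rw [show (2 * w + 1) * (2 * w) = 2 * ((2 * w + 1) * w) by ring,
          Nat.mul_div_cancel_left _ (by norm_num), ← hw]
        exact (dvd_pow_self p hb0.ne').mul_right w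
  obtain ⟨rfl, rfl⟩ := hp2
  have ha1 : a = 1 := by
    by_contra hne
    apply hpT
    apply Dvd.dvd.mul_right
    have h2 : 2 ≤ a := by omega
    have h3 : m = 2 ^ (a - 1) := by
      have h4 : 2 ^ a = 2 ^ (a - 1) * 2 ^ 1 := by rw [← pow_add]; congr 1; omega
      rw [h4] at hm
      exact (Nat.eq_of_mul_eq_mul_right (by norm_num) hm).symm
    rw [h3]
    exact dvd_pow_self 2 (by omega)
  subst ha1
  have hcx2 : c = x ^ 2 := by
    rw [pow_one] at hi hXp
    rcases Nat.even_or_odd' i with ⟨w, hw | hw⟩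
    · exfalso; apply hc1; rw [hi, hw, pow_mul, hXp, one_pow]
    · rw [hi, hw, pow_succ, pow_mul, hXp, one_pow, one_mul]
  have hcy2 : c = y ^ 2 := by
    rw [pow_one] at hj hYp
    rcases Nat.even_or_odd' j with ⟨w, hw | hw⟩
    · exfalso; apply hc1; rw [hj, hw, pow_mul, hYp, one_pow]
    · rw [hj, hw, pow_succ, pow_mul, hYp, one_pow, one_mul]
  have hy4 : y ^ 4 = 1 := by
    have : orderOf y = 4 := by rw [hb]; norm_num
    rw [← this]; exact pow_orderOf_eq_one y
  refine ⟨by rw [ha]; norm_num, by rw [hb]; norm_num, by rw [← hcx2, ← hcy2], ?_⟩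
  rw [hcxy, mul_inv_cancel_right, hcy2, eq_inv_iff_mul_eq_one, ← hy4]
  group

theorem exists_q8 {G : Type*} [Group G] [Finite G] (hn : ∀ H : Subgroup G, H.Normal)
    (hna : ∃ x y : G, x * y ≠ y * x) :
    ∃ x y : G, orderOf x = 4 ∧ orderOf y = 4 ∧ x ^ 2 = y ^ 2 ∧ x * y * x⁻¹ = y⁻¹ := by
  obtain ⟨x₀, y₀, hxy₀⟩ := hna
  obtain ⟨⟨x, y⟩, ht, hmin⟩ := Set.exists_min_image {t : G × G | t.1 * t.2 ≠ t.2 * t.1}
    (fun t => orderOf t.1 + orderOf t.2) (Set.toFinite _) ⟨(x₀, y₀), hxy₀⟩
  replace ht : x * y ≠ y * x := ht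
  have hmin' : ∀ x' y' : G, x' * y' ≠ y' * x' → orderOf x + orderOf y ≤ orderOf x' + orderOf y' :=
    fun x' y' h => hmin (x', y') h
  rcases le_total (orderOf y) (orderOf x) with h | h
  · exact ⟨x, y, core hn x y ht hmin' h⟩
  · refine ⟨y, x, core hn y x (Ne.symm ht) (fun x' y' h' => ?_) h⟩
    rw [add_comm]
    exact hmin' x' y' h'

/-- A finite non-abelian group in which every subgroup is normal is the internal direct product of a subgroup isomorphic to the quaternion group of order `8`, an elementary abelian `2`-subgroup and an abelian subgroup of odd order. -/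
theorem result {G : Type*} [Group G] [Finite G] (hna : ¬ IsMulCommutative G) (hn : ∀ H : Subgroup G, H.Normal) : ∃ Q E A : Subgroup G, Nonempty (Q ≃* QuaternionGroup 2) ∧ Cfsg.IsElementaryAbelian 2 E ∧ IsMulCommutative A ∧ Odd (Nat.card A) ∧ E ⊓ A = ⊥ ∧ Q ⊓ (E ⊔ A) = ⊥ ∧ Q ⊔ (E ⊔ A) = ⊤ := by
  classical
  have hna' : ∃ x y : G, x * y ≠ y * x := by
    by_contra h
    push Not at h
    exact hna ⟨⟨h⟩⟩
  obtain ⟨x, y, hx4, hy4, hxy2, hxy⟩ := exists_q8 hn hna'
  have hx4' : x ^ 4 = 1 := hx4 ▸ pow_orderOf_eq_one x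
  have hy4' : y ^ 4 = 1 := hy4 ▸ pow_orderOf_eq_one y
  have hncomm : x * y ≠ y * x := by
    intro h
    rw [h, mul_inv_cancel_right] at hxy
    have h1 : y ^ 2 = 1 := by rw [sq]; nth_rewrite 1 [hxy]; group
    have h2 := orderOf_dvd_of_pow_eq_one h1
    rw [hy4] at h2
    norm_num at h2
  set c := x ^ 2 with hc
  have hc2 : c ^ 2 = 1 := by rw [hc, ← pow_mul]; exact hx4'
  have hc1 : c ≠ 1 := by
    intro h
    have h2 := orderOf_dvd_of_pow_eq_one h
    rw [hx4] at h2
    norm_num at h2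
  have hnx := hn (zpowers x)
  have hny := hn (zpowers y)
  -- the quaternion subgroup
  set Q := zpowers x ⊔ zpowers y with hQ
  have hxQ : x ∈ Q := (le_sup_left : zpowers x ≤ Q) (mem_zpowers x)
  have hyQ : y ∈ Q := (le_sup_right : zpowers y ≤ Q) (mem_zpowers y)
  have hQcard : Nat.card Q = 8 := by
    have h1 := Solv.mul_card_sup_of_normal (zpowers x) (zpowers y)
    rw [Nat.card_zpowers, Nat.card_zpowers, hx4, hy4] at h1
    have h2 : Nat.card (zpowers x ⊓ zpowers y : Subgroup G) = 2 := by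
      have h3 : Nat.card (zpowers x ⊓ zpowers y : Subgroup G) ∣ 4 := by
        rw [← hx4, ← Nat.card_zpowers]; exact Subgroup.card_dvd_of_le inf_le_left
      have h4 : orderOf c = 2 := orderOf_eq_prime hc2 hc1
      have h5 : 2 ∣ Nat.card (zpowers x ⊓ zpowers y : Subgroup G) := by
        rw [← h4, ← Nat.card_zpowers]
        apply Subgroup.card_dvd_of_le
        rw [zpowers_le]
        refine ⟨pow_mem (mem_zpowers x) 2, ?_⟩
        have : c = y ^ 2 := hxy2
        rw [this]
        exact pow_mem (mem_zpowers y) 2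
      have h6 : Nat.card (zpowers x ⊓ zpowers y : Subgroup G) ≠ 4 := by
        intro h7
        have h8 : zpowers x ⊓ zpowers y = zpowers x := by
          apply Subgroup.eq_of_le_of_card_ge inf_le_left
          rw [h7, Nat.card_zpowers, hx4]
        have h9 : x ∈ zpowers y := by
          have : x ∈ zpowers x ⊓ zpowers y := by rw [h8]; exact mem_zpowers x
          exact this.2
        obtain ⟨i, hi⟩ := h9
        change y ^ i = x at hi
        apply hncomm
        rw [← hi]
        exact ((Commute.refl y).zpow_left i).eq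
      have h7 := Nat.le_of_dvd (by norm_num) h3
      interval_cases (Nat.card (zpowers x ⊓ zpowers y : Subgroup G)) <;> omega
    rw [h2, ← hQ] at h1
    omega
  have hQiso : Nonempty (Q ≃* QuaternionGroup 2) := by
    refine MaxClass.nonempty_mulEquiv_quaternion (G := Q) (a := ⟨y, hyQ⟩) (b := ⟨x, hxQ⟩) (m := 2)
      (by norm_num) ?_ ?_ ?_ ?_ ?_
    · rw [Subgroup.orderOf_mk, hy4]
    · rintro ⟨i, hi⟩
      have hi' : y ^ i = x := congrArg Subtype.val hi
      apply hncomm
      rw [← hi']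
      exact ((Commute.refl y).zpow_left i).eq
    · apply Subtype.ext
      exact hxy2
    · apply Subtype.ext
      exact hxy
    · rw [hQcard]
  -- the centralizer
  set C := centralizer ({x, y} : Set G) with hC
  have hCmem : ∀ w : G, w ∈ C ↔ Commute x w ∧ Commute y w := by
    intro w
    rw [hC, mem_centralizer_iff]
    constructor
    · intro h
      exact ⟨h x (by simp), h y (by simp)⟩
    · rintro ⟨h1, h2⟩ z hz
      rcases hz with rfl | hz
      · exact h1
      · rw [Set.mem_singleton_iff] at hz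
        rw [hz]; exact h2
  have hcC : c ∈ C := by
    rw [hCmem]
    refine ⟨(Commute.refl x).pow_right 2, ?_⟩
    have : c = y ^ 2 := hxy2
    rw [this]
    exact (Commute.refl y).pow_right 2
  have hinv : ∀ z : G, orderOf z = 4 → ∀ g : G, g * z * g⁻¹ = z ∨ g * z * g⁻¹ = z⁻¹ := by
    intro z hz g
    have h1 := (hn (zpowers z)).conj_mem z (mem_zpowers z) g
    have hfin : IsOfFinOrder z := by rw [← orderOf_pos_iff, hz]; norm_num
    rw [← hfin.mem_powers_iff_mem_zpowers, hfin.mem_powers_iff_mem_range_orderOf, hz] at h1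
    have hz4 : z ^ 4 = 1 := hz ▸ pow_orderOf_eq_one z
    have h2 : orderOf (g * z * g⁻¹) = 4 := by
      rw [← hz]
      exact orderOf_injective (MulAut.conj g).toMonoidHom (MulAut.conj g).injective z
    rw [Finset.mem_image] at h1
    obtain ⟨i, hi, hi'⟩ := h1
    rw [Finset.mem_range] at hi
    interval_cases i
    · exfalso
      rw [← hi', pow_zero, orderOf_one] at h2
      norm_num at h2
    · left; rw [← hi', pow_one]
    · exfalso
      rw [← hi'] at h2
      have h3 : (z ^ 2) ^ 2 = 1 := by rw [← pow_mul]; exact hz4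
      have h4 := orderOf_dvd_of_pow_eq_one h3
      rw [h2] at h4
      norm_num at h4
    · right
      rw [← hi', eq_inv_iff_mul_eq_one, ← hz4, ← pow_succ]
  have hyx : y * x * y⁻¹ = x⁻¹ := by
    rcases hinv x hx4 y with h | h
    · exfalso
      apply hncomm
      rw [mul_inv_eq_iff_eq_mul] at h
      exact h.symm
    · exact h
  have hQC : ∀ g : G, ∃ q ∈ Q, ∃ w ∈ C, g = q * w := by
    intro g
    have key : ∀ q ∈ Q, (q * x * q⁻¹ = g * x * g⁻¹) → (q * y * q⁻¹ = g * y * g⁻¹) →
        ∃ q ∈ Q, ∃ w ∈ C, g = q * w := by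
      intro q hq h1 h2
      refine ⟨q, hq, q⁻¹ * g, ?_, by group⟩
      rw [hCmem]
      constructor
      · have : x * (q⁻¹ * g) = q⁻¹ * (q * x * q⁻¹) * g := by group
        change x * (q⁻¹ * g) = _
        rw [this, h1]; group
      · have : y * (q⁻¹ * g) = q⁻¹ * (q * y * q⁻¹) * g := by group
        change y * (q⁻¹ * g) = _
        rw [this, h2]; group
    rcases hinv x hx4 g with h1 | h1 <;> rcases hinv y hy4 g with h2 | h2
    · exact key 1 (one_mem _) (by rw [h1]; group) (by rw [h2]; group)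
    · exact key x hxQ (by rw [h1]; group) (by rw [h2, hxy])
    · exact key y hyQ (by rw [h1, hyx]) (by rw [h2]; group)
    · refine key (x * y) (mul_mem hxQ hyQ) ?_ ?_
      · rw [h1]
        calc x * y * x * (x * y)⁻¹ = x * (y * x * y⁻¹) * x⁻¹ := by group
          _ = x⁻¹ := by rw [hyx]; group
      · rw [h2]
        calc x * y * y * (x * y)⁻¹ = x * y * x⁻¹ := by group
          _ = y⁻¹ := hxy
  -- no elements of order four in `C`
  have hC4 : ∀ w ∈ C, w ^ 4 = 1 → w ^ 2 = 1 := by
    intro w hw hw4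
    by_contra hw2
    rw [hCmem] at hw
    obtain ⟨hw1, hw3⟩ := hw
    -- `c ∈ ⟨x w⟩`
    have h1 : c ∈ zpowers (x * w) := by
      have h2 := (hn (zpowers (x * w))).conj_mem _ (mem_zpowers (x * w)) y
      have h3 : y * (x * w) * y⁻¹ = x⁻¹ * w := by
        calc y * (x * w) * y⁻¹ = (y * x * y⁻¹) * (y * w * y⁻¹) := by group
          _ = x⁻¹ * w := by rw [hyx, hw3.eq]; group
      rw [h3] at h2
      have h4 := mul_mem (mem_zpowers (x * w)) (inv_mem h2)
      have h5 : x * w * (x⁻¹ * w)⁻¹ = c := by rw [hc, pow_two]; group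
      rwa [h5] at h4
    have hxw4 : (x * w) ^ 4 = 1 := by rw [hw1.mul_pow, hx4', hw4, one_mul]
    have hfin : IsOfFinOrder (x * w) := isOfFinOrder_iff_pow_eq_one.mpr ⟨4, by norm_num, hxw4⟩
    rw [← hfin.mem_powers_iff_mem_zpowers] at h1
    obtain ⟨i, hi⟩ := h1
    change (x * w) ^ i = c at hi
    rcases Nat.even_or_odd' i with ⟨k, hk | hk⟩
    · -- even exponent
      have h2 : (x * w) ^ 2 = c * w ^ 2 := by rw [hw1.mul_pow]
      rw [hk, pow_mul, h2] at hi
      rcases Nat.even_or_odd' k with ⟨l, hl | hl⟩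
      · apply hc1
        have h3 : (c * w ^ 2) ^ 2 = 1 := by rw [← h2, ← pow_mul]; exact hxw4
        rw [← hi, hl, pow_mul, h3, one_pow]
      · apply hw2
        have h3 : (c * w ^ 2) ^ 2 = 1 := by rw [← h2, ← pow_mul]; exact hxw4
        rw [hl, pow_succ, pow_mul, h3, one_pow, one_mul] at hi
        exact mul_eq_left.mp hi
    · -- odd exponent: then `x` centralizes `y`
      have h2 : Commute y (x * w) := by
        -- `(x w)` is a power of `c`-like elements
        have h3 : (x * w) ^ 2 = c * w ^ 2 := by rw [hw1.mul_pow]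
        have h4 : Commute y ((x * w) ^ 2) := by
          rw [h3]
          exact ((hCmem c).mp hcC).2.mul_right (hw3.pow_right 2)
        have h5 : Commute y ((x * w) ^ i) := by rw [hi]; exact ((hCmem c).mp hcC).2
        rw [hk, pow_succ, pow_mul] at h5
        have h6 : Commute y (((x * w) ^ 2) ^ k) := h4.pow_right k
        have h7 := (h6.inv_right).mul_right h5
        rwa [inv_mul_cancel_left] at h7
      apply hncomm
      have h3 := h2.mul_right hw3.inv_right
      rw [mul_inv_cancel_right] at h3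
      exact h3.eq.symm
  -- `C` is commutative
  have hCcomm : ∀ u ∈ C, ∀ v ∈ C, u * v = v * u := by
    by_contra hcon
    push Not at hcon
    obtain ⟨u, hu, v, hv, huv⟩ := hcon
    have hnC : ∀ H : Subgroup C, H.Normal := by
      intro H
      have h1 : H = (H.map C.subtype).subgroupOf C := by
        rw [subgroupOf, comap_map_eq_self_of_injective C.subtype_injective]
      rw [h1]
      haveI := hn (H.map C.subtype)
      infer_instance
    obtain ⟨x', -, hx', -⟩ := exists_q8 hnC ⟨⟨u, hu⟩, ⟨v, hv⟩, fun h => huv (congrArg Subtype.val h)⟩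
    have h1 : (x' : G) ^ 4 = 1 := by
      have := pow_orderOf_eq_one x'
      rw [hx'] at this
      exact congrArg Subtype.val this
    have h2 := hC4 x' x'.2 h1
    have h3 : x' ^ 2 = 1 := Subtype.ext h2
    have h4 := orderOf_dvd_of_pow_eq_one h3
    rw [hx'] at h4
    norm_num at h4
  -- the odd part of `|C|`
  obtain ⟨k, m, hm, hkm⟩ := Nat.exists_eq_pow_mul_and_not_dvd (Nat.card_pos (α := C)).ne' 2 (by norm_num)
  have hCpow : ∀ w ∈ C, w ^ (2 ^ k * m) = 1 := by
    intro w hw
    rw [← hkm]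
    have : (⟨w, hw⟩ : C) ^ Nat.card C = 1 := pow_card_eq_one'
    exact congrArg Subtype.val this
  let T : ℕ → Subgroup G := fun n =>
    { carrier := {w | w ∈ C ∧ w ^ n = 1}
      one_mem' := ⟨one_mem _, one_pow n⟩
      mul_mem' := by
        rintro a b ⟨ha, ha'⟩ ⟨hb, hb'⟩
        refine ⟨mul_mem ha hb, ?_⟩
        rw [Commute.mul_pow (hCcomm a ha b hb), ha', hb', one_mul]
      inv_mem' := by
        rintro a ⟨ha, ha'⟩
        exact ⟨inv_mem ha, by rw [inv_pow, ha', inv_one]⟩ }
  have hT : ∀ n w, w ∈ T n ↔ w ∈ C ∧ w ^ n = 1 := fun n w => Iff.rfl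
  have hcT : c ∈ T 2 := ⟨hcC, hc2⟩
  -- every 2-element of C is an involution
  have hC2 : ∀ j : ℕ, ∀ w ∈ C, w ^ (2 ^ j) = 1 → w ^ 2 = 1 := by
    intro j
    induction j with
    | zero => intro w _ h; rw [pow_zero, pow_one] at h; rw [h, one_pow]
    | succ j ih =>
      intro w hw h
      have h1 : (w ^ 2) ^ (2 ^ j) = 1 := by rw [← pow_mul, ← pow_succ']; exact h
      have h2 := ih (w ^ 2) (pow_mem hw 2) h1
      apply hC4 w hw
      rw [← pow_mul] at h2
      exact h2
  have hCT : ∀ w ∈ C, ∃ a ∈ T 2, ∃ b ∈ T m, w = a * b := by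
    intro w hw
    have h1 : (w ^ m) ^ 2 = 1 := by
      apply hC2 k _ (pow_mem hw m)
      rw [← pow_mul, mul_comm]
      exact hCpow w hw
    have h2 : (w ^ 2) ^ m = 1 := by rw [← pow_mul, mul_comm, pow_mul]; exact h1
    obtain ⟨l, hl⟩ : Odd m := Nat.odd_iff.mpr (Nat.two_dvd_ne_zero.mp hm)
    refine ⟨w ^ m, ⟨pow_mem hw m, h1⟩, ((w ^ 2) ^ l)⁻¹, inv_mem ⟨pow_mem (pow_mem hw 2) l, ?_⟩, ?_⟩
    · rw [← pow_mul, mul_comm, pow_mul, h2, one_pow]
    · rw [eq_mul_inv_iff_mul_eq, ← pow_mul, hl, pow_succ']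
  -- a complement of `⟨c⟩` in `T 2`
  obtain ⟨E, hE⟩ : ∃ E, Maximal (fun E : Subgroup G => E ≤ T 2 ∧ c ∉ E) E := by
    have hfin : ({E : Subgroup G | E ≤ T 2 ∧ c ∉ E} : Set (Subgroup G)).Finite := Set.toFinite _
    exact hfin.exists_maximal ⟨⊥, bot_le, fun h => hc1 h⟩
  have hET : E ≤ T 2 := hE.prop.1
  have hcE : c ∉ E := hE.prop.2
  have hTE : ∀ w ∈ T 2, w ∈ E ∨ c * w ∈ E := by
    intro w hw
    by_contra hcon
    push Not at hcon
    obtain ⟨h1, h2⟩ := hcon
    haveI := hn (zpowers w)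
    have h3 : E ⊔ zpowers w ≤ T 2 := sup_le hET (by rw [zpowers_le]; exact hw)
    have h4 : c ∉ E ⊔ zpowers w := by
      intro h
      obtain ⟨e, he, v, hv, hev⟩ := Subgroup.mem_sup_of_normal_right.mp h
      obtain ⟨i, hi⟩ := hv
      change w ^ i = v at hi
      have hw2 : w ^ 2 = 1 := hw.2
      have h5 : v = 1 ∨ v = w := by
        rcases Int.even_or_odd' i with ⟨j, hj | hj⟩
        · left; rw [← hi, hj, zpow_mul, zpow_ofNat, hw2, one_zpow]
        · right; rw [← hi, hj, zpow_add, zpow_mul, zpow_ofNat, hw2, one_zpow, one_mul, zpow_one]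
      rcases h5 with rfl | rfl
      · rw [mul_one] at hev
        exact hcE (hev ▸ he)
      · apply h2
        rw [← hev, mul_assoc, ← sq, hw2, mul_one]
        exact he
    have h5 := hE.le_of_ge ⟨h3, h4⟩ le_sup_left
    exact h1 (h5 ((le_sup_right : zpowers w ≤ E ⊔ zpowers w) (mem_zpowers w)))
  refine ⟨Q, E, T m, hQiso, ⟨?_, ?_⟩, ?_, ?_, ?_, ?_, ?_⟩
  · exact ⟨⟨fun a b => Subtype.ext (hCcomm _ (hET a.2).1 _ (hET b.2).1)⟩⟩
  · intro a ha
    exact (hET ha).2
  · exact ⟨⟨fun a b => Subtype.ext (hCcomm _ a.2.1 _ b.2.1)⟩⟩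
  · -- odd order
    rw [← Nat.not_even_iff_odd]
    intro hev
    haveI := Fact.mk Nat.prime_two
    obtain ⟨z, hz⟩ := exists_prime_orderOf_dvd_card' (G := T m) 2 hev.two_dvd
    have h1 : (z : G) ^ m = 1 := z.2.2
    have h2 := orderOf_dvd_of_pow_eq_one h1
    rw [Subgroup.orderOf_coe, hz] at h2
    exact hm h2
  · rw [eq_bot_iff]
    rintro w ⟨hw1, hw2⟩
    have h1 : w ^ 2 = 1 := (hET hw1).2
    have h2 : w ^ m = 1 := hw2.2
    obtain ⟨l, hl⟩ : Odd m := Nat.odd_iff.mpr (Nat.two_dvd_ne_zero.mp hm)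
    rw [hl, pow_succ, pow_mul, h1, one_pow, one_mul] at h2
    exact h2
  · -- `Q ∩ E A = 1`
    haveI := hn (T m)
    rw [eq_bot_iff]
    rintro w ⟨hw1, hw2⟩
    obtain ⟨e, he, a, ha, rfl⟩ := Subgroup.mem_sup_of_normal_right.mp hw2
    have heC : e ∈ C := (hET he).1
    have haC : a ∈ C := ha.1
    -- an element of `Q` in `C` is `1` or `c`
    have hQC1 : e * a = 1 ∨ e * a = c := by
      obtain ⟨v, hv, z, hz, hvz⟩ := Subgroup.mem_sup_of_normal_right.mp hw1
      obtain ⟨i, hi⟩ := hv
      obtain ⟨j, hj⟩ := hz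
      change x ^ i = v at hi
      change y ^ j = z at hj
      have heaC : e * a ∈ C := mul_mem heC haC
      rw [hCmem] at heaC
      -- `y` commutes with `v`, `x` commutes with `z`
      have hxz : Commute x z := by
        have h1 : Commute x v := hi ▸ (Commute.refl x).zpow_right i
        have h2 : Commute x (v * z) := by rw [hvz]; exact heaC.1
        have h3 := h1.inv_right.mul_right h2
        rwa [inv_mul_cancel_left] at h3
      have hyv : Commute y v := by
        have h1 : Commute y z := hj ▸ (Commute.refl y).zpow_right j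
        have h2 : Commute y (v * z) := by rw [hvz]; exact heaC.2
        have h3 := h2.mul_right h1.inv_right
        rwa [mul_inv_cancel_right] at h3
      have hv' : v = 1 ∨ v = c := by
        rcases Int.even_or_odd' i with ⟨l, hl | hl⟩
        · rw [hl, zpow_mul, zpow_ofNat] at hi
          change c ^ l = v at hi
          rcases Int.even_or_odd' l with ⟨n, hn' | hn'⟩
          · left; rw [← hi, hn', zpow_mul, zpow_ofNat, hc2, one_zpow]
          · right; rw [← hi, hn', zpow_add, zpow_mul, zpow_ofNat, hc2, one_zpow, one_mul, zpow_one]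
        · exfalso
          apply hncomm
          rw [hl, zpow_add, zpow_mul, zpow_ofNat, zpow_one] at hi
          change c ^ l * x = v at hi
          have h1 : Commute y (c ^ l) := (((hCmem c).mp hcC).2).zpow_right l
          rw [← hi] at hyv
          have h3 := h1.inv_right.mul_right hyv
          rw [inv_mul_cancel_left] at h3
          exact h3.eq.symm
      have hz' : z = 1 ∨ z = c := by
        rcases Int.even_or_odd' j with ⟨l, hl | hl⟩
        · rw [hl, zpow_mul, zpow_ofNat, ← hxy2] at hj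
          rcases Int.even_or_odd' l with ⟨n, hn' | hn'⟩
          · left; rw [← hj, hn', zpow_mul, zpow_ofNat, hc2, one_zpow]
          · right; rw [← hj, hn', zpow_add, zpow_mul, zpow_ofNat, hc2, one_zpow, one_mul, zpow_one]
        · exfalso
          apply hncomm
          rw [hl, zpow_add, zpow_mul, zpow_ofNat, zpow_one, ← hxy2] at hj
          have h1 : Commute x (c ^ l) := (((hCmem c).mp hcC).1).zpow_right l
          rw [← hj] at hxz
          have h3 := h1.inv_right.mul_right hxz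
          rw [inv_mul_cancel_left] at h3
          exact h3.eq
      rw [← hvz]
      rcases hv' with rfl | rfl <;> rcases hz' with rfl | rfl
      · left; simp
      · right; simp
      · right; simp
      · left; rw [← sq]; exact hc2
    have he2 : e ^ 2 = 1 := (hET he).2
    have ha2 : a ^ 2 = 1 := by
      have h1 : (e * a) ^ 2 = 1 := by
        rcases hQC1 with h | h <;> rw [h]
        · simp
        · exact hc2
      rw [Commute.mul_pow (hCcomm e heC a haC), he2, one_mul] at h1
      exact h1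
    have ha1 : a = 1 := by
      have h2 : a ^ m = 1 := ha.2
      obtain ⟨l, hl⟩ : Odd m := Nat.odd_iff.mpr (Nat.two_dvd_ne_zero.mp hm)
      rw [hl, pow_succ, pow_mul, ha2, one_pow, one_mul] at h2
      exact h2
    rw [ha1, mul_one] at hQC1 ⊢
    rcases hQC1 with h | h
    · exact h
    · exfalso; exact hcE (h ▸ he)
  · rw [eq_top_iff]
    intro g _
    obtain ⟨q, hq, w, hw, rfl⟩ := hQC g
    obtain ⟨a, ha, b, hb, rfl⟩ := hCT w hw
    have hbL : b ∈ Q ⊔ (E ⊔ T m) := (le_sup_right.trans le_sup_right : T m ≤ Q ⊔ (E ⊔ T m)) hb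
    have hqL : q ∈ Q ⊔ (E ⊔ T m) := (le_sup_left : Q ≤ Q ⊔ (E ⊔ T m)) hq
    have hcL : c ∈ Q ⊔ (E ⊔ T m) := (le_sup_left : Q ≤ Q ⊔ (E ⊔ T m)) (pow_mem hxQ 2)
    have hEL : E ≤ Q ⊔ (E ⊔ T m) := le_sup_left.trans le_sup_right
    have haL : a ∈ Q ⊔ (E ⊔ T m) := by
      rcases hTE a ha with h | h
      · exact hEL h
      · have h1 := mul_mem (inv_mem hcL) (hEL h)
        rwa [inv_mul_cancel_left] at h1
    exact mul_mem hqL (mul_mem haL hbL)

end Cfsg.Agent.S4211
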