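import Cfsg.Statements.S3946
import Cfsg.Agent.H71.Split2

set_option autoImplicit false
open Cfsg

namespace Cfsg.Agent.S3946

open SemidirectProduct in
/-- powers of `inl y * inr a` -/
theorem pow_formula {G : Type*} [Group G] (α : MulAut G) (y : G)
    (a : Subgroup.zpowers α) (ha : (a : MulAut G) = α) (n : ℕ) :
    ((inl y * inr a : G ⋊[(Subgroup.zpowers α).subtype] (Subgroup.zpowers α))) ^ n =
      inl (((List.range n).map (fun i : ℕ => (α ^ i) y)).prod) * inr (a ^ n) := by
  induction n with
  | zero => simp
  | succ n ih =>
    rw [pow_succ, ih, List.range_succ, List.map_append, List.prod_append]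
    simp only [List.map_cons, List.map_nil, List.prod_cons, List.prod_nil, mul_one]
    rw [pow_succ a n, map_mul inr, map_mul inl]
    have h1 : (inl ((α ^ n) y) : G ⋊[(Subgroup.zpowers α).subtype] (Subgroup.zpowers α)) =
        inr (a ^ n) * inl y * (inr (a ^ n))⁻¹ := by
      have := inl_aut (φ := (Subgroup.zpowers α).subtype) (a ^ n) y
      rw [map_inv] at this
      rw [← this]
      congr 1
      change _ = ((a ^ n : Subgroup.zpowers α) : MulAut G) y
      rw [Subgroup.coe_pow, ha]
    rw [h1]
    group

/-- Call an automorphism α of order n of a group G splitting when x · α(x) · α²(x) ⋯ α^(n−1)(x) = 1 for every x ∈ G. A finite group admitting a splitting automorphism of prime order is nilpotent (this contains the case of a fixed-point-free automorphism of prime order). -/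
theorem result {G : Type*} [Group G] [Finite G] (α : MulAut G) (hp : (orderOf α).Prime)
    (hsplit : ∀ x : G, (((List.range (orderOf α)).map (fun i : ℕ => (α ^ i) x)).prod = 1)) : Group.IsNilpotent G := by
  classical
  set p := orderOf α with hpdef
  haveI : Fact p.Prime := ⟨hp⟩
  set X := G ⋊[(Subgroup.zpowers α).subtype] (Subgroup.zpowers α) with hX
  haveI : Finite (Subgroup.zpowers α) := by
    haveI : Finite (MulAut G) := inferInstance
    infer_instance
  haveI : Finite X := Finite.of_equiv _ SemidirectProduct.equivProd.symm
  let a : Subgroup.zpowers α := ⟨α, Subgroup.mem_zpowers α⟩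
  set H : Subgroup X := (SemidirectProduct.inl (φ := (Subgroup.zpowers α).subtype)).range with hH
  have hker : H = (SemidirectProduct.rightHom (φ := (Subgroup.zpowers α).subtype)).ker :=
    SemidirectProduct.range_inl_eq_ker_rightHom
  have hap : a ^ p = 1 := Subtype.ext (by
    change α ^ p = 1
    exact pow_orderOf_eq_one α)
  have hu : ∀ y : G, (SemidirectProduct.inl y * SemidirectProduct.inr a : X) ^ p = 1 := by
    intro y
    rw [pow_formula α y a rfl, hsplit y, hap, map_one, map_one, one_mul]
  have hright : ∀ (y : G) (n : ℕ),
      ((SemidirectProduct.inl y * SemidirectProduct.inr a : X) ^ n).right = a ^ n := by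
    intro y n
    rw [pow_formula α y a rfl]
    change (SemidirectProduct.inl _ * SemidirectProduct.inr (a ^ n) : X).right = a ^ n
    rw [SemidirectProduct.mul_right, SemidirectProduct.right_inl, SemidirectProduct.right_inr,
      one_mul]
  have hne : H ≠ ⊤ := by
    intro h
    have h1 : (SemidirectProduct.inr a : X) ∈ H := by rw [h]; trivial
    rw [hker, MonoidHom.mem_ker, SemidirectProduct.rightHom_inr] at h1
    have h2 : α = 1 := congrArg Subtype.val h1
    rw [hpdef, h2, orderOf_one] at hp
    exact Nat.not_prime_one hp
  have hsp : ∀ x : X, x ∉ H → x ^ p = 1 := by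
    intro x hx
    have hxr : x.right ≠ 1 := by
      intro h
      apply hx
      rw [hker, MonoidHom.mem_ker]
      exact h
    obtain ⟨k, hk⟩ := (mem_powers_iff_mem_zpowers.mpr x.right.2)
    have hk' : α ^ k = (x.right : MulAut G) := hk
    have hkr : a ^ k = x.right := Subtype.ext hk'
    have hcop : k.Coprime p := by
      rw [Nat.coprime_comm, Nat.Prime.coprime_iff_not_dvd hp]
      intro hdvd
      apply hxr
      rw [← hkr]
      obtain ⟨m, rfl⟩ := hdvd
      rw [pow_mul, hap, one_pow]
    let f : G → G := fun y => ((SemidirectProduct.inl y * SemidirectProduct.inr a : X) ^ k).left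
    have hf : Function.Injective f := by
      intro y z hyz
      have h1 : (SemidirectProduct.inl y * SemidirectProduct.inr a : X) ^ k =
          (SemidirectProduct.inl z * SemidirectProduct.inr a : X) ^ k := by
        apply SemidirectProduct.ext
        · exact hyz
        · rw [hright, hright]
      have h2 : ∀ w : X, w ^ p = 1 → w ∈ Subgroup.zpowers (w ^ k) := by
        intro w hw
        have h3 : (orderOf w).Coprime k :=
          Nat.Coprime.coprime_dvd_left (orderOf_dvd_of_pow_eq_one hw) hcop.symm
        obtain ⟨m, hm⟩ := exists_pow_eq_self_of_coprime h3.symm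
        exact ⟨m, by simpa using hm⟩
      obtain ⟨m, hm⟩ : ∃ m : ℕ, k * m ≡ 1 [MOD p] := by
        obtain ⟨m, hm⟩ := Nat.exists_mul_mod_eq_one_of_coprime hcop hp.one_lt
        exact ⟨m, by rw [Nat.ModEq, hm.2, Nat.mod_eq_of_lt hp.one_lt]⟩
      have h4 : ∀ w : X, w ^ p = 1 → (w ^ k) ^ m = w := by
        intro w hw
        rw [← pow_mul]
        have h5 : w ^ (k * m) = w ^ 1 := by
          rw [pow_eq_pow_iff_modEq]
          exact hm.of_dvd (orderOf_dvd_of_pow_eq_one hw)
        rw [h5, pow_one]
      have h6 : (SemidirectProduct.inl y * SemidirectProduct.inr a : X) =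
          (SemidirectProduct.inl z * SemidirectProduct.inr a : X) := by
        rw [← h4 _ (hu y), h1, h4 _ (hu z)]
      exact SemidirectProduct.inl_injective (mul_right_cancel h6)
    obtain ⟨y, hy⟩ := (Finite.injective_iff_surjective.mp hf) x.left
    have h1 : (SemidirectProduct.inl y * SemidirectProduct.inr a : X) ^ k = x := by
      apply SemidirectProduct.ext
      · exact hy
      · rw [hright, hkr]
    rw [← h1, ← pow_mul, mul_comm, pow_mul, hu, one_pow]
  have h1 := Cfsg.Agent.H71.Split.isNilpotent_main (p := p) _ X H (by rw [hker]; infer_instance) rfl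
    hne hsp
  exact (Group.isNilpotent_congr (MonoidHom.ofInjective
    (SemidirectProduct.inl_injective (φ := (Subgroup.zpowers α).subtype)))).mpr h1

end Cfsg.Agent.S3946
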