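import Cfsg.Statements.S0006
import Cfsg.Agent.H30.Solv
import Cfsg.Agent.S0144
import Cfsg.Agent.S0007

set_option autoImplicit false
open Cfsg

namespace Cfsg.Agent.S0006

theorem aux (n : ℕ) : ∀ (G : Type*) [Group G] [Finite G], Nat.card G ≤ n →
    (∀ p : ℕ, p.Prime → ∃ H : Subgroup G, H.index = p ^ (Nat.card G).factorization p) →
    Group.IsSolvable G := by
  induction n with
  | zero =>
    intro G _ _ h _
    exact absurd (Nat.card_pos (α := G)) (by omega)
  | succ n ih =>
    intro G _ _ hn h
    have hG0 : Nat.card G ≠ 0 := Nat.card_pos.ne'
    by_cases h2 : (Nat.card G).primeFactors.card ≤ 2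
    · -- two primes
      obtain ⟨p, q, hp, hq, hpq, hsub⟩ : ∃ p q : ℕ, p.Prime ∧ q.Prime ∧ p ≠ q ∧
          (Nat.card G).primeFactors ⊆ {p, q} := by
        have hcases : (Nat.card G).primeFactors.card = 0 ∨ (Nat.card G).primeFactors.card = 1 ∨
          (Nat.card G).primeFactors.card = 2 := by omega
        rcases hcases with h0 | h0 | h0
        · rw [Finset.card_eq_zero] at h0
          exact ⟨2, 3, Nat.prime_two, Nat.prime_three, by norm_num, by rw [h0]; exact Finset.empty_subset _⟩
        · rw [Finset.card_eq_one] at h0
          obtain ⟨p, hp⟩ := h0
          have hpp : p.Prime := Nat.prime_of_mem_primeFactors (hp ▸ Finset.mem_singleton_self p)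
          by_cases hp2 : p = 2
          · exact ⟨p, 3, hpp, Nat.prime_three, by omega, by rw [hp]; simp⟩
          · exact ⟨p, 2, hpp, Nat.prime_two, hp2, by rw [hp]; simp⟩
        · rw [Finset.card_eq_two] at h0
          obtain ⟨p, q, hpq, h0⟩ := h0
          have hp1 : p ∈ (Nat.card G).primeFactors := by rw [h0]; simp
          have hq1 : q ∈ (Nat.card G).primeFactors := by rw [h0]; simp
          exact ⟨p, q, Nat.prime_of_mem_primeFactors hp1, Nat.prime_of_mem_primeFactors hq1, hpq, by rw [h0]⟩
      apply Cfsg.Agent.S0144.result p q ((Nat.card G).factorization p) ((Nat.card G).factorization q) hp hq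
      have h1 := Nat.prod_factorization_pow_eq_self hG0
      rw [Finsupp.prod_of_support_subset _ (s := {p, q}) (by simpa using hsub) _ (by simp),
        Finset.prod_pair hpq] at h1
      exact h1.symm
    · -- three primes
      push Not at h2
      obtain ⟨p, hp, q, hq, r, hr, hpq, hpr, hqr⟩ := Finset.two_lt_card.1 h2
      have hp' := Nat.prime_of_mem_primeFactors hp
      have hq' := Nat.prime_of_mem_primeFactors hq
      have hr' := Nat.prime_of_mem_primeFactors hr
      have hsolv : ∀ p ∈ (Nat.card G).primeFactors, ∀ K : Subgroup G,
          K.index = p ^ (Nat.card G).factorization p → Group.IsSolvable ↥K := by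
        intro p hp K hK
        have hp' := Nat.prime_of_mem_primeFactors hp
        have ha : 1 ≤ (Nat.card G).factorization p :=
          (hp'.factorization_pos_of_dvd hG0 (Nat.dvd_of_mem_primeFactors hp))
        have hKG := K.index_mul_card
        have hKpos : 0 < Nat.card ↥K := Nat.card_pos
        have hK1 : 2 ≤ K.index := by
          rw [hK]
          calc 2 ≤ p := hp'.two_le
            _ = p ^ 1 := (pow_one p).symm
            _ ≤ _ := Nat.pow_le_pow_right hp'.pos ha
        apply ih
        · nlinarith
        · intro s hs
          by_cases hsp : s = p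
          · subst hsp
            refine ⟨⊤, ?_⟩
            rw [Subgroup.index_top]
            have : (Nat.card ↥K).factorization s = 0 := by
              have h3 : (Nat.card G).factorization s = K.index.factorization s + (Nat.card ↥K).factorization s := by
                rw [← hKG, Nat.factorization_mul (by omega) hKpos.ne']; rfl
              rw [hK, hs.factorization_pow] at h3
              simp at h3
              exact h3
            rw [this, pow_zero]
          · obtain ⟨H, hH⟩ := h s hs
            have hcop : H.index.Coprime K.index := by
              rw [hH, hK]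
              exact Nat.Coprime.pow _ _ ((Nat.coprime_primes hs hp').2 hsp)
            obtain ⟨h4, -⟩ := Cfsg.Agent.S0007.result H K hcop
            refine ⟨H.subgroupOf K, ?_⟩
            have h5 : H.relIndex K * K.index = (H ⊓ K).index := by
              rw [← Subgroup.inf_relIndex_right, Subgroup.relIndex_mul_index inf_le_right]
            rw [h4] at h5
            have h6 : H.relIndex K = H.index := Nat.eq_of_mul_eq_mul_right (by omega) h5
            change H.relIndex K = _
            rw [h6, hH]
            congr 1
            have h3 : (Nat.card G).factorization s = K.index.factorization s + (Nat.card ↥K).factorization s := by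
              rw [← hKG, Nat.factorization_mul (by omega) hKpos.ne']; rfl
            rw [hK, hp'.factorization_pow] at h3
            rw [h3, Finsupp.single_apply, if_neg (fun h => hsp h.symm), zero_add]
      obtain ⟨P, hP⟩ := h p hp'
      obtain ⟨Q, hQ⟩ := h q hq'
      obtain ⟨R, hR⟩ := h r hr'
      have hcop : ∀ {a b : ℕ} {A B : Subgroup G}, a.Prime → b.Prime → a ≠ b → A.index = a ^ (Nat.card G).factorization a →
          B.index = b ^ (Nat.card G).factorization b → A.index.Coprime B.index := by
        intro a b A B ha hb hab hA hB
        rw [hA, hB]
        exact Nat.Coprime.pow _ _ ((Nat.coprime_primes ha hb).2 hab)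
      exact Cfsg.Agent.H30.isSolvable_of_factorizations P Q R (hsolv p hp P hP) (hsolv q hq Q hQ) (hsolv r hr R hR)
        (Cfsg.Agent.S0007.result P Q (hcop hp' hq' hpq hP hQ)).2
        (Cfsg.Agent.S0007.result P R (hcop hp' hr' hpr hP hR)).2 (hcop hq' hr' hqr hQ hR)

/-- Converse of Hall's Theorem: if for every prime p a finite group has a subgroup of index equal to the p-part of the group order (a Hall p-complement), then the group is solvable. -/
theorem result {G : Type*} [Group G] [Finite G]
    (h : ∀ p : ℕ, p.Prime → ∃ H : Subgroup G, H.index = p ^ (Nat.card G).factorization p) :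
    Group.IsSolvable G := by
  exact aux _ G le_rfl h

end Cfsg.Agent.S0006
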