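import Cfsg.Statements.S0157
import Mathlib
import Cfsg.Agent.CharBase.Ortho
import Cfsg.Agent.Char.Regular
import Cfsg.Agent.Char.CliffordCorr
import Cfsg.Agent.Char.Linear

set_option autoImplicit false
open Cfsg

namespace Cfsg.Agent.S0157

section Aux

open Cfsg Cfsg.Agent.CharBase
open scoped ComplexConjugate

/-- `⟨π, 1⟩` is the number of orbits. -/
theorem classInner_fixedBy_one {G : Type*} [Group G] [Fintype G] (X : Type*) [MulAction G X] [Finite X] :
    classInner (fun g : G => (Nat.card (MulAction.fixedBy X g) : ℂ)) (1 : G → ℂ) =
      (Nat.card (Quotient (MulAction.orbitRel G X)) : ℂ) := by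
  classical
  have := Fintype.ofFinite X
  have := Fintype.ofFinite (Quotient (MulAction.orbitRel G X))
  have hG : (Nat.card G : ℂ) ≠ 0 := by exact_mod_cast Nat.card_pos.ne'
  have h1 := MulAction.sum_card_fixedBy_eq_card_orbits_mul_card_group G X
  unfold classInner
  simp only [Pi.one_apply, map_one, mul_one]
  rw [← Nat.cast_sum]
  simp only [Nat.card_eq_fintype_card] at *
  rw [h1]
  push_cast
  field_simp

theorem classInner_fixedBy_self {G : Type*} [Group G] [Fintype G] (X : Type*) [MulAction G X] [Finite X] :
    classInner (fun g : G => (Nat.card (MulAction.fixedBy X g) : ℂ)) (fun g : G => (Nat.card (MulAction.fixedBy X g) : ℂ)) =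
      (Nat.card (Quotient (MulAction.orbitRel G (X × X))) : ℂ) := by
  rw [← classInner_fixedBy_one]
  unfold classInner
  congr 1
  refine Finset.sum_congr rfl (fun g _ => ?_)
  simp only [Complex.conj_natCast, Pi.one_apply, map_one, mul_one]
  rw [← Nat.cast_mul, ← Nat.card_prod]
  congr 1
  refine Nat.card_congr ⟨fun y => ⟨(y.1.1, y.2.1), Prod.ext y.1.2 y.2.2⟩,
    fun x => (⟨x.1.1, congrArg Prod.fst x.2⟩, ⟨x.1.2, congrArg Prod.snd x.2⟩), fun _ => rfl, fun _ => rfl⟩

end Aux

/-- For a transitive action of a finite group on a finite set with at least two points: the action is 2-transitive if and only if the function sending g to (number of fixed points of g) − 1 is an irreducible character. -/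
theorem result {G : Type*} [Group G] [Finite G] (X : Type*) [MulAction G X] [Finite X] [MulAction.IsPretransitive G X] (hX : 2 ≤ Nat.card X) : Cfsg.IsIrrCharacter G (fun g => (Nat.card (MulAction.fixedBy X g) : ℂ) - 1) ↔ MulAction.IsMultiplyPretransitive G X 2 := by
  open Cfsg Cfsg.Agent.CharBase in
  open scoped ComplexConjugate in
  (
    classical
    have := Fintype.ofFinite G
    have hπ := Cfsg.Agent.Char.Reg.isCharacter_fixedBy (G := G) (X := X)
    have h1 : IsIrrCharacter G (1 : G → ℂ) := isIrrCharacter_one
    have hnt : Nontrivial X := Finite.one_lt_card_iff_nontrivial.mp (by omega)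
    have horb : Nat.card (Quotient (MulAction.orbitRel G X)) = 1 := by
      rw [Nat.card_eq_one_iff_unique]
      constructor
      · constructor
        intro a b
        induction a using Quotient.inductionOn with
        | _ a =>
        induction b using Quotient.inductionOn with
        | _ b =>
        apply Quotient.sound
        obtain ⟨g, hg⟩ := MulAction.exists_smul_eq G b a
        exact ⟨g, hg⟩
      · obtain ⟨x, _⟩ := exists_pair_ne X
        exact ⟨Quotient.mk _ x⟩
    have hπ1 : classInner (fun g : G => (Nat.card (MulAction.fixedBy X g) : ℂ)) (1 : G → ℂ) = 1 := by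
      rw [classInner_fixedBy_one, horb]; simp
    have hc := Cfsg.Agent.Char.CC.isCharacter_sub_of_constituent hπ h1 (by rw [hπ1]; exact one_ne_zero)
    have heq : (fun g : G => (Nat.card (MulAction.fixedBy X g) : ℂ)) - 1 =
        (fun g => (Nat.card (MulAction.fixedBy X g) : ℂ) - 1) := rfl
    rw [← heq, isIrrCharacter_iff hc]
    have h11 : classInner (1 : G → ℂ) (1 : G → ℂ) = 1 := classInner_irr_self ⟨1, h1⟩
    have hπ1' : classInner (1 : G → ℂ) (fun g : G => (Nat.card (MulAction.fixedBy X g) : ℂ)) = 1 := by
      rw [classInner_comm_of_isCharacter (isCharacter_of_isIrr h1) hπ, hπ1]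
    have hnorm : classInner ((fun g : G => (Nat.card (MulAction.fixedBy X g) : ℂ)) - 1)
        ((fun g : G => (Nat.card (MulAction.fixedBy X g) : ℂ)) - 1) =
        (Nat.card (Quotient (MulAction.orbitRel G (X × X))) : ℂ) - 1 := by
      rw [classInner_sub_left, classInner_sub_right, classInner_sub_right, classInner_fixedBy_self, hπ1, hπ1', h11]
      ring
    rw [hnorm]
    have h2 : (Nat.card (Quotient (MulAction.orbitRel G (X × X))) : ℂ) - 1 = 1 ↔
        Nat.card (Quotient (MulAction.orbitRel G (X × X))) = 2 := by
      constructor
      · intro h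
        have : (Nat.card (Quotient (MulAction.orbitRel G (X × X))) : ℂ) = ((2 : ℕ) : ℂ) := by
          push_cast; linear_combination h
        exact_mod_cast this
      · intro h
        rw [h]; norm_num
    rw [h2, MulAction.is_two_pretransitive_iff]
    have hdiag : ∀ a b c : X, (Quotient.mk (MulAction.orbitRel G (X × X)) (a, a)) = Quotient.mk _ (b, c) → b = c := by
      intro a b c h
      obtain ⟨g, hg⟩ := Quotient.exact h
      have h3 : g • b = a := congrArg Prod.fst hg
      have h4 : g • c = a := congrArg Prod.snd hg
      exact smul_left_cancel g (h3.trans h4.symm)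
    constructor
    · intro hcard a b c d hab hcd
      obtain ⟨x, y, hxy, huniv⟩ := Nat.card_eq_two_iff.mp hcard
      have hmem : ∀ q : Quotient (MulAction.orbitRel G (X × X)), q = x ∨ q = y := by
        intro q
        have : q ∈ ({x, y} : Set _) := by rw [huniv]; trivial
        simpa using this
      have h3 : (Quotient.mk (MulAction.orbitRel G (X × X)) (c, d)) = Quotient.mk _ (a, b) := by
        have h4 := hdiag a a b
        have h5 := hdiag a c d
        rcases hmem (Quotient.mk _ (a, a)) with h6 | h6 <;> rcases hmem (Quotient.mk _ (a, b)) with h7 | h7 <;>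
          rcases hmem (Quotient.mk _ (c, d)) with h8 | h8
        all_goals first
          | exact absurd (h4 (h6.trans h7.symm)) hab
          | exact absurd (h5 (h6.trans h8.symm)) hcd
          | exact h8.trans h7.symm
      obtain ⟨g, hg⟩ := Quotient.exact h3
      exact ⟨g, congrArg Prod.fst hg, congrArg Prod.snd hg⟩
    · intro h
      obtain ⟨a, b, hab⟩ := exists_pair_ne X
      rw [Nat.card_eq_two_iff]
      refine ⟨Quotient.mk _ (a, a), Quotient.mk _ (a, b), ?_, ?_⟩
      · intro h3
        exact hab (hdiag a a b h3)
      · rw [Set.eq_univ_iff_forall]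
        intro q
        induction q using Quotient.inductionOn with
        | _ q =>
        obtain ⟨c, d⟩ := q
        by_cases hcd : c = d
        · subst hcd
          left
          apply Quotient.sound
          obtain ⟨g, hg⟩ := MulAction.exists_smul_eq G a c
          exact ⟨g, Prod.ext hg hg⟩
        · right
          apply Quotient.sound
          obtain ⟨g, hg1, hg2⟩ := h hab hcd
          exact ⟨g, Prod.ext hg1 hg2⟩
  )

end Cfsg.Agent.S0157
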