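import Cfsg.Statements.S0337
import Cfsg.Agent.CIT.Final2
import Cfsg.Agent.CIT.CN
import Cfsg.Agent.FT.Base

set_option autoImplicit false
open Cfsg

namespace Cfsg.Agent.S0337

/-- Classification of simple CN-groups, order-level form: a finite non-abelian simple group in which every
non-identity element has nilpotent centraliser is isomorphic to `PSL₂(F)` with `|F| = 9`, `|F|` a power of `2`, or
`|F|` a prime of the form `2^k ± 1`; or to `PSL₃` over the field with `4` elements; or is simple of Suzuki order. -/
theorem result {G : Type*} [Group G] [Finite G] [IsSimpleGroup G]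
    (hG : ∃ a b : G, a * b ≠ b * a) (hCN : Cfsg.IsCNGroup G) :
    (∃ (F : Type) (_ : Field F) (_ : Fintype F),
        (Fintype.card F = 9 ∨ (∃ n : ℕ, Fintype.card F = 2 ^ n) ∨
          ((Fintype.card F).Prime ∧ ∃ k : ℕ, Fintype.card F = 2 ^ k + 1 ∨ Fintype.card F + 1 = 2 ^ k)) ∧
        Nonempty (G ≃* Matrix.ProjectiveSpecialLinearGroup (Fin 2) F)) ∨
    (∃ (F : Type) (_ : Field F) (_ : Fintype F), Fintype.card F = 4 ∧
        Nonempty (G ≃* Matrix.ProjectiveSpecialLinearGroup (Fin 3) F)) ∨
    Cfsg.IsSuzuki G := by
  have hna : ¬ IsMulCommutative G := by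
    intro h
    obtain ⟨a, b, hab⟩ := hG
    exact hab (h.is_comm.comm a b)
  have h2 := FT.even_of_simple hna
  haveI : Fact (Nat.Prime 2) := ⟨Nat.prime_two⟩
  have hCIT : CIT.IsCIT G := by
    apply CIT.cn_cit hCN
    · intro N hN hodd
      rcases hN.eq_bot_or_eq_top with h | h
      · exact h
      · exfalso
        rw [h, Subgroup.card_top] at hodd
        exact (Nat.not_even_iff_odd.mpr hodd) (even_iff_two_dvd.mpr h2)
    · intro N hN hp
      rcases hN.eq_bot_or_eq_top with h | h
      · exact h
      · exfalso
        have h3 : IsPGroup 2 G := by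
          intro g
          obtain ⟨k, hk⟩ := hp ⟨g, by rw [h]; exact Subgroup.mem_top g⟩
          exact ⟨k, congrArg Subtype.val hk⟩
        haveI : Nontrivial G := IsSimpleGroup.toNontrivial
        have h4 := h3.center_nontrivial
        rcases (inferInstance : (Subgroup.center G).Normal).eq_bot_or_eq_top with h5 | h5
        · rw [h5] at h4
          exact (Subgroup.nontrivial_iff_ne_bot _).mp h4 rfl
        · obtain ⟨a, b, hab⟩ := hG
          have : b ∈ Subgroup.center G := by rw [h5]; exact Subgroup.mem_top b
          exact hab (Subgroup.mem_center_iff.mp this a)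
    · intro D hD
      exact FT.solvable_of_odd hD
  exact CIT.cit_main hCIT hna h2

end Cfsg.Agent.S0337
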