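import Cfsg.Statements.S0448
import Cfsg.Agent.JC.MkDat

set_option autoImplicit false
open Cfsg

namespace Cfsg.Agent.S0448

/-- Janko's first group: a finite simple group with a 2-central involution whose centraliser is isomorphic to (cyclic of order 2) × (alternating group of degree 5) has order 175560. -/
theorem result {G : Type*} [Group G] [Finite G] [IsSimpleGroup G] (t : G) (ht : Cfsg.IsTwoCentralInvolution t) (e : Subgroup.centralizer ({t} : Set G) ≃* Multiplicative (ZMod 2) × alternatingGroup (Fin 5)) : Cfsg.IsJ1 G := by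
  have ht1 : t ≠ 1 := by
    rintro rfl
    have h := ht.1
    rw [orderOf_one] at h
    exact absurd h (by norm_num)
  obtain ⟨E, hE⟩ := Cfsg.Agent.JC.exists_emb t ht1 e
  have h16 : ¬ 16 ∣ Nat.card G := Cfsg.Agent.JC.card_mod16 E (by rw [hE]; exact ht)
  exact ⟨inferInstance, Cfsg.Agent.JC.card_eq E h16⟩

end Cfsg.Agent.S0448
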