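import Cfsg.Statements.S0449
import Cfsg.Agent.JU.Iso

set_option autoImplicit false
open Cfsg

namespace Cfsg.Agent.S0449

/-- Uniqueness of Janko's first group: two finite simple groups, each with a 2-central involution whose centraliser is isomorphic to (cyclic of order 2) × (alternating group of degree 5), are isomorphic. -/
theorem result {G H : Type*} [Group G] [Finite G] [IsSimpleGroup G] [Group H] [Finite H] [IsSimpleGroup H] (t : G) (u : H) (ht : Cfsg.IsTwoCentralInvolution t) (hu : Cfsg.IsTwoCentralInvolution u) (e : Subgroup.centralizer ({t} : Set G) ≃* Multiplicative (ZMod 2) × alternatingGroup (Fin 5)) (f : Subgroup.centralizer ({u} : Set H) ≃* Multiplicative (ZMod 2) × alternatingGroup (Fin 5)) : Nonempty (G ≃* H) := by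
  have ht1 : t ≠ 1 := by
    rintro rfl
    have h := ht.1
    rw [orderOf_one] at h
    exact absurd h (by norm_num)
  have hu1 : u ≠ 1 := by
    rintro rfl
    have h := hu.1
    rw [orderOf_one] at h
    exact absurd h (by norm_num)
  obtain ⟨E, hE⟩ := Cfsg.Agent.JC.exists_emb t ht1 e
  obtain ⟨F, hF⟩ := Cfsg.Agent.JC.exists_emb u hu1 f
  have h16 : ¬ 16 ∣ Nat.card G := Cfsg.Agent.JC.card_mod16 E (by rw [hE]; exact ht)
  have h16' : ¬ 16 ∣ Nat.card H := Cfsg.Agent.JC.card_mod16 F (by rw [hF]; exact hu)
  exact Cfsg.Agent.JC.iso_of_emb E F h16 h16'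

end Cfsg.Agent.S0449
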