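import Cfsg.Statements.S0504
import Cfsg.Agent.H32.SEGraph
import Cfsg.Agent.SigF.PC
import Cfsg.Agent.H32.SEBS
import Cfsg.Agent.S1292

set_option autoImplicit false
open Cfsg

namespace Cfsg.Agent.S0504

open H32.SFB H32.SE FourGraph

/-- Let G be a finite group containing an elementary abelian subgroup of order 8, with no nontrivial normal subgroup of
odd order, not of component type, and with a Sylow 2-subgroup whose commuting graph of Klein four-subgroups is
connected. Then every 2-local subgroup H of G satisfies C_H(O₂(H)) ≤ O₂(H). -/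
theorem result {G : Type*} [Group G] [Finite G]
    (h3 : ¬ Cfsg.PRankLE 2 2 G) (hO : Cfsg.oddCore G = ⊥) (hc : ¬ Cfsg.IsComponentType G) (S : Sylow 2 G)
    (hS : Cfsg.IsFourConnected (S : Subgroup G)) : Cfsg.IsCharacteristicTwoType G := by
  haveI : Fact (Nat.Prime 2) := ⟨Nat.prime_two⟩
  have hcc : CentConstr G := by
    intro t ht
    rw [SigF.PC.isPConstrained_iff_pLayer, SigF.PC.pLayer_eq_bot_iff, eq_bot_iff, FStar.layer_le_iff]
    intro L hL
    exact absurd ⟨t, ht, L, hL.1, hL.2⟩ hc
  obtain ⟨E₀, hE₀, hE₀8⟩ := exists_elem_of_rank_top (p := 2) h3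
  obtain ⟨x, hx⟩ := H9.exists_conj_smul_le_sylow (SigF.isPGroup_of_elem hE₀) S
  set E : Subgroup G := E₀.map (MulAut.conj x).toMonoidHom with hEdef
  have hES : E ≤ (S : Subgroup G) := hx
  have hE : Cfsg.IsElementaryAbelian 2 E := elem_map hE₀ _
  have hE8 : 2 ^ 3 ≤ Nat.card E := by
    rwa [hEdef, Subgroup.card_map_of_injective (MulAut.conj x).injective]
  have hSne : (S : Subgroup G) ≠ ⊥ := by
    intro h
    rw [h, le_bot_iff] at hES
    rw [hES, Subgroup.card_bot] at hE8
    norm_num at hE8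
  have hr : ¬ Cfsg.PRankLE 2 1 ↥(S : Subgroup G) := not_pRankLE_of_le hES (rank_of_eight hE hE8)
  obtain ⟨U, hU⟩ := not_pRankLE_iff.1 hr
  have h8 : InEight (S : Subgroup G) := inEight_of_connected S.2 hS hES hE hE8
  have hcore : ∀ t : G, orderOf t = 2 → Cfsg.centralizerPPrimeCore 2 t = ⊥ := fun t ht =>
    core_trivial H32.SE.strongCore hcc hO S h8 hSne _
      (fun B hB hBr => W_connected hcc S.2 hS hU hB hBr) ht
  have hfit : ∀ t : G, orderOf t = 2 →
      Cfsg.generalizedFittingSubgroup ↥(Subgroup.centralizer ({t} : Set G)) =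
        Cfsg.pCore 2 ↥(Subgroup.centralizer ({t} : Set G)) := by
    intro t ht
    rw [← SigF.PC.charP_iff_eq]
    have h1 := hcore t ht
    unfold Cfsg.centralizerPPrimeCore at h1
    rw [Subgroup.map_eq_bot_iff_of_injective _ (Subgroup.subtype_injective _)] at h1
    exact (H36.PConstr.isPConstrained_iff_of_core_eq_bot h1).1 (hcc t ht)
  refine ⟨?_, ?_⟩
  · have h1 : Nat.card E ∣ Nat.card G := Subgroup.card_subgroup_dvd_card E
    obtain ⟨n, hn⟩ := elem_card (p := 2) hE
    rw [hn] at h1 hE8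
    rcases n with _ | n
    · norm_num at hE8
    · exact even_iff_two_dvd.2 ((dvd_pow_self 2 (Nat.succ_ne_zero n)).trans h1)
  · intro T hT hT1
    exact SigF.PC.charP_iff_eq.2 (S1292.result hfit T hT hT1)

end Cfsg.Agent.S0504
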