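import Cfsg.Statements.S0542

set_option autoImplicit false
open Cfsg

namespace Cfsg.Agent.S0542

theorem relIndex_dvd_index_of_normal_right {G : Type*} [Group G] [Finite G] (T N : Subgroup G) [N.Normal] :
    T.relIndex N ∣ T.index := by
  have h1 : N.relIndex (T ⊔ N) = N.relIndex T := Subgroup.relIndex_sup_right _ _
  have h2 : (T ⊓ N).relIndex T * T.index = (T ⊓ N).index := Subgroup.relIndex_mul_index inf_le_left
  have h3 : (T ⊓ N).relIndex N * N.index = (T ⊓ N).index := Subgroup.relIndex_mul_index inf_le_right
  have h4 : N.relIndex (T ⊔ N) * (T ⊔ N).index = N.index := Subgroup.relIndex_mul_index le_sup_right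
  rw [Subgroup.inf_relIndex_left] at h2
  rw [Subgroup.inf_relIndex_right] at h3
  have h5 : N.relIndex T * (T.relIndex N * (T ⊔ N).index) = N.relIndex T * T.index := by
    rw [h2, ← h3, ← h4, h1]; ring
  have h6 : N.relIndex T ≠ 0 := Subgroup.index_ne_zero_of_finite (H := N.subgroupOf T)
  have h7 := Nat.eq_of_mul_eq_mul_left (Nat.pos_of_ne_zero h6) h5
  exact ⟨_, h7.symm⟩

/-- A Sylow p-subgroup of a finite group meets every subnormal subgroup H in a Sylow p-subgroup of H. -/
theorem result {G : Type*} [Group G] [Finite G] (p : ℕ) [Fact p.Prime] (H : Subgroup G) (hH : H.IsSubnormal) (S : Sylow p G) : ∃ Q : Sylow p H, (Q : Subgroup H) = (S : Subgroup G).subgroupOf H := by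
  have key : ¬ p ∣ (S : Subgroup G).relIndex H := by
    induction hH with
    | top =>
      rw [Subgroup.relIndex_top_right]
      exact S.not_dvd_index
    | step H K hle _ hn ih =>
      intro hd
      apply ih
      have h := relIndex_dvd_index_of_normal_right ((S : Subgroup G).subgroupOf K) (H.subgroupOf K)
      rw [Subgroup.relIndex_subgroupOf hle] at h
      exact hd.trans h
  have hp : IsPGroup p ((S : Subgroup G).subgroupOf H) := by
    have h1 : IsPGroup p (S : Subgroup G) := S.isPGroup'
    exact h1.comap_of_injective H.subtype H.subtype_injective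
  exact ⟨hp.toSylow key, rfl⟩

end Cfsg.Agent.S0542
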