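import Cfsg.Statements.S0647

set_option autoImplicit false
open Cfsg

namespace Cfsg.Agent.S0647

open Subgroup

theorem centralizer_le_of_max {S : Type*} [Group S] (A : Subgroup S) (hA : IsMulCommutative A)
    (hmax : ∀ B : Subgroup S, IsMulCommutative B → A ≤ B → B = A) :
    Subgroup.centralizer (A : Set S) = A := by
  apply le_antisymm
  · intro x hx
    have hcomm : ∀ a ∈ (A : Set S) ∪ {x}, ∀ b ∈ (A : Set S) ∪ {x}, a * b = b * a := by
      rintro a (ha | rfl) b (hb | rfl)
      · have h1 : (⟨a, ha⟩ : A) * ⟨b, hb⟩ = ⟨b, hb⟩ * ⟨a, ha⟩ := mul_comm' _ _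
        exact congrArg Subtype.val h1
      · exact mem_centralizer_iff.mp hx a ha
      · exact (mem_centralizer_iff.mp hx b hb).symm
      · rfl
    have hB : IsMulCommutative (Subgroup.closure ((A : Set S) ∪ {x})) :=
      Subgroup.isMulCommutative_closure hcomm
    have h1 := hmax _ hB (fun a ha => subset_closure (Or.inl ha))
    rw [← h1]
    exact subset_closure (Or.inr rfl)
  · exact Subgroup.le_centralizer A

theorem result {S : Type*} [Group S] [Finite S] (𝒜 : Set (Subgroup S)) (hne : 𝒜.Nonempty) (hab : ∀ A ∈ 𝒜, IsMulCommutative A) (hmax : ∀ A ∈ 𝒜, ∀ B : Subgroup S, IsMulCommutative B → A ≤ B → B = A) : sInf 𝒜 = sSup 𝒜 ⊓ Subgroup.centralizer ((sSup 𝒜 : Subgroup S) : Set S) ∧ sInf 𝒜 = Subgroup.centralizer ((sSup 𝒜 : Subgroup S) : Set S) := by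
  have h1 : sInf 𝒜 = Subgroup.centralizer ((sSup 𝒜 : Subgroup S) : Set S) := by
    apply le_antisymm
    · rw [Subgroup.le_centralizer_iff]
      apply sSup_le
      intro A hA
      rw [Subgroup.le_centralizer_iff, centralizer_le_of_max A (hab A hA) (hmax A hA)]
      exact sInf_le hA
    · apply le_sInf
      intro A hA
      rw [← centralizer_le_of_max A (hab A hA) (hmax A hA)]
      apply Subgroup.centralizer_le
      have := le_sSup hA
      exact_mod_cast this
  refine ⟨?_, h1⟩
  rw [← h1]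
  symm
  rw [inf_eq_right]
  obtain ⟨A, hA⟩ := hne
  exact (sInf_le hA).trans (le_sSup hA)

end Cfsg.Agent.S0647
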