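import Cfsg.Statements.S0648
import Cfsg.Agent.H10.GlauRep

set_option autoImplicit false
open Cfsg

namespace Cfsg.Agent.S0648

open Cfsg.Agent.H10 Subgroup in
open scoped commutatorElement in
theorem result {G : Type*} [Group G] [Finite G] (A B : Subgroup G) (hAB : A ≤ Subgroup.normalizer (B : Set G)) (hc : ⁅⁅B, B⁆, A⁆ = ⊥) : ⁅⁅B, A⁆, ⁅B, A⁆⁆ ≤ B ⊓ Subgroup.centralizer (B : Set G) ∧ (IsMulCommutative A → ∀ b ∈ B, ⁅⁅(Subgroup.closure {g : G | ∃ a ∈ A, g = b⁻¹ * a * b * a⁻¹}), A⁆, A⁆ = ⊥ → ∀ w ∈ ⁅(Subgroup.closure {g : G | ∃ a ∈ A, g = b⁻¹ * a * b * a⁻¹}), (Subgroup.closure {g : G | ∃ a ∈ A, g = b⁻¹ * a * b * a⁻¹})⁆, w ^ 2 = 1) := by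
  refine ⟨commutator_derived_le hAB hc, ?_⟩
  intro hA b hb hq w hw
  have hA' : ∀ x ∈ A, ∀ y ∈ A, x * y = y * x := by
    intro x hx y hy
    have h1 : (⟨x, hx⟩ : A) * ⟨y, hy⟩ = ⟨y, hy⟩ * ⟨x, hx⟩ := mul_comm' _ _
    exact congrArg Subtype.val h1
  refine (mem_cenTwo.mp (Hsub_commutator_sq hAB hc hA' hb ?_ hw)).2
  intro x hx y hy z hz
  have h1 : fel b x ∈ Subgroup.closure {g : G | ∃ a ∈ A, g = b⁻¹ * a * b * a⁻¹} :=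
    subset_closure ⟨x, hx, rfl⟩
  have h2 : (fel b x)⁻¹ * (y * fel b x * y⁻¹) = ⁅(fel b x)⁻¹, y⁆ := by
    rw [commutatorElement_def]; group
  rw [h2]
  have h3 : ⁅⁅(fel b x)⁻¹, y⁆, z⁆ ∈ ⁅⁅(Subgroup.closure {g : G | ∃ a ∈ A, g = b⁻¹ * a * b * a⁻¹}), A⁆, A⁆ :=
    commutator_mem_commutator (commutator_mem_commutator (inv_mem h1) hy) hz
  rw [hq, mem_bot, commutatorElement_eq_one_iff_mul_comm] at h3
  exact h3.symm

end Cfsg.Agent.S0648
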