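import Cfsg.Statements.S0652
import Cfsg.Agent.H10.GlauRep3

set_option autoImplicit false
open Cfsg

namespace Cfsg.Agent.S0652

open Cfsg.Agent.H10 Subgroup in
theorem result {S : Type*} [Group S] [Finite S] {p : ℕ} [Fact p.Prime] (hS : IsPGroup p S) (hp : p ≠ 2) (D : Subgroup S) [D.Normal] : ∀ (B : Subgroup S) [B.Normal], ⁅⁅B, B⁆, B⁆ = ⊥ → (∃ U ∈ (Set.image (fun A : Subgroup ↥D => A.map D.subtype) (Cfsg.maxElementaryAbelianSubgroups p ↥D)), ⁅B, B⁆ ≤ U ∧ ¬ B ≤ U) → ∃ A ∈ (Set.image (fun A : Subgroup ↥D => A.map D.subtype) (Cfsg.maxElementaryAbelianSubgroups p ↥D)), ⁅B, B⁆ ≤ A ∧ ¬ B ≤ A ∧ B ≤ Subgroup.normalizer (A : Set S) := by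
  intro B _ _ hU
  have hab : ∀ A, A ∈ (Set.image (fun A : Subgroup ↥D => A.map D.subtype) (Cfsg.maxElementaryAbelianSubgroups p ↥D)) →
      ∀ x ∈ A, ∀ y ∈ A, x * y = y * x := by
    rintro _ ⟨A, hA, rfl⟩ _ ⟨x, hx, rfl⟩ _ ⟨y, hy, rfl⟩
    have hAc := hA.1.1
    have h1 : (⟨x, hx⟩ : A) * ⟨y, hy⟩ = ⟨y, hy⟩ * ⟨x, hx⟩ := mul_comm' _ _
    have h2 : x * y = y * x := congrArg Subtype.val h1
    exact congrArg Subtype.val h2
  obtain ⟨A, hA, h1, h2, h3⟩ := exists_normalized hS hp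
    (fun A => A ∈ (Set.image (fun A : Subgroup ↥D => A.map D.subtype) (Cfsg.maxElementaryAbelianSubgroups p ↥D)))
    hab B (by
      rintro _ b ⟨A, hA, rfl⟩ h
      have hle : Astar (A.map D.subtype) b ≤ D := Astar_le_of_normal (Subgroup.map_subtype_le _) b
      refine ⟨(Astar (A.map D.subtype) b).subgroupOf D, ⟨⟨?_, ?_⟩, ?_⟩, ?_⟩
      · exact ⟨⟨fun x y => Subtype.ext (Subtype.ext (h.Astar_comm _ x.2 _ y.2))⟩⟩
      · intro x hx
        apply Subtype.ext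
        refine h.pow_eq_one ((Fact.out : p.Prime).odd_of_ne_two hp) ?_ _ hx
        rintro _ ⟨a, ha, rfl⟩
        exact congrArg Subtype.val (hA.1.2 a ha)
      · intro C hC
        rw [card_subgroupOf_of_le hle, h.card_Astar, Subgroup.card_map_of_injective D.subtype_injective]
        exact hA.2 C hC
      · exact Subgroup.map_subgroupOf_eq_of_le hle) (by
      obtain ⟨U, hU1, hU2⟩ := hU
      exact ⟨U, hU1, hU2⟩)
  exact ⟨A, hA, h1, h2, h3⟩

end Cfsg.Agent.S0652
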