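import Cfsg.Statements.S0692
import Cfsg.Agent.H34.GL2Code

set_option autoImplicit false
open Cfsg

namespace Cfsg.Agent.S0692

open Cfsg.Agent.H34

def gcodes : Fin 2 → ℕ := ![231, 10815]

def wordList : List (List (Fin 2)) := [[], [0], [1], [0, 0], [0, 1], [1, 0], [1, 1], [0, 0, 0], [0, 0, 1], [0, 1, 0], [0, 1, 1], [1, 0, 1], [1, 1, 0], [0, 0, 0, 1], [0, 0, 1, 0], [0, 0, 1, 1], [0, 1, 0, 1], [0, 1, 1, 0], [1, 0, 1, 0], [1, 0, 1, 1], [1, 1, 0, 1], [0, 0, 0, 1, 0], [0, 0, 0, 1, 1], [0, 0, 1, 0, 1], [0, 0, 1, 1, 0], [0, 1, 0, 1, 0], [0, 1, 0, 1, 1], [0, 1, 1, 0, 1], [1, 0, 1, 0, 1], [1, 0, 1, 1, 0], [1, 1, 0, 1, 0], [1, 1, 0, 1, 1], [0, 0, 0, 1, 0, 1], [0, 0, 0, 1, 1, 0], [0, 0, 1, 0, 1, 0], [0, 0, 1, 0, 1, 1], [0, 0, 1, 1, 0, 1], [0, 1, 0, 1, 0, 1], [0, 1, 0, 1, 1, 0], [0, 1, 1, 0,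 1, 0], [0, 1, 1, 0, 1, 1], [1, 0, 1, 0, 1, 1], [1, 0, 1, 1, 0, 1], [1, 1, 0, 1, 0, 1], [0, 0, 0, 1, 0, 1, 0], [0, 0, 0, 1, 0, 1, 1], [0, 0, 0, 1, 1, 0, 1], [0, 0, 1, 0, 1, 0, 1], [0, 0, 1, 0, 1, 1, 0], [0, 0, 1, 1, 0, 1, 0], [0, 0, 1, 1, 0, 1, 1], [0, 1, 0, 1, 0, 1, 1], [0, 1, 0, 1, 1, 0, 1], [0, 1, 1, 0, 1, 0, 1], [1, 0, 1, 0, 1, 1, 0], [1, 0, 1, 1, 0, 1, 0], [1, 0, 1, 1, 0, 1, 1], [1, 1, 0, 1, 0, 1, 1], [0, 0, 0, 1, 0, 1, 0, 1], [0, 0, 0, 1, 0, 1, 1, 0], [0, 0, 0, 1, 1, 0, 1, 0], [0, 0, 0, 1, 1, 0, 1, 1], [0, 0, 1, 0, 1, 0, 1, 1], [0, 0, 1, 0, 1, 1, 0, 1], [0, 0, 1, 1, 0, 1, 0, 1], [0, 1, 0, 1, 0, 1, 1, 0], [0, 1, 0, 1, 1, 0, 1, 0], [0, 1, 0, 1, 1, 0, 1, 1], [0, 1, 1, 0, 1, 0, 1, 1], [1, 0, 1, 0, 1, 1, 0, 1], [1, 0, 1, 1, 0, 1, 0, 1], [1, 1, 0, 1, 0, 1, 1, 0], [0, 0, 0, 1, 0, 1,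 0, 1, 1], [0, 0, 0, 1, 0, 1, 1, 0, 1], [0, 0, 0, 1, 1, 0, 1, 0, 1], [0, 0, 1, 0, 1, 0, 1, 1, 0], [0, 0, 1, 0, 1, 1, 0, 1, 0], [0, 0, 1, 0, 1, 1, 0, 1, 1], [0, 0, 1, 1, 0, 1, 0, 1, 1], [0, 1, 0, 1, 0, 1, 1, 0, 1], [0, 1, 0, 1, 1, 0, 1, 0, 1], [0, 1, 1, 0, 1, 0, 1, 1, 0], [1, 0, 1, 0, 1, 1, 0, 1, 0], [1, 0, 1, 0, 1, 1, 0, 1, 1], [1, 0, 1, 1, 0, 1, 0, 1, 1], [1, 1, 0, 1, 0, 1, 1, 0, 1], [0, 0, 0, 1, 0, 1, 0, 1, 1, 0], [0, 0, 0, 1, 0, 1, 1, 0, 1, 0], [0, 0, 0, 1, 0, 1, 1, 0, 1, 1], [0, 0, 0, 1, 1, 0, 1, 0, 1, 1], [0, 0, 1, 0, 1, 0, 1, 1, 0, 1], [0, 0, 1, 0, 1, 1, 0, 1, 0, 1], [0, 0, 1, 1, 0, 1, 0, 1, 1, 0], [0, 1, 0, 1, 0, 1, 1, 0, 1, 0], [0, 1, 0, 1, 0, 1, 1, 0, 1, 1], [0, 1, 0, 1, 1, 0, 1, 0, 1, 1], [0, 1, 1, 0, 1, 0, 1, 1, 0, 1], [1, 0, 1, 0, 1, 1, 0, 1, 0, 1], [1, 0, 1, 1, 0, 1, 0,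 1, 1, 0], [1, 1, 0, 1, 0, 1, 1, 0, 1, 0], [0, 0, 0, 1, 0, 1, 0, 1, 1, 0, 1], [0, 0, 0, 1, 0, 1, 1, 0, 1, 0, 1], [0, 0, 1, 0, 1, 0, 1, 1, 0, 1, 0], [0, 0, 1, 0, 1, 0, 1, 1, 0, 1, 1], [0, 0, 1, 0, 1, 1, 0, 1, 0, 1, 1], [0, 0, 1, 1, 0, 1, 0, 1, 1, 0, 1], [0, 1, 0, 1, 1, 0, 1, 0, 1, 1, 0], [0, 1, 1, 0, 1, 0, 1, 1, 0, 1, 0], [1, 0, 1, 0, 1, 1, 0, 1, 0, 1, 1], [1, 0, 1, 1, 0, 1, 0, 1, 1, 0, 1], [1, 1, 0, 1, 0, 1, 1, 0, 1, 0, 1], [0, 0, 0, 1, 0, 1, 0, 1, 1, 0, 1, 0], [0, 0, 0, 1, 0, 1, 0, 1, 1, 0, 1, 1], [0, 0, 0, 1, 0, 1, 1, 0, 1, 0, 1, 1], [0, 0, 1, 1, 0, 1, 0, 1, 1, 0, 1, 0], [0, 1, 0, 1, 1, 0, 1, 0, 1, 1, 0, 1], [0, 1, 1, 0, 1, 0, 1, 1, 0, 1, 0, 1], [1, 0, 1, 0, 1, 1, 0, 1, 0, 1, 1, 0], [1, 0, 1, 1, 0, 1, 0, 1, 1, 0, 1, 0], [1, 1, 0, 1, 0, 1, 1, 0, 1, 0, 1, 1]]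

theorem check_ok : check2 11 gcodes wordList = true := by decide +kernel

theorem det_ok : ∀ i : Fin 2, (dec2 11 (gcodes i)).det = 1 := by decide +kernel

theorem fact11 : Fact (Nat.Prime 11) := ⟨by norm_num⟩

/-- An exceptional sharply doubly transitive group of degree 11^2: the listed matrices generate a subgroup of GL(2,11) of order 120 acting regularly on the non-zero vectors. -/
theorem result (A : Matrix.GeneralLinearGroup (Fin 2) (ZMod 11)) (B : Matrix.GeneralLinearGroup (Fin 2) (ZMod 11)) (hA : (A : Matrix (Fin 2) (Fin 2) (ZMod 11)) = !![0, -1; 1, 0]) (hB : (B : Matrix (Fin 2) (Fin 2) (ZMod 11)) = !![2, 4; 1, -3]) : Nat.card (Subgroup.closure ({A, B} : Set (Matrix.GeneralLinearGroup (Fin 2) (ZMod 11)))) = 120 ∧ ∀ v w : Fin 2 → ZMod 11, v ≠ 0 → w ≠ 0 → ∃! h : Subgroup.closure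 ({A, B} : Set (Matrix.GeneralLinearGroup (Fin 2) (ZMod 11))), Matrix.mulVec ((h : Matrix.GeneralLinearGroup (Fin 2) (ZMod 11)) : Matrix (Fin 2) (Fin 2) (ZMod 11)) v = w := by
  have hf := fact11
  let g : Fin 2 → Matrix.GeneralLinearGroup (Fin 2) (ZMod 11) := ![A, B]
  have hr : ({A, B} : Set (Matrix.GeneralLinearGroup (Fin 2) (ZMod 11))) = Set.range g := by
    ext x
    simp only [Set.mem_insert_iff, Set.mem_singleton_iff, Set.mem_range, g]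
    constructor
    · rintro (rfl | rfl)
      · exact ⟨0, rfl⟩
      · exact ⟨1, rfl⟩
    · rintro ⟨i, rfl⟩
      fin_cases i <;> simp
  have hg : ∀ i, (g i : Matrix (Fin 2) (Fin 2) (ZMod 11)) = dec2 11 (gcodes i) := by
    intro i
    fin_cases i
    · show (A : Matrix (Fin 2) (Fin 2) (ZMod 11)) = _
      rw [hA]; decide
    · show (B : Matrix (Fin 2) (Fin 2) (ZMod 11)) = _
      rw [hB]; decide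
  have hcard := card_closure_gl2 11 g gcodes hg wordList check_ok
  rw [hr]
  have hlen : wordList.length = 120 := by decide +kernel
  rw [hlen] at hcard
  have hdet : ∀ h ∈ Subgroup.closure (Set.range g), (h : Matrix (Fin 2) (Fin 2) (ZMod 11)).det = 1 := by
    intro h hh
    have hle : Subgroup.closure (Set.range g) ≤ (Matrix.GeneralLinearGroup.det (n := Fin 2) (R := ZMod 11)).ker := by
      rw [Subgroup.closure_le]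
      rintro _ ⟨i, rfl⟩
      rw [SetLike.mem_coe, MonoidHom.mem_ker]
      apply Units.ext
      show ((g i : Matrix (Fin 2) (Fin 2) (ZMod 11))).det = 1
      rw [hg]
      exact det_ok i
    have := hle hh
    rw [MonoidHom.mem_ker] at this
    exact congrArg Units.val this
  have hsr := semiregular_sl2 11 (Subgroup.closure (Set.range g)) hdet (by rw [hcard]; decide)
  exact ⟨hcard, (regular_of_semiregular 11 _ (by rw [hcard]; decide) hsr).2⟩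

end Cfsg.Agent.S0692
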