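import Cfsg.Statements.S0693
import Cfsg.Agent.H34.GL2Code

set_option autoImplicit false
open Cfsg

namespace Cfsg.Agent.S0693

open Cfsg.Agent.H34

def gcodes : Fin 2 → ℕ := ![6903, 10235034]

def wordList : List (List (Fin 2)) := [[], [0], [1], [0, 0], [0, 1], [1, 0], [1, 1], [0, 0, 0], [0, 0, 1], [0, 1, 0], [0, 1, 1], [1, 0, 1], [1, 1, 0], [0, 0, 0, 1], [0, 0, 1, 0], [0, 0, 1, 1], [0, 1, 0, 1], [0, 1, 1, 0], [1, 0, 1, 0], [1, 0, 1, 1], [1, 1, 0, 1], [0, 0, 0, 1, 0], [0, 0, 0, 1, 1], [0, 0, 1, 0, 1], [0, 0, 1, 1, 0], [0, 1, 0, 1, 0], [0, 1, 0, 1, 1], [0, 1, 1, 0, 1], [1, 0, 1, 0, 1], [1, 0, 1, 1, 0], [1, 1, 0, 1, 0], [1, 1, 0, 1, 1], [0, 0, 0, 1, 0, 1], [0, 0, 0, 1, 1, 0], [0, 0, 1, 0, 1, 0], [0, 0, 1, 0, 1, 1], [0, 0, 1, 1, 0, 1], [0, 1, 0, 1, 0, 1], [0, 1, 0, 1, 1, 0], [0, 1, 1, 0, 1, 0], [0, 1, 1, 0, 1, 1], [1, 0, 1, 0, 1, 1], [1, 0, 1, 1, 0, 1], [1,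 1, 0, 1, 0, 1], [0, 0, 0, 1, 0, 1, 0], [0, 0, 0, 1, 0, 1, 1], [0, 0, 0, 1, 1, 0, 1], [0, 0, 1, 0, 1, 0, 1], [0, 0, 1, 0, 1, 1, 0], [0, 0, 1, 1, 0, 1, 0], [0, 0, 1, 1, 0, 1, 1], [0, 1, 0, 1, 0, 1, 1], [0, 1, 0, 1, 1, 0, 1], [0, 1, 1, 0, 1, 0, 1], [1, 0, 1, 0, 1, 1, 0], [1, 0, 1, 1, 0, 1, 0], [1, 0, 1, 1, 0, 1, 1], [1, 1, 0, 1, 0, 1, 1], [0, 0, 0, 1, 0, 1, 0, 1], [0, 0, 0, 1, 0, 1, 1, 0], [0, 0, 0, 1, 1, 0, 1, 0], [0, 0, 0, 1, 1, 0, 1, 1], [0, 0, 1, 0, 1, 0, 1, 1], [0, 0, 1, 0, 1, 1, 0, 1], [0, 0, 1, 1, 0, 1, 0, 1], [0, 1, 0, 1, 0, 1, 1, 0], [0, 1, 0, 1, 1, 0, 1, 0], [0, 1, 0, 1, 1, 0, 1, 1], [0, 1, 1, 0, 1, 0, 1, 1], [1, 0, 1, 0, 1, 1, 0, 1], [1, 0, 1, 1, 0, 1, 0, 1], [1, 1, 0, 1, 0, 1, 1, 0], [0, 0, 0, 1, 0, 1, 0, 1, 1], [0, 0, 0, 1, 0, 1, 1, 0, 1], [0, 0, 0, 1, 1, 0, 1, 0, 1], [0, 0, 1, 0, 1, 0, 1, 1, 0], [0, 0, 1, 0, 1, 1, 0, 1, 0], [0, 0, 1, 0, 1, 1, 0,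 1, 1], [0, 0, 1, 1, 0, 1, 0, 1, 1], [0, 1, 0, 1, 0, 1, 1, 0, 1], [0, 1, 0, 1, 1, 0, 1, 0, 1], [0, 1, 1, 0, 1, 0, 1, 1, 0], [1, 0, 1, 0, 1, 1, 0, 1, 0], [1, 0, 1, 0, 1, 1, 0, 1, 1], [1, 0, 1, 1, 0, 1, 0, 1, 1], [1, 1, 0, 1, 0, 1, 1, 0, 1], [0, 0, 0, 1, 0, 1, 0, 1, 1, 0], [0, 0, 0, 1, 0, 1, 1, 0, 1, 0], [0, 0, 0, 1, 0, 1, 1, 0, 1, 1], [0, 0, 0, 1, 1, 0, 1, 0, 1, 1], [0, 0, 1, 0, 1, 0, 1, 1, 0, 1], [0, 0, 1, 0, 1, 1, 0, 1, 0, 1], [0, 0, 1, 1, 0, 1, 0, 1, 1, 0], [0, 1, 0, 1, 0, 1, 1, 0, 1, 0], [0, 1, 0, 1, 0, 1, 1, 0, 1, 1], [0, 1, 0, 1, 1, 0, 1, 0, 1, 1], [0, 1, 1, 0, 1, 0, 1, 1, 0, 1], [1, 0, 1, 0, 1, 1, 0, 1, 0, 1], [1, 0, 1, 1, 0, 1, 0, 1, 1, 0], [1, 1, 0, 1, 0, 1, 1, 0, 1, 0], [0, 0, 0, 1, 0, 1, 0, 1, 1, 0, 1], [0, 0, 0, 1, 0, 1, 1, 0, 1, 0, 1], [0, 0, 1, 0, 1, 0, 1, 1, 0, 1, 0], [0, 0, 1, 0, 1, 0, 1, 1, 0, 1, 1], [0, 0, 1, 0, 1, 1, 0, 1, 0, 1, 1], [0, 0,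 1, 1, 0, 1, 0, 1, 1, 0, 1], [0, 1, 0, 1, 1, 0, 1, 0, 1, 1, 0], [0, 1, 1, 0, 1, 0, 1, 1, 0, 1, 0], [1, 0, 1, 0, 1, 1, 0, 1, 0, 1, 1], [1, 0, 1, 1, 0, 1, 0, 1, 1, 0, 1], [1, 1, 0, 1, 0, 1, 1, 0, 1, 0, 1], [0, 0, 0, 1, 0, 1, 0, 1, 1, 0, 1, 0], [0, 0, 0, 1, 0, 1, 0, 1, 1, 0, 1, 1], [0, 0, 0, 1, 0, 1, 1, 0, 1, 0, 1, 1], [0, 0, 1, 1, 0, 1, 0, 1, 1, 0, 1, 0], [0, 1, 0, 1, 1, 0, 1, 0, 1, 1, 0, 1], [0, 1, 1, 0, 1, 0, 1, 1, 0, 1, 0, 1], [1, 0, 1, 0, 1, 1, 0, 1, 0, 1, 1, 0], [1, 0, 1, 1, 0, 1, 0, 1, 1, 0, 1, 0], [1, 1, 0, 1, 0, 1, 1, 0, 1, 0, 1, 1]]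

theorem check_ok : check2 59 gcodes wordList = true := by decide +kernel

theorem det_ok : ∀ i : Fin 2, (dec2 59 (gcodes i)).det = 1 := by decide +kernel

theorem c_scalar : (!![4, 0; 0, 4] : Matrix (Fin 2) (Fin 2) (ZMod 59)) = (4 : ZMod 59) • (1 : Matrix (Fin 2) (Fin 2) (ZMod 59)) := by
  decide +kernel

theorem four_pow : (4 : ZMod 59) ^ 29 = 1 := by decide +kernel

theorem four_ne : (4 : ZMod 59) ≠ 1 := by decide +kernel

theorem fact59 : Fact (Nat.Prime 59) := ⟨by norm_num⟩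

/-- An exceptional sharply doubly transitive group of degree 59^2: the listed matrices generate a subgroup of GL(2,59) of order 3480 acting regularly on the non-zero vectors. -/
theorem result (A : Matrix.GeneralLinearGroup (Fin 2) (ZMod 59)) (B : Matrix.GeneralLinearGroup (Fin 2) (ZMod 59)) (C : Matrix.GeneralLinearGroup (Fin 2) (ZMod 59)) (hA : (A : Matrix (Fin 2) (Fin 2) (ZMod 59)) = !![0, -1; 1, 0]) (hB : (B : Matrix (Fin 2) (Fin 2) (ZMod 59)) = !![9, 15; -10, -10]) (hC : (C : Matrix (Fin 2) (Fin 2) (ZMod 59)) = !![4, 0; 0, 4]) : Nat.card (Subgroup.closure ({A, B, C} : Set (Matrix.GeneralLinearGroup (Fin 2) (ZMod 59)))) = 3480 ∧ ∀ v w : Fin 2 → ZMod 59, v ≠ 0 → w ≠ 0 → ∃! h : Subgroup.closure ({A, B, C} : Set (Matrix.GeneralLinearGroup (Fin 2) (ZMod 59))), Matrix.mulVec ((h : Matrix.GeneralLinearGroup (Fin 2) (ZMod 59)) : Matrix (Fin 2) (Fin 2) (ZMod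 59)) v = w := by
  have hf := fact59
  let g : Fin 2 → Matrix.GeneralLinearGroup (Fin 2) (ZMod 59) := ![A, B]
  have hg : ∀ i, (g i : Matrix (Fin 2) (Fin 2) (ZMod 59)) = dec2 59 (gcodes i) := by
    intro i
    fin_cases i
    · show (A : Matrix (Fin 2) (Fin 2) (ZMod 59)) = _
      rw [hA]; decide
    · show (B : Matrix (Fin 2) (Fin 2) (ZMod 59)) = _
      rw [hB]; decide
  have hcard := card_closure_gl2 59 g gcodes hg wordList check_ok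
  have hlen : wordList.length = 120 := by decide +kernel
  rw [hlen] at hcard
  set H1 := Subgroup.closure (Set.range g) with hH1
  have hdet : ∀ h ∈ H1, (h : Matrix (Fin 2) (Fin 2) (ZMod 59)).det = 1 := by
    intro h hh
    have hle : Subgroup.closure (Set.range g) ≤ (Matrix.GeneralLinearGroup.det (n := Fin 2) (R := ZMod 59)).ker := by
      rw [Subgroup.closure_le]
      rintro _ ⟨i, rfl⟩
      rw [SetLike.mem_coe, MonoidHom.mem_ker]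
      apply Units.ext
      show ((g i : Matrix (Fin 2) (Fin 2) (ZMod 59))).det = 1
      rw [hg]
      exact det_ok i
    have := hle hh
    rw [MonoidHom.mem_ker] at this
    exact congrArg Units.val this
  have hsr1 := semiregular_sl2 59 H1 hdet (by rw [hcard]; decide)
  set H := Subgroup.closure ({A, B, C} : Set (Matrix.GeneralLinearGroup (Fin 2) (ZMod 59))) with hH
  -- C is scalar
  have hCs : (C : Matrix (Fin 2) (Fin 2) (ZMod 59)) = (4 : ZMod 59) • (1 : Matrix (Fin 2) (Fin 2) (ZMod 59)) := by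
    rw [hC]; exact c_scalar
  have hCpow : ∀ k : ℕ, ((C ^ k : Matrix.GeneralLinearGroup (Fin 2) (ZMod 59)) : Matrix (Fin 2) (Fin 2) (ZMod 59)) =
      ((4 : ZMod 59) ^ k) • (1 : Matrix (Fin 2) (Fin 2) (ZMod 59)) := by
    intro k
    rw [Units.val_pow_eq_pow_val, hCs, smul_pow, one_pow]
  have h4 : (4 : ZMod 59) ^ 29 = 1 := four_pow
  have hC29 : C ^ 29 = 1 := by
    apply Units.ext
    rw [hCpow, h4, one_smul, Units.val_one]
  have hCne : C ≠ 1 := by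
    intro h
    have h1 := congrArg (fun x : Matrix.GeneralLinearGroup (Fin 2) (ZMod 59) => (x : Matrix (Fin 2) (Fin 2) (ZMod 59)) 0 0) h
    simp only [hC] at h1
    exact four_ne h1
  have hCord : orderOf C = 29 := by
    have hf29 : Fact (Nat.Prime 29) := ⟨by norm_num⟩
    exact orderOf_eq_prime hC29 hCne
  have hCcomm : ∀ x : Matrix.GeneralLinearGroup (Fin 2) (ZMod 59), C * x = x * C := by
    intro x
    apply Units.ext
    rw [Units.val_mul, Units.val_mul, hCs, smul_mul_assoc, one_mul, mul_smul_comm, mul_one]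
  have hH1H : H1 ≤ H := by
    rw [hH1, Subgroup.closure_le]
    rintro _ ⟨i, rfl⟩
    apply Subgroup.subset_closure
    fin_cases i
    · exact Or.inl rfl
    · exact Or.inr (Or.inl rfl)
  have hCH : C ∈ H := Subgroup.subset_closure (Or.inr (Or.inr rfl))
  have hA1 : A ∈ H1 := Subgroup.subset_closure ⟨0, rfl⟩
  have hB1 : B ∈ H1 := Subgroup.subset_closure ⟨1, rfl⟩
  have hform : ∀ h ∈ H, ∃ s ∈ H1, ∃ k : ℕ, h = s * C ^ k := by
    have hCz : C ∈ Subgroup.center (Matrix.GeneralLinearGroup (Fin 2) (ZMod 59)) := by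
      rw [Subgroup.mem_center_iff]
      intro x; exact (hCcomm x).symm
    have hn : (Subgroup.zpowers C).Normal := by
      constructor
      intro n hn x
      have : n ∈ Subgroup.center (Matrix.GeneralLinearGroup (Fin 2) (ZMod 59)) := by
        have hle : Subgroup.zpowers C ≤ Subgroup.center _ := by
          rw [Subgroup.zpowers_le]; exact hCz
        exact hle hn
      rw [← (Subgroup.mem_center_iff.mp this x).symm, mul_inv_cancel_right]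
      exact hn
    have hle : H ≤ H1 ⊔ Subgroup.zpowers C := by
      rw [hH, Subgroup.closure_le]
      rintro x (rfl | rfl | rfl)
      · exact (le_sup_left : H1 ≤ _) hA1
      · exact (le_sup_left : H1 ≤ _) hB1
      · exact (le_sup_right : Subgroup.zpowers x ≤ _) (Subgroup.mem_zpowers x)
    intro h hh
    obtain ⟨s, hs, c, hc, rfl⟩ := Subgroup.mem_sup_of_normal_right.mp (hle hh)
    rw [mem_zpowers_iff_mem_range_orderOf] at hc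
    obtain ⟨k, -, hk⟩ := Finset.mem_image.mp hc
    exact ⟨s, hs, k, by rw [← hk]⟩
  have hsr : ∀ h ∈ H, ∀ v : Fin 2 → ZMod 59, v ≠ 0 →
      Matrix.mulVec (h : Matrix (Fin 2) (Fin 2) (ZMod 59)) v = v → h = 1 := by
    intro h hh v hv hv1
    obtain ⟨s, hs, k, rfl⟩ := hform h hh
    -- c = 4 ^ k
    set c : ZMod 59 := 4 ^ k with hc
    have h1 : c • Matrix.mulVec (s : Matrix (Fin 2) (Fin 2) (ZMod 59)) v = v := by
      rw [Units.val_mul, hCpow, mul_smul_comm, mul_one, Matrix.smul_mulVec] at hv1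
      exact hv1
    have h2 : ∀ n : ℕ, c ^ n • Matrix.mulVec ((s : Matrix (Fin 2) (Fin 2) (ZMod 59)) ^ n) v = v := by
      intro n
      induction n with
      | zero => simp
      | succ n ih =>
        rw [pow_succ (s : Matrix (Fin 2) (Fin 2) (ZMod 59)), ← Matrix.mulVec_mulVec]
        have h3 : Matrix.mulVec ((s : Matrix (Fin 2) (Fin 2) (ZMod 59)) ^ n) v = Matrix.mulVec
            ((s : Matrix (Fin 2) (Fin 2) (ZMod 59)) ^ n) (c • Matrix.mulVec (s : Matrix (Fin 2) (Fin 2) (ZMod 59)) v) := by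
          rw [h1]
        rw [h3, Matrix.mulVec_smul, smul_smul] at ih
        rw [pow_succ]
        exact ih
    have hs120 : s ^ 120 = 1 := by
      have h3 := pow_card_eq_one' (x := (⟨s, hs⟩ : H1))
      rw [hcard] at h3
      exact congrArg Subtype.val h3
    have h3 := h2 120
    rw [← Units.val_pow_eq_pow_val, hs120, Units.val_one, Matrix.one_mulVec] at h3
    have h5 : c ^ 120 = 1 := by
      obtain ⟨i, hi⟩ : ∃ i, v i ≠ 0 := by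
        by_contra hcon
        push Not at hcon
        exact hv (funext hcon)
      have h6 := congrFun h3 i
      rw [Pi.smul_apply, smul_eq_mul] at h6
      exact mul_right_cancel₀ hi (by rw [h6, one_mul])
    have h6 : c ^ 29 = 1 := by rw [hc, ← pow_mul, mul_comm, pow_mul, h4, one_pow]
    have h7 : c = 1 := by
      have h8 : orderOf c ∣ Nat.gcd 120 29 :=
        Nat.dvd_gcd (orderOf_dvd_of_pow_eq_one h5) (orderOf_dvd_of_pow_eq_one h6)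
      have h9 : Nat.gcd 120 29 = 1 := by decide
      rw [h9, Nat.dvd_one, orderOf_eq_one_iff] at h8
      exact h8
    rw [h7, one_smul] at h1
    have hs1 := hsr1 s hs v hv h1
    rw [hs1, one_mul]
    apply Units.ext
    rw [hCpow, ← hc, h7, one_smul, Units.val_one]
  have hHfin : Finite H := inferInstance
  have hle : 59 ^ 2 - 1 ≤ Nat.card H := by
    have h1 : 120 ∣ Nat.card H := by rw [← hcard]; exact Subgroup.card_dvd_of_le hH1H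
    have h2 : 29 ∣ Nat.card H := by rw [← hCord]; exact Subgroup.orderOf_dvd_natCard _ hCH
    have h3 : 120 * 29 ∣ Nat.card H := Nat.Coprime.mul_dvd_of_dvd_of_dvd (by decide) h1 h2
    exact Nat.le_of_dvd Nat.card_pos h3
  obtain ⟨hc, hr⟩ := regular_of_semiregular 59 H hle hsr
  exact ⟨hc, hr⟩

end Cfsg.Agent.S0693
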