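import Cfsg.Statements.S0813
import Cfsg.Agent.AutPSL.Struct

set_option autoImplicit false
open Cfsg

namespace Cfsg.Agent.S0813

/-- |Aut(PSL_n(q))|, q = p^f: for n ≥ 3 it is 2 f |PGL_n(q)|, and for n = 2 (q ≥ 4) it is f |PGL_2(q)|. -/
theorem result {F : Type*} [Field F] [Fintype F] (p f : ℕ) [Fact p.Prime] (hf : 1 ≤ f) (hF : Fintype.card F = p ^ f) (n : ℕ) (hn : 2 ≤ n) (h2 : n = 2 → 4 ≤ p ^ f) : Nat.card (MulAut (Matrix.ProjectiveSpecialLinearGroup (Fin n) F)) = (if n = 2 then 1 else 2) * f * Nat.card (Matrix.ProjGenLinGroup (Fin n) F) := by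
  obtain ⟨_, hcard⟩ := AutPSL.ringAut_cyclic_card F hF
  by_cases h : n = 2
  · subst h
    rw [if_pos rfl, one_mul]
    let Φ := (MonoidHom.fst _ _).comp (AutPSL.typeHom (F := F) (n := 2) le_rfl)
    have h1 := Subgroup.card_eq_card_quotient_mul_card_subgroup Φ.ker
    have h3 : Φ.ker = (AutPSL.diagHom 2 F).range := by
      ext α
      rw [AutPSL.mem_ker_fst_typeHom_two]
      constructor
      · rintro ⟨g, rfl⟩; exact ⟨g, rfl⟩
      · rintro ⟨g, rfl⟩; exact ⟨g, rfl⟩
    rw [h1, Nat.card_congr (QuotientGroup.quotientKerEquivOfSurjective Φ (AutPSL.fst_typeHom_surjective le_rfl)).toEquiv,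
      hcard, h3, Nat.card_congr (AutPSL.rangeDiagHomEquiv hn).toEquiv]
  · have h3 : 3 ≤ n := by omega
    rw [if_neg h]
    let Φ := AutPSL.typeHom (F := F) (n := n) hn
    have h1 := Subgroup.card_eq_card_quotient_mul_card_subgroup Φ.ker
    have h4 : Φ.ker = (AutPSL.diagHom n F).range := by
      ext α
      rw [AutPSL.mem_ker_typeHom]
      constructor
      · rintro ⟨g, rfl⟩; exact ⟨g, rfl⟩
      · rintro ⟨g, rfl⟩; exact ⟨g, rfl⟩
    rw [h1, Nat.card_congr (QuotientGroup.quotientKerEquivOfSurjective Φ (AutPSL.typeHom_surjective h3)).toEquiv,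
      Nat.card_prod, hcard, h4, Nat.card_congr (AutPSL.rangeDiagHomEquiv hn).toEquiv]
    have : Nat.card (Multiplicative (ZMod 2)) = 2 := by
      rw [Nat.card_eq_fintype_card, Fintype.card_multiplicative, ZMod.card]
    rw [this]
    ring

end Cfsg.Agent.S0813
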