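import Cfsg.Statements.S0925
import Cfsg.Agent.Blk.Orth2

set_option autoImplicit false
open Cfsg

namespace Cfsg.Agent.S0925

/-- (i) Let ϑ be a class function on the finite group G and x a p-element, and suppose ϑ vanishes at every element whose p-part is conjugate to x. Then for every block B (relative to a maximal ideal M of the algebraic integers containing p) the B-part of ϑ — the sum over χ ∈ B of the inner product of ϑ with χ, times χ — also vanishes at every such element. (ii) Block orthogonality, its corollary: if the p-parts of g and h are not conjugate, then the sum over χ ∈ B of χ g * χ h⁻¹ is zero for every block B. -/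
theorem result {G : Type*} [Group G] [Finite G] (p : ℕ) [Fact p.Prime] (M : Ideal Cfsg.AlgInt) (hM : Cfsg.IsPModular p M) : (∀ (ϑ : G → ℂ), Cfsg.IsClassFunction G ϑ → ∀ x : G, (∃ k : ℕ, orderOf x = p ^ k) → (∀ u z : G, Cfsg.IsPPart p u z → IsConj x z → ϑ u = 0) → ∀ B : Set (Cfsg.IrrCharacter G), Cfsg.IsPBlock M B → ∀ u z : G, Cfsg.IsPPart p u z → IsConj x z → Cfsg.blockPart B ϑ u = 0) ∧ (∀ g h x y : G, Cfsg.IsPPart p g x → Cfsg.IsPPart p h y → ¬ IsConj x y → ∀ B : Set (Cfsg.IrrCharacter G), Cfsg.IsPBlock M B → ∑ᶠ χ ∈ B, (χ : G → ℂ) g * (χ : G → ℂ) h⁻¹ = 0) := by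
  classical
  have := Fintype.ofFinite G
  have hMp := hM.2.1.isPrime
  have key : ∀ g h x y : G, Cfsg.IsPPart p g x → Cfsg.IsPPart p h y → ¬ IsConj x y →
      ∀ B : Set (Cfsg.IrrCharacter G), Cfsg.IsPBlock M B →
      ∑ᶠ χ ∈ B, (χ : G → ℂ) g * (χ : G → ℂ) h⁻¹ = 0 := by
    intro g h x y hx hy hxy B hB
    have h1 := Blk.block_orthogonality hM hB hx hy hxy
    rw [← h1]
    exact finsum_congr fun χ => finsum_congr fun _ => by rw [CharBase.irr_inv]
  refine ⟨?_, key⟩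
  intro ϑ hϑ x ⟨k, hk⟩ hvan B hB u z huz hxz
  have := Fintype.ofFinite (Cfsg.IrrCharacter G)
  -- every element has a p-part
  have hpart : ∀ g : G, ∃ y : G, Cfsg.IsPPart p g y := by
    intro g
    have hg : 0 < orderOf g := orderOf_pos g
    set a := (orderOf g).factorization p with ha
    have hcop : Nat.Coprime (p ^ a) (orderOf g / p ^ a) := by
      exact Nat.Coprime.pow_left _ (Nat.coprime_ordCompl hM.1 hg.ne')
    have hmul : p ^ a * (orderOf g / p ^ a) = orderOf g := Nat.ordProj_mul_ordCompl_eq_self _ _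
    have hcop' : IsCoprime ((p ^ a : ℕ) : ℤ) ((orderOf g / p ^ a : ℕ) : ℤ) :=
      Nat.isCoprime_iff_coprime.2 hcop
    obtain ⟨s, t, hst⟩ := hcop'
    refine ⟨g ^ (t * ((orderOf g / p ^ a : ℕ) : ℤ)), g ^ (s * ((p ^ a : ℕ) : ℤ)), ?_, ?_, ?_, ?_⟩
    · rw [← zpow_add, add_comm, hst, zpow_one]
    · exact (Commute.refl g).zpow_zpow _ _
    · have h1 : orderOf (g ^ (t * ((orderOf g / p ^ a : ℕ) : ℤ))) ∣ p ^ a := by
        rw [orderOf_dvd_iff_pow_eq_one, ← zpow_natCast, ← zpow_mul]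
        rw [← orderOf_dvd_iff_zpow_eq_one]
        rw [mul_assoc, ← Nat.cast_mul, mul_comm (orderOf g / p ^ a), hmul]
        exact dvd_mul_left _ _
      obtain ⟨j, _, hj⟩ := (Nat.dvd_prime_pow hM.1).1 h1
      exact ⟨j, hj⟩
    · have h1 : orderOf (g ^ (s * ((p ^ a : ℕ) : ℤ))) ∣ orderOf g / p ^ a := by
        rw [orderOf_dvd_iff_pow_eq_one, ← zpow_natCast, ← zpow_mul]
        rw [← orderOf_dvd_iff_zpow_eq_one]
        rw [mul_assoc, ← Nat.cast_mul, hmul]
        exact dvd_mul_left _ _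
      intro h2
      exact Nat.not_dvd_ordCompl hM.1 hg.ne' (h2.trans h1)
  unfold Cfsg.blockPart
  have e1 : ∀ χ : Cfsg.IrrCharacter G, @Cfsg.classInner G _ (Fintype.ofFinite G) ϑ (χ : G → ℂ) *
      (χ : G → ℂ) u = (Nat.card G : ℂ)⁻¹ * ∑ g : G, ϑ g *
        ((χ : G → ℂ) u * (χ : G → ℂ) g⁻¹) := by
    intro χ
    have h0 : @Cfsg.classInner G _ (Fintype.ofFinite G) ϑ (χ : G → ℂ) =
      Cfsg.classInner ϑ (χ : G → ℂ) := by
      congr!
    rw [h0]
    unfold Cfsg.classInner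
    rw [mul_assoc, Finset.sum_mul]
    congr 1
    refine Finset.sum_congr rfl fun g _ => ?_
    rw [CharBase.irr_inv]; ring
  show ∑ᶠ χ ∈ B, @Cfsg.classInner G _ (Fintype.ofFinite G) ϑ (χ : G → ℂ) *
      (χ : G → ℂ) u = 0
  rw [finsum_congr fun χ => finsum_congr fun _ => e1 χ]
  rw [Blk.finsum_mem_eq_sum_ite]
  have e2 : ∀ χ : Cfsg.IrrCharacter G, (if χ ∈ B then (Nat.card G : ℂ)⁻¹ * ∑ g : G, ϑ g *
        ((χ : G → ℂ) u * (χ : G → ℂ) g⁻¹) else 0) = (Nat.card G : ℂ)⁻¹ * ∑ g : G, ϑ g *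
        (if χ ∈ B then (χ : G → ℂ) u * (χ : G → ℂ) g⁻¹ else 0) := by
    intro χ
    split_ifs <;> simp
  rw [Finset.sum_congr rfl fun χ _ => e2 χ, ← Finset.mul_sum, Finset.sum_comm]
  refine mul_eq_zero_of_right _ (Finset.sum_eq_zero fun g _ => ?_)
  rw [← Finset.mul_sum, ← Blk.finsum_mem_eq_sum_ite]
  obtain ⟨y, hy⟩ := hpart g
  by_cases hc : IsConj x y
  · rw [hvan g y hy hc, zero_mul]
  · rw [key u g z y huz hy (fun h => hc (hxz.trans h)) B hB, mul_zero]

end Cfsg.Agent.S0925
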