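import Cfsg.Statements.S0984
import Cfsg.Agent.H1.T4
import Cfsg.Agent.H1T.A2
import Cfsg.Agent.H1T.C1
import Cfsg.Agent.H1T.C2
import Cfsg.Agent.H1T.D1

set_option autoImplicit false
open Cfsg

namespace Cfsg.Agent.S0984

/-- A simple group of order 2520 is isomorphic to the alternating group of degree 7. -/
theorem result {G : Type*} [Group G] [Finite G] [IsSimpleGroup G] (h : Nat.card G = 2520) : Nonempty (G ≃* alternatingGroup (Fin 7)) := by
  exact H1.T.final h (H1.T.n36 h) (fun S => H1.T.sylow2 h S)
    (fun C S hc hS => H1.T.not_elem h C S hc hS)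
    (fun C x t hx ht hxt hle => H1.T.c5a h C x t hx ht hxt hle)

end Cfsg.Agent.S0984
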