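import Cfsg.Statements.S0994
import Cfsg.Agent.H17.Basic

set_option autoImplicit false
open Cfsg

namespace Cfsg.Agent.S0994

/-- No finite simple group has order 1188 = 2^2 * 3^3 * 11. -/
theorem result {G : Type*} [Group G] [Finite G] [IsSimpleGroup G] : Nat.card G ≠ 1188 := by
  intro h
  have hG : ¬ IsMulCommutative G := H17.not_comm_of_not_prime (by rw [h]; norm_num)
  have : Fact (Nat.Prime 11) := ⟨by norm_num⟩
  have h1 := H17.card_sylow_mem (p := 11) (G := G) (k := 1) (m := 108) (by rw [h]; rfl) (by norm_num)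
  rw [show (Nat.divisors 108).filter (· % 11 = 1) = {1, 12} by decide +kernel] at h1
  have h2 := H17.card_sylow_ne_one (p := 11) hG (by rw [h]; norm_num)
  have h3 : Nat.card (Sylow 11 G) = 12 := by simpa [h2] using h1
  obtain ⟨P⟩ : Nonempty (Sylow 11 G) := inferInstance
  have h4 := H17.card_normalizer_mul P
  rw [h3, h] at h4
  have h5 := H17.card_sylow_eq P (k := 1) (m := 108) (by rw [h]; rfl) (by norm_num)
  exact H17.gcd_ne_one hG P (k := 9) (by simpa using h5) (by omega) (by norm_num)

end Cfsg.Agent.S0994
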