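import Cfsg.Statements.S1154
import Cfsg.Agent.Ree.Main
import Cfsg.Agent.Ree.Abs3
-- import your own Cfsg.Agent.* helpers here

set_option autoImplicit false
open Cfsg

namespace Cfsg.Agent.S1154

/-- In the small Ree group ²G₂(q), q = 3^(2m+1) with m ≥ 1, realised as G¹ inside the Chevalley group G₂ over the field with q elements (θ the 3^m-th power map), with `U¹ = G¹ ∩ U` (U the positive unipotent subgroup of the ambient G₂): `U¹` has exactly `q² - 1` elements of order 3. -/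
theorem result {K : Type*} [Field K] [Fintype K] {m : ℕ} (hm : 1 ≤ m) (hK : Fintype.card K = 3 ^ (2 * m + 1)) :
    Nat.card {u : ↥(Cfsg.Lie.chevG2.posUnipotent K ⊓ Cfsg.Lie.twistedG2 K (3 ^ m)) // orderOf u = 3} = (3 ^ (2 * m + 1)) ^ 2 - 1 := by
  rw [← hK]
  have e : {p : K × K // p ≠ 0} ≃ {u : ↥(Cfsg.Lie.chevG2.posUnipotent K ⊓ Cfsg.Lie.twistedG2 K (3 ^ m)) // orderOf u = 3} :=
    Equiv.ofBijective (fun p => ⟨Ree.posEquiv hK (0, p.1.1, p.1.2), by
      rw [← Subgroup.orderOf_coe]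
      have h1 : (Ree.posEquiv hK (0, p.1.1, p.1.2) : GL Cfsg.Lie.chevG2.Idx K) = (Ree.rs hK).x 0 p.1.1 p.1.2 := rfl
      rw [h1, Subgroup.orderOf_coe, (Ree.rs hK).orderOf_eq_three]
      exact ⟨rfl, fun h => p.2 (Prod.ext h.1 h.2)⟩⟩) (by
      constructor
      · rintro ⟨⟨a, b⟩, hab⟩ ⟨⟨c, d⟩, hcd⟩ h
        have h1 := (Ree.posEquiv hK).injective (congrArg Subtype.val h)
        simp only [Prod.mk.injEq] at h1
        apply Subtype.ext
        exact Prod.ext h1.2.1 h1.2.2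
      · rintro ⟨u, hu⟩
        obtain ⟨⟨T, U, W⟩, rfl⟩ := (Ree.posEquiv hK).surjective u
        rw [← Subgroup.orderOf_coe] at hu
        have h1 : (Ree.posEquiv hK (T, U, W) : GL Cfsg.Lie.chevG2.Idx K) = (Ree.rs hK).x T U W := rfl
        rw [h1, Subgroup.orderOf_coe, (Ree.rs hK).orderOf_eq_three] at hu
        obtain ⟨rfl, h2⟩ := hu
        exact ⟨⟨(U, W), fun h => h2 ⟨congrArg Prod.fst h, congrArg Prod.snd h⟩⟩, rfl⟩)
  rw [← Nat.card_congr e]
  classical
  rw [Nat.card_eq_fintype_card, Fintype.card_subtype_compl, Fintype.card_subtype_eq, Fintype.card_prod, sq]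

end Cfsg.Agent.S1154
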