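import Cfsg.Statements.S1249
-- import your own Cfsg.Agent.* helpers here

set_option autoImplicit false
open Cfsg

namespace Cfsg.Agent.S1249

open scoped Pointwise in
theorem mem_smul_sylow {G : Type*} [Group G] {p : ℕ} (P : Sylow p G) (y x : G) :
    x ∈ ((y • P : Sylow p G) : Subgroup G) ↔ y⁻¹ * x * y ∈ (P : Subgroup G) := by
  rw [Sylow.coe_subgroup_smul, Subgroup.mem_pointwise_smul_iff_inv_smul_mem,
    ← map_inv, MulAut.smul_def, MulAut.conj_apply, inv_inv]

/-- Let P and Q be Sylow p-subgroups of the finite group G both containing the subgroup A. If A is strongly closed in P, then A is strongly closed in Q. -/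
theorem result {G : Type*} [Group G] [Finite G] {p : ℕ} [Fact p.Prime] (P Q : Sylow p G) (A : Subgroup G) (hAQ : A ≤ Q) (hA : Cfsg.IsStronglyClosed A (P : Subgroup G)) : Cfsg.IsStronglyClosed A (Q : Subgroup G) := by
  obtain ⟨hAP, hcl⟩ := hA
  obtain ⟨y, rfl⟩ := MulAction.exists_smul_eq G P Q
  refine ⟨hAQ, fun x hx g hg => ?_⟩
  have h1 : ∀ a ∈ A, y⁻¹ * a * y ∈ A := by
    intro a ha
    have := hcl a ha y⁻¹ (by rw [inv_inv]; exact (mem_smul_sylow P y a).1 (hAQ ha))
    rwa [inv_inv] at this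
  have h2 : A.map (MulAut.conj y⁻¹).toMonoidHom = A := by
    apply Subgroup.eq_of_le_of_card_ge
    · rintro _ ⟨a, ha, rfl⟩
      simpa [MulAut.conj_apply] using h1 a ha
    · rw [Subgroup.card_map_of_injective (MulAut.conj y⁻¹).injective]
  have h3 : y⁻¹ * (g * x * g⁻¹) * y ∈ A := by
    have h4 := hcl x hx (y⁻¹ * g) (by
      have := (mem_smul_sylow P y _).1 hg
      simpa [mul_assoc, -SetLike.mem_coe] using this)
    simpa [mul_assoc] using h4
  rw [← h2] at h3
  obtain ⟨a, ha, hae⟩ := h3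
  have : g * x * g⁻¹ = a := by
    have h5 : y⁻¹ * a * y = y⁻¹ * (g * x * g⁻¹) * y := by simpa [MulAut.conj_apply] using hae
    exact (mul_left_cancel (mul_right_cancel h5)).symm
  rw [this]; exact ha

end Cfsg.Agent.S1249
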