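import Cfsg.Statements.S1250
import Cfsg.Agent.H21.Basic

set_option autoImplicit false
open Cfsg

namespace Cfsg.Agent.S1250

/-- Let S be a Sylow p-subgroup of the finite group G, A ≤ S strongly closed in S, and N a normal subgroup. Then the image of A in G ⧸ N is strongly closed in the image of S (which is a Sylow p-subgroup of G ⧸ N). -/
theorem result {G : Type*} [Group G] [Finite G] {p : ℕ} [Fact p.Prime] (S : Sylow p G) (A : Subgroup G) (hA : Cfsg.IsStronglyClosed A (S : Subgroup G)) (N : Subgroup G) [N.Normal] : Cfsg.IsStronglyClosed (A.map (QuotientGroup.mk' N)) ((S : Subgroup G).map (QuotientGroup.mk' N)) := by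
  refine ⟨Subgroup.map_mono hA.1, ?_⟩
  rintro _ ⟨a, ha, rfl⟩ g hg
  obtain ⟨g, rfl⟩ := QuotientGroup.mk'_surjective N g
  rw [← map_inv, ← map_mul, ← map_mul] at hg ⊢
  set b := g * a * g⁻¹ with hb
  have hbM : b ∈ (S : Subgroup G) ⊔ N := by
    obtain ⟨s, hs, hsb⟩ := hg
    have : s⁻¹ * b ∈ N := by
      rw [← QuotientGroup.eq]; simpa using hsb
    have h2 : b = s * (s⁻¹ * b) := by group
    rw [h2]
    exact Subgroup.mul_mem_sup hs this
  have hbp : IsPGroup p (Subgroup.zpowers b) := by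
    have h1 : IsPGroup p (A.map (MulAut.conj g).toMonoidHom) :=
      (S.isPGroup'.to_le hA.1).map _
    refine h1.to_le ?_
    rw [Subgroup.zpowers_le]
    exact ⟨a, ha, by simp [hb]⟩
  obtain ⟨m, hm, hmb⟩ := H21.exists_conj_mem_sylow S ((S : Subgroup G) ⊔ N) le_sup_left
    (Subgroup.zpowers b) hbp (by rwa [Subgroup.zpowers_le])
  have hmb' := hmb b (Subgroup.mem_zpowers b)
  obtain ⟨s, hs, n, hn, rfl⟩ := Subgroup.mem_sup_of_normal_right.1 hm
  have h3 : n * b * n⁻¹ ∈ (S : Subgroup G) := by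
    have := Subgroup.mul_mem _ (Subgroup.mul_mem _ (Subgroup.inv_mem _ hs) hmb') hs
    simpa [mul_assoc] using this
  have h4 : n * b * n⁻¹ ∈ A := by
    have := hA.2 a ha (n * g) (by simpa [hb, mul_assoc] using h3)
    simpa [hb, mul_assoc] using this
  refine ⟨_, h4, ?_⟩
  have hn1 : QuotientGroup.mk' N n = 1 := (QuotientGroup.eq_one_iff n).2 hn
  rw [map_mul, map_mul, map_inv, hn1]
  simp

end Cfsg.Agent.S1250
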