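import Cfsg.Statements.S1251
import Cfsg.Agent.H69.ZStar
import Cfsg.Agent.H69.CoprimeZ
import Cfsg.Agent.H47.Basic

set_option autoImplicit false
set_option linter.style.haveILetI false
open Cfsg

namespace Cfsg.Agent.S1251

open Subgroup Cfsg.Agent.H69 Pointwise

/-- Let S be a Sylow 2-subgroup of the finite group G and A ≤ S strongly closed in S. If H is a subgroup normalized by A with no nontrivial normal subgroup of odd order and A ∩ H = 1, then A ≤ C_G(H). -/
theorem result {G : Type*} [Group G] [Finite G] (S : Sylow 2 G) (A : Subgroup G) (hA : Cfsg.IsStronglyClosed A (S : Subgroup G)) (H : Subgroup G) (hAH : A ≤ Subgroup.normalizer (H : Set G)) (hO : Cfsg.oddCore ↥H = ⊥) (hdisj : A ⊓ H = ⊥) : A ≤ Subgroup.centralizer (H : Set G) := by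
  obtain ⟨hAS, hAcl⟩ := hA
  have hA2 : IsPGroup 2 A := S.2.to_le hAS
  set K : Subgroup G := H ⊔ A with hK
  have hHK : H ≤ K := le_sup_left
  have hAK : A ≤ K := le_sup_right
  have hKH : K ≤ normalizer (H : Set G) := sup_le le_normalizer hAH
  obtain ⟨P, hP⟩ := (hA2.comap_subtype (K := K)).exists_le_sylow
  set U : Subgroup G := (P : Subgroup K).map K.subtype with hU
  have hAU : A ≤ U := fun a ha => ⟨⟨a, hAK ha⟩, hP ha, rfl⟩
  have hU2 : IsPGroup 2 U := P.2.map _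
  obtain ⟨P₁, hP₁⟩ := exists_sylow_inf hHK hKH P
  -- U in a conjugate of S
  obtain ⟨R, hR⟩ := hU2.exists_le_sylow
  obtain ⟨g, hg⟩ := MulAction.exists_smul_eq G R S
  have hgR : ∀ x ∈ (R : Subgroup G), g * x * g⁻¹ ∈ (S : Subgroup G) := by
    intro x hx
    rw [← hg, Sylow.coe_subgroup_smul]
    exact ⟨x, hx, rfl⟩
  have hgA : ∀ x ∈ A, g * x * g⁻¹ ∈ A := fun x hx => hAcl x hx g (hgR x (hR (hAU hx)))
  have hgA' : ∀ x ∈ A, g⁻¹ * x * g ∈ A := by
    have h1 : MulAut.conj g • A = A := by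
      apply eq_of_le_of_card_ge
      · intro y hy
        rw [Hall.mem_conj_smul] at hy
        have := hgA _ hy
        have e : g * (g⁻¹ * y * g) * g⁻¹ = y := by group
        rwa [e] at this
      · exact (Nat.card_congr (Subgroup.equivSMul (MulAut.conj g) A).toEquiv).le
    intro x hx
    rw [← Hall.mem_conj_smul, h1]; exact hx
  -- A strongly closed in R
  have hAR : ∀ x ∈ A, ∀ y : G, y * x * y⁻¹ ∈ (R : Subgroup G) → y * x * y⁻¹ ∈ A := by
    intro x hx y hy
    have h1 := hAcl x hx (g * y) (by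
      have := hgR _ hy
      have e : g * (y * x * y⁻¹) * g⁻¹ = g * y * x * (g * y)⁻¹ := by group
      rwa [e] at this)
    have h2 := hgA' _ h1
    have e : g⁻¹ * (g * y * x * (g * y)⁻¹) * g = y * x * y⁻¹ := by group
    rwa [e] at h2
  have hcommAT : ∀ a ∈ A, ∀ t ∈ U ⊓ H, a * t = t * a := by
    intro a ha t ht
    have h1 : t * a * t⁻¹ ∈ A := hAR a ha t (mul_mem (mul_mem (hR ht.1) (hR (hAU ha))) (inv_mem (hR ht.1)))
    have h2 : a * t * a⁻¹ * t⁻¹ ∈ A ⊓ H := by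
      refine mem_inf.mpr ⟨?_, ?_⟩
      · have e : a * t * a⁻¹ * t⁻¹ = a * (t * a * t⁻¹)⁻¹ := by group
        rw [e]; exact mul_mem ha (inv_mem h1)
      · exact mul_mem ((mem_normalizer_iff.mp (hAH ha) t).mp ht.2) (inv_mem ht.2)
    rw [hdisj, mem_bot, mul_inv_eq_one, mul_inv_eq_iff_eq_mul] at h2
    exact h2
  intro a ha
  rw [mem_centralizer_iff]
  intro h hh
  -- X = H⟨a⟩
  have haH : a ∈ normalizer (H : Set G) := hAH ha
  have haN : zpowers a ≤ normalizer (H : Set G) := by rw [zpowers_le]; exact haH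
  set X : Subgroup G := H ⊔ zpowers a with hX
  have hHX : H ≤ X := le_sup_left
  have haX : a ∈ X := (le_sup_right : zpowers a ≤ X) (mem_zpowers a)
  have hXH : X ≤ normalizer (H : Set G) := sup_le le_normalizer haN
  have hXmem : ∀ x ∈ X, ∃ h ∈ H, ∃ b ∈ zpowers a, h * b = x := by
    intro x hx
    exact (H47.mem_sup_of_le_normalizer' haN).mp (by rw [sup_comm]; exact hx)
  -- the 2-subgroup T⟨a⟩
  set W : Subgroup G := (U ⊓ H) ⊔ zpowers a with hW
  have haU : zpowers a ≤ U := by rw [zpowers_le]; exact hAU ha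
  have hWU : W ≤ U := sup_le inf_le_left haU
  have hWX : W ≤ X := sup_le_sup inf_le_right le_rfl
  have hW2 : IsPGroup 2 W := hU2.to_le hWU
  obtain ⟨V, hV⟩ := (hW2.comap_subtype (K := X)).exists_le_sylow
  obtain ⟨V₁, hV₁⟩ := exists_sylow_inf hHX hXH V
  -- V ⊓ H = U ⊓ H
  have hVH : (V : Subgroup X).map X.subtype ⊓ H = U ⊓ H := by
    have h1 : U ⊓ H ≤ (V : Subgroup X).map X.subtype ⊓ H := by
      intro t ht
      refine mem_inf.mpr ⟨⟨⟨t, hHX ht.2⟩, hV ((le_sup_left : U ⊓ H ≤ W) ht), rfl⟩, ht.2⟩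
    symm
    apply eq_of_le_of_card_ge h1
    rw [← hV₁, ← hP₁, Cop.card_map_subtype, Cop.card_map_subtype]
    rw [Sylow.card_eq_multiplicity, Sylow.card_eq_multiplicity]
  have hVU : ∀ v : X, v ∈ (V : Subgroup X) → (v : G) ∈ U := by
    intro v hv
    obtain ⟨k, hk, b, hb, e⟩ := hXmem v v.2
    have hbX : b ∈ X := (le_sup_right : zpowers a ≤ X) hb
    have hbV : (⟨b, hbX⟩ : X) ∈ (V : Subgroup X) := hV ((le_sup_right : zpowers a ≤ W) hb)
    have hkV : k ∈ (V : Subgroup X).map X.subtype := by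
      refine ⟨v * (⟨b, hbX⟩ : X)⁻¹, mul_mem hv (inv_mem hbV), ?_⟩
      show (v : G) * b⁻¹ = k
      rw [← e, mul_inv_cancel_right]
    have hkU : k ∈ U ⊓ H := by rw [← hVH]; exact mem_inf.mpr ⟨hkV, hk⟩
    rw [← e]
    exact mul_mem hkU.1 (haU hb)
  have haV : (⟨a, haX⟩ : X) ∈ (V : Subgroup X) := hV ((le_sup_right : zpowers a ≤ W) (mem_zpowers a))
  have hz := zstar_gen (Nat.card X) X le_rfl V ⟨a, haX⟩ haV (by
    intro x hx
    have h1 : (x : G) * a * (x : G)⁻¹ ∈ A := hAR a ha x (hR (hVU _ hx))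
    obtain ⟨k, hk, b, hb, e⟩ := hXmem x x.2
    have hab : b * a * b⁻¹ = a := by
      obtain ⟨m, rfl⟩ := mem_zpowers_iff.mp hb
      have : Commute (a ^ m) a := (Commute.refl a).zpow_left m
      rw [this.eq, mul_inv_cancel_right]
    have h2 : (x : G) * a * (x : G)⁻¹ = k * a * k⁻¹ := by
      rw [← e]
      calc (k * b) * a * (k * b)⁻¹ = k * (b * a * b⁻¹) * k⁻¹ := by group
        _ = _ := by rw [hab]
    have h3 : (x : G) * a * (x : G)⁻¹ * a⁻¹ ∈ A ⊓ H := by
      refine mem_inf.mpr ⟨mul_mem h1 (inv_mem ha), ?_⟩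
      rw [h2]
      have e : k * a * k⁻¹ * a⁻¹ = k * (a * k⁻¹ * a⁻¹) := by group
      rw [e]
      exact mul_mem hk ((mem_normalizer_iff.mp haH _).mp (inv_mem hk))
    rw [hdisj, mem_bot, mul_inv_eq_one] at h3
    exact Subtype.ext h3) ⟨h, hHX hh⟩
  -- O(X) ∩ H ≤ O(H) = 1
  have h4 : h * a * h⁻¹ * a⁻¹ ∈ H := by
    have e : h * a * h⁻¹ * a⁻¹ = h * (a * h⁻¹ * a⁻¹) := by group
    rw [e]
    exact mul_mem hh ((mem_normalizer_iff.mp haH _).mp (inv_mem hh))
  have h5 : (⟨h * a * h⁻¹ * a⁻¹, h4⟩ : H) ∈ oddCore H := by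
    set M : Subgroup H := ((pPrimeCore 2 X).map X.subtype).subgroupOf H with hM
    have hMn : M.Normal := by
      constructor
      intro m hm y
      rw [hM, mem_subgroupOf] at hm ⊢
      obtain ⟨w, hw, hwm⟩ := hm
      refine ⟨⟨y, hHX y.2⟩ * w * ⟨y, hHX y.2⟩⁻¹, (pPrimeCore_normal 2 X).conj_mem w hw _, ?_⟩
      have : (w : G) = m := hwm
      show (y : G) * w * (y : G)⁻¹ = _
      rw [this]; rfl
    have hMc : (Nat.card M).Coprime 2 := by
      have h1 : M.map H.subtype ≤ (pPrimeCore 2 X).map X.subtype := by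
        rw [hM, subgroupOf_map_subtype]; exact inf_le_left
      have h2 := card_dvd_of_le h1
      rw [Cop.card_map_subtype, Cop.card_map_subtype] at h2
      exact Nat.Coprime.coprime_dvd_left h2 (Solv.pPrimeCore_card_coprime 2)
    apply Solv.le_pPrimeCore hMn hMc
    rw [hM, mem_subgroupOf]
    exact ⟨_, hz, rfl⟩
  rw [hO, mem_bot] at h5
  have h6 : h * a * h⁻¹ * a⁻¹ = 1 := congrArg Subtype.val h5
  rw [mul_inv_eq_one, mul_inv_eq_iff_eq_mul] at h6
  exact h6

end Cfsg.Agent.S1251
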