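import Cfsg.Statements.S1295
import Cfsg.Agent.H32.SFGraph
import Cfsg.Agent.H32.SFCore

set_option autoImplicit false
open Cfsg

namespace Cfsg.Agent.S1295

/-- Let G be finite with O_{p'}(G) = 1 and p-rank at least 3, whose reduced rank-2 commuting graph for p is connected. Suppose that for every element a of order p with m_p(C_G(a)) ≥ 3 the p-layer of C_G(a) is trivial and O_{p'}(C_G(a)) is solvable. Then F*(C_G(a)) = O_p(C_G(a)) for every such a. -/
theorem result {G : Type*} [Group G] [Finite G] (p : ℕ) [Fact p.Prime] (hO : Cfsg.pPrimeCore p G = ⊥) (hrk : ¬ Cfsg.PRankLE p 2 G) (hconn : Cfsg.IsRankGraphConnected p 2 G) (hL : ∀ a : G, (orderOf a = p ∧ ¬ Cfsg.PRankLE p 2 ↥(Subgroup.centralizer ({a} : Set G))) → Cfsg.pLayer p ↥(Subgroup.centralizer ({a} : Set G)) = ⊥ ∧ Group.IsSolvable ↥(Cfsg.centralizerPPrimeCore p a)) (a : G) (ha : (orderOf a = p ∧ ¬ Cfsg.PRankLE p 2 ↥(Subgroup.centralizer ({a} : Set G)))) : Cfsg.generalizedFittingSubgroup ↥(Subgroup.centralizer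 ({a} : Set G)) = Cfsg.pCore p ↥(Subgroup.centralizer ({a} : Set G)) := by
  have hcon : ∀ b : G, H32.SFB.Good p b → Cfsg.IsPConstrained p ↥(Subgroup.centralizer ({b} : Set G)) :=
    fun b hb => SigF.PC.isPConstrained_iff_pLayer.2 (hL b hb).1
  have h := H32.SFB.trivial_of_connected hO hrk hconn (fun a => Cfsg.centralizerPPrimeCore p a)
    (fun a ha => ⟨SigF.Bal1.cppc_le a, SigF.Bal1.cppc_not_dvd a, (hL a ha).2⟩)
    (fun a g _ => H32.SFB.cppc_conj g a)
    (fun a b ha hb hab => SigF.Bal1.balance_of_pConstrained hab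
      (IsPGroup.of_card (n := 1) (by rw [Nat.card_zpowers, ha.1, pow_one])) (hcon b hb)) a ha
  have h2 := (H32.SFB.cppc_eq_bot_iff a).1 h
  rw [← SigF.PC.charP_iff_eq]
  exact (H36.PConstr.isPConstrained_iff_of_core_eq_bot h2).1 (hcon a ha)

end Cfsg.Agent.S1295
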