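import Cfsg.Statements.S1322
import Cfsg.Agent.Bal.LBalTwo
import Cfsg.Agent.Bal.CompPump2
import Cfsg.Agent.FT.Base

set_option autoImplicit false
open Cfsg

namespace Cfsg.Agent.S1322


/-- Let G be finite with L_{2'}(G) = E(G), t an involution and L ≤ C_G(t) a component of C_G(t). Then there is a component D of G with: L = D; or L < D and D = ⁅D, ⟨t⟩⁆; or tDt⁻¹ ≠ D and L is the layer of C_{D ⊔ tDt⁻¹}(t). -/
theorem result {G : Type*} [Group G] [Finite G] (hL2 : Cfsg.pLayer 2 G = Cfsg.layer G) (t : G) (ht : orderOf t = 2) (L : Subgroup G) (hLt : L ≤ Subgroup.centralizer ({t} : Set G)) (hL : Cfsg.IsComponent (L.subgroupOf (Subgroup.centralizer ({t} : Set G)))) : ∃ D : Subgroup G, Cfsg.IsComponent D ∧ (L = D ∨ (L < D ∧ D = ⁅D, Subgroup.zpowers t⁆) ∨ (D.map (MulAut.conj t).toMonoidHom ≠ D ∧ L = (Cfsg.layer ↥((D ⊔ D.map (MulAut.conj t).toMonoidHom) ⊓ Subgroup.centralizer ({t} : Set G))).map ((D ⊔ D.map (MulAut.conj t).toMonoidHom)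 ⊓ Subgroup.centralizer ({t} : Set G)).subtype)) := by
  have hJ : Cfsg.IsPComponentOf 2 L (Subgroup.centralizer ((Subgroup.zpowers t : Subgroup G) : Set G)) := by
    rw [Cfsg.Agent.FStar.centralizer_zpowers_eq]
    refine ⟨hLt, Cfsg.Agent.Bal.isPComponent_of_isComponent hL ?_⟩
    intro hodd
    have h1 := Cfsg.Agent.FStar.commutator_self_ne_bot hL.2
    have h2 : Group.IsSolvable (L.subgroupOf (Subgroup.centralizer ({t} : Set G))) :=
      Cfsg.Agent.FT.solvable_of_odd (Nat.coprime_two_right.1 hodd)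
    exact Cfsg.Agent.FStar.not_isSolvable_of_isQuasisimple hL.2 h2
  have hT : IsPGroup 2 (Subgroup.zpowers t) := IsPGroup.iff_card.2 ⟨1, by rw [Nat.card_zpowers, ht, pow_one]⟩
  have h1 := Cfsg.Agent.Bal.pComponentOf_le_pLayer Cfsg.Agent.Bal.ctriv_layer hT hJ
  rw [hL2] at h1
  exact Cfsg.Agent.Bal.comp_trichotomy ht hLt hL h1

end Cfsg.Agent.S1322
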