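import Cfsg.Statements.S1323
import Cfsg.Agent.H73.AltStd

set_option autoImplicit false
open Cfsg

namespace Cfsg.Agent.S1323

/-- For n ≥ 9, the subgroup of the alternating group on Fin n fixing each of the points 0, 1, 2, 3 is a standard subgroup. -/
theorem result (n : ℕ) (h4 : 4 ≤ n) (hn : 9 ≤ n) : Cfsg.IsStandardSubgroup (⨅ i : Fin 4, MulAction.stabilizer ↥(alternatingGroup (Fin n)) (Fin.castLE h4 i : Fin n)) := by
  have hL : (⨅ i : Fin 4, MulAction.stabilizer ↥(alternatingGroup (Fin n)) (Fin.castLE h4 i : Fin n)) =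
      H73.AltStd.A (Finset.univ.filter (fun x : Fin n => 4 ≤ x.val)) := by
    ext k
    rw [Subgroup.mem_iInf, H73.AltStd.mem_A]
    constructor
    · intro h x hx
      rw [Finset.mem_filter] at hx
      have hx4 : x.val < 4 := by
        by_contra hcon
        exact hx ⟨Finset.mem_univ _, by omega⟩
      have h1 := h ⟨x.val, hx4⟩
      rw [MulAction.mem_stabilizer_iff] at h1
      exact h1
    · intro h i
      rw [MulAction.mem_stabilizer_iff]
      apply h
      rw [Finset.mem_filter]
      rintro ⟨_, h1⟩
      have h2 : (Fin.castLE h4 i).val = i.val := rfl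
      have := i.2
      omega
  rw [hL]
  have hc : (Finset.univ.filter (fun x : Fin n => 4 ≤ x.val))ᶜ.card = 4 := by
    have h1 : (Finset.univ.filter (fun x : Fin n => 4 ≤ x.val))ᶜ =
        (Finset.univ : Finset (Fin 4)).map ⟨Fin.castLE h4, Fin.castLE_injective h4⟩ := by
      ext x
      rw [Finset.mem_compl, Finset.mem_filter, Finset.mem_map]
      constructor
      · intro h
        have hx4 : x.val < 4 := by
          by_contra hcon
          exact h ⟨Finset.mem_univ _, by omega⟩
        exact ⟨⟨x.val, hx4⟩, Finset.mem_univ _, rfl⟩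
      · rintro ⟨i, _, rfl⟩ ⟨_, h⟩
        have h2 : (Fin.castLE h4 i).val = i.val := rfl
        have h3 : 4 ≤ (Fin.castLE h4 i).val := h
        have := i.2
        omega
    rw [h1, Finset.card_map, Finset.card_univ, Fintype.card_fin]
  have hc2 := Finset.card_compl (Finset.univ.filter (fun x : Fin n => 4 ≤ x.val))
  have hle := Finset.card_le_univ (Finset.univ.filter (fun x : Fin n => 4 ≤ x.val))
  rw [Fintype.card_fin] at hc2 hle
  apply H73.AltStd.isStandard
  · omega
  · exact hc
  · rw [Fintype.card_fin]; omega

end Cfsg.Agent.S1323
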