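import Cfsg.Statements.S1910
import Cfsg.Agent.H32.Syl
import Cfsg.Agent.H32.Nilp
import Cfsg.Agent.BG.Coprime

set_option autoImplicit false
open Cfsg

namespace Cfsg.Agent.S1910

open Cfsg.Agent.H32

/-- odd order subgroups contain no nontrivial 2-subgroup. -/
lemma inf_eq_bot_of_odd {G : Type*} [Group G] [Finite G] {A B : Subgroup G} (hA : IsPGroup 2 A)
    (hAB : A ≤ B) (hB : Odd (Nat.card B)) : A = ⊥ := by
  obtain ⟨k, hk⟩ := hA.exists_card_eq
  have h1 : Nat.card A ∣ Nat.card B := Subgroup.card_dvd_of_le hAB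
  rw [hk] at h1
  rcases Nat.eq_zero_or_pos k with rfl | hk0
  · rw [pow_zero] at hk
    exact Subgroup.eq_bot_of_card_eq A hk
  · exfalso
    have h2 : 2 ∣ Nat.card B := (dvd_pow_self 2 hk0.ne').trans h1
    exact (Nat.not_even_iff_odd.2 hB) (even_iff_two_dvd.2 h2)

/-- `C_{Q₁}(T) ≤ N(Q₂)` for a nontrivial 2-subgroup `T` of `Q₂`. -/
lemma cent_le_normalizer {G : Type*} [Group G] [Finite G] {Q₂ T : Subgroup G}
    (hte2 : ∀ g : G, g ∉ Subgroup.normalizer (Q₂ : Set G) →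
      Odd (Nat.card ↥(Q₂ ⊓ Q₂.map (MulAut.conj g).toMonoidHom)))
    (hT1 : T ≠ ⊥) (hT2 : IsPGroup 2 T) (hTQ : T ≤ Q₂) {u : G} (hu : ∀ t ∈ T, u * t = t * u) :
    u ∈ Subgroup.normalizer (Q₂ : Set G) := by
  by_contra hcon
  refine hT1 (inf_eq_bot_of_odd hT2 (le_inf hTQ ?_) (hte2 u hcon))
  intro t ht
  rw [mem_map_conj]
  have : u⁻¹ * t * u = t := by rw [mul_assoc, ← hu t ht]; group
  rw [this]
  exact hTQ ht

lemma key {G : Type*} [Group G] [Finite G] {Q₁ Q₂ : Subgroup G}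
    (h12 : Odd (Nat.card ↥(Q₁ ⊓ Q₂)))
    (hte2 : ∀ g : G, g ∉ Subgroup.normalizer (Q₂ : Set G) →
      Odd (Nat.card ↥(Q₂ ⊓ Q₂.map (MulAut.conj g).toMonoidHom)))
    (hconj : ∃ g : G, Q₁ = Q₂.map (MulAut.conj g).toMonoidHom)
    {T S : Subgroup G} (hT2 : IsPGroup 2 T) (hTQ : T ≤ Q₂)
    (hTN : T ≤ Subgroup.normalizer (Q₁ : Set G)) (hTS : T ≤ S) (hSQ : S ≤ Q₁ ⊔ T)
    (hS2 : IsPGroup 2 S) (hSi : ¬ 2 ∣ S.relIndex (Q₁ ⊔ T)) :
    ∃ f : T →* ↥(Q₁ ⊓ S ⊓ Subgroup.centralizer (T : Set G)), Function.Injective f := by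
  set U := Q₁ ⊓ S ⊓ Subgroup.centralizer (T : Set G) with hU
  have hodd : ∀ c : G, c ∈ Q₁ → c ∈ Q₂ → c ∈ S → c = 1 := by
    intro c h1 h2 h3
    have h4 : Subgroup.zpowers c = ⊥ := by
      refine inf_eq_bot_of_odd (hS2.to_le (by rwa [Subgroup.zpowers_le])) ?_ h12
      rw [Subgroup.zpowers_le]; exact Subgroup.mem_inf.2 ⟨h1, h2⟩
    exact Subgroup.zpowers_eq_bot.1 h4
  have hTQ1 : ∀ c : G, c ∈ T → c ∈ Q₁ → c = 1 := fun c h1 h2 => hodd c h2 (hTQ h1) (hTS h1)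
  have hTU : T ⊓ U = ⊥ := by
    rw [eq_bot_iff]; rintro c ⟨h1, h2⟩
    exact hTQ1 c h1 h2.1.1
  have hcommTU : ∀ t ∈ T, ∀ u ∈ U, t * u = u * t := by
    intro t ht u hu
    exact (Subgroup.mem_centralizer_iff.1 hu.2) t ht
  by_cases hcase : Q₁ ⊓ S ≤ Subgroup.centralizer (T : Set G)
  · -- U is a Sylow 2-subgroup of Q₁
    have hUe : U = Q₁ ⊓ S := le_antisymm inf_le_left (le_inf le_rfl hcase)
    have hUi : ¬ 2 ∣ U.relIndex Q₁ := by
      rw [hUe]
      exact not_dvd_relIndex_inf (K := Q₁ ⊔ T) le_sup_left (sup_le Subgroup.le_normalizer hTN) hSQ hSi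
    obtain ⟨g, hg⟩ := hconj
    have hUQ : U ≤ Q₁ := hUe ▸ inf_le_left
    have hU2 : IsPGroup 2 U := hS2.to_le (hUe ▸ inf_le_right)
    have hTg : T.map (MulAut.conj g).toMonoidHom ≤ Q₁ := hg ▸ Subgroup.map_mono hTQ
    obtain ⟨h, hh, hh2⟩ := exists_conj_le_of_not_dvd_relIndex hUQ hU2 hUi hTg (hT2.map _)
    refine ⟨((MulAut.conj (h * g)).toMonoidHom.comp T.subtype).codRestrict U ?_, ?_⟩
    · rintro ⟨t, ht⟩
      have := hh2 (g * t * g⁻¹) ⟨t, ht, rfl⟩
      show h * g * t * (h * g)⁻¹ ∈ U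
      have e : h * g * t * (h * g)⁻¹ = h * (g * t * g⁻¹) * h⁻¹ := by group
      rwa [e]
    · intro a b hab
      have := congrArg Subtype.val hab
      exact Subtype.ext ((MulAut.conj (h * g)).injective this)
  · -- some element of S ∩ Q₁ normalizes TU but not Q₂
    rw [SetLike.not_le_iff_exists] at hcase
    obtain ⟨s, hs, hsC⟩ := hcase
    have hTUn : U ≤ Subgroup.normalizer (T : Set G) := fun u hu =>
      Subgroup.centralizer_le_normalizer _ hu.2
    set C := T ⊔ U with hC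
    have hCS : C ≤ S := sup_le hTS (fun u hu => hu.1.2)
    have hne : C ≠ S := by
      intro h
      have hsS : s ∈ C := by rw [h]; exact hs.2
      obtain ⟨t, ht, u, hu, htu⟩ := (mem_sup_of_le_normalizer hTUn).1 hsS
      have ht1 : t = 1 := by
        apply hTQ1 t ht
        have : t = s * u⁻¹ := by rw [← htu]; group
        rw [this]
        exact Q₁.mul_mem hs.1 (Q₁.inv_mem hu.1.1)
      rw [ht1, one_mul] at htu
      exact hsC (htu ▸ hu.2)
    obtain ⟨x, hxS, hxN, hxC⟩ :=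
      Cfsg.Agent.BG.exists_mem_normalizer_of_nilpotent (hS2.isNilpotent) hCS hne
    obtain ⟨q, hq, t0, ht0, rfl⟩ := (mem_sup_of_le_normalizer hTN).1 (hSQ hxS)
    have ht0C : t0 ∈ C := Subgroup.mem_sup_left ht0
    have hqC : q ∉ C := fun h => hxC (C.mul_mem h ht0C)
    have hqN : q ∈ Subgroup.normalizer (C : Set G) := by
      have : q = q * t0 * t0⁻¹ := by group
      rw [this]
      exact Subgroup.mul_mem _ hxN (Subgroup.inv_mem _ (Subgroup.le_normalizer ht0C))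
    have hqS : q ∈ S := by
      have : q = q * t0 * t0⁻¹ := by group
      rw [this]; exact S.mul_mem hxS (S.inv_mem (hTS ht0))
    have hqQ2 : q ∉ Subgroup.normalizer (Q₂ : Set G) := by
      intro h
      apply hqC
      refine Subgroup.mem_sup_right (Subgroup.mem_inf.2 ⟨Subgroup.mem_inf.2 ⟨hq, hqS⟩, ?_⟩)
      rw [Subgroup.mem_centralizer_iff]
      intro t ht
      have h1 : t * q * t⁻¹ * q⁻¹ = 1 := by
        apply hodd
        · exact Q₁.mul_mem ((Subgroup.mem_normalizer_iff.1 (hTN ht) q).1 hq) (Q₁.inv_mem hq)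
        · have : t * q * t⁻¹ * q⁻¹ = t * (q * t⁻¹ * q⁻¹) := by group
          rw [this]
          exact Q₂.mul_mem (hTQ ht) ((Subgroup.mem_normalizer_iff.1 h _).1 (Q₂.inv_mem (hTQ ht)))
        · exact S.mul_mem (S.mul_mem (S.mul_mem (hTS ht) hqS) (S.inv_mem (hTS ht))) (S.inv_mem hqS)
      rw [mul_inv_eq_one] at h1
      calc t * q = t * q * t⁻¹ * t := by group
        _ = q * t := by rw [h1]
    have hTq : ∀ t ∈ T, q * t * q⁻¹ ∈ T → t = 1 := by
      have h1 : T.map (MulAut.conj q).toMonoidHom ⊓ T = ⊥ := by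
        refine inf_eq_bot_of_odd ((hT2.to_le inf_le_right)) ?_ (hte2 q hqQ2)
        exact le_inf (inf_le_right.trans hTQ) (inf_le_left.trans (Subgroup.map_mono hTQ))
      intro t ht h2
      have h3 : q * t * q⁻¹ ∈ T.map (MulAut.conj q).toMonoidHom ⊓ T := Subgroup.mem_inf.2 ⟨⟨t, ht, rfl⟩, h2⟩
      rw [h1, Subgroup.mem_bot] at h3
      calc t = q⁻¹ * (q * t * q⁻¹) * q := by group
        _ = 1 := by rw [h3]; group
    refine exists_hom_of_commuting hTU hcommTU ((MulAut.conj q).toMonoidHom.comp T.subtype) ?_ ?_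
    · rintro ⟨t, ht⟩
      have h1 : q * t * q⁻¹ ∈ C := (Subgroup.mem_normalizer_iff.1 hqN t).1 (Subgroup.mem_sup_left ht)
      obtain ⟨t', ht', u, hu, htu⟩ := (mem_sup_of_le_normalizer hTUn).1 h1
      exact ⟨t', ht', u, hu, htu⟩
    · rintro ⟨t, ht⟩ h1
      exact Subtype.ext (hTq t ht h1)

/-- Let Q be a tightly embedded subgroup of a finite group G, g an element outside N_G(Q), T a nontrivial Sylow 2-subgroup of Q^g ∩ N_G(Q), and S a Sylow 2-subgroup of QT containing T. Then T ∩ Q = 1, and N_S(T) is the direct product of T and N_S(T) ∩ Q, with N_S(T) ∩ Q isomorphic to T. -/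
theorem result {G : Type*} [Group G] [Finite G] (Q : Subgroup G) (hQ : Cfsg.IsTightlyEmbedded Q)
    (g : G) (hg : g ∉ Subgroup.normalizer (Q : Set G))
    (T : Subgroup G) (hT1 : T ≠ ⊥) (hT : T ≤ Q.map (MulAut.conj g).toMonoidHom ⊓ Subgroup.normalizer (Q : Set G))
    (hTsyl : IsPGroup 2 T ∧ ¬ 2 ∣ T.relIndex (Q.map (MulAut.conj g).toMonoidHom ⊓ Subgroup.normalizer (Q : Set G)))
    (S : Subgroup G) (hTS : T ≤ S) (hS : S ≤ Q ⊔ T) (hSsyl : IsPGroup 2 S ∧ ¬ 2 ∣ S.relIndex (Q ⊔ T)) :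
    T ⊓ Q = ⊥ ∧
      T ⊓ (S ⊓ Subgroup.normalizer (T : Set G) ⊓ Q) = ⊥ ∧
      ⁅T, S ⊓ Subgroup.normalizer (T : Set G) ⊓ Q⁆ = ⊥ ∧
      T ⊔ (S ⊓ Subgroup.normalizer (T : Set G) ⊓ Q) = S ⊓ Subgroup.normalizer (T : Set G) ∧
      Nonempty (↥(S ⊓ Subgroup.normalizer (T : Set G) ⊓ Q) ≃* T) := by
  classical
  set Qg := Q.map (MulAut.conj g).toMonoidHom with hQg
  have hte := hQ.2
  have hteg : ∀ x : G, x ∉ Subgroup.normalizer (Qg : Set G) →
      Odd (Nat.card ↥(Qg ⊓ Qg.map (MulAut.conj x).toMonoidHom)) := by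
    intro x hx
    have h1 : g⁻¹ * x * g ∉ Subgroup.normalizer (Q : Set G) := by
      intro h
      apply hx
      rw [Subgroup.mem_normalizer_iff] at h ⊢
      intro y
      rw [hQg, mem_map_conj, mem_map_conj, h (g⁻¹ * y * g)]
      have : g⁻¹ * x * g * (g⁻¹ * y * g) * (g⁻¹ * x * g)⁻¹ = g⁻¹ * (x * y * x⁻¹) * g := by group
      rw [this]
    have h2 := hte _ h1
    have h3 : Qg ⊓ Qg.map (MulAut.conj x).toMonoidHom =
        (Q ⊓ Q.map (MulAut.conj (g⁻¹ * x * g)).toMonoidHom).map (MulAut.conj g).toMonoidHom := by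
      ext y
      have h4 : y ∈ Qg ↔ g⁻¹ * y * g ∈ Q := mem_map_conj
      have h5 : y ∈ Qg.map (MulAut.conj x).toMonoidHom ↔ g⁻¹ * (x⁻¹ * y * x) * g ∈ Q := by
        rw [mem_map_conj, hQg, mem_map_conj]
      have h6 : y ∈ (Q ⊓ Q.map (MulAut.conj (g⁻¹ * x * g)).toMonoidHom).map (MulAut.conj g).toMonoidHom
          ↔ g⁻¹ * y * g ∈ Q ∧ (g⁻¹ * x * g)⁻¹ * (g⁻¹ * y * g) * (g⁻¹ * x * g) ∈ Q := by
        rw [mem_map_conj, Subgroup.mem_inf, mem_map_conj]
      have : (g⁻¹ * x * g)⁻¹ * (g⁻¹ * y * g) * (g⁻¹ * x * g) = g⁻¹ * (x⁻¹ * y * x) * g := by group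
      rw [Subgroup.mem_inf, h4, h5, h6, this]
    rw [h3, card_map_conj]
    exact h2
  have h12 : Odd (Nat.card ↥(Q ⊓ Qg)) := hte g hg
  have hTQg : T ≤ Qg := hT.trans inf_le_left
  have hTN : T ≤ Subgroup.normalizer (Q : Set G) := hT.trans inf_le_right
  have hT2 := hTsyl.1
  have hodd : ∀ c : G, c ∈ Q → c ∈ Qg → c ∈ S → c = 1 := by
    intro c h1 h2 h3
    have h4 : Subgroup.zpowers c = ⊥ := by
      refine inf_eq_bot_of_odd (hSsyl.1.to_le (by rwa [Subgroup.zpowers_le])) ?_ h12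
      rw [Subgroup.zpowers_le]; exact Subgroup.mem_inf.2 ⟨h1, h2⟩
    exact Subgroup.zpowers_eq_bot.1 h4
  have hTQ : T ⊓ Q = ⊥ := by
    rw [eq_bot_iff]; rintro c ⟨h1, h2⟩
    exact hodd c h2 (hTQg h1) (hTS h1)
  set U := S ⊓ Subgroup.normalizer (T : Set G) ⊓ Q with hU
  have hcomm : ∀ t ∈ T, ∀ u ∈ U, t * u = u * t := by
    intro t ht u hu
    have h1 : t * u * t⁻¹ * u⁻¹ ∈ T ⊓ Q := by
      refine Subgroup.mem_inf.2 ⟨?_, ?_⟩
      · have : t * u * t⁻¹ * u⁻¹ = t * (u * t⁻¹ * u⁻¹) := by group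
        rw [this]
        exact T.mul_mem ht ((Subgroup.mem_normalizer_iff.1 hu.1.2 _).1 (T.inv_mem ht))
      · exact Q.mul_mem ((Subgroup.mem_normalizer_iff.1 (hTN ht) u).1 hu.2) (Q.inv_mem hu.2)
    rw [hTQ, Subgroup.mem_bot, mul_inv_eq_one] at h1
    calc t * u = t * u * t⁻¹ * t := by group
      _ = u * t := by rw [h1]
  have hUeq : Q ⊓ S ⊓ Subgroup.centralizer (T : Set G) = U := by
    apply le_antisymm
    · intro u hu
      exact Subgroup.mem_inf.2 ⟨Subgroup.mem_inf.2 ⟨hu.1.2, Subgroup.centralizer_le_normalizer _ hu.2⟩, hu.1.1⟩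
    · intro u hu
      refine Subgroup.mem_inf.2 ⟨Subgroup.mem_inf.2 ⟨hu.2, hu.1.1⟩, ?_⟩
      rw [Subgroup.mem_centralizer_iff]
      intro t ht
      exact hcomm t ht u hu
  refine ⟨hTQ, ?_, ?_, ?_, ?_⟩
  · rw [eq_bot_iff, ← hTQ]
    exact inf_le_inf_left _ inf_le_right
  · rw [Subgroup.commutator_eq_bot_iff_le_centralizer]
    intro t ht
    rw [Subgroup.mem_centralizer_iff]
    intro u hu
    exact (hcomm t ht u hu).symm
  · apply le_antisymm
    · exact sup_le (le_inf hTS Subgroup.le_normalizer) inf_le_left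
    · intro s hs
      obtain ⟨q, hq, t, ht, rfl⟩ := (mem_sup_of_le_normalizer hTN).1 (hS hs.1)
      have hqe : q = q * t * t⁻¹ := by group
      have hqU : q ∈ U := by
        refine Subgroup.mem_inf.2 ⟨?_, hq⟩
        rw [hqe]
        have h1 : t ∈ S ⊓ Subgroup.normalizer (T : Set G) :=
          Subgroup.mem_inf.2 ⟨hTS ht, Subgroup.le_normalizer ht⟩
        exact Subgroup.mul_mem _ hs (Subgroup.inv_mem _ h1)
      exact Subgroup.mul_mem _ (Subgroup.mem_sup_right hqU) (Subgroup.mem_sup_left ht)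
  · have hk1 := key (Q₁ := Q) (Q₂ := Qg) h12 hteg
      ⟨g⁻¹, by
        ext y
        rw [mem_map_conj, hQg, mem_map_conj]
        have : g⁻¹ * ((g⁻¹)⁻¹ * y * g⁻¹) * g = y := by group
        rw [this]⟩ hT2 hTQg hTN hTS hS hSsyl.1 hSsyl.2
    rw [hUeq] at hk1
    obtain ⟨f1, hf1⟩ := hk1
    have hUQ : U ≤ Q := inf_le_right
    have hUS : U ≤ S := inf_le_left.trans inf_le_left
    have hU2 : IsPGroup 2 U := hSsyl.1.to_le hUS
    have hUN : U ≤ Subgroup.normalizer (Qg : Set G) := fun u hu =>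
      cent_le_normalizer hteg hT1 hT2 hTQg (fun t ht => (hcomm t ht u hu).symm)
    have hU1 : U ≠ ⊥ := by
      intro h
      apply hT1
      have h1 : Nat.card T ≤ Nat.card U := Nat.card_le_card_of_injective f1 hf1
      rw [h, Subgroup.card_bot] at h1
      exact Subgroup.card_le_one_iff_eq_bot T |>.1 h1
    obtain ⟨S', hS'1, hS'2, hS'3, hS'4⟩ := exists_relSylow (p := 2) (P := U ⊔ T) (K := Qg ⊔ U)
      (sup_le le_sup_right (hTQg.trans le_sup_left)) (hSsyl.1.to_le (sup_le hUS hTS))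
    have h21 : Odd (Nat.card ↥(Qg ⊓ Q)) := by rw [inf_comm]; exact h12
    obtain ⟨f2, hf2⟩ := key (Q₁ := Qg) (Q₂ := Q) h21 hte ⟨g, hQg⟩ hU2 hUQ hUN
      (le_sup_left.trans hS'1) hS'2 hS'3 hS'4
    have hle : Qg ⊓ S' ⊓ Subgroup.centralizer (U : Set G) ≤ T := by
      refine le_of_not_dvd_relIndex (p := 2) (K := Qg ⊓ Subgroup.normalizer (Q : Set G)) ?_ ?_ ?_ hTsyl.2
      · refine le_inf (le_inf hTQg (le_sup_right.trans hS'1)) ?_
        intro t ht
        rw [Subgroup.mem_centralizer_iff]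
        intro u hu
        exact (hcomm t ht u hu).symm
      · refine le_inf (inf_le_left.trans inf_le_left) ?_
        intro x hx
        refine cent_le_normalizer hte hU1 hU2 hUQ (fun u hu => ?_)
        exact ((Subgroup.mem_centralizer_iff.1 hx.2) u hu).symm
      · exact hS'3.to_le (inf_le_left.trans inf_le_right)
    let f3 : U →* T := (Subgroup.inclusion hle).comp f2
    have hf3 : Function.Injective f3 := (Subgroup.inclusion_injective hle).comp hf2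
    have hcard : Nat.card U = Nat.card T :=
      le_antisymm (Nat.card_le_card_of_injective f3 hf3) (Nat.card_le_card_of_injective f1 hf1)
    have hbij : Function.Bijective f3 := (Nat.bijective_iff_injective_and_card f3).2 ⟨hf3, hcard⟩
    exact ⟨MulEquiv.ofBijective f3 hbij⟩

end Cfsg.Agent.S1910
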