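import Cfsg.Statements.S1915
import Cfsg.Agent.H47.OneRankQ
import Cfsg.Agent.H47.OneRankF
import Cfsg.Agent.FStar.Layer
import Cfsg.Agent.H32.Nilp
import Cfsg.Agent.H32.Syl

set_option autoImplicit false
open Cfsg

namespace Cfsg.Agent.S1915

theorem exists_two_of_card {X : Type*} [Group X] [Finite X] (h : 2 < Nat.card X) :
    ∃ a b : X, a ≠ 1 ∧ b ≠ 1 ∧ a ≠ b := by
  have := Fintype.ofFinite X
  rw [Nat.card_eq_fintype_card, Fintype.two_lt_card_iff] at h
  obtain ⟨a, b, c, hab, hac, hbc⟩ := h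
  by_cases ha : a = 1
  · exact ⟨b, c, fun h => hab (ha.trans h.symm), fun h => hac (ha.trans h.symm), hbc⟩
  by_cases hb : b = 1
  · exact ⟨a, c, ha, fun h => hbc (hb.trans h.symm), hac⟩
  exact ⟨a, b, ha, hb, hab⟩

theorem prank_false {X : Type*} [Group X] [Finite X] (h : Cfsg.PRankLE 2 1 X) {a b : X}
    (haa : a * a = 1) (ha1 : a ≠ 1) (hbb : b * b = 1) (hb1 : b ≠ 1) (hab : a ≠ b)
    (hcomm : a * b = b * a) : False := by
  have hc : Subgroup.zpowers a ≤ Subgroup.centralizer (Subgroup.zpowers b : Set X) := by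
    rw [Subgroup.zpowers_le, Subgroup.mem_centralizer_iff]
    rintro _ ⟨k, rfl⟩
    have h1 : Commute b a := hcomm.symm
    exact (h1.zpow_left k).eq
  have h1 := h (Subgroup.zpowers a ⊔ Subgroup.zpowers b)
    (Cfsg.Agent.H32.isMulCommutative_sup inferInstance inferInstance hc) (by
      intro e he
      rw [sup_comm, Cfsg.Agent.H32.mem_sup_of_le_normalizer
        (hc.trans (Subgroup.centralizer_le_normalizer _))] at he
      obtain ⟨_, ⟨i, rfl⟩, _, ⟨j, rfl⟩, rfl⟩ := he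
      have h2 : Commute b a := hcomm.symm
      have h3 : Commute (b ^ i) (a ^ j) := (h2.zpow_left i).zpow_right j
      change (b ^ i * a ^ j) ^ 2 = 1
      rw [h3.mul_pow, ← zpow_natCast, ← zpow_natCast, ← zpow_mul, ← zpow_mul, mul_comm i, mul_comm j,
        zpow_mul, zpow_mul]
      simp only [zpow_natCast, sq, haa, hbb, one_zpow, one_mul])
  have ha : a ∈ Subgroup.zpowers a ⊔ Subgroup.zpowers b :=
    (le_sup_left : Subgroup.zpowers a ≤ _) (Subgroup.mem_zpowers a)
  have hb : b ∈ Subgroup.zpowers a ⊔ Subgroup.zpowers b :=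
    (le_sup_right : Subgroup.zpowers b ≤ _) (Subgroup.mem_zpowers b)
  generalize Subgroup.zpowers a ⊔ Subgroup.zpowers b = E at h1 ha hb
  have := Fintype.ofFinite E
  rw [Nat.card_eq_fintype_card, pow_one] at h1
  have h2 : 2 < Fintype.card E := Fintype.two_lt_card_iff.2
    ⟨⟨a, ha⟩, ⟨b, hb⟩, 1, fun h => hab (congrArg Subtype.val h), fun h => ha1 (congrArg Subtype.val h),
      fun h => hb1 (congrArg Subtype.val h)⟩
  omega

theorem exists_of_not_prank {X : Type*} [Group X] [Finite X] (h : ¬ Cfsg.PRankLE 2 1 X) :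
    ∃ a b : X, a * a = 1 ∧ a ≠ 1 ∧ b * b = 1 ∧ b ≠ 1 ∧ a ≠ b ∧ a * b = b * a := by
  unfold Cfsg.PRankLE at h
  push Not at h
  obtain ⟨E, hE, hE2, hcard⟩ := h
  rw [pow_one] at hcard
  obtain ⟨a, b, ha, hb, hab⟩ := exists_two_of_card hcard
  refine ⟨a, b, ?_, fun h => ha (Subtype.ext h), ?_, fun h => hb (Subtype.ext h),
    fun h => hab (Subtype.ext h), congrArg Subtype.val (hE.is_comm.comm a b)⟩
  · rw [← sq]; exact hE2 a a.2
  · rw [← sq]; exact hE2 b b.2

theorem prank_of_injective {X Y : Type*} [Group X] [Group Y] {p k : ℕ} (h : Cfsg.PRankLE p k X)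
    (f : Y →* X) (hf : Function.Injective f) : Cfsg.PRankLE p k Y := by
  intro E hE hE2
  have h1 := h (E.map f) inferInstance (by
    rintro _ ⟨e, he, rfl⟩
    rw [← map_pow, hE2 e he, map_one])
  rwa [Nat.card_congr (E.equivMapOfInjective f hf).toEquiv.symm] at h1

theorem no_index_two {X : Type*} [Group X] (hX : Cfsg.layer X = ⊤) (H : Subgroup X) : H.index ≠ 2 := by
  intro h
  have hn : H.Normal := Subgroup.normal_of_index_eq_two h
  have hcomm : IsMulCommutative (X ⧸ H) := by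
    have h2 : Nat.card (X ⧸ H) = 2 := h
    have : Fact (Nat.Prime 2) := ⟨Nat.prime_two⟩
    have hcyc : IsCyclic (X ⧸ H) := isCyclic_of_prime_card h2
    exact hcyc.isMulCommutative
  have h3 : commutator X ≤ H := by
    rw [← Subgroup.Normal.quotient_commutative_iff_commutator_le]
    exact hcomm
  have h4 : commutator X = ⊤ := by
    have := Cfsg.Agent.FStar.commutator_layer (G := X)
    rw [hX] at this
    exact this
  rw [h4, top_le_iff] at h3
  rw [h3, Subgroup.index_top] at h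
  omega

/-- Let A be a semisimple subgroup (A = E(A)) of a finite group and U a Klein four-group normalizing A. If the subgroup of A generated by the normalizers N_A(V) of the nontrivial subgroups V of U has 2-rank exactly 1, then A has 2-rank exactly 1. -/
theorem result {G : Type*} [Group G] [Finite G] (A : Subgroup G) (hA : Cfsg.layer ↥A = ⊤)
    (U : Subgroup G) (hU : IsKleinFour U) (hUA : U ≤ Subgroup.normalizer (A : Set G))
    (hΓ : Cfsg.PRankLE 2 1 ↥(⨆ V : {V : Subgroup G // V ≤ U ∧ V ≠ ⊥}, A ⊓ Subgroup.normalizer ((V : Subgroup G) : Set G)) ∧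
      ¬ Cfsg.PRankLE 2 0 ↥(⨆ V : {V : Subgroup G // V ≤ U ∧ V ≠ ⊥}, A ⊓ Subgroup.normalizer ((V : Subgroup G) : Set G))) :
    Cfsg.PRankLE 2 1 A ∧ ¬ Cfsg.PRankLE 2 0 A := by
  have : Fact (Nat.Prime 2) := ⟨Nat.prime_two⟩
  refine ⟨?_, fun h0 => hΓ.2 (prank_of_injective h0 (Subgroup.inclusion (iSup_le fun V => inf_le_left))
    (Subgroup.inclusion_injective _))⟩
  by_contra hcon
  obtain ⟨⟨a, haA⟩, ⟨b, hbA⟩, haa, ha1, hbb, hb1, hab, hcab⟩ := exists_of_not_prank hcon
  replace haa : a * a = 1 := congrArg Subtype.val haa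
  replace hbb : b * b = 1 := congrArg Subtype.val hbb
  replace ha1 : a ≠ 1 := fun h => ha1 (Subtype.ext h)
  replace hb1 : b ≠ 1 := fun h => hb1 (Subtype.ext h)
  replace hab : a ≠ b := fun h => hab (Subtype.ext h)
  replace hcab : a * b = b * a := congrArg Subtype.val hcab
  have hU2 : ∀ u ∈ U, u * u = 1 := fun u hu => congrArg Subtype.val (IsKleinFour.mul_self (⟨u, hu⟩ : U))
  have hUp : IsPGroup 2 U := fun u => ⟨1, by rw [pow_one, sq]; exact IsKleinFour.mul_self u⟩
  obtain ⟨P, hUP, hPK, hP2, hPidx⟩ := Cfsg.Agent.H32.exists_relSylow (p := 2) (le_sup_right : U ≤ A ⊔ U) hUp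
  have hKN : A ⊔ U ≤ Subgroup.normalizer (A : Set G) := sup_le Subgroup.le_normalizer hUA
  have hSidx := Cfsg.Agent.H32.not_dvd_relIndex_inf (p := 2) (le_sup_left : A ≤ A ⊔ U) hKN hPK hPidx
  have hS2 : IsPGroup 2 ↥(A ⊓ P) := hP2.to_le inf_le_right
  -- move a, b into the Sylow subgroup
  have h2a : IsPGroup 2 (Subgroup.zpowers a) := Cfsg.Agent.H47.OneRank.isPGroup_zpowers_four
    (by rw [show (4 : ℕ) = 2 + 2 from rfl, pow_add, sq, haa, one_mul])
  have h2b : IsPGroup 2 (Subgroup.zpowers b) := Cfsg.Agent.H47.OneRank.isPGroup_zpowers_four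
    (by rw [show (4 : ℕ) = 2 + 2 from rfl, pow_add, sq, hbb, one_mul])
  have h2ab : IsPGroup 2 ↥(Subgroup.zpowers a ⊔ Subgroup.zpowers b) := by
    apply IsPGroup.to_sup_of_normal_right' h2a h2b
    have h1 : Subgroup.zpowers a ≤ Subgroup.centralizer (Subgroup.zpowers b : Set G) := by
      rw [Subgroup.zpowers_le, Subgroup.mem_centralizer_iff]
      rintro _ ⟨k, rfl⟩
      have h1 : Commute b a := hcab.symm
      exact (h1.zpow_left k).eq
    exact h1.trans (Subgroup.centralizer_le_normalizer _)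
  obtain ⟨k, hkA, hk⟩ := Cfsg.Agent.H32.exists_conj_le_of_not_dvd_relIndex (p := 2)
    (inf_le_left : A ⊓ P ≤ A) hS2 hSidx
    (sup_le (Subgroup.zpowers_le.2 haA) (Subgroup.zpowers_le.2 hbA)) h2ab
  have hka := hk a ((le_sup_left : Subgroup.zpowers a ≤ _) (Subgroup.mem_zpowers a))
  have hkb := hk b ((le_sup_right : Subgroup.zpowers b ≤ _) (Subgroup.mem_zpowers b))
  -- elements of U
  obtain ⟨u1, u2, h10, h20, h12⟩ := exists_two_of_card (X := U) (by rw [hU.card_four]; norm_num)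
  -- no two commuting involutions centralized by `u`
  have hr : ∀ u ∈ U, u ≠ 1 → ∀ a ∈ A, ∀ b ∈ A, a * a = 1 → a ≠ 1 → b * b = 1 → b ≠ 1 → a ≠ b →
      a * b = b * a → u * a = a * u → u * b = b * u → False := by
    intro u hu hu1 a ha b hb haa ha1 hbb hb1 hab hcab hua hub
    have hV : Subgroup.zpowers u ≤ U ∧ Subgroup.zpowers u ≠ ⊥ :=
      ⟨Subgroup.zpowers_le.2 hu, fun h => hu1 (Subgroup.zpowers_eq_bot.1 h)⟩
    have hmem : ∀ c ∈ A, u * c = c * u →
        c ∈ ⨆ V : {V : Subgroup G // V ≤ U ∧ V ≠ ⊥}, A ⊓ Subgroup.normalizer ((V : Subgroup G) : Set G) := by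
      intro c hc huc
      apply Subgroup.mem_iSup_of_mem ⟨Subgroup.zpowers u, hV⟩
      refine ⟨hc, ?_⟩
      apply Subgroup.centralizer_le_normalizer
      rw [Subgroup.mem_centralizer_iff]
      rintro _ ⟨k, rfl⟩
      have h1 : Commute u c := huc
      exact (h1.zpow_left k).eq
    exact prank_false hΓ.1 (a := ⟨a, hmem a ha hua⟩) (b := ⟨b, hmem b hb hub⟩) (Subtype.ext haa)
      (fun h => ha1 (congrArg Subtype.val h)) (Subtype.ext hbb) (fun h => hb1 (congrArg Subtype.val h))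
      (fun h => hab (congrArg Subtype.val h)) (Subtype.ext hcab)
  have hSn : (A.subgroupOf P).Normal := by
    constructor
    intro n hn g
    rw [Subgroup.mem_subgroupOf] at hn ⊢
    exact ((Subgroup.mem_normalizer_iff.1 (hKN (hPK g.2))) n).1 hn
  obtain ⟨C, z, y, w, x, hCD, hy, hyz, hw, hwC, hww, hxw, hxx, hinv, hmul⟩ :=
    Cfsg.Agent.H47.OneRank.main hP2 (A.subgroupOf P) (U.subgroupOf P) hSn
      (fun u hu => Subtype.ext (hU2 u hu)) (u1 := ⟨u1, hUP u1.2⟩) (u2 := ⟨u2, hUP u2.2⟩)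
      u1.2 u2.2 (fun h => h10 (Subtype.ext (congrArg (fun t : P => (t : G)) h)))
      (fun h => h20 (Subtype.ext (congrArg (fun t : P => (t : G)) h)))
      (fun h => h12 (Subtype.ext (congrArg (fun t : P => (t : G)) h)))
      (fun u hu hu1 a ha b hb haa ha1 hbb hb1 hab hcab hua hub =>
        hr u hu (fun h => hu1 (Subtype.ext h)) a ha b hb (congrArg Subtype.val haa)
          (fun h => ha1 (Subtype.ext h)) (congrArg Subtype.val hbb) (fun h => hb1 (Subtype.ext h))
          (fun h => hab (Subtype.ext h)) (congrArg Subtype.val hcab) (congrArg Subtype.val hua)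
          (congrArg Subtype.val hub))
      (a := ⟨k * a * k⁻¹, hka.2⟩) (b := ⟨k * b * k⁻¹, hkb.2⟩) hka.1 hkb.1
      (Subtype.ext (by
        calc k * a * k⁻¹ * (k * a * k⁻¹) = k * (a * a) * k⁻¹ := by group
          _ = 1 := by rw [haa]; group))
      (fun h => ha1 (by
        have h1 : k * a * k⁻¹ = 1 := congrArg Subtype.val h
        rwa [mul_inv_eq_one, mul_eq_left] at h1))
      (Subtype.ext (by
        calc k * b * k⁻¹ * (k * b * k⁻¹) = k * (b * b) * k⁻¹ := by group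
          _ = 1 := by rw [hbb]; group))
      (fun h => hb1 (by
        have h1 : k * b * k⁻¹ = 1 := congrArg Subtype.val h
        rwa [mul_inv_eq_one, mul_eq_left] at h1))
      (fun h => hab (by
        have h1 : k * a * k⁻¹ = k * b * k⁻¹ := congrArg Subtype.val h
        rwa [mul_left_inj, mul_right_inj] at h1))
      (Subtype.ext (by
        calc k * a * k⁻¹ * (k * b * k⁻¹) = k * (a * b) * k⁻¹ := by group
          _ = k * (b * a) * k⁻¹ := by rw [hcab]
          _ = k * b * k⁻¹ * (k * a * k⁻¹) := by group))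
  have memC : ∀ {s : G} (hs : s ∈ A ⊓ P), s ∉ C.map P.subtype → (⟨s, hs.2⟩ : P) ∉ C := by
    intro s hs hsC h
    exact hsC ⟨_, h, rfl⟩
  have memC' : ∀ {s : P}, s ∉ C → (s : G) ∉ C.map P.subtype := by
    rintro s hs ⟨t, ht, hts⟩
    exact hs ((Subtype.ext hts : t = s) ▸ ht)
  refine Cfsg.Agent.H47.OneRank.fusion A (no_index_two hA) (A ⊓ P) (C.map P.subtype) inf_le_left hS2 hSidx
    (z := z) (y := y) (w := w) (x := x) ?_ ⟨z, hCD.zC, rfl⟩ (congrArg Subtype.val hCD.zz)
    (fun h => hCD.z1 (Subtype.ext h)) ?_ ?_ ⟨y, hy, rfl⟩ (congrArg Subtype.val hyz) ⟨hw, w.2⟩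
    (memC' hwC) (congrArg Subtype.val hww) ?_ (congrArg Subtype.val hxw) (congrArg Subtype.val hxx) ?_ ?_ ?_
  · rintro _ ⟨c, hc, rfl⟩
    exact ⟨hCD.le hc, c.2⟩
  · intro s hs
    exact congrArg Subtype.val (hCD.zc ⟨s, hs.2⟩)
  · rintro _ ⟨c, hc, rfl⟩ hcc
    rcases hCD.uniq c hc (Subtype.ext hcc) with h1 | h1
    · left; exact congrArg Subtype.val h1
    · right; exact congrArg Subtype.val h1
  · intro a ha
    exact ((Subgroup.mem_normalizer_iff.1 (hKN (hPK x.2))) a).1 ha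
  · intro s hs hsC
    exact congrArg Subtype.val (hinv ⟨s, hs.2⟩ hs.1 (memC hs hsC))
  · intro s hs t ht hsC htC
    exact ⟨_, hmul ⟨s, hs.2⟩ hs.1 ⟨t, ht.2⟩ ht.1 (memC hs hsC) (memC ht htC), rfl⟩
  · rintro v hv hvC _ ⟨c, hc, rfl⟩ hvc
    have h1 : (⟨v, hv.2⟩ : P) * c = c * ⟨v, hv.2⟩ := Subtype.ext hvc
    have h2 := hCD.sq_of_comm hP2 hy hyz (hinv ⟨v, hv.2⟩ hv.1 (memC hv hvC)) hc (by
      rw [h1, mul_inv_cancel_right])
    rcases hCD.uniq c hc h2 with h3 | h3
    · left; exact congrArg Subtype.val h3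
    · right; exact congrArg Subtype.val h3

end Cfsg.Agent.S1915
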