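import Cfsg.Statements.S1921
import Cfsg.Agent.FStar.Basic

set_option autoImplicit false
open Cfsg

namespace Cfsg.Agent.S1921

open Cfsg.Agent.FStar

/-- Let a be an involution of a finite group H and L a component of H with a L a⁻¹ ≠ L; put M = ⟨L, aLa⁻¹⟩ and let J be the subgroup generated by the elements x · a x a⁻¹ with x ∈ L (the diagonal). Then every element of M outside J·Z(M) generates M together with J. -/
theorem result {H : Type*} [Group H] [Finite H] (a : H) (ha : orderOf a = 2) (L : Subgroup H) (hL : Cfsg.IsComponent L)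
    (hLa : L.map (MulAut.conj a).toMonoidHom ≠ L) (x : H) (hxM : x ∈ L ⊔ L.map (MulAut.conj a).toMonoidHom)
    (hxJ : x ∉ Subgroup.closure {y : H | ∃ l ∈ L, y = l * (a * l * a⁻¹)} ⊔
      ((L ⊔ L.map (MulAut.conj a).toMonoidHom) ⊓ Subgroup.centralizer ((L ⊔ L.map (MulAut.conj a).toMonoidHom : Subgroup H) : Set H))) :
    Subgroup.closure {y : H | ∃ l ∈ L, y = l * (a * l * a⁻¹)} ⊔ Subgroup.zpowers x = L ⊔ L.map (MulAut.conj a).toMonoidHom := by
  have hLa' : Cfsg.IsComponent (L.map (MulAut.conj a).toMonoidHom) := (isComponent_conj a).2 hL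
  set L' := L.map (MulAut.conj a).toMonoidHom with hL'
  have hcomm : ∀ l ∈ L, ∀ m ∈ L', l * m = m * l :=
    commutator_eq_bot_iff_forall.1 (component_commute hL hLa' (Ne.symm hLa))
  have hmem' : ∀ l ∈ L, a * l * a⁻¹ ∈ L' := fun l hl => ⟨l, hl, rfl⟩
  have hmem'' : ∀ m ∈ L', ∃ l ∈ L, m = a * l * a⁻¹ := by
    rintro _ ⟨l, hl, rfl⟩
    exact ⟨l, hl, rfl⟩
  set J := Subgroup.closure {y : H | ∃ l ∈ L, y = l * (a * l * a⁻¹)} with hJ
  have hJmem : ∀ l ∈ L, l * (a * l * a⁻¹) ∈ J := fun l hl => Subgroup.subset_closure ⟨l, hl, rfl⟩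
  have hJM : J ≤ L ⊔ L' := by
    rw [hJ, Subgroup.closure_le]
    rintro _ ⟨l, hl, rfl⟩
    exact Subgroup.mul_mem _ (Subgroup.mem_sup_left hl) (Subgroup.mem_sup_right (hmem' l hl))
  have hLn : L' ≤ Subgroup.normalizer (L : Set H) := by
    intro m hm
    rw [Subgroup.mem_normalizer_iff]
    intro h
    constructor
    · intro hh
      rw [← hcomm h hh m hm, mul_inv_cancel_right]; exact hh
    · intro hh
      have h1 := hcomm _ hh m hm
      have h2 : m * h * m⁻¹ = h := by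
        have h3 : m * h = m * (m * h * m⁻¹) := by rw [← h1]; group
        exact (mul_left_cancel h3).symm
      rwa [h2] at hh
  obtain ⟨l1, hl1, m, hm, rfl⟩ : ∃ l1 ∈ L, ∃ m ∈ L', l1 * m = x := by
    have := Subgroup.coe_mul_of_right_le_normalizer_left L L' hLn
    rw [← SetLike.mem_coe, this, Set.mem_mul] at hxM
    exact hxM
  obtain ⟨l2, hl2, rfl⟩ := hmem'' m hm
  set K := J ⊔ Subgroup.zpowers (l1 * (a * l2 * a⁻¹)) with hK
  have hy : l1 * l2⁻¹ ∈ K := by
    have h1 : l1 * (a * l2 * a⁻¹) * (l2 * (a * l2 * a⁻¹))⁻¹ ∈ K :=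
      K.mul_mem (Subgroup.mem_sup_right (Subgroup.mem_zpowers _))
        (K.inv_mem (Subgroup.mem_sup_left (hJmem l2 hl2)))
    have h2 : l1 * (a * l2 * a⁻¹) * (l2 * (a * l2 * a⁻¹))⁻¹ = l1 * l2⁻¹ := by group
    rwa [h2] at h1
  have hyL : l1 * l2⁻¹ ∈ L := L.mul_mem hl1 (L.inv_mem hl2)
  -- not central
  have hync : ¬ ∀ l ∈ L, l * (l1 * l2⁻¹) = (l1 * l2⁻¹) * l := by
    intro hcen
    apply hxJ
    have h1 : l1 * (a * l2 * a⁻¹) = (l1 * l2⁻¹) * (l2 * (a * l2 * a⁻¹)) := by group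
    rw [h1]
    refine Subgroup.mul_mem _ (Subgroup.mem_sup_right (Subgroup.mem_inf.2
      ⟨Subgroup.mem_sup_left hyL, ?_⟩)) (Subgroup.mem_sup_left (hJmem l2 hl2))
    have h2 : L ⊔ L' ≤ Subgroup.centralizer {l1 * l2⁻¹} := by
      apply sup_le
      · intro l hl
        rw [Subgroup.mem_centralizer_singleton_iff]; exact hcen l hl
      · intro m hm
        rw [Subgroup.mem_centralizer_singleton_iff]; exact (hcomm _ hyL m hm).symm
    rw [Subgroup.mem_centralizer_iff]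
    intro h hh
    exact Subgroup.mem_centralizer_singleton_iff.1 (h2 hh)
  -- N = L ∩ K normal in L
  have hNn : (K.subgroupOf L).Normal := by
    constructor
    rintro ⟨n, hn⟩ hnK ⟨g, hg⟩
    have hnK : n ∈ K := hnK
    show g * n * g⁻¹ ∈ K
    have h1 : (g * (a * g * a⁻¹)) * n * (g * (a * g * a⁻¹))⁻¹ ∈ K :=
      K.mul_mem (K.mul_mem (Subgroup.mem_sup_left (hJmem g hg)) hnK)
        (K.inv_mem (Subgroup.mem_sup_left (hJmem g hg)))
    have h2 : (g * (a * g * a⁻¹)) * n * (g * (a * g * a⁻¹))⁻¹ = g * n * g⁻¹ := by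
      have h3 := hcomm n hn _ (hmem' g hg)
      calc (g * (a * g * a⁻¹)) * n * (g * (a * g * a⁻¹))⁻¹ = g * ((a * g * a⁻¹) * n) * (a * g * a⁻¹)⁻¹ * g⁻¹ := by
            group
        _ = g * n * g⁻¹ := by rw [← h3]; group
    rwa [h2] at h1
  have hLK : L ≤ K := by
    rcases eq_top_or_le_center_of_normal hL.2 _ hNn with h | h
    · exact Subgroup.subgroupOf_eq_top.1 h
    · exfalso
      apply hync
      intro l hl
      have h1 : (⟨l1 * l2⁻¹, hyL⟩ : L) ∈ K.subgroupOf L := hy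
      have h2 := Subgroup.mem_center_iff.1 (h h1) ⟨l, hl⟩
      exact congrArg Subtype.val h2
  apply le_antisymm
  · exact sup_le hJM (by rw [Subgroup.zpowers_le]; exact hxM)
  · apply sup_le hLK
    intro m hm
    obtain ⟨l, hl, rfl⟩ := hmem'' m hm
    have h1 := K.mul_mem (K.inv_mem (hLK hl)) (Subgroup.mem_sup_left (hJmem l hl))
    rwa [inv_mul_cancel_left] at h1

end Cfsg.Agent.S1921
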