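import Cfsg.Statements.S1922
import Cfsg.Agent.H32.Syl
import Cfsg.Agent.H17.Conj
import Cfsg.Agent.H4.Dihedral

set_option autoImplicit false
open Cfsg

namespace Cfsg.Agent.S1922

open Cfsg.Agent.H4

/-- in a dihedral group of order `2 * (2k+1)` there is an involution conjugate to `u` swapping `u` and `v`. -/
lemma exists_swap {G : Type*} [Group G] {u v : G} (hu : u * u = 1) (hv : v * v = 1)
    (hodd : Odd (orderOf (u * v))) : ∃ m : G, IsConj u m ∧ m * u * m⁻¹ = v := by
  obtain ⟨k, hk⟩ := hodd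
  refine ⟨u * (u * v) ^ ((k + 1 : ℕ) : ℤ), ?_, ?_⟩
  · rw [isConj_iff]
    refine ⟨(u * v) ^ (-((k : ℤ) + 1) ^ 2), ?_⟩
    rw [conj_zpow_left hu hv]
    congr 1
    rw [zpow_eq_zpow_iff_modEq, hk]
    refine (Int.modEq_iff_dvd).mpr ⟨-(k + 1), ?_⟩
    push_cast
    ring
  · rw [conj_mul_zpow_left hu hv]
    have : (u * v) ^ (2 * ((k + 1 : ℕ) : ℤ)) = (u * v) ^ (1 : ℤ) := by
      rw [zpow_eq_zpow_iff_modEq, hk]
      refine (Int.modEq_iff_dvd).mpr ⟨-1, ?_⟩
      push_cast
      ring
    rw [this, zpow_one, ← mul_assoc, hu, one_mul]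

/-- the central involution `w` of an even dihedral group: `v * w` is conjugate to `u` or `v`. -/
lemma conj_half {G : Type*} [Group G] {u v : G} (hu : u * u = 1) (hv : v * v = 1)
    (m : ℕ) (hm : orderOf (u * v) = 2 * m) :
    IsConj v (v * (u * v) ^ m) ∨ IsConj u (v * (u * v) ^ m) := by
  have key : ∀ j : ℤ, v * (u * v) ^ j = (u * v) ^ (-j) * v := by
    intro j
    have := conj_mul_zpow_right hu hv j
    rw [← this]; group
  rcases Nat.even_or_odd' m with ⟨k, rfl | rfl⟩
  · left
    rw [isConj_iff]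
    refine ⟨(u * v) ^ (-(k : ℤ)), ?_⟩
    rw [← key]
    rw [zpow_neg, inv_inv, mul_assoc, ← zpow_add, ← zpow_natCast]
    congr 2
    push_cast; ring
  · right
    rw [isConj_iff]
    have hvi : v⁻¹ = v := inv_eq_of_mul_eq_one_left hv
    have hg : (v * (u * v) ^ (k : ℤ))⁻¹ = v * (u * v) ^ (k : ℤ) := by
      rw [mul_inv_rev, hvi, key, zpow_neg]
    refine ⟨v * (u * v) ^ (k : ℤ), ?_⟩
    rw [hg]
    have : v * (u * v) ^ (k : ℤ) * u * (v * (u * v) ^ (k : ℤ)) =
        v * ((u * v) ^ (k : ℤ) * (u * v) ^ (1 : ℤ) * (u * v) ^ (k : ℤ)) := by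
      rw [zpow_one]; group
    rw [this, ← zpow_add, ← zpow_add, ← zpow_natCast]
    congr 2
    push_cast; ring

section main

open MulAction

variable {G : Type*} [Group G] (z : G) (H : Subgroup G)

/-- every conjugate of `z` fixes exactly one coset of `H`. -/
lemma smul_eq_iff (h0 : ∀ g : G, z ∈ H.map (MulAut.conj g).toMonoidHom ↔ g ∈ H)
    (x g : G) : (x * z * x⁻¹) • (g : G ⧸ H) = (g : G ⧸ H) ↔ (g : G ⧸ H) = (x : G ⧸ H) := by
  rw [MulAction.Quotient.smul_coe, smul_eq_mul, eq_comm, QuotientGroup.eq]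
  have h1 := h0 (x⁻¹ * g)
  rw [Cfsg.Agent.H32.mem_map_conj] at h1
  have h2 : g⁻¹ * (x * z * x⁻¹ * g) = (x⁻¹ * g)⁻¹ * z * (x⁻¹ * g) := by group
  rw [h2, h1, ← QuotientGroup.eq, eq_comm]


theorem odd_class [Finite G] (hz : orderOf z = 2) (hH : H ≠ ⊤)
    (h0 : ∀ g : G, z ∈ H.map (MulAut.conj g).toMonoidHom ↔ g ∈ H)
    (h1 : ∀ t : G, IsConj z t → t ≠ z → t * z = z * t → ∀ g : G,
      z * t ∈ H.map (MulAut.conj g).toMonoidHom ↔ g ∈ H) :
    Odd (Nat.card {y : G // IsConj z y}) := by
  classical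
  have : Fintype G := Fintype.ofFinite G
  have : Fintype (G ⧸ H) := Fintype.ofFinite _
  have hzz : z * z = 1 := mul_self_of_orderOf_two hz
  have fixu : ∀ m : G, IsConj z m → ∃ c : G ⧸ H, ∀ c' : G ⧸ H, m • c' = c' ↔ c' = c := by
    intro m hm
    obtain ⟨x, hx⟩ := isConj_iff.1 hm
    refine ⟨x, fun c' => ?_⟩
    obtain ⟨g, rfl⟩ := QuotientGroup.mk_surjective c'
    rw [← hx]; exact smul_eq_iff z H h0 x g
  have mm : ∀ m, IsConj z m → m * m = 1 := by
    intro m hm
    obtain ⟨x, rfl⟩ := isConj_iff.1 hm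
    calc x * z * x⁻¹ * (x * z * x⁻¹) = x * (z * z) * x⁻¹ := by group
      _ = 1 := by rw [hzz]; group
  have P1 : ∀ z' t : G, IsConj z z' → IsConj z t → t ≠ z' → t * z' = z' * t →
      ∀ c : G ⧸ H, (z' * t) • c = c → z' • c = c := by
    intro z' t hz' ht hne hcomm c hc
    obtain ⟨x, rfl⟩ := isConj_iff.1 hz'
    obtain ⟨g, rfl⟩ := QuotientGroup.mk_surjective c
    have h2 := h1 (x⁻¹ * t * x)
      (ht.trans (isConj_iff.2 ⟨x⁻¹, by group⟩))
      (by intro h; apply hne; rw [← h]; group)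
      (by
        calc x⁻¹ * t * x * z = x⁻¹ * (t * (x * z * x⁻¹)) * x := by group
          _ = z * (x⁻¹ * t * x) := by rw [hcomm]; group) (x⁻¹ * g)
    rw [Cfsg.Agent.H32.mem_map_conj] at h2
    rw [smul_eq_iff z H h0, eq_comm, QuotientGroup.eq, ← h2]
    rw [MulAction.Quotient.smul_coe, smul_eq_mul, eq_comm, QuotientGroup.eq] at hc
    have e : (x⁻¹ * g)⁻¹ * (z * (x⁻¹ * t * x)) * (x⁻¹ * g) = g⁻¹ * (x * z * x⁻¹ * t * g) := by group
    rwa [e]
  have hodd : ∀ u v : G, IsConj z u → IsConj z v → ∀ c : G ⧸ H, u • c = c → v • c ≠ c →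
      Odd (orderOf (u * v)) := by
    intro u v hu hv c huc hvc
    by_contra hne
    rw [Nat.not_odd_iff_even] at hne
    obtain ⟨m, hm⟩ := hne
    have hm' : orderOf (u * v) = 2 * m := by omega
    have hpos : 0 < orderOf (u * v) := orderOf_pos _
    have hm0 : 0 < m := by omega
    have hhalf : orderOf (u * v) / 2 = m := by omega
    have hwu : Commute ((u * v) ^ m) u := by
      have := conj_pow_half_left (mm u hu) (mm v hv) ⟨m, hm⟩
      rwa [hhalf] at this
    have hwv : Commute ((u * v) ^ m) v := by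
      have := conj_pow_half_right (mm u hu) (mm v hv) ⟨m, hm⟩
      rwa [hhalf] at this
    have hw1 : (u * v) ^ m ≠ 1 := by
      intro h
      have := orderOf_dvd_of_pow_eq_one h
      have := Nat.le_of_dvd hm0 this
      omega
    set w := (u * v) ^ m with hw
    have ht : IsConj z (v * w) := by
      rcases conj_half (mm u hu) (mm v hv) m hm' with h | h
      · exact hv.trans h
      · exact hu.trans h
    have htv : v * w ≠ v := by
      intro h; exact hw1 (mul_eq_left.1 h)
    have hcomm : (v * w) * v = v * (v * w) := by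
      rw [mul_assoc, hwv.eq]
    obtain ⟨c0, hc0⟩ := fixu u hu
    have hwc : w • c = c := by
      have h3 : u • (w • c) = w • c := by rw [smul_smul, ← hwu.eq, ← smul_smul, huc]
      have e1 := (hc0 _).1 h3
      have e2 := (hc0 _).1 huc
      rw [e1]; exact e2.symm
    refine hvc (P1 v (v * w) hv ht htv hcomm c ?_)
    rw [← mul_assoc, mm v hv, one_mul, hwc]
  -- counting
  let α : G ⧸ H := ((1 : G) : G ⧸ H)
  have hmα : ∀ m : G, m • α = α ↔ m ∈ H := by
    intro m
    show m • ((1 : G) : G ⧸ H) = ((1 : G) : G ⧸ H) ↔ m ∈ H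
    rw [MulAction.Quotient.smul_coe, smul_eq_mul, mul_one, eq_comm, QuotientGroup.eq]
    simp
  let D : Finset G := Finset.univ.filter (fun m => IsConj z m)
  let I : G ⧸ H → Finset G := fun β => D.filter (fun m => m • α = β)
  have hmemI : ∀ β m, m ∈ I β ↔ IsConj z m ∧ m • α = β := by
    intro β m; simp [I, D]
  have hzα : z • α = α := by
    rw [hmα]
    have := (h0 1).2 H.one_mem
    rw [Cfsg.Agent.H32.mem_map_conj] at this
    simpa using this
  have hIge : ∀ β, (I α).card ≤ (I β).card := by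
    intro β
    by_cases hβ : β = α
    · rw [hβ]
    obtain ⟨g, rfl⟩ := QuotientGroup.mk_surjective β
    set u := g * z * g⁻¹ with hu
    have huc : IsConj z u := isConj_iff.2 ⟨g, rfl⟩
    have huβ : u • (g : G ⧸ H) = (g : G ⧸ H) := (smul_eq_iff z H h0 g g).2 rfl
    refine Finset.card_le_card_of_surjOn (fun m => m * u * m⁻¹) ?_
    intro v hv
    have hv' := (hmemI _ _).1 hv
    have hvβ : v • (g : G ⧸ H) ≠ (g : G ⧸ H) := by
      intro h
      obtain ⟨c0, hc0⟩ := fixu v hv'.1
      exact hβ (((hc0 _).1 h).trans ((hc0 _).1 hv'.2).symm)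
    obtain ⟨m, hm1, hm2⟩ := exists_swap (mm u huc) (mm v hv'.1) (hodd u v huc hv'.1 _ huβ hvβ)
    have hmc : IsConj z m := huc.trans hm1
    refine ⟨m, (hmemI _ _).2 ⟨hmc, ?_⟩, hm2⟩
    have h3 : v • (m • (g : G ⧸ H)) = m • (g : G ⧸ H) := by
      rw [← hm2, smul_smul, inv_mul_cancel_right, ← smul_smul, huβ]
    obtain ⟨c0, hc0⟩ := fixu v hv'.1
    have h4 : m • (g : G ⧸ H) = α := ((hc0 _).1 h3).trans ((hc0 _).1 hv'.2).symm
    rw [← h4, smul_smul, mm m hmc, one_smul]
  have hDsum : D.card = ∑ β : G ⧸ H, (I β).card :=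
    Finset.card_eq_sum_card_fiberwise (f := fun m => m • α) (t := Finset.univ)
      (fun _ _ => Finset.mem_coe.2 (Finset.mem_univ _))
  have hDcard : Nat.card {y : G // IsConj z y} = D.card := by
    rw [Nat.card_eq_fintype_card, Fintype.card_subtype]
  have hIcard : Nat.card {y : G // IsConj z y ∧ y ∈ H} = (I α).card := by
    rw [Nat.card_eq_fintype_card, Fintype.card_subtype]
    congr 1
    ext m
    rw [hmemI, hmα]; simp
  have hfix : Nat.card (MulAction.fixedBy (G ⧸ H) z) = 1 := by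
    rw [Nat.card_eq_one_iff_unique]
    obtain ⟨c0, hc0⟩ := fixu z (IsConj.refl z)
    refine ⟨⟨fun a b => Subtype.ext ?_⟩, ⟨⟨α, hzα⟩⟩⟩
    exact ((hc0 _).1 a.2).trans ((hc0 _).1 b.2).symm
  have hDn : D.card = Fintype.card (G ⧸ H) * (I α).card := by
    have h := Cfsg.Agent.H17.card_fixedBy_mul H z
    rw [hfix, one_mul, hDcard, hIcard, Subgroup.index, Nat.card_eq_fintype_card] at h
    exact h
  have hall : ∀ β, (I β).card = (I α).card := by
    have h := (Finset.sum_eq_sum_iff_of_le (s := (Finset.univ : Finset (G ⧸ H)))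
      (f := fun _ => (I α).card) (g := fun β => (I β).card) (fun β _ => hIge β)).1
      (by rw [← hDsum, hDn]; simp)
    intro β
    exact (h β (Finset.mem_univ _)).symm
  obtain ⟨β, hβ⟩ : ∃ β : G ⧸ H, β ≠ α := by
    by_contra hcon
    push Not at hcon
    apply hH
    rw [eq_top_iff]
    intro g _
    have := hcon (g : G ⧸ H)
    rw [← hmα]
    have h5 : g • α = (g : G ⧸ H) := by
      show g • ((1 : G) : G ⧸ H) = _
      rw [MulAction.Quotient.smul_coe, smul_eq_mul, mul_one]
    rw [h5, this]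
  have hnpos : 0 < (I α).card := Finset.card_pos.2 ⟨z, (hmemI _ _).2 ⟨IsConj.refl z, hzα⟩⟩
  obtain ⟨m0, hm0⟩ : (I β).Nonempty := by
    rw [← Finset.card_pos, hall β]; exact hnpos
  have hm0' := (hmemI _ _).1 hm0
  have hm0β : m0 • β = α := by
    rw [← hm0'.2, smul_smul, mm m0 hm0'.1, one_smul]
  have hsw : ∀ m, IsConj z m → m • α = β → m • β = α := by
    intro m h1 h2
    rw [← h2, smul_smul, mm m h1, one_smul]
  have hm0i : m0⁻¹ = m0 := inv_eq_of_mul_eq_one_left (mm m0 hm0'.1)
  have hnodd : Odd (I α).card := by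
    rw [← hall β]
    let f : Function.End (I β) := fun m => ⟨m0 * m * m0⁻¹, by
      have hm' := (hmemI _ _).1 m.2
      rw [hmemI]
      refine ⟨hm'.1.trans (isConj_iff.2 ⟨m0, rfl⟩), ?_⟩
      have hmβ : (m : G) • β = α := hsw _ hm'.1 hm'.2
      rw [hm0i, mul_smul, mul_smul, hm0'.2, hmβ, hm0'.2]⟩
    have hf : f ^ 2 ^ 1 = 1 := by
      rw [pow_one, pow_two]
      funext m
      apply Subtype.ext
      show m0 * (m0 * m * m0⁻¹) * m0⁻¹ = m
      calc m0 * (m0 * m * m0⁻¹) * m0⁻¹ = (m0 * m0) * m * (m0 * m0)⁻¹ := by group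
        _ = m := by rw [mm m0 hm0'.1]; group
    have h6 := Equiv.Perm.card_fixedPoints_modEq (p := 2) (n := 1) hf
    have h7 : Fintype.card (Function.fixedPoints f) = 1 := by
      rw [Fintype.card_eq_one_iff]
      refine ⟨⟨⟨m0, hm0⟩, Subtype.ext (by show m0 * m0 * m0⁻¹ = m0; group)⟩, ?_⟩
      rintro ⟨⟨m, hm⟩, hfm⟩
      apply Subtype.ext
      apply Subtype.ext
      show m = m0
      have hfm' : m0 * m * m0⁻¹ = m := congrArg Subtype.val hfm
      by_contra hne
      have hm' := (hmemI _ _).1 hm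
      have hcomm : m * m0 = m0 * m := by
        conv_lhs => rw [← hfm']
        group
      have h8 := P1 m0 m hm0'.1 hm'.1 hne hcomm α (by
        rw [mul_smul, hm'.2, hm0β])
      rw [hm0'.2] at h8
      exact hβ h8
    rw [h7, Fintype.card_coe] at h6
    rw [Nat.odd_iff]; exact h6
  have hNodd : Odd (Fintype.card (G ⧸ H)) := by
    let f : Function.End (G ⧸ H) := fun c => z • c
    have hf : f ^ 2 ^ 1 = 1 := by
      rw [pow_one, pow_two]
      funext c
      show z • z • c = c
      rw [smul_smul, hzz, one_smul]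
    have h6 := Equiv.Perm.card_fixedPoints_modEq (p := 2) (n := 1) hf
    have h7 : Fintype.card (Function.fixedPoints f) = 1 := by
      rw [Fintype.card_eq_one_iff]
      obtain ⟨c0, hc0⟩ := fixu z (IsConj.refl z)
      refine ⟨⟨α, hzα⟩, ?_⟩
      rintro ⟨c, hc⟩
      apply Subtype.ext
      exact ((hc0 _).1 hc).trans ((hc0 _).1 hzα).symm
    rw [h7] at h6
    rw [Nat.odd_iff]; exact h6
  rw [hDcard, hDn]
  exact hNodd.mul hnodd

end main

/-- Let z be an involution of a finite group G and H a proper subgroup such that z lies in gHg⁻¹ exactly when g ∈ H. Then the following are equivalent: (1) for every conjugate t ≠ z of z commuting with z, the product zt lies in gHg⁻¹ exactly when g ∈ H; (2) z lies in the centre of some Sylow 2-subgroup of G, and for every conjugate t ≠ z of z commuting with z, the centralizer of zt is contained in H. -/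
theorem result {G : Type*} [Group G] [Finite G] (z : G) (hz : orderOf z = 2) (H : Subgroup G) (hH : H ≠ ⊤)
    (h0 : ∀ g : G, z ∈ H.map (MulAut.conj g).toMonoidHom ↔ g ∈ H) :
    (∀ t : G, IsConj z t → t ≠ z → t * z = z * t → ∀ g : G, z * t ∈ H.map (MulAut.conj g).toMonoidHom ↔ g ∈ H) ↔
      ((∃ P : Sylow 2 G, z ∈ (Subgroup.center ↥(P : Subgroup G)).map (P : Subgroup G).subtype) ∧
        ∀ t : G, IsConj z t → t ≠ z → t * z = z * t → Subgroup.centralizer ({z * t} : Set G) ≤ H) := by
  classical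
  have hzz : z * z = 1 := mul_self_of_orderOf_two hz
  have hzH : z ∈ H := by
    have := (h0 1).2 H.one_mem
    rw [Cfsg.Agent.H32.mem_map_conj] at this
    simpa using this
  have h0' : ∀ g : G, g⁻¹ * z * g ∈ H ↔ g ∈ H := fun g => by
    rw [← h0 g, Cfsg.Agent.H32.mem_map_conj]
  have hCz : ∀ c : G, c * z = z * c → c ∈ H := by
    intro c hc
    rw [← h0' c]
    have : c⁻¹ * z * c = z := by rw [mul_assoc, ← hc]; group
    rwa [this]
  constructor
  · intro h1
    refine ⟨?_, ?_⟩
    · have hodd := odd_class z H hz hH h0 h1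
      rw [Cfsg.Agent.H17.card_conj_eq_index] at hodd
      set C := Subgroup.centralizer ({z} : Set G) with hC
      have hzC : z ∈ C := by rw [hC, Subgroup.mem_centralizer_singleton_iff]
      obtain ⟨Q⟩ : Nonempty (Sylow 2 C) := inferInstance
      have hQ2 : IsPGroup 2 ((Q : Subgroup C).map C.subtype) := Q.isPGroup'.map _
      have hidx : ¬ 2 ∣ ((Q : Subgroup C).map C.subtype).index := by
        rw [Subgroup.index_map_subtype]
        intro h
        rcases (Nat.Prime.dvd_mul Nat.prime_two).1 h with h | h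
        · exact Q.not_dvd_index h
        · exact (Nat.not_even_iff_odd.2 hodd) (even_iff_two_dvd.2 h)
      let P : Sylow 2 G := hQ2.toSylow hidx
      have hPC : (P : Subgroup G) ≤ C := by
        show (Q : Subgroup C).map C.subtype ≤ C
        exact Subgroup.map_subtype_le _
      have hz2 : IsPGroup 2 (Subgroup.zpowers z) :=
        IsPGroup.of_card (n := 1) (by rw [Nat.card_zpowers, hz, pow_one])
      have hzP : z ∈ (P : Subgroup G) := by
        have hn : (P : Subgroup G) ≤ Subgroup.normalizer (Subgroup.zpowers z : Set G) := by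
          intro x hx
          have hx' : x * z = z * x := by
            have := hPC hx; rwa [hC, Subgroup.mem_centralizer_singleton_iff] at this
          apply Subgroup.centralizer_le_normalizer
          rw [Subgroup.mem_centralizer_iff]
          rintro y hy
          obtain ⟨k, rfl⟩ := Subgroup.mem_zpowers_iff.1 hy
          exact ((show Commute x z from hx').zpow_right k).eq.symm
        have h2 : IsPGroup 2 ↥((P : Subgroup G) ⊔ Subgroup.zpowers z) :=
          IsPGroup.to_sup_of_normal_right' P.isPGroup' hz2 hn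
        have := P.is_maximal' h2 le_sup_left
        rw [← this]
        exact Subgroup.mem_sup_right (Subgroup.mem_zpowers z)
      refine ⟨P, ⟨⟨z, hzP⟩, ?_, rfl⟩⟩
      show (⟨z, hzP⟩ : ↥(P : Subgroup G)) ∈ Subgroup.center ↥(P : Subgroup G)
      rw [Subgroup.mem_center_iff]
      rintro ⟨x, hx⟩
      apply Subtype.ext
      show x * z = z * x
      have := hPC hx
      rwa [hC, Subgroup.mem_centralizer_singleton_iff] at this
    · intro t ht hne hcomm c hc
      rw [Subgroup.mem_centralizer_singleton_iff] at hc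
      have htH : t ∈ H := hCz t hcomm
      rw [← h1 t ht hne hcomm c, Cfsg.Agent.H32.mem_map_conj]
      have : c⁻¹ * (z * t) * c = z * t := by rw [mul_assoc, ← hc]; group
      rw [this]
      exact H.mul_mem hzH htH
  · rintro ⟨⟨P, hzP⟩, h2⟩ t ht hne hcomm g
    have htH : t ∈ H := hCz t hcomm
    have hztH : z * t ∈ H := H.mul_mem hzH htH
    rw [Cfsg.Agent.H32.mem_map_conj]
    constructor
    swap
    · intro hg
      exact H.mul_mem (H.mul_mem (H.inv_mem hg) hztH) hg
    intro hg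
    have hPz : ∀ x ∈ (P : Subgroup G), x * z = z * x := by
      obtain ⟨⟨z', hz'P⟩, hz', rfl⟩ := hzP
      intro x hx
      have := (Subgroup.mem_center_iff.1 hz') ⟨x, hx⟩
      exact congrArg Subtype.val this
    have hPH : (P : Subgroup G) ≤ H := fun x hx => hCz x (hPz x hx)
    -- Sylow argument in H
    have hidx : ¬ 2 ∣ (P : Subgroup G).relIndex H := fun h =>
      P.not_dvd_index (h.trans (Subgroup.relIndex_dvd_index_of_le hPH))
    have hw2 : (g⁻¹ * (z * t) * g) * (g⁻¹ * (z * t) * g) = 1 := by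
      have htt : t * t = 1 := by
        obtain ⟨x, rfl⟩ := isConj_iff.1 ht
        calc x * z * x⁻¹ * (x * z * x⁻¹) = x * (z * z) * x⁻¹ := by group
          _ = 1 := by rw [hzz]; group
      calc (g⁻¹ * (z * t) * g) * (g⁻¹ * (z * t) * g) = g⁻¹ * (z * (t * z) * t) * g := by group
        _ = g⁻¹ * ((z * z) * (t * t)) * g := by rw [hcomm]; group
        _ = 1 := by rw [hzz, htt]; group
    have hw : IsPGroup 2 (Subgroup.zpowers (g⁻¹ * (z * t) * g)) := by
      have h3 : orderOf (g⁻¹ * (z * t) * g) ∣ 2 := orderOf_dvd_of_pow_eq_one (by rw [pow_two]; exact hw2)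
      rcases (Nat.dvd_prime Nat.prime_two).1 h3 with h4 | h4
      · exact IsPGroup.of_card (n := 0) (by rw [Nat.card_zpowers, h4, pow_zero])
      · exact IsPGroup.of_card (n := 1) (by rw [Nat.card_zpowers, h4, pow_one])
    obtain ⟨h, hhH, hh⟩ := Cfsg.Agent.H32.exists_conj_le_of_not_dvd_relIndex hPH P.isPGroup' hidx
      (P := Subgroup.zpowers (g⁻¹ * (z * t) * g)) (by rwa [Subgroup.zpowers_le]) hw
    have h5 := hh _ (Subgroup.mem_zpowers _)
    have h6 := hPz _ h5
    -- s = (g * h⁻¹) * z * (g * h⁻¹)⁻¹ commutes with z * t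
    set s := (g * h⁻¹) * z * (g * h⁻¹)⁻¹ with hs
    have h7 : s ∈ Subgroup.centralizer ({z * t} : Set G) := by
      rw [Subgroup.mem_centralizer_singleton_iff]
      have e1 : s * (z * t) = (g * h⁻¹) * (z * (h * (g⁻¹ * (z * t) * g) * h⁻¹)) * (g * h⁻¹)⁻¹ := by
        rw [hs]; group
      rw [e1, ← h6, hs]; group
    have h8 : s ∈ H := h2 t ht hne hcomm h7
    have h9 : (g * h⁻¹)⁻¹ ∈ H := by
      rw [← h0']
      have : ((g * h⁻¹)⁻¹)⁻¹ * z * (g * h⁻¹)⁻¹ = s := by rw [hs]; group
      rwa [this]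
    have h10 : g * h⁻¹ ∈ H := by simpa using H.inv_mem h9
    have : g = (g * h⁻¹) * h := by group
    rw [this]
    exact H.mul_mem h10 hhH

end Cfsg.Agent.S1922
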