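import Cfsg.Agent.H64.KM9

set_option autoImplicit false
open Cfsg

namespace Cfsg.Agent.S2029

/-- Let p be an odd prime and G a finite group that is both of local characteristic p (p divides its order and every p-local subgroup N satisfies C_N(O_p(N)) ≤ O_p(N)) and of characteristic 2 type (even order and every 2-local subgroup M satisfies C_M(O_2(M)) ≤ O_2(M)). Then every 2-local subgroup of G has p-rank at most 2. -/
theorem result {G : Type*} [Group G] [Finite G] (p : ℕ) [Fact p.Prime] (hp : p ≠ 2) (hGp : Cfsg.IsOfLocalCharacteristic p G) (hG2 : Cfsg.IsCharacteristicTwoType G) : Cfsg.TwoLocalPRankLE p 2 G := by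
  classical
  have hcore2 : ∀ T : Subgroup G, IsPGroup 2 T → T ≠ ⊥ → ∃ O : Subgroup G, H64.KM.LCore 2 T O := by
    haveI : Fact (Nat.Prime 2) := ⟨Nat.prime_two⟩
    intro T hT hT1
    exact H64.KM.lcore_of T hT (hG2.2 T hT hT1)
  have hcorep : ∀ T : Subgroup G, IsPGroup p T → T ≠ ⊥ → ∃ O : Subgroup G, H64.KM.LCore p T O := by
    intro T hT hT1
    exact H64.KM.lcore_of T hT (hGp.2 T hT hT1)
  have hp1 := (Fact.out : p.Prime).one_lt
  intro N hN A₀ hA₀c hA₀p
  obtain ⟨T₀, hT₀, hT₀1, rfl⟩ := hN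
  by_contra hlt
  push Not at hlt
  set A : Subgroup G := A₀.map (Subgroup.normalizer (T₀ : Set G)).subtype with hA
  have hAe : Cfsg.IsElementaryAbelian p A := by
    rw [H30.isElementaryAbelian_iff]
    constructor
    · rintro _ ⟨x, hx, rfl⟩ _ ⟨y, hy, rfl⟩
      have := H30.mul_comm_of_isMulCommutative hA₀c hx hy
      exact congrArg Subtype.val this
    · rintro _ ⟨x, hx, rfl⟩
      have := hA₀p x hx
      exact congrArg Subtype.val this
  have hAN : A ≤ Subgroup.normalizer (T₀ : Set G) := Subgroup.map_subtype_le _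
  have hAc : Nat.card A = Nat.card A₀ :=
    Subgroup.card_map_of_injective (Subgroup.subtype_injective _)
  let Q : ℕ → Prop := fun m => ∃ X T : Subgroup G, Cfsg.IsElementaryAbelian p X ∧ IsPGroup 2 T ∧ T ≠ ⊥ ∧
    X ≤ Subgroup.normalizer (T : Set G) ∧ Nat.card X = p ^ m
  have hbound : ∀ m, Q m → m ≤ Nat.card G := by
    rintro m ⟨X, T, -, -, -, -, hX⟩
    have h1 : Nat.card X ≤ Nat.card G := Subgroup.card_le_card_group X
    rw [hX] at h1
    exact (Nat.lt_pow_self hp1).le.trans h1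
  obtain ⟨k, hk⟩ := IsPGroup.iff_card.1 (H30.isPGroup_of_isElementaryAbelian hAe)
  have hQk : Q k := ⟨A, T₀, hAe, hT₀, hT₀1, hAN, hk⟩
  set n := Nat.findGreatest Q (Nat.card G) with hn
  have hQn : Q n := Nat.findGreatest_spec (hbound k hQk) hQk
  have hkn : k ≤ n := Nat.le_findGreatest (hbound k hQk) hQk
  have hk3 : 2 < k := by
    rw [← hAc, hk] at hlt
    exact (Nat.pow_lt_pow_iff_right hp1).1 hlt
  have hyp : H64.KM.Hyp G p n := by
    refine ⟨hp, by omega, hcore2, hcorep, ?_⟩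
    intro X T hX hT hT1 hXT
    obtain ⟨j, hj⟩ := IsPGroup.iff_card.1 (H30.isPGroup_of_isElementaryAbelian hX)
    have hQj : Q j := ⟨X, T, hX, hT, hT1, hXT, hj⟩
    have hjn : j ≤ n := Nat.le_findGreatest (hbound j hQj) hQj
    rw [hj]
    exact Nat.pow_le_pow_right (by omega) hjn
  obtain ⟨X, T, hX, hT, hT1, hXT, hXc⟩ := hQn
  exact hyp.false hX hXc hT hT1 hXT

end Cfsg.Agent.S2029
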