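import Cfsg.Statements.S2066
import Cfsg.Agent.PermTab.J2Aut
import Cfsg.Agent.Ico.Group

set_option autoImplicit false
open Cfsg

namespace Cfsg.Agent.S2066

theorem out_congr {G H : Type*} [Group G] [Group H] (e : G ≃* H) :
    Nonempty (Cfsg.Out G ≃* Cfsg.Out H) := by
  refine ⟨QuotientGroup.congr _ _ (MulAut.congr e) ?_⟩
  ext x
  constructor
  · rintro ⟨_, ⟨g, rfl⟩, rfl⟩
    refine ⟨e g, ?_⟩
    ext y
    change e g * y * (e g)⁻¹ = e (g * e.symm y * g⁻¹)
    rw [map_mul, map_mul, map_inv, MulEquiv.apply_symm_apply]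
  · rintro ⟨h, rfl⟩
    refine ⟨MulAut.conj (e.symm h), ⟨_, rfl⟩, ?_⟩
    ext y
    change e (e.symm h * e.symm y * (e.symm h)⁻¹) = h * y * h⁻¹
    rw [map_mul, map_mul, map_inv, MulEquiv.apply_symm_apply, MulEquiv.apply_symm_apply]

/-- The outer automorphism group of the Hall–Janko group J₂ (the icosian reflection group modulo its centre) has order 2. -/
theorem result : Nat.card (Cfsg.Out Cfsg.Spor.J2) = 2 := by
  rw [← Cfsg.Agent.J2Tab.card_out_J]
  obtain ⟨e⟩ := out_congr Cfsg.Agent.Ico.isoJ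
  exact Nat.card_congr e.toEquiv

end Cfsg.Agent.S2066
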