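import Cfsg.Statements.S2219
import Cfsg.Agent.S1011
import Cfsg.Agent.S1020
import Cfsg.Agent.H4.K3CycE
import Cfsg.Agent.H4.K3QB
import Cfsg.Agent.H89.K3Contra
import Cfsg.Agent.H1.K3Cases
import Cfsg.Agent.H76.K3D

set_option autoImplicit false
open Cfsg

namespace Cfsg.Agent.S2219

/-- Let G be a non-abelian finite simple group of order 9·2ᵃ·qᵇ for a prime q other than 2 and 3, having at least three conjugacy classes of nonidentity 3-elements (elements of order 3 or 9). Then G is isomorphic to PSL(2,8) or to PSL(2,17). -/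
theorem result {G : Type*} [Group G] [Finite G] [IsSimpleGroup G] (hG : ¬ IsMulCommutative G)
    (q a b : ℕ) (hq : q.Prime) (hq2 : q ≠ 2) (hq3 : q ≠ 3) (hcard : Nat.card G = 9 * 2 ^ a * q ^ b)
    (h3 : 3 ≤ Nat.card {C : ConjClasses G // ∃ g ∈ C.carrier, g ≠ 1 ∧ orderOf g ∣ 9}) :
    (∃ (F : Type) (_ : Field F) (_ : Fintype F), Fintype.card F = 8 ∧
        Nonempty (G ≃* Matrix.ProjectiveSpecialLinearGroup (Fin 2) F)) ∨
      Nonempty (G ≃* Matrix.ProjectiveSpecialLinearGroup (Fin 2) (ZMod 17)) := by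
  classical
  have : Fact (Nat.Prime 3) := ⟨Nat.prime_three⟩
  have : Fact (Nat.Prime 2) := ⟨Nat.prime_two⟩
  have : Fact (Nat.Prime 17) := ⟨by norm_num⟩
  obtain ⟨P⟩ : Nonempty (Sylow 3 G) := inferInstance
  rcases H1.K3.cases hG q a b hq hq2 hq3 hcard h3 P with ⟨hc, hidx, -, hN⟩ | ⟨k1, k2, e1, e2, S⟩
  · have NL : ∀ i, Nat.card G = 9 * 2 ^ a * q → 6 ≤ i → (q = 2 ^ i + 1 ∨ q + 1 = 2 ^ i) → False :=
      fun i h1 h2 h3' => H4.K3.no_large hG hq h1 h2 h3'
    rcases H4.K3.cyclic_case hG hq hq2 hq3 hcard NL P hc hidx hN with h | h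
    · left
      haveI : Fintype (GaloisField 2 3) := Fintype.ofFinite _
      have hF : Fintype.card (GaloisField 2 3) = 8 := by
        rw [← Nat.card_eq_fintype_card, GaloisField.card 2 3 (by norm_num)]
        norm_num
      exact ⟨GaloisField 2 3, inferInstance, inferInstance, hF, S1011.result h hF⟩
    · right
      exact S1020.result h (F := ZMod 17) (by rw [ZMod.card])
  · exfalso
    have : Finite (IrrCharacter G) := inferInstance
    haveI : Fintype (IrrCharacter G) := Fintype.ofFinite _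
    obtain ⟨p, p', V⟩ := H76.K3.exists_vec S
    exact H89.K3Contra.contra hG hq hq2 hq3 hcard V (H4.K3.tri hG hq hq2 hq3 hcard)
      (H4.K3.van hG hq hq2 hq3 hcard)

end Cfsg.Agent.S2219
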