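import Cfsg.Statements.S2271
import Mathlib

set_option autoImplicit false
open Cfsg

namespace Cfsg.Agent.S2271

open Equiv

/-- number of fixed points -/
noncomputable def fx {n : ℕ} (σ : Perm (Fin n)) : ℕ := Nat.card (Function.fixedPoints ⇑σ)

theorem fx_eq {n : ℕ} (σ : Perm (Fin n)) : fx σ = (Finset.univ.filter (fun x => σ x = x)).card := by
  classical
  unfold fx
  rw [Nat.card_eq_fintype_card]
  exact Fintype.card_of_subtype _ (fun x => by simp [Function.mem_fixedPoints, Function.IsFixedPt])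

theorem fx_conj {n : ℕ} (σ g : Perm (Fin n)) : fx (g * σ * g⁻¹) = fx σ := by
  classical
  rw [fx_eq, fx_eq]
  apply Finset.card_bij (fun x _ => g⁻¹ x)
  · intro x hx
    rw [Finset.mem_filter] at hx ⊢
    refine ⟨Finset.mem_univ _, ?_⟩
    rw [Perm.eq_inv_iff_eq]
    exact hx.2
  · intro x _ y _ h
    exact g⁻¹.injective h
  · intro y hy
    refine ⟨g y, ?_, by simp⟩
    rw [Finset.mem_filter] at hy ⊢
    refine ⟨Finset.mem_univ _, ?_⟩
    have : g⁻¹ (g y) = y := by simp
    simp only [Perm.mul_apply, this, hy.2]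

/-- `k`-transitivity of the alternating group, elementary form -/
theorem exists_even_map {n k : ℕ} (hk : k + 2 ≤ n) (x y : Fin k → Fin n) (hx : Function.Injective x)
    (hy : Function.Injective y) : ∃ g ∈ alternatingGroup (Fin n), ∀ i, g (x i) = y i := by
  have h1 := alternatingGroup.isMultiplyPretransitive (Fin n)
  have h2 : MulAction.IsMultiplyPretransitive (alternatingGroup (Fin n)) (Fin n) k := by
    apply MulAction.isMultiplyPretransitive_of_le (n := Nat.card (Fin n) - 2)
    · rw [Nat.card_fin]; omega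
    · exact Nat.sub_le _ _
  obtain ⟨g, hg⟩ := h2.exists_smul_eq ⟨x, hx⟩ ⟨y, hy⟩
  refine ⟨g, g.2, fun i => ?_⟩
  have := DFunLike.congr_fun hg i
  exact this

/-- the number of even permutations mapping one pair of distinct points to another one -/
theorem card_pair {n : ℕ} (hn : 5 ≤ n) (y y' x x' y₁ y₁' x₁ x₁' : Fin n) (hy : y ≠ y') (hx : x ≠ x')
    (hy₁ : y₁ ≠ y₁') (hx₁ : x₁ ≠ x₁') :
    (Finset.univ.filter (fun h : alternatingGroup (Fin n) => (h : Perm (Fin n)) y = x ∧ (h : Perm (Fin n)) y' = x')).card =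
    (Finset.univ.filter (fun h : alternatingGroup (Fin n) => (h : Perm (Fin n)) y₁ = x₁ ∧ (h : Perm (Fin n)) y₁' = x₁')).card := by
  obtain ⟨u, hu, hu'⟩ := exists_even_map (k := 2) (by omega) ![y₁, y₁'] ![y, y']
    (by
      intro i j hij
      fin_cases i <;> fin_cases j <;> simp_all)
    (by
      intro i j hij
      fin_cases i <;> fin_cases j <;> simp_all)
  obtain ⟨v, hv, hv'⟩ := exists_even_map (k := 2) (by omega) ![x, x'] ![x₁, x₁']
    (by
      intro i j hij
      fin_cases i <;> fin_cases j <;> simp_all)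
    (by
      intro i j hij
      fin_cases i <;> fin_cases j <;> simp_all)
  have hu0 := hu' 0
  have hu1 := hu' 1
  have hv0 := hv' 0
  have hv1 := hv' 1
  simp at hu0 hu1 hv0 hv1
  apply Finset.card_bij (fun h _ => (⟨v, hv⟩ : alternatingGroup (Fin n)) * h * ⟨u, hu⟩)
  · intro h hh
    simp only [Finset.mem_filter, Finset.mem_univ, true_and] at hh ⊢
    simp [hu0, hu1, hh.1, hh.2, hv0, hv1]
  · intro h _ h' _ heq
    simpa using heq
  · intro h hh
    simp only [Finset.mem_filter, Finset.mem_univ, true_and] at hh ⊢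
    refine ⟨(⟨v, hv⟩ : alternatingGroup (Fin n))⁻¹ * h * (⟨u, hu⟩ : alternatingGroup (Fin n))⁻¹, ?_, ?_⟩
    · have e1 : u⁻¹ y = y₁ := by rw [Perm.inv_eq_iff_eq, hu0]
      have e2 : u⁻¹ y' = y₁' := by rw [Perm.inv_eq_iff_eq, hu1]
      have e3 : v⁻¹ x₁ = x := by rw [Perm.inv_eq_iff_eq, hv0]
      have e4 : v⁻¹ x₁' = x' := by rw [Perm.inv_eq_iff_eq, hv1]
      simp only [Subgroup.coe_mul, Subgroup.coe_inv, Perm.mul_apply, e1, e2, hh.1, hh.2, e3, e4, and_self]
    · group

/-- fixed points of the product, read off at `y = h⁻¹ x` -/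
theorem fx_prod {n : ℕ} (a b h : Perm (Fin n)) :
    fx (a * (h * b * h⁻¹)) = (Finset.univ.filter (fun y => a (h (b y)) = h y)).card := by
  have : fx (a * (h * b * h⁻¹)) = fx (h⁻¹ * a * h * b) := by
    rw [← fx_conj (h⁻¹ * a * h * b) h]
    congr 1
    group
  rw [this, fx_eq]
  congr 1
  apply Finset.filter_congr
  intro y _
  change h⁻¹ (a (h (b y))) = y ↔ _
  rw [Perm.inv_eq_iff_eq]

theorem average {n : ℕ} (hn : 5 ≤ n) (a b : Perm (Fin n)) :
    ∃ K : ℕ, 0 < K ∧ Fintype.card (alternatingGroup (Fin n)) = n * ((n - 1) * K) ∧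
      ∑ h : alternatingGroup (Fin n), fx (a * ((h : Perm (Fin n)) * b * (h : Perm (Fin n))⁻¹)) =
        fx b * (fx a * ((n - 1) * K)) + (n - fx b) * ((n - fx a) * K) := by
  classical
  let z0 : Fin n := ⟨0, by omega⟩
  let z1 : Fin n := ⟨1, by omega⟩
  have hz : z0 ≠ z1 := by
    intro h
    have := congrArg Fin.val h
    simp [z0, z1] at this
  set K := (Finset.univ.filter (fun h : alternatingGroup (Fin n) => (h : Perm (Fin n)) z0 = z0 ∧ (h : Perm (Fin n)) z1 = z1)).card with hK
  have hpair : ∀ y y' x x' : Fin n, y ≠ y' → x ≠ x' →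
      (Finset.univ.filter (fun h : alternatingGroup (Fin n) => (h : Perm (Fin n)) y = x ∧ (h : Perm (Fin n)) y' = x')).card = K :=
    fun y y' x x' hy hx => card_pair hn y y' x x' z0 z1 z0 z1 hy hx hz hz
  have hKpos : 0 < K := by
    rw [hK, Finset.card_pos]
    exact ⟨1, by simp⟩
  have hsingle : ∀ y x : Fin n,
      (Finset.univ.filter (fun h : alternatingGroup (Fin n) => (h : Perm (Fin n)) y = x)).card = (n - 1) * K := by
    intro y x
    obtain ⟨y', hy'⟩ : ∃ y' : Fin n, y ≠ y' := by
      by_cases h : y = z0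
      · exact ⟨z1, by rw [h]; exact hz⟩
      · exact ⟨z0, h⟩
    have := Finset.card_eq_sum_card_fiberwise (s := Finset.univ.filter (fun h : alternatingGroup (Fin n) => (h : Perm (Fin n)) y = x))
      (t := Finset.univ.erase x) (f := fun h : alternatingGroup (Fin n) => (h : Perm (Fin n)) y') (by
        intro h hh
        simp only [Finset.coe_filter, Finset.mem_univ, true_and, Set.mem_ofPred_eq] at hh
        simp only [Finset.coe_erase, Finset.coe_univ, Set.mem_sdiff, Set.mem_univ, true_and, Set.mem_singleton_iff]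
        rw [← hh]
        intro h'
        exact hy' ((h : Perm (Fin n)).injective h').symm)
    rw [this, Finset.sum_congr rfl (g := fun _ => K), Finset.sum_const, Finset.card_erase_of_mem (Finset.mem_univ _),
      Finset.card_univ, Fintype.card_fin, smul_eq_mul]
    intro x' hx'
    rw [Finset.filter_filter]
    exact hpair y y' x x' hy' (Finset.ne_of_mem_erase hx').symm
  refine ⟨K, hKpos, ?_, ?_⟩
  · have := Finset.card_eq_sum_card_fiberwise (s := (Finset.univ : Finset (alternatingGroup (Fin n))))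
      (t := Finset.univ) (f := fun h : alternatingGroup (Fin n) => (h : Perm (Fin n)) z0) (by
        intro h _; simp)
    rw [← Finset.card_univ, this, Finset.sum_congr rfl (g := fun _ => (n - 1) * K), Finset.sum_const, Finset.card_univ,
      Fintype.card_fin, smul_eq_mul]
    intro x _
    exact hsingle z0 x
  · have h1 : ∀ h : alternatingGroup (Fin n), fx (a * ((h : Perm (Fin n)) * b * (h : Perm (Fin n))⁻¹)) =
        ∑ y : Fin n, if a ((h : Perm (Fin n)) (b y)) = (h : Perm (Fin n)) y then 1 else 0 := by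
      intro h
      rw [fx_prod, Finset.card_filter]
    rw [Finset.sum_congr rfl (fun h _ => h1 h), Finset.sum_comm]
    have h2 : ∀ y : Fin n, (∑ h : alternatingGroup (Fin n), if a ((h : Perm (Fin n)) (b y)) = (h : Perm (Fin n)) y then 1 else 0) =
        if b y = y then fx a * ((n - 1) * K) else (n - fx a) * K := by
      intro y
      rw [← Finset.card_filter]
      split_ifs with hy
      · simp only [hy]
        have := Finset.card_eq_sum_card_fiberwise (s := Finset.univ.filter (fun h : alternatingGroup (Fin n) => a ((h : Perm (Fin n)) y) = (h : Perm (Fin n)) y))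
          (t := Finset.univ.filter (fun x => a x = x)) (f := fun h : alternatingGroup (Fin n) => (h : Perm (Fin n)) y) (by
            intro h hh
            simpa using hh)
        rw [this, Finset.sum_congr rfl (g := fun _ => (n - 1) * K), Finset.sum_const, smul_eq_mul, ← fx_eq]
        intro x hx
        rw [← hsingle y x, Finset.filter_filter]
        congr 1
        ext h
        simp only [Finset.mem_filter, Finset.mem_univ, true_and] at hx ⊢
        constructor
        · exact fun h => h.2
        · intro h'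
          rw [h']
          exact ⟨hx, rfl⟩
      · have := Finset.card_eq_sum_card_fiberwise (s := Finset.univ.filter (fun h : alternatingGroup (Fin n) => a ((h : Perm (Fin n)) (b y)) = (h : Perm (Fin n)) y))
          (t := Finset.univ.filter (fun x => ¬ a x = x)) (f := fun h : alternatingGroup (Fin n) => (h : Perm (Fin n)) y) (by
            intro h hh
            simp only [Finset.coe_filter, Finset.mem_univ, true_and, Set.mem_ofPred_eq] at hh ⊢
            intro h'
            apply hy
            rw [← h'] at hh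
            exact (h : Perm (Fin n)).injective (a.injective hh))
        rw [this, Finset.sum_congr rfl (g := fun _ => K), Finset.sum_const, smul_eq_mul]
        · congr 1
          rw [fx_eq]
          have h3 := Finset.card_filter_add_card_filter_not (s := (Finset.univ : Finset (Fin n))) (fun x => a x = x)
          rw [Finset.card_univ, Fintype.card_fin] at h3
          omega
        · intro x hx
          rw [Finset.filter_filter]
          simp only [Finset.mem_filter, Finset.mem_univ, true_and] at hx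
          rw [← hpair y (b y) x (a⁻¹ x) (fun h => hy h.symm) (by
            intro h; apply hx; rw [Perm.eq_inv_iff_eq] at h; exact h)]
          congr 1
          ext h
          simp only [Finset.mem_filter, Finset.mem_univ, true_and]
          constructor
          · rintro ⟨h4, h5⟩
            rw [h5] at h4
            exact ⟨h5, by rw [Perm.eq_inv_iff_eq]; exact h4⟩
          · rintro ⟨h4, h5⟩
            rw [h5, h4]
            simp
    rw [Finset.sum_congr rfl (fun y _ => h2 y), Finset.sum_ite, Finset.sum_const, Finset.sum_const, smul_eq_mul, smul_eq_mul,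
      ← fx_eq]
    congr 2
    rw [fx_eq]
    have h3 := Finset.card_filter_add_card_filter_not (s := (Finset.univ : Finset (Fin n))) (fun x => b x = x)
    rw [Finset.card_univ, Fintype.card_fin] at h3
    omega

theorem fx_le {n : ℕ} (a : Perm (Fin n)) (ha : a ≠ 1) : fx a + 2 ≤ n := by
  classical
  have h1 := Perm.two_le_card_support_of_ne_one ha
  have h3 := Finset.card_filter_add_card_filter_not (s := (Finset.univ : Finset (Fin n))) (fun x => a x = x)
  rw [Finset.card_univ, Fintype.card_fin, ← fx_eq] at h3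
  have h4 : a.support = Finset.univ.filter (fun x => ¬ a x = x) := by
    ext x; simp
  rw [h4] at h1
  omega

theorem four_points {n : ℕ} (hn : 5 ≤ n) (a b h : Perm (Fin n)) (x1 x2 y1 y2 : Fin n) (hx : x1 ≠ x2)
    (h1 : h y1 = x1) (h2 : h (b y1) = a⁻¹ x1) (h3 : h y2 = x2) (h4 : h (b y2) = a⁻¹ x2) :
    2 ≤ fx (a * (h * b * h⁻¹)) := by
  classical
  rw [fx_prod]
  have : ({y1, y2} : Finset (Fin n)) ⊆ Finset.univ.filter (fun y => a (h (b y)) = h y) := by
    intro y hy
    rw [Finset.mem_filter]
    refine ⟨Finset.mem_univ _, ?_⟩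
    rw [Finset.mem_insert, Finset.mem_singleton] at hy
    rcases hy with rfl | rfl
    · rw [h2, h1]; simp
    · rw [h4, h3]; simp
  have h5 := Finset.card_le_card this
  rw [Finset.card_pair] at h5
  · exact h5
  · rintro rfl
    exact hx (h1.symm.trans h3)

theorem odd_commuting : ∀ a : Perm (Fin 5), Perm.sign a = 1 → (Finset.univ.filter (fun x => a x = x)).card = 1 →
    ∃ x, a (a x) = x ∧ a x ≠ x := by
  decide +kernel

theorem exists_not_mem {n : ℕ} (s : Finset (Fin n)) (hs : s.card < n) : ∃ x, x ∉ s := by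
  by_contra h
  push Not at h
  have : s = Finset.univ := Finset.eq_univ_of_forall h
  rw [this, Finset.card_univ, Fintype.card_fin] at hs
  exact lt_irrefl _ hs

theorem case_one_zero {n : ℕ} (hn : 5 ≤ n) (a b : Perm (Fin n)) (ha : fx a = 1) (hb : fx b = 0) :
    ∃ h ∈ alternatingGroup (Fin n), 2 ≤ fx (a * (h * b * h⁻¹)) := by
  classical
  have hb' : ∀ y, b y ≠ y := by
    intro y hy
    rw [fx_eq, Finset.card_eq_zero, Finset.filter_eq_empty_iff] at hb
    exact hb (Finset.mem_univ y) hy
  obtain ⟨p, hp⟩ := Finset.card_eq_one.1 ((fx_eq a).symm.trans ha)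
  have ha' : ∀ x, x ≠ p → a x ≠ x := by
    intro x hx h
    have : x ∈ Finset.univ.filter (fun x => a x = x) := by simp [h]
    rw [hp, Finset.mem_singleton] at this
    exact hx this
  obtain ⟨y1, -⟩ := exists_not_mem (∅ : Finset (Fin n)) (by simp; omega)
  obtain ⟨y2, hy2⟩ := exists_not_mem ({y1, b y1, b⁻¹ y1} : Finset (Fin n)) (lt_of_le_of_lt Finset.card_le_three (by omega))
  obtain ⟨x1, hx1⟩ := exists_not_mem ({p} : Finset (Fin n)) (by simp; omega)
  obtain ⟨x2, hx2⟩ := exists_not_mem ({p, x1, a x1, a⁻¹ x1} : Finset (Fin n)) (lt_of_le_of_lt Finset.card_le_four (by omega))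
  simp only [Finset.mem_insert, Finset.mem_singleton, not_or] at hy2 hx1 hx2
  obtain ⟨hy2a, hy2b, hy2c⟩ := hy2
  obtain ⟨hx2p, hx2a, hx2b, hx2c⟩ := hx2
  have hax1 := ha' x1 hx1
  have hax2 := ha' x2 hx2p
  have hby2 : b y2 ≠ y1 := by
    intro h
    apply hy2c
    rw [Perm.eq_inv_iff_eq]; exact h
  have hinjy : Function.Injective ![y1, b y1, y2, b y2] := by
    have e1 : y1 ≠ b y1 := (hb' y1).symm
    have e2 : y1 ≠ y2 := Ne.symm hy2a
    have e3 : y1 ≠ b y2 := hby2.symm
    have e4 : b y1 ≠ y2 := Ne.symm hy2b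
    have e5 : b y1 ≠ b y2 := fun h => e2 (b.injective h)
    have e6 : y2 ≠ b y2 := (hb' y2).symm
    intro i j hij
    fin_cases i <;> fin_cases j <;> simp_all
  have hinjx : Function.Injective ![x1, a⁻¹ x1, x2, a⁻¹ x2] := by
    have e1 : x1 ≠ a⁻¹ x1 := by
      intro h; apply hax1; rw [Perm.eq_inv_iff_eq] at h; exact h
    have e2 : x1 ≠ x2 := Ne.symm hx2a
    have e3 : x1 ≠ a⁻¹ x2 := by
      intro h; apply hx2b; rw [Perm.eq_inv_iff_eq] at h; exact h.symm
    have e4 : a⁻¹ x1 ≠ x2 := Ne.symm hx2c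
    have e5 : a⁻¹ x1 ≠ a⁻¹ x2 := fun h => e2 (a⁻¹.injective h)
    have e6 : x2 ≠ a⁻¹ x2 := by
      intro h; apply hax2; rw [Perm.eq_inv_iff_eq] at h; exact h
    clear hp ha' hb' hax1 hax2 ha hb
    intro i j hij
    fin_cases i <;> fin_cases j <;> simp_all
  rcases Nat.lt_or_ge n 6 with h6 | h6
  · have h5 : n = 5 := by omega
    subst h5
    obtain ⟨h, hh⟩ := Equiv.Perm.exists_extending_pair _ _ hinjy hinjx
    have h0 := hh 0
    have h1 := hh 1
    have h2 := hh 2
    have h3 := hh 3
    simp at h0 h1 h2 h3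
    have hfx := four_points hn a b h x1 x2 y1 y2 (Ne.symm hx2a) h0 (by simpa using h1) h2 (by simpa using h3)
    rcases Int.units_eq_one_or (Perm.sign h) with hs | hs
    · exact ⟨h, Perm.mem_alternatingGroup.2 hs, hfx⟩
    · -- an odd permutation commuting with `a`
      obtain ⟨z, hz, hza⟩ : ∃ z : Perm (Fin 5), Perm.sign z = -1 ∧ z⁻¹ * a * z = a := by
        rcases Int.units_eq_one_or (Perm.sign a) with hsa | hsa
        · obtain ⟨x, hx, hx'⟩ := odd_commuting a hsa ((fx_eq a).symm.trans ha)
          refine ⟨Equiv.swap x (a x), Perm.sign_swap hx'.symm, ?_⟩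
          rw [mul_assoc, inv_mul_eq_iff_eq_mul]
          have e := Equiv.swap_apply_apply a x (a x)
          rw [hx, Equiv.swap_comm] at e
          nth_rewrite 2 [e]
          group
        · exact ⟨a, hsa, by group⟩
      refine ⟨z * h, ?_, ?_⟩
      · rw [Perm.mem_alternatingGroup, map_mul, hz, hs]; norm_num
      · have : a * (z * h * b * (z * h)⁻¹) = z * (a * (h * b * h⁻¹)) * z⁻¹ := by
          nth_rewrite 2 [← hza]
          group
        rw [this, fx_conj]
        exact hfx
  · obtain ⟨h, hA, hh⟩ := exists_even_map (k := 4) (by omega) _ _ hinjy hinjx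
    have h0 := hh 0
    have h1 := hh 1
    have h2 := hh 2
    have h3 := hh 3
    simp at h0 h1 h2 h3
    exact ⟨h, hA, four_points hn a b h x1 x2 y1 y2 (Ne.symm hx2a) h0 (by simpa using h1) h2 (by simpa using h3)⟩

theorem case_pos_one {n : ℕ} (hn : 5 ≤ n) (a b : Perm (Fin n)) (ha1 : a ≠ 1) (hb1 : b ≠ 1) (ha : 1 ≤ fx a) (hb : fx b = 1) :
    ∃ h ∈ alternatingGroup (Fin n), 2 ≤ fx (a * (h * b * h⁻¹)) := by
  classical
  obtain ⟨p, hp⟩ : ∃ p, a p = p := by
    rw [fx_eq] at ha
    obtain ⟨p, hp⟩ := Finset.card_pos.1 ha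
    exact ⟨p, (Finset.mem_filter.1 hp).2⟩
  obtain ⟨q, hq⟩ : ∃ q, b q = q := by
    rw [fx_eq] at hb
    obtain ⟨p, hp⟩ := Finset.card_pos.1 (hb.symm ▸ Nat.one_pos : 0 < _)
    exact ⟨p, (Finset.mem_filter.1 hp).2⟩
  obtain ⟨u, hu⟩ : ∃ u, b u ≠ u := by
    by_contra h; push Not at h; exact hb1 (Equiv.ext h)
  obtain ⟨v, hv⟩ : ∃ v, a v ≠ v := by
    by_contra h; push Not at h; exact ha1 (Equiv.ext h)
  obtain ⟨h, hA, hh⟩ := exists_even_map (n := n) (k := 3) (by omega) ![q, u, b u] ![p, v, a⁻¹ v]
    (by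
      have e1 : q ≠ u := by rintro rfl; exact hu hq
      have e2 : q ≠ b u := by
        intro h; apply e1; apply b.injective; rw [hq]; exact h
      have e3 : u ≠ b u := hu.symm
      intro i j hij
      fin_cases i <;> fin_cases j <;> simp_all)
    (by
      have e1 : p ≠ v := by rintro rfl; exact hv hp
      have e2 : p ≠ a⁻¹ v := by
        intro h; rw [Perm.eq_inv_iff_eq, hp] at h; exact e1 h
      have e3 : v ≠ a⁻¹ v := by
        intro h; rw [Perm.eq_inv_iff_eq] at h; exact hv h
      clear hp hq ha hb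
      intro i j hij
      fin_cases i <;> fin_cases j <;> simp_all)
  have h0 := hh 0
  have h1 := hh 1
  have h2 := hh 2
  simp at h0 h1 h2
  refine ⟨h, hA, four_points hn a b h p v q u (by rintro rfl; exact hv hp) h0 ?_ h1 (by simpa using h2)⟩
  rw [hq, h0, Perm.eq_inv_iff_eq, hp]

theorem case_big {n : ℕ} (hn : 5 ≤ n) (a b : Perm (Fin n)) (hb1 : b ≠ 1) (hab : fx b ≤ fx a) :
    ∃ h ∈ alternatingGroup (Fin n), fx b ≤ fx (a * (h * b * h⁻¹)) := by
  classical
  have hle := fx_le b hb1
  set k := fx b with hk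
  have hSb : (Finset.univ.filter (fun x => b x = x)).card = k := (fx_eq b).symm
  obtain ⟨T, hT, hTk⟩ := Finset.exists_subset_card_eq (s := Finset.univ.filter (fun x => a x = x)) (n := k)
    (by rw [← fx_eq]; exact hab)
  let eb := (Finset.univ.filter (fun x => b x = x)).orderEmbOfFin hSb
  let ea := T.orderEmbOfFin hTk
  obtain ⟨h, hA, hh⟩ := exists_even_map (k := k) hle (fun i => eb i) (fun i => ea i) eb.injective ea.injective
  refine ⟨h, hA, ?_⟩
  rw [fx_prod, ← hSb]
  apply Finset.card_le_card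
  intro y hy
  rw [Finset.mem_filter] at hy ⊢
  refine ⟨Finset.mem_univ _, ?_⟩
  rw [hy.2]
  have hy' : y ∈ Finset.univ.filter (fun x => b x = x) := by
    rw [Finset.mem_filter]; exact hy
  have : y ∈ Set.range eb := by
    rw [Finset.range_orderEmbOfFin]; exact hy'
  obtain ⟨i, rfl⟩ := this
  have e : h (eb i) = ea i := hh i
  rw [e]
  have : ea i ∈ T := Finset.orderEmbOfFin_mem _ _ _
  exact (Finset.mem_filter.1 (hT this)).2

theorem not_constant {n : ℕ} (hn : 5 ≤ n) (a b : Perm (Fin n)) (ha1 : a ≠ 1) (hb1 : b ≠ 1) (hab : fx b ≤ fx a) (c : ℕ)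
    (hc : ∀ h ∈ alternatingGroup (Fin n), fx (a * (h * b * h⁻¹)) = c) : False := by
  obtain ⟨K, hK, hcard, hsum⟩ := average hn a b
  have hla := fx_le a ha1
  have hlb := fx_le b hb1
  have hsum' : ∑ h : alternatingGroup (Fin n), fx (a * ((h : Perm (Fin n)) * b * (h : Perm (Fin n))⁻¹)) =
      ∑ h : alternatingGroup (Fin n), c := Finset.sum_congr rfl (fun h _ => hc _ h.2)
  rw [hsum', Finset.sum_const, Finset.card_univ, hcard, smul_eq_mul] at hsum
  -- cancel `K`
  have hkey : ((n : ℤ) - 1) * ((c : ℤ) - 1) = ((fx a : ℤ) - 1) * ((fx b : ℤ) - 1) := by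
    have h1 : ((n : ℤ)) * (((n : ℤ) - 1) * K) * c = (fx b : ℤ) * (fx a * (((n : ℤ) - 1) * K)) + ((n : ℤ) - fx b) * (((n : ℤ) - fx a) * K) := by
      have := congrArg (fun m : ℕ => (m : ℤ)) hsum
      simp only [Nat.cast_mul, Nat.cast_add] at this
      rw [Nat.cast_sub (by omega : 1 ≤ n), Nat.cast_sub (by omega : fx b ≤ n), Nat.cast_sub (by omega : fx a ≤ n)] at this
      simpa using this
    have hK' : (n : ℤ) * (K : ℤ) ≠ 0 := by
      have h1 : (n : ℤ) ≠ 0 := by
        have : 0 < n := by omega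
        exact_mod_cast this.ne'
      exact mul_ne_zero h1 (by exact_mod_cast hK.ne')
    apply mul_left_cancel₀ hK'
    linear_combination h1
  rcases Nat.lt_or_ge (fx b) 2 with h2 | h2
  · interval_cases hfb : fx b
    · -- no fixed points of `b`
      rcases Nat.lt_or_ge (fx a) 2 with h3 | h3
      · interval_cases hfa : fx a
        · -- (n-1)(c-1) = 1
          have hdvd : ((n : ℤ) - 1) ∣ 1 := Dvd.intro _ (by simpa using hkey)
          have := Int.le_of_dvd (by norm_num) hdvd
          omega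
        · obtain ⟨h, hA, hh⟩ := case_one_zero hn a b hfa hfb
          rw [hc h hA] at hh
          have : (c : ℤ) - 1 = 0 := by
            have h4 : ((n : ℤ) - 1) * ((c : ℤ) - 1) = 0 := by rw [hkey]; simp
            rcases mul_eq_zero.1 h4 with h | h
            · omega
            · exact h
          omega
      · exfalso
        have h4 : ((n : ℤ) - 1) * ((c : ℤ) - 1) = 1 - fx a := by rw [hkey]; push_cast; ring
        rcases Nat.eq_zero_or_pos c with h | h
        · rw [h] at h4
          push_cast at h4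
          have : (fx a : ℤ) = n := by linarith
          have : fx a = n := by exact_mod_cast this
          omega
        · have h5 : (0 : ℤ) ≤ ((n : ℤ) - 1) * ((c : ℤ) - 1) := by
            apply mul_nonneg <;> omega
          omega
    · obtain ⟨h, hA, hh⟩ := case_pos_one hn a b ha1 hb1 hab hfb
      rw [hc h hA] at hh
      have : (c : ℤ) - 1 = 0 := by
        have h4 : ((n : ℤ) - 1) * ((c : ℤ) - 1) = 0 := by rw [hkey]; simp
        rcases mul_eq_zero.1 h4 with h | h
        · omega
        · exact h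
      omega
  · obtain ⟨h, hA, hh⟩ := case_big hn a b hb1 hab
    rw [hc h hA] at hh
    have h3 : ((n : ℤ) - 1) * ((fx b : ℤ) - 1) ≤ ((fx a : ℤ) - 1) * ((fx b : ℤ) - 1) := by
      rw [← hkey]
      apply mul_le_mul_of_nonneg_left <;> omega
    have h4 := le_of_mul_le_mul_right h3 (by omega : (0 : ℤ) < (fx b : ℤ) - 1)
    omega

theorem result (n : ℕ) (hn : 5 ≤ n) (a b : Equiv.Perm (Fin n)) (ha : a ≠ 1) (hb : b ≠ 1) :
    ∃ g₁ h₁ g₂ h₂ : Equiv.Perm (Fin n), g₁ ∈ alternatingGroup (Fin n) ∧ h₁ ∈ alternatingGroup (Fin n) ∧ g₂ ∈ alternatingGroup (Fin n) ∧ h₂ ∈ alternatingGroup (Fin n) ∧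
      Nat.card (Function.fixedPoints ⇑(g₁ * a * g₁⁻¹ * (h₁ * b * h₁⁻¹))) ≠
        Nat.card (Function.fixedPoints ⇑(g₂ * a * g₂⁻¹ * (h₂ * b * h₂⁻¹))) := by
  by_contra hcon
  push Not at hcon
  have hcon' : ∀ g₁ ∈ alternatingGroup (Fin n), ∀ h₁ ∈ alternatingGroup (Fin n),
      fx (g₁ * a * g₁⁻¹ * (h₁ * b * h₁⁻¹)) = fx (a * b) := by
    intro g₁ hg₁ h₁ hh₁
    have := hcon g₁ h₁ 1 1 hg₁ hh₁ (one_mem _) (one_mem _)
    simpa [fx] using this
  rcases le_total (fx b) (fx a) with h | h
  · apply not_constant hn a b ha hb h (fx (a * b))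
    intro k hk
    have := hcon' 1 (one_mem _) k hk
    simpa using this
  · apply not_constant hn b a hb ha h (fx (a * b))
    intro k hk
    have := hcon' k hk 1 (one_mem _)
    rw [← this, ← fx_conj (k * a * k⁻¹ * (1 * b * 1⁻¹)) b]
    congr 1
    group

end Cfsg.Agent.S2271
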