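import Cfsg.Statements.S2272
import Cfsg.Agent.H39.TrProd
import Cfsg.Agent.H41.SourourSL

set_option autoImplicit false
open Cfsg

namespace Cfsg.Agent.S2272

/-- Let F be a finite field and d ≥ 3, and let a, b be non-identity elements of PSL_d(F). Then the product of the conjugacy classes of a and b is not a single conjugacy class: there are conjugates a′ of a and b′ of b such that a′b′ is not conjugate to ab. -/
theorem result {F : Type*} [Field F] [Fintype F] (d : ℕ) (hd : 3 ≤ d)
    (a b : Matrix.ProjectiveSpecialLinearGroup (Fin d) F) (ha : a ≠ 1) (hb : b ≠ 1) :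
    ∃ g h : Matrix.ProjectiveSpecialLinearGroup (Fin d) F, ¬ IsConj (a * b) (g * a * g⁻¹ * (h * b * h⁻¹)) := by
  classical
  by_contra hcon
  push Not at hcon
  obtain ⟨A, rfl⟩ := QuotientGroup.mk_surjective a
  obtain ⟨B, rfl⟩ := QuotientGroup.mk_surjective b
  have hA : A ∉ Subgroup.center (Matrix.SpecialLinearGroup (Fin d) F) := fun h => ha ((QuotientGroup.eq_one_iff _).2 h)
  have hB : B ∉ Subgroup.center (Matrix.SpecialLinearGroup (Fin d) F) := fun h => hb ((QuotientGroup.eq_one_iff _).2 h)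
  have hA' := Cfsg.Agent.H41.nonscalar_of_notMem_center A hA
  have hB' := Cfsg.Agent.H41.nonscalar_of_notMem_center B hB
  have key : ∀ G : Matrix.SpecialLinearGroup (Fin d) F,
      (((G : Matrix (Fin d) (Fin d) F) * A * ((G⁻¹ : Matrix.SpecialLinearGroup (Fin d) F) : Matrix (Fin d) (Fin d) F) * B).trace = 0 ↔
        ((A : Matrix (Fin d) (Fin d) F) * B).trace = 0) := by
    intro G
    have h1 := hcon (QuotientGroup.mk G) 1
    rw [one_mul, inv_one, mul_one] at h1
    obtain ⟨K, hK⟩ := isConj_iff.1 h1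
    obtain ⟨K, rfl⟩ := QuotientGroup.mk_surjective K
    have h2 : (QuotientGroup.mk (K * (A * B) * K⁻¹) : Matrix.ProjectiveSpecialLinearGroup (Fin d) F) =
        QuotientGroup.mk (G * A * G⁻¹ * B) := hK
    rw [QuotientGroup.eq, Matrix.SpecialLinearGroup.mem_center_iff] at h2
    obtain ⟨r, hr, hr2⟩ := h2
    have h3 : G * A * G⁻¹ * B = K * (A * B) * K⁻¹ * ((K * (A * B) * K⁻¹)⁻¹ * (G * A * G⁻¹ * B)) := by group
    have h4 : ((G * A * G⁻¹ * B : Matrix.SpecialLinearGroup (Fin d) F) : Matrix (Fin d) (Fin d) F) =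
        r • ((K : Matrix (Fin d) (Fin d) F) * ((A : Matrix (Fin d) (Fin d) F) * B) *
          ((K⁻¹ : Matrix.SpecialLinearGroup (Fin d) F) : Matrix (Fin d) (Fin d) F)) := by
      rw [h3, Matrix.SpecialLinearGroup.coe_mul, ← hr2]
      simp only [Matrix.SpecialLinearGroup.coe_mul]
      ext i j
      simp [Matrix.mul_apply, Matrix.scalar_apply, Matrix.diagonal_apply, mul_comm]
    have h5 : ((G : Matrix (Fin d) (Fin d) F) * A * ((G⁻¹ : Matrix.SpecialLinearGroup (Fin d) F) : Matrix (Fin d) (Fin d) F) * B) =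
        ((G * A * G⁻¹ * B : Matrix.SpecialLinearGroup (Fin d) F) : Matrix (Fin d) (Fin d) F) := by
      simp only [Matrix.SpecialLinearGroup.coe_mul]
    rw [h5, h4, Matrix.trace_smul, Matrix.trace_mul_cycle, Cfsg.Agent.H39.TrProd.coe_inv_mul, Matrix.one_mul]
    have hr0 : r ≠ 0 := by
      rintro rfl
      rw [zero_pow (by rw [Fintype.card_fin]; omega)] at hr
      exact zero_ne_one hr
    simp [hr0]
  obtain ⟨G0, hG0⟩ := Cfsg.Agent.H39.TrProd.exists_traces hd hA' hB' 0
  obtain ⟨G1, hG1⟩ := Cfsg.Agent.H39.TrProd.exists_traces hd hA' hB' 1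
  have h6 := (key G0).1 hG0
  have h7 := (key G1).2 h6
  rw [hG1] at h7
  exact one_ne_zero h7

end Cfsg.Agent.S2272
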