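import Cfsg.Statements.S2276
import Cfsg.Agent.H34.FP8

set_option autoImplicit false
open Cfsg

namespace Cfsg.Agent.S2276

open Cfsg.Agent.H34.FP


/-- Let n ≥ 5, p ≥ 3 a prime, and u, w non-identity elements of p-power order in the alternating group A_n. Then there is g ∈ A_n such that u·(g w g⁻¹) does not have p-power order and ⟨u, g w g⁻¹⟩ is not solvable. -/
theorem result (n : ℕ) (hn : 5 ≤ n) (p : ℕ) (hp : p.Prime) (hp3 : 3 ≤ p) (u w : alternatingGroup (Fin n)) (hu : u ≠ 1) (hw : w ≠ 1)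
    (hu' : ∃ k : ℕ, orderOf u = p ^ k) (hw' : ∃ k : ℕ, orderOf w = p ^ k) :
    ∃ g : alternatingGroup (Fin n), (¬ ∃ k : ℕ, orderOf (u * (g * w * g⁻¹)) = p ^ k) ∧
      ¬ Group.IsSolvable ↥(Subgroup.closure ({u, g * w * g⁻¹} : Set (alternatingGroup (Fin n)))) := by
  classical
  have key : ∀ U W : Equiv.Perm (Fin n), U ≠ 1 → W ≠ 1 → (∃ k : ℕ, orderOf U = p ^ k) → (∃ k : ℕ, orderOf W = p ^ k) →
      ∃ g : Equiv.Perm (Fin n), Equiv.Perm.sign g = 1 ∧ Good p U (g * W * g⁻¹) := by
    intro U W hU1 hW1 hUo hWo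
    have hpow : ∀ V : Equiv.Perm (Fin n), (∃ k : ℕ, orderOf V = p ^ k) → ∀ c ∈ V.cycleType, ∃ j, 1 ≤ j ∧ c = p ^ j := by
      rintro V ⟨k, hk⟩ c hc
      have h1 := Equiv.Perm.dvd_of_mem_cycleType hc
      rw [hk] at h1
      obtain ⟨j, _, rfl⟩ := (Nat.dvd_prime_pow hp).mp h1
      refine ⟨j, ?_, rfl⟩
      by_contra h
      have h0 : j = 0 := by omega
      subst h0
      have := Equiv.Perm.two_le_of_mem_cycleType hc
      rw [pow_zero] at this
      omega
    have hne : (U.cycleType + W.cycleType).toFinset.Nonempty := by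
      have : U.cycleType ≠ 0 := fun h => hU1 (Equiv.Perm.cycleType_eq_zero.mp h)
      obtain ⟨c, hc⟩ := Multiset.exists_mem_of_ne_zero this
      exact ⟨c, Multiset.mem_toFinset.mpr (Multiset.mem_add.mpr (Or.inl hc))⟩
    obtain ⟨N, hN, hmax⟩ := Finset.exists_max_image _ id hne
    rw [Multiset.mem_toFinset] at hN
    obtain ⟨i, hi1, hNi⟩ : ∃ i, 1 ≤ i ∧ N = p ^ i := by
      rcases Multiset.mem_add.mp hN with h | h
      · exact hpow U hUo N h
      · exact hpow W hWo N h
    have hexp : ∀ c ∈ U.cycleType + W.cycleType, ∃ j ≤ i, c = p ^ j := by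
      intro c hc
      have h1 : c ≤ N := hmax c (Multiset.mem_toFinset.mpr hc)
      obtain ⟨j, hj1, hcj⟩ : ∃ i, 1 ≤ i ∧ c = p ^ i := by
        rcases Multiset.mem_add.mp hc with h | h
        · exact hpow U hUo c h
        · exact hpow W hWo c h
      refine ⟨j, ?_, hcj⟩
      rw [hcj, hNi] at h1
      exact (Nat.pow_le_pow_iff_right (by omega)).mp h1
    by_cases h5 : 5 ≤ p ^ i
    · rcases Multiset.mem_add.mp hN with h | h
      · exact main_ge5 p hp hp3 U W i h5 (fun c hc => hexp c (Multiset.mem_add.mpr (Or.inr hc))) (hNi ▸ h) hW1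
      · obtain ⟨g, hg1, hg2⟩ := main_ge5 p hp hp3 W U i h5 (fun c hc => hexp c (Multiset.mem_add.mpr (Or.inl hc))) (hNi ▸ h) hU1
        refine ⟨g⁻¹, by rw [Equiv.Perm.sign_inv, hg1], ?_⟩
        have h2 := (hg2.symm).conj g⁻¹
        have h3 : g⁻¹ * (g * U * g⁻¹) * (g⁻¹)⁻¹ = U := by group
        rw [h3] at h2
        exact h2
    · have hi : i = 1 ∧ p = 3 := by
        have h6 : p ^ 1 ≤ p ^ i := Nat.pow_le_pow_right (by omega) hi1
        rw [pow_one] at h6
        have h7 : p = 3 := by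
          by_contra h7
          have h8 : p = 4 := by omega
          subst h8
          exact absurd hp (by norm_num)
        refine ⟨?_, h7⟩
        by_contra h8
        have h9 : p ^ 2 ≤ p ^ i := Nat.pow_le_pow_right (by omega) (by omega)
        subst h7
        norm_num at h9
        omega
      obtain ⟨rfl, rfl⟩ := hi
      have h3 : ∀ V : Equiv.Perm (Fin n), (∃ k : ℕ, orderOf V = 3 ^ k) → (∀ c ∈ V.cycleType, ∃ j ≤ 1, c = 3 ^ j) → ∀ c ∈ V.cycleType, c = 3 := by
        intro V hV hV2 c hc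
        obtain ⟨j, hj, rfl⟩ := hV2 c hc
        obtain ⟨j', hj', h⟩ := hpow V hV _ hc
        have h4 : j = 1 := by
          by_contra h5
          have : j = 0 := by omega
          subst this
          rw [pow_zero] at h
          have : 3 ^ 1 ≤ 3 ^ j' := Nat.pow_le_pow_right (by omega) hj'
          omega
        rw [h4, pow_one]
      exact main_3 hn U W (h3 U hUo (fun c hc => hexp c (Multiset.mem_add.mpr (Or.inl hc))))
        (h3 W hWo (fun c hc => hexp c (Multiset.mem_add.mpr (Or.inr hc)))) hU1 hW1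
  obtain ⟨g, hg1, hg2⟩ := key u.1 w.1 (fun h => hu (Subtype.ext h)) (fun h => hw (Subtype.ext h))
    (by obtain ⟨k, hk⟩ := hu'; exact ⟨k, by rw [← hk]; exact Subgroup.orderOf_coe u⟩)
    (by obtain ⟨k, hk⟩ := hw'; exact ⟨k, by rw [← hk]; exact Subgroup.orderOf_coe w⟩)
  refine ⟨⟨g, Equiv.Perm.mem_alternatingGroup.mpr hg1⟩, ?_, ?_⟩
  · rintro ⟨k, hk⟩
    apply hg2.1 k
    have := pow_orderOf_eq_one (u * ((⟨g, Equiv.Perm.mem_alternatingGroup.mpr hg1⟩ : alternatingGroup (Fin n)) * w * (⟨g, Equiv.Perm.mem_alternatingGroup.mpr hg1⟩ : alternatingGroup (Fin n))⁻¹))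
    rw [hk] at this
    exact congrArg Subtype.val this
  · intro hs
    apply hg2.2
    have hmap : (Subgroup.closure ({u, (⟨g, Equiv.Perm.mem_alternatingGroup.mpr hg1⟩ : alternatingGroup (Fin n)) * w * (⟨g, Equiv.Perm.mem_alternatingGroup.mpr hg1⟩ : alternatingGroup (Fin n))⁻¹} : Set (alternatingGroup (Fin n)))).map (alternatingGroup (Fin n)).subtype
        = Subgroup.closure {u.1, g * w.1 * g⁻¹} := by
      rw [MonoidHom.map_closure, Set.image_pair]
      rfl
    rw [← hmap]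
    exact Group.isSolvable_of_surjective (f := (alternatingGroup (Fin n)).subtype.subgroupMap _)
      (MonoidHom.subgroupMap_surjective _ _)

end Cfsg.Agent.S2276
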