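import Cfsg.Statements.S2292
import Cfsg.Agent.GK.SpH
-- import your own Cfsg.Agent.* helpers here

set_option autoImplicit false
open Cfsg

namespace Cfsg.Agent.S2292


open Subgroup Cfsg.Agent.GK

theorem two_of {F : Type*} [Field F] [Fintype F] {n k c : ℕ} (hc : c ≤ 77)
    {R : Finset (FreeGroup (Fin k))} {x : Fin k → Matrix.symplecticGroup (Fin n) F}
    (h : IsPres (R : Set (FreeGroup (Fin k))) x) (hR : R.card ≤ c) {u v : Cfsg.PSp n F} (huv : closure {u, v} = ⊤) 
    (s : Fin 2 → Fin k) :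
    ∃ rels : Finset (FreeGroup (Fin 2)), rels.card ≤ 80 ∧ Nonempty (PresentedGroup (↑rels : Set (FreeGroup (Fin 2))) ≃* Cfsg.PSp n F) := by
  obtain ⟨R', y, hR', P⟩ := psp_of_sp F h
  obtain ⟨R2, hR2, P2⟩ := P.regen ![u, v] (gen_pair huv) ∅ s (by simp) (by simp)
  obtain ⟨e, -⟩ := P2.exists_equiv
  refine ⟨R2, ?_, ⟨e⟩⟩
  simp at hR2
  omega
/-- Let F be a finite field with q elements and m ≥ 2 with (m, q) ≠ (2, 2). Then the simple group PSp_2m(F) has a presentation with 2 generators and at most 80 relations. -/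
theorem result {F : Type*} [Field F] [Fintype F] (m : ℕ) (hm : 2 ≤ m) (h22 : ¬ (m = 2 ∧ Fintype.card F = 2)) :
    ∃ rels : Finset (FreeGroup (Fin 2)), rels.card ≤ 80 ∧ Nonempty (PresentedGroup (↑rels : Set (FreeGroup (Fin 2))) ≃* Cfsg.PSp m F) := by
  obtain ⟨u, v, huv⟩ := psp_two_gen (F := F) m hm (fun h => by
    have h1 := Fintype.one_lt_card (α := F)
    have h2 : Fintype.card F ≠ 2 := fun h3 => h22 ⟨h, h3⟩
    omega)
  by_cases h2 : m = 2
  · subst h2
    obtain ⟨R, x, hR, P⟩ := sp4_six F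
    exact two_of (c := 34) (by norm_num) P hR huv (fun _ => 0)
  · by_cases h3 : m = 3
    · subst h3
      obtain ⟨R, x, hR, P⟩ := sp6_seven F
      exact two_of (c := 49) (by norm_num) P hR huv (fun _ => 0)
    · obtain ⟨R, x, hR, P⟩ := spn_ten F m (by omega)
      exact two_of (c := 57) (by norm_num) P hR huv (fun _ => 0)

end Cfsg.Agent.S2292
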