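import Cfsg.Statements.S2294
import Cfsg.Agent.GK.Un33
-- import your own Cfsg.Agent.* helpers here

set_option autoImplicit false
open Cfsg

namespace Cfsg.Agent.S2294

/-- Let F be a field with q² elements and n ≥ 4, and SU_n(q), PSU_n(q) the special unitary group of the standard Hermitian form and its central quotient. Then SU_n(q) has a presentation with 6 generators and at most 39 relations and PSU_n(q) one with 6 generators and at most 40 relations; moreover SU_4(q) and SU_5(q) have presentations with 6 generators and at most 35 relations, and PSU_4(q) one with 6 generators and at most 36 relations. -/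
theorem result {F : Type*} [Field F] [Fintype F] (q : ℕ) (hF : Fintype.card F = q ^ 2) (n : ℕ) (hn : 4 ≤ n) :
    (∃ rels : Finset (FreeGroup (Fin 6)), rels.card ≤ 39 ∧ Nonempty (PresentedGroup (↑rels : Set (FreeGroup (Fin 6))) ≃* ↥(Cfsg.SU n F q))) ∧ (∃ rels : Finset (FreeGroup (Fin 6)), rels.card ≤ 40 ∧ Nonempty (PresentedGroup (↑rels : Set (FreeGroup (Fin 6))) ≃* Cfsg.PSU n F q)) ∧
    (∃ rels : Finset (FreeGroup (Fin 6)), rels.card ≤ 35 ∧ Nonempty (PresentedGroup (↑rels : Set (FreeGroup (Fin 6))) ≃* ↥(Cfsg.SU 4 F q))) ∧ (∃ rels : Finset (FreeGroup (Fin 6)), rels.card ≤ 35 ∧ Nonempty (PresentedGroup (↑rels : Set (FreeGroup (Fin 6))) ≃* ↥(Cfsg.SU 5 F q))) ∧ (∃ rels : Finset (FreeGroup (Fin 6)), rels.card ≤ 36 ∧ Nonempty (PresentedGroup (↑rels : Set (FreeGroup (Fin 6))) ≃* Cfsg.PSU 4 F q)) := by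
  obtain ⟨R, x, hR, P⟩ := Cfsg.Agent.GK.Un.su_all hF n hn
  obtain ⟨R4, x4, hR4, P4⟩ := Cfsg.Agent.GK.Un.su_four hF
  obtain ⟨R5, x5, hR5, P5⟩ := Cfsg.Agent.GK.Un.su_five hF
  obtain ⟨R', hR', e'⟩ := Cfsg.Agent.GK.Un.psu_of hF (by omega) P
  obtain ⟨R4', hR4', e4'⟩ := Cfsg.Agent.GK.Un.psu_of hF (by omega) P4
  exact ⟨⟨R, hR, Cfsg.Agent.GK.Un.su_of P⟩, ⟨R', by omega, e'⟩, ⟨R4, hR4, Cfsg.Agent.GK.Un.su_of P4⟩, ⟨R5, hR5, Cfsg.Agent.GK.Un.su_of P5⟩,
    ⟨R4', by omega, e4'⟩⟩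

end Cfsg.Agent.S2294
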