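import Cfsg.Statements.S2295
import Cfsg.Agent.GK.Om8
-- import your own Cfsg.Agent.* helpers here

set_option autoImplicit false
open Cfsg

namespace Cfsg.Agent.S2295

/-- Let F be a finite field and n ≥ 4, and let Ω⁺_2n(F) be the commutator subgroup of the orthogonal group of the hyperbolic quadratic form Σ x_i y_i, with PΩ⁺_2n(F) its central quotient. Then Ω⁺_2n(F) has a presentation with 8 generators and at most 31 relations (at most 29 if n = 4 or 5), and PΩ⁺_2n(F) one with 8 generators and at most 32 relations (at most 30 if n = 4 or 5). -/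
theorem result {F : Type*} [Field F] [Fintype F] (n : ℕ) (hn : 4 ≤ n) :
    (∃ rels : Finset (FreeGroup (Fin 8)), rels.card ≤ 31 ∧ Nonempty (PresentedGroup (↑rels : Set (FreeGroup (Fin 8))) ≃* ↥(Cfsg.Omega F (Cfsg.quadFormPlus n F)))) ∧ (∃ rels : Finset (FreeGroup (Fin 8)), rels.card ≤ 32 ∧ Nonempty (PresentedGroup (↑rels : Set (FreeGroup (Fin 8))) ≃* Cfsg.POmega F (Cfsg.quadFormPlus n F))) ∧
    (n ≤ 5 → (∃ rels : Finset (FreeGroup (Fin 8)), rels.card ≤ 29 ∧ Nonempty (PresentedGroup (↑rels : Set (FreeGroup (Fin 8))) ≃* ↥(Cfsg.Omega F (Cfsg.quadFormPlus n F)))) ∧ (∃ rels : Finset (FreeGroup (Fin 8)), rels.card ≤ 30 ∧ Nonempty (PresentedGroup (↑rels : Set (FreeGroup (Fin 8))) ≃* Cfsg.POmega F (Cfsg.quadFormPlus n F)))) := by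
  refine ⟨?_, ?_, fun h5 => ⟨?_, ?_⟩⟩
  · obtain ⟨R, x, hR, P⟩ := Cfsg.Agent.GK.Om.all F hn
    exact ⟨R, hR, Cfsg.Agent.GK.Om.om_of F P⟩
  · obtain ⟨R, x, hR, P⟩ := Cfsg.Agent.GK.Om.all F hn
    obtain ⟨R', hR', e⟩ := Cfsg.Agent.GK.Om.pom_of F hn P
    exact ⟨R', by omega, e⟩
  · obtain ⟨R, x, hR, P⟩ := Cfsg.Agent.GK.Om.small F hn h5
    exact ⟨R, hR, Cfsg.Agent.GK.Om.om_of F P⟩
  · obtain ⟨R, x, hR, P⟩ := Cfsg.Agent.GK.Om.small F hn h5
    obtain ⟨R', hR', e⟩ := Cfsg.Agent.GK.Om.pom_of F hn P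
    exact ⟨R', by omega, e⟩

end Cfsg.Agent.S2295
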