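import Cfsg.Statements.S2296
import Cfsg.Agent.GK.SpF
-- import your own Cfsg.Agent.* helpers here

set_option autoImplicit false
open Cfsg

namespace Cfsg.Agent.S2296


open Cfsg.Agent.GK

theorem both {F : Type*} [Field F] {n k c : ℕ}
    (h : ∃ (R : Finset (FreeGroup (Fin k))) (x : Fin k → Matrix.symplecticGroup (Fin n) F),
      R.card ≤ c ∧ IsPres (R : Set (FreeGroup (Fin k))) x) :
    (∃ rels : Finset (FreeGroup (Fin k)), rels.card ≤ c ∧ Nonempty (PresentedGroup (↑rels : Set (FreeGroup (Fin k))) ≃* Matrix.symplecticGroup (Fin n) F)) ∧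
    (∃ rels : Finset (FreeGroup (Fin k)), rels.card ≤ c + 1 ∧ Nonempty (PresentedGroup (↑rels : Set (FreeGroup (Fin k))) ≃* Cfsg.PSp n F)) := by
  obtain ⟨R, x, hR, P⟩ := h
  obtain ⟨R', y, hR', P'⟩ := psp_of_sp F P
  obtain ⟨e, -⟩ := P.exists_equiv
  obtain ⟨e', -⟩ := P'.exists_equiv
  exact ⟨⟨R, hR, ⟨e⟩⟩, ⟨R', by omega, ⟨e'⟩⟩⟩
/-- Let F be a finite field. Sp_2n(F) has a presentation with 10 generators and at most 58 relations for n ≥ 4, with 9 generators and at most 57 relations for n = 4 or 5, and with 8 generators and at most 52 relations for n = 3; in each case PSp_2n(F) has a presentation with the same number of generators and at most one more relation. -/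
theorem result {F : Type*} [Field F] [Fintype F] (n : ℕ) :
    (4 ≤ n → (∃ rels : Finset (FreeGroup (Fin 10)), rels.card ≤ 58 ∧ Nonempty (PresentedGroup (↑rels : Set (FreeGroup (Fin 10))) ≃* Matrix.symplecticGroup (Fin n) F)) ∧ (∃ rels : Finset (FreeGroup (Fin 10)), rels.card ≤ 59 ∧ Nonempty (PresentedGroup (↑rels : Set (FreeGroup (Fin 10))) ≃* Cfsg.PSp n F))) ∧
    ((n = 4 ∨ n = 5) → (∃ rels : Finset (FreeGroup (Fin 9)), rels.card ≤ 57 ∧ Nonempty (PresentedGroup (↑rels : Set (FreeGroup (Fin 9))) ≃* Matrix.symplecticGroup (Fin n) F)) ∧ (∃ rels : Finset (FreeGroup (Fin 9)), rels.card ≤ 58 ∧ Nonempty (PresentedGroup (↑rels : Set (FreeGroup (Fin 9))) ≃* Cfsg.PSp n F))) ∧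
    (n = 3 → (∃ rels : Finset (FreeGroup (Fin 8)), rels.card ≤ 52 ∧ Nonempty (PresentedGroup (↑rels : Set (FreeGroup (Fin 8))) ≃* Matrix.symplecticGroup (Fin n) F)) ∧ (∃ rels : Finset (FreeGroup (Fin 8)), rels.card ≤ 53 ∧ Nonempty (PresentedGroup (↑rels : Set (FreeGroup (Fin 8))) ≃* Cfsg.PSp n F))) := by
  refine ⟨fun hn => ?_, fun hn => ?_, fun hn => ?_⟩
  · obtain ⟨R, x, hR, P⟩ := spn_ten F n hn
    exact both ⟨R, x, by omega, P⟩
  · rcases hn with rfl | rfl
    · obtain ⟨R, x, hR, P⟩ := sp8_nine F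
      exact both ⟨R, x, by omega, P⟩
    · obtain ⟨R, x, hR, P⟩ := sp10_nine F
      exact both ⟨R, x, by omega, P⟩
  · subst hn
    obtain ⟨R, x, hR, P⟩ := sp6_seven F
    obtain ⟨R', y, hR', P'⟩ := P.add_gen (by norm_num)
    exact both ⟨R', y, by omega, P'⟩

end Cfsg.Agent.S2296
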