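import Cfsg.Statements.S2337
import Cfsg.Agent.SzLie.Bruhat
import Cfsg.Agent.H39.Weights

set_option autoImplicit false
open Cfsg

namespace Cfsg.Agent.S2337

open Cfsg.Lie Cfsg.Agent.SzLie Cfsg.Agent.H39 Module Matrix

section
variable {F : Type*} [Field F] {e : ℕ}

theorem conj_w (h : SzE F e) :
    szQ h 1 0 * szWt h * szQ h 0 1 * szWt h * szQ h 1 1 = szWt h := by
  apply szToMat_injective
  simp only [map_mul, szToMat_szQ, szToMat_szWt]
  have h2 := h.two
  have h0 := h.zero_pow
  have h11 : (1 : F) + 1 = 0 := by linear_combination h2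
  ext i j
  fin_cases i <;> fin_cases j <;>
    simp [szQMat, szWMat, Matrix.mul_apply, Fin.sum_univ_four, h0, h11]

theorem exists_sq [Finite F] (h : SzE F e) (t : Fˣ) : ∃ s : Fˣ, s * s = t := by
  have hinj : Function.Injective (fun s : Fˣ => s * s) := by
    intro a b hab
    have h1 : (a : F) * a = b * b := congrArg Units.val hab
    have h2 : ((a : F) - b) ^ 2 = 0 := by
      linear_combination h1 - (a * b - b * b : F) * h.two
    have h3 : (a : F) - b = 0 := by simpa using h2
    exact Units.ext (sub_eq_zero.1 h3)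
  exact (Finite.injective_iff_surjective.1 hinj) t

/-- A subgroup that contains the centre of the unipotent group and is a kernel is everything. -/
theorem ker_eq_top [Finite F] (h : SzE F e) (N : Subgroup ↥(Sz F e)) [hN : N.Normal]
    (hZ : ∀ y, szQ h 0 y ∈ N) (hF : ∃ t : Fˣ, (t : F) ≠ 1) : N = ⊤ := by
  have hw : szWt h ∈ N := by
    have h1 := hN.conj_mem _ (hZ 1) (szQ h 1 0 * szWt h)
    have h2 : szQ h 1 0 * szWt h * szQ h 0 1 * (szQ h 1 0 * szWt h)⁻¹ = szWt h := by
      rw [_root_.mul_inv_rev, szWt_inv, szQ_inv]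
      have : (0 : F) + 1 * 1 ^ e = 1 := by simp
      rw [this, ← mul_assoc]
      exact conj_w h
    rwa [h2] at h1
  have hH : ∀ t, szHt h t ∈ N := by
    intro t
    obtain ⟨s, rfl⟩ := exists_sq h t
    have h1 : szHt h s * szWt h * (szHt h s)⁻¹ * (szWt h)⁻¹ ∈ N :=
      N.mul_mem (hN.conj_mem _ hw _) (N.inv_mem hw)
    have h2 : szHt h s * szWt h * (szHt h s)⁻¹ * (szWt h)⁻¹ = szHt h (s * s) := by
      have h3 := szWt_conj_szHt h s⁻¹
      rw [inv_inv] at h3
      rw [szHt_inv, szWt_inv, mul_assoc, mul_assoc, ← mul_assoc (szWt h), h3, szHt_mul]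
    rwa [h2] at h1
  obtain ⟨t, ht⟩ := hF
  have hte : (t : F) ^ e + 1 ≠ 0 := by
    intro h0
    apply ht
    have h1 : theta h (t : F) = theta h 1 := by
      rw [map_one, theta_apply]
      linear_combination h0 - h.two
    exact theta_injective h h1
  refine eq_top_of_gens h N ?_ hH hw
  intro x y
  -- first `szQ x' z` with `x' = (t^e + 1) x₀`
  have h1 : ∀ x₀ : F, ∃ z, szQ h (((t : F) ^ e + 1) * x₀) z ∈ N := by
    intro x₀
    have h2 : szHt h t * szQ h x₀ 0 * (szHt h t)⁻¹ * (szQ h x₀ 0)⁻¹ ∈ N := by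
      have h3 : szHt h t * szQ h x₀ 0 * (szHt h t)⁻¹ * (szQ h x₀ 0)⁻¹ =
        szHt h t * (szQ h x₀ 0 * (szHt h t)⁻¹ * (szQ h x₀ 0)⁻¹) := by group
      rw [h3]
      exact N.mul_mem (hH t) (hN.conj_mem _ (N.inv_mem (hH t)) _)
    rw [szHt_conj_szQ, szQ_inv, szQ_mul] at h2
    have h4 : ((t : F) ^ e + 1) * x₀ = (t : F) ^ e * x₀ + x₀ := by ring
    rw [h4]
    exact ⟨_, h2⟩
  obtain ⟨z, hz⟩ := h1 (((t : F) ^ e + 1)⁻¹ * x)
  rw [mul_inv_cancel_left₀ hte] at hz
  have h5 := N.mul_mem hz (hZ (z + y))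
  rw [szQ_mul] at h5
  have h6 : x + 0 = x := add_zero x
  have h7 : z + (z + y) + x * 0 ^ e = y := by
    rw [h.zero_pow]
    linear_combination z * h.two
  rwa [h6, h7] at h5

end

section rep
variable {F : Type*} [Field F] [Fintype F] {e : ℕ} {V : Type*} [AddCommGroup V] [Module ℂ V] [FiniteDimensional ℂ V]

/-- The action of the centre. -/
def cU (h : SzE F e) (ρ : Representation ℂ ↥(Sz F e) V) : F → (V →ₗ[ℂ] V) := fun y => ρ (szQ h 0 y)

theorem cU_zero (h : SzE F e) (ρ : Representation ℂ ↥(Sz F e) V) (v : V) : cU h ρ 0 v = v := by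
  rw [cU, szQ_zero, map_one]; rfl

theorem cU_add (h : SzE F e) (ρ : Representation ℂ ↥(Sz F e) V) (a b : F) (v : V) :
    cU h ρ (a + b) v = cU h ρ a (cU h ρ b v) := by
  have : szQ h 0 (a + b) = szQ h 0 a * szQ h 0 b := by
    rw [szQ_mul]; simp
  rw [cU, this, map_mul]; rfl

theorem tpow_injective (h : SzE F e) : Function.Injective (fun t : Fˣ => t ^ e * t ^ 2) := by
  have hhom : ∀ a b : Fˣ, (a * b⁻¹) ^ e * (a * b⁻¹) ^ 2 = (a ^ e * a ^ 2) * (b ^ e * b ^ 2)⁻¹ := by
    intro a b
    rw [mul_pow, mul_pow, inv_pow, inv_pow, mul_inv]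
    exact mul_mul_mul_comm _ _ _ _
  intro a b hab
  simp only at hab
  have h1 : (a * b⁻¹) ^ e * (a * b⁻¹) ^ 2 = 1 := by
    rw [hhom, hab, mul_inv_cancel]
  set t := a * b⁻¹ with ht
  have h2 : t ^ e = (t ^ 2)⁻¹ := eq_inv_of_mul_eq_one_left h1
  have h3 : (t ^ e) ^ e = t ^ 2 := by
    ext
    simpa using h.tt (t : F)
  have h4 : (t ^ e) ^ e = t ^ 4 := by
    rw [h2, inv_pow, ← pow_mul, mul_comm, pow_mul, h2, inv_pow, inv_inv, ← pow_mul]
  have h5 : t ^ 2 = 1 := by
    rw [h3] at h4
    have h6 : t ^ 4 = t ^ 2 * t ^ 2 := by rw [← pow_add]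
    rw [h6] at h4
    exact (mul_eq_left.1 h4.symm)
  have h6 : t = 1 := by
    have h7 : ((t : F) - 1) ^ 2 = 0 := by
      have h8 : (t : F) ^ 2 = 1 := by
        have := congrArg Units.val h5
        simpa using this
      linear_combination h8 - ((t : F) - 1) * h.two
    have h9 : (t : F) - 1 = 0 := by simpa using h7
    exact Units.ext (by rw [Units.val_one]; linear_combination h9)
  rw [ht, mul_inv_eq_one] at h6
  exact h6

/-- The nonzero multiples of a nontrivial additive character. -/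
theorem exists_mul_of_ne {ψ : AddChar F ℂ} (hψ : ψ ≠ 1) {a b : F} (hab : a ≠ b) : ∃ y, ψ (a * y) ≠ ψ (b * y) := by
  have hprim := AddChar.IsPrimitive.of_ne_one hψ
  by_contra hcon
  push Not at hcon
  exact hab (AddChar.to_mulShift_inj_of_isPrimitive hprim (by
    ext y
    rw [AddChar.mulShift_apply, AddChar.mulShift_apply]
    exact hcon y))

theorem weights_conj (h : SzE F e) (ρ : Representation ℂ ↥(Sz F e) V) (ψ : AddChar F ℂ) (t : Fˣ) (v : V)
    (hv : v ∈ wt (cU h ρ) ψ) :
    ρ (szHt h t)⁻¹ v ∈ wt (cU h ρ) (ψ.mulShift ((t : F) ^ e * (t : F) ^ 2)) := by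
  intro y
  rw [AddChar.mulShift_apply]
  have h1 : szQ h 0 y * (szHt h t)⁻¹ = (szHt h t)⁻¹ * szQ h 0 ((t : F) ^ e * (t : F) ^ 2 * y) := by
    have := szHt_conj_szQ h t 0 y
    rw [mul_zero] at this
    rw [← this]
    group
  have h2 : cU h ρ y (ρ (szHt h t)⁻¹ v) = ρ (szHt h t)⁻¹ (cU h ρ ((t : F) ^ e * (t : F) ^ 2 * y) v) := by
    simp only [cU]
    rw [← Module.End.mul_apply, ← map_mul, h1, map_mul, Module.End.mul_apply]
  rw [h2, hv, map_smul]

/-- The dimension of a nontrivial weight space. -/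
theorem weight_dim (h : SzE F e) (ρ : Representation ℂ ↥(Sz F e) V) (ψ : AddChar F ℂ) (hψ : ψ ≠ 1)
    (hne : wt (cU h ρ) ψ ≠ ⊥) : Fintype.card F ≤ 2 * finrank ℂ (wt (cU h ρ) ψ) ^ 2 := by
  classical
  set W := wt (cU h ρ) ψ with hW
  have hWpos : 0 < finrank ℂ W := by
    have := (Submodule.one_le_finrank_iff).2 hne
    omega
  have hstab : ∀ x y : F, ∀ v ∈ W, ρ (szQ h x y) v ∈ W := by
    intro x y v hv z
    have h1 : szQ h 0 z * szQ h x y = szQ h x y * szQ h 0 z := by
      rw [szQ_mul, szQ_mul, h.zero_pow]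
      congr 1 <;> ring
    have h2 : cU h ρ z (ρ (szQ h x y) v) = ρ (szQ h x y) (cU h ρ z v) := by
      simp only [cU]
      rw [← Module.End.mul_apply, ← map_mul, h1, map_mul, Module.End.mul_apply]
    rw [h2, hv z, map_smul]
  set B : F → F → (W →ₗ[ℂ] W) := fun x y => (ρ (szQ h x y)).restrict (hstab x y) with hB
  have hBB : ∀ x y x' y', B x y * B x' y' = B (x + x') (y + y' + x * x' ^ e) := by
    intro x y x' y'
    ext v
    simp only [hB, Module.End.mul_apply, LinearMap.restrict_coe_apply]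
    rw [← Module.End.mul_apply, ← map_mul, szQ_mul]
  have hB0 : ∀ y, B 0 y = ψ y • 1 := by
    intro y
    ext v
    simp only [hB, LinearMap.restrict_coe_apply]
    exact v.2 y
  have hBy : ∀ x y z, B x (y + z) = ψ z • B x y := by
    intro x y z
    have := hBB x y 0 z
    rw [hB0, h.zero_pow, mul_zero, add_zero, add_zero, mul_smul_comm, mul_one] at this
    exact this.symm
  -- twist
  have htw : ∀ x z y y', B x y * B z y' = ψ (x * z ^ e + z * x ^ e) • (B z y' * B x y) := by
    intro x z y y'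
    rw [hBB, hBB, ← hBy]
    congr 1
    · ring
    · linear_combination (-(z * x ^ e)) * h.two
  -- the radical
  set R : AddSubgroup F :=
    { carrier := {z | ∀ x, ψ (x * z ^ e + z * x ^ e) = 1}
      zero_mem' := by
        intro x
        rw [h.zero_pow]; simp
      add_mem' := by
        intro a b ha hb x
        rw [h.add]
        have : x * (a ^ e + b ^ e) + (a + b) * x ^ e = (x * a ^ e + a * x ^ e) + (x * b ^ e + b * x ^ e) := by ring
        rw [this, AddChar.map_add_eq_mul, ha x, hb x, one_mul]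
      neg_mem' := by
        intro a ha
        have : -a = a := h.neg a
        rw [this]; exact ha } with hR
  have hRmem : ∀ z, z ∈ R ↔ ∀ x, ψ (x * z ^ e + z * x ^ e) = 1 := fun z => Iff.rfl
  have hRuniq : ∀ a b, a ∈ R → b ∈ R → a ≠ 0 → b ≠ 0 → a = b := by
    intro a b ha hb ha0 hb0
    by_contra hab
    set t := b / a with ht
    have hbt : b = t * a := by rw [ht]; field_simp
    have ht0 : t ≠ 0 := by rw [ht]; exact div_ne_zero hb0 ha0
    have ht1 : t ≠ 1 := by
      intro h1
      rw [h1, one_mul] at hbt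
      exact hab hbt.symm
    -- ψ (t a x^e) = ψ (t² a x^e)
    have hsurj : ∀ w : F, ∃ x : F, x ^ e = w := by
      intro w
      obtain ⟨x, hx⟩ := (theta_bijective h).2 w
      exact ⟨x, hx⟩
    have hne2 : t * a ≠ t ^ 2 * a := by
      intro h1
      have h3 : t * a * (t - 1) = 0 := by linear_combination -h1
      rcases mul_eq_zero.1 h3 with h4 | h4
      · exact (mul_ne_zero ht0 ha0) h4
      · exact ht1 (sub_eq_zero.1 h4)
    obtain ⟨w, hw⟩ := exists_mul_of_ne hψ hne2
    obtain ⟨x, rfl⟩ := hsurj w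
    apply hw
    have h1 := hb x
    rw [hbt] at h1
    have h2 := ha (t ^ e * x)
    have e1 : x * (t * a) ^ e + t * a * x ^ e = t * a * x ^ e + x * t ^ e * a ^ e := by
      rw [mul_pow]; ring
    have e2 : t ^ e * x * a ^ e + a * (t ^ e * x) ^ e = t ^ 2 * a * x ^ e + x * t ^ e * a ^ e := by
      rw [mul_pow, h.tt]; ring
    rw [e1, AddChar.map_add_eq_mul] at h1
    rw [e2, AddChar.map_add_eq_mul] at h2
    have h3 : ψ (x * t ^ e * a ^ e) ≠ 0 := by
      intro h0
      rw [h0, mul_zero] at h1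
      exact zero_ne_one h1
    exact mul_right_cancel₀ h3 (h1.trans h2.symm)
  have hRcard : Nat.card R ≤ 2 := by
    by_cases hbot : R = ⊥
    · rw [hbot]; simp
    · obtain ⟨a, haR, ha0⟩ : ∃ a : F, a ∈ R ∧ a ≠ 0 := by
        obtain ⟨a, ha⟩ := AddSubgroup.ne_bot_iff_exists_ne_zero.1 hbot
        exact ⟨(a : F), a.2, fun h0 => ha (Subtype.ext h0)⟩
      have h1 : (R : Set F) ⊆ {0, a} := by
        intro b hb
        by_cases hb0 : b = 0
        · left; exact hb0
        · right
          exact hRuniq b a hb haR hb0 ha0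
      have h2 : Nat.card R ≤ Nat.card ({0, a} : Set F) :=
        Nat.card_mono (Set.toFinite _) h1
      refine h2.trans ?_
      rw [Nat.card_coe_set_eq]
      exact (Set.ncard_insert_le _ _).trans (by simp)
  haveI : Fintype (F ⧸ R) := Fintype.ofFinite _
  have key := card_le_sq_of_trace (X := F ⧸ R) (V := W) (fun a => B a.out 0)
    (fun a => B a.out (a.out * a.out ^ e))
    (by
      intro a b hab
      have hnm : a.out + b.out ∉ R := by
        intro hmem
        apply hab
        rw [← QuotientAddGroup.out_eq' a, ← QuotientAddGroup.out_eq' b, QuotientAddGroup.eq]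
        rw [h.neg]
        exact hmem
      rw [hRmem] at hnm
      push Not at hnm
      obtain ⟨x, hx⟩ := hnm
      rw [hBB]
      refine trace_eq_zero_of_twist (B x 0) (B x (x * x ^ e)) _ _ ?_ ?_ hx (htw _ _ _ _)
      · rw [hBB, h.add_self, zero_add, ← two_mul, h.two, zero_mul, hB0, AddChar.map_zero_eq_one, one_smul]
      · rw [hBB, h.add_self, add_zero, ← two_mul, h.two, zero_mul, hB0, AddChar.map_zero_eq_one, one_smul])
    (by
      intro a
      rw [hBB, h.add_self, zero_add, ← two_mul, h.two, zero_mul, hB0, AddChar.map_zero_eq_one, one_smul,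
        LinearMap.trace_one]
      exact_mod_cast hWpos.ne')
  have hcard : Nat.card F = Nat.card (F ⧸ R) * Nat.card R := AddSubgroup.card_eq_card_quotient_mul_card_addSubgroup R
  rw [Nat.card_eq_fintype_card, Nat.card_eq_fintype_card] at hcard
  rw [hcard]
  calc Fintype.card (F ⧸ R) * Nat.card R ≤ finrank ℂ W ^ 2 * 2 := Nat.mul_le_mul key hRcard
    _ = _ := by ring

end rep

/-- For the Suzuki group Sz(q), q = 2^(2m+1) with m ≥ 1 (realised inside Sp₄ over the field with q elements), every irreducible complex representation of degree at least 2 has degree at least 2^m·(q − 1). -/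
theorem result {F : Type*} [Field F] [Fintype F] (m : ℕ) (hm : 1 ≤ m) (hF : Fintype.card F = 2 ^ (2 * m + 1)) :
    (∀ (k : ℕ) (ρ : Representation ℂ (Cfsg.Lie.Sz F (2 ^ (m + 1))) (Fin k → ℂ)), ρ.IsIrreducible → 2 ≤ k → 2 ^ m * (2 ^ (2 * m + 1) - 1) ≤ k) := by
  classical
  intro k ρ hirr hk
  have h := szE_of_card hF
  have hq1 : 2 < Fintype.card F := by
    rw [hF]
    calc 2 < 2 ^ 3 := by norm_num
      _ ≤ 2 ^ (2 * m + 1) := Nat.pow_le_pow_right (by norm_num) (by omega)
  -- nontrivial weight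
  have hnt : ∃ a v, cU h ρ a v ≠ v := by
    by_contra hcon
    push Not at hcon
    have hker : (MonoidHom.ker ρ) = ⊤ := by
      refine ker_eq_top h (MonoidHom.ker ρ) ?_ ?_
      · intro y
        rw [MonoidHom.mem_ker]
        refine LinearMap.ext fun v => ?_
        exact hcon y v
      · by_contra hcon2
        push Not at hcon2
        have h1 : Fintype.card F = Fintype.card Fˣ + 1 := by
          rw [Fintype.card_units]
          omega
        have h2 : Fintype.card Fˣ ≤ 1 := by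
          rw [Fintype.card_le_one_iff]
          intro a b
          exact Units.ext ((hcon2 a).trans (hcon2 b).symm)
        omega
    have htriv : ∀ g v, ρ g v = v := by
      intro g v
      have : g ∈ MonoidHom.ker ρ := by rw [hker]; trivial
      rw [MonoidHom.mem_ker] at this
      rw [this]; rfl
    let i0 : Fin k := ⟨0, by omega⟩
    let σ : Subrepresentation ρ :=
      { toSubmodule := Submodule.span ℂ {(Pi.single i0 1 : Fin k → ℂ)}
        apply_mem_toSubmodule := by
          intro g v hv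
          rw [htriv]; exact hv }
    rcases hirr.eq_bot_or_eq_top σ with h1 | h1
    · have h2 : (Pi.single i0 1 : Fin k → ℂ) ∈ σ.toSubmodule := Submodule.mem_span_singleton_self _
      rw [h1] at h2
      have h3 : (Pi.single i0 1 : Fin k → ℂ) = 0 := h2
      have h4 := congrFun h3 i0
      simp at h4
    · have h2 : finrank ℂ σ.toSubmodule = k := by
        rw [h1]
        have : finrank ℂ (⊤ : Submodule ℂ (Fin k → ℂ)) = k := by simp
        exact this
      have h3 : finrank ℂ (Submodule.span ℂ {(Pi.single i0 1 : Fin k → ℂ)}) ≤ 1 :=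
        (finrank_span_le_card _).trans (by simp)
      have h4 : finrank ℂ σ.toSubmodule ≤ 1 := h3
      omega
  obtain ⟨ψ, hψ0, hψ⟩ := exists_wt_ne_bot (cU h ρ) (cU_zero h ρ) (cU_add h ρ) hnt
  have hψ1 : ψ ≠ 1 := by
    rw [AddChar.one_eq_zero]; exact hψ0
  have hprim := AddChar.IsPrimitive.of_ne_one hψ1
  let f : Fˣ → AddChar F ℂ := fun t => ψ.mulShift ((t : F) ^ (2 ^ (m + 1)) * (t : F) ^ 2)
  have hf : Function.Injective f := by
    intro a b hab
    have h1 := AddChar.to_mulShift_inj_of_isPrimitive hprim hab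
    apply tpow_injective h
    ext
    simpa using h1
  have hdim : ∀ t : Fˣ, 2 ^ m ≤ finrank ℂ (wt (cU h ρ) (f t)) := by
    intro t
    have hne : wt (cU h ρ) (f t) ≠ ⊥ := by
      intro hbot
      obtain ⟨v, hv, hv0⟩ := (Submodule.ne_bot_iff _).1 hψ
      have h1 := weights_conj h ρ ψ t v hv
      have h2 : wt (cU h ρ) (f t) = wt (cU h ρ) (ψ.mulShift ((t : F) ^ (2 ^ (m + 1)) * (t : F) ^ 2)) := rfl
      rw [← h2, hbot, Submodule.mem_bot] at h1
      apply hv0
      have h3 : ρ (szHt h t) (ρ (szHt h t)⁻¹ v) = v := by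
        rw [← Module.End.mul_apply, ← map_mul, mul_inv_cancel, map_one]; rfl
      rw [← h3, h1, map_zero]
    have hft1 : f t ≠ 1 := by
      apply hprim
      exact mul_ne_zero (pow_ne_zero _ t.ne_zero) (pow_ne_zero _ t.ne_zero)
    have h1 := weight_dim h ρ (f t) hft1 hne
    rw [hF] at h1
    have h2 : (2 ^ m) ^ 2 ≤ finrank ℂ (wt (cU h ρ) (f t)) ^ 2 := by
      have h3 : 2 ^ (2 * m + 1) = 2 * (2 ^ m) ^ 2 := by
        rw [← pow_mul, pow_succ, mul_comm m 2, mul_comm]
      rw [h3] at h1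
      omega
    exact (Nat.pow_le_pow_iff_left (by norm_num)).1 h2
  have hsum := finrank_eq_sum_wt (cU h ρ) (cU_zero h ρ) (cU_add h ρ)
  rw [Module.finrank_fin_fun] at hsum
  rw [hsum]
  calc 2 ^ m * (2 ^ (2 * m + 1) - 1) = ∑ _t : Fˣ, 2 ^ m := by
        rw [Finset.sum_const, Finset.card_univ, Fintype.card_units, hF, smul_eq_mul, mul_comm]
    _ ≤ ∑ t : Fˣ, finrank ℂ (wt (cU h ρ) (f t)) := Finset.sum_le_sum fun t _ => hdim t
    _ = ∑ φ ∈ Finset.univ.map ⟨f, hf⟩, finrank ℂ (wt (cU h ρ) φ) := by rw [Finset.sum_map]; rfl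
    _ ≤ ∑ φ : AddChar F ℂ, finrank ℂ (wt (cU h ρ) φ) :=
        Finset.sum_le_sum_of_subset (Finset.subset_univ _)

end Cfsg.Agent.S2337
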