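import Cfsg.Statements.S2413
import Cfsg.Agent.GK.Or8
import Cfsg.Agent.ClassO.Iso5
-- import your own Cfsg.Agent.* helpers here

set_option autoImplicit false
open Cfsg

namespace Cfsg.Agent.S2413


open Cfsg.Agent.GK
/-- The simple orthogonal group `PΩ_{2m+1}(q)` (commutator subgroup of the orthogonal group of `x₀² + Σ x_i y_i` modulo its centre) with `m ≥ 2` and `q` odd is generated by two of its elements. -/
theorem result {F : Type*} [Field F] [Fintype F] (hodd : Odd (Fintype.card F)) (m : ℕ) (hm : 2 ≤ m) :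
    ∃ a b : Cfsg.POmega F (Cfsg.quadFormOdd m F), Subgroup.closure ({a, b} : Set (Cfsg.POmega F (Cfsg.quadFormOdd m F))) = ⊤ := by
  by_cases h3 : 3 ≤ m
  · exact Cfsg.Agent.GK.Or.two_gen_odd hodd m h3
  · have h2 : m = 2 := by omega
    subst h2
    obtain ⟨a, b, hab⟩ := psp_two_gen (F := F) 2 le_rfl (fun _ => by
      obtain ⟨k, hk⟩ := hodd
      have := Fintype.one_lt_card (α := F)
      omega)
    obtain ⟨e⟩ := Cfsg.Agent.ClassO.iso5 (F := F) hodd
    refine ⟨e.symm a, e.symm b, ?_⟩
    have h5 := congrArg (Subgroup.map e.symm.toMonoidHom) hab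
    rw [MonoidHom.map_closure, Set.image_pair, Subgroup.map_top_of_surjective _ e.symm.surjective] at h5
    exact h5

end Cfsg.Agent.S2413
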