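import Cfsg.Statements.S2468
import Cfsg.Agent.H41.SpecLin

set_option autoImplicit false
set_option linter.unusedSimpArgs false
open Cfsg

namespace Cfsg.Agent.S2468

open Cfsg.Agent.H41 Matrix Polynomial

/-- Adjacency of two odd primes in the prime graph of PSL(n,q): let F be a finite field of characteristic p with q elements, n ≥ 2 with PSL(n,F) simple, and let r ≠ s be odd primes different from p dividing the order of PSL(n,F). Let k and l be the multiplicative orders of q modulo r and modulo s, and suppose 2 ≤ k ≤ l. Then PSL(n,F) has NO element of order r·s if and only if k + l > n and k does not divide l. -/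
theorem result {F : Type*} [Field F] [Fintype F] (p : ℕ) [Fact p.Prime] [CharP F p] (n : ℕ) (hn : 2 ≤ n) (hsmall : n = 2 → 4 ≤ Fintype.card F)
    (r s : ℕ) (hr : r.Prime) (hs : s.Prime) (hr2 : r ≠ 2) (hs2 : s ≠ 2) (hrp : r ≠ p) (hsp : s ≠ p) (hrs : r ≠ s)
    (hrG : r ∣ Nat.card (Matrix.ProjectiveSpecialLinearGroup (Fin n) F)) (hsG : s ∣ Nat.card (Matrix.ProjectiveSpecialLinearGroup (Fin n) F))
    (k l : ℕ) (hk : k = orderOf ((Fintype.card F : ℕ) : ZMod r)) (hl : l = orderOf ((Fintype.card F : ℕ) : ZMod s))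
    (h2k : 2 ≤ k) (hkl : k ≤ l) :
    (r * s ∉ Set.range (orderOf : Matrix.ProjectiveSpecialLinearGroup (Fin n) F → ℕ)) ↔ (n < k + l ∧ ¬ k ∣ l) := by
  classical
  have hq1 : 1 < Fintype.card F := Fintype.one_lt_card
  have hrq : ¬ r ∣ Fintype.card F - 1 := by
    intro h
    have := (order_dvd_iff r 1 k hr hk).mp (by rwa [pow_one])
    have := Nat.le_of_dvd one_pos this
    omega
  have hsq : ¬ s ∣ Fintype.card F - 1 := by
    intro h
    have := (order_dvd_iff s 1 l hs hl).mp (by rwa [pow_one])
    have := Nat.le_of_dvd one_pos this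
    omega
  have hprq : ∀ t : ℕ, t.Prime → t ≠ p → ¬ t ∣ Fintype.card F := by
    intro t ht htp h
    obtain ⟨m, hm⟩ := FiniteField.card F p
    rw [hm.2] at h
    exact htp ((Nat.prime_dvd_prime_iff_eq ht Fact.out).mp (ht.dvd_of_dvd_pow h))
  have hln : l ≤ n := by
    obtain ⟨i, hi1, hin, hi⟩ := exists_dvd_of_dvd_card_psl (F := F) n s hs p hsp hsG
    exact (Nat.le_of_dvd (by omega) ((order_dvd_iff s i l hs hl).mp hi)).trans hin
  constructor
  · intro hno
    constructor
    · by_contra hcon
      push Not at hcon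
      apply hno
      obtain ⟨A, -, -, hA, -⟩ := exists_commuting_matrix (F := F) k r 1 (by omega)
        (by rw [Nat.card_eq_fintype_card]; exact (order_dvd_iff r k k hr hk).mpr dvd_rfl) (one_dvd _)
      obtain ⟨B, -, -, hB, -⟩ := exists_commuting_matrix (F := F) l s 1 (by omega)
        (by rw [Nat.card_eq_fintype_card]; exact (order_dvd_iff s l l hs hl).mpr dvd_rfl) (one_dvd _)
      have hA1 : A ≠ 1 := by
        intro h
        have := (hA 1).mp (by rw [h, one_pow])
        exact hr.one_lt.ne' (Nat.dvd_one.mp this)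
      have hB1 : B ≠ 1 := by
        intro h
        have := (hB 1).mp (by rw [h, one_pow])
        exact hs.one_lt.ne' (Nat.dvd_one.mp this)
      have hpA : ∀ j, (fromBlocks A 0 0 (1 : Matrix (Fin l ⊕ Fin (n - (k + l))) (Fin l ⊕ Fin (n - (k + l))) F)) ^ j = fromBlocks (A ^ j) 0 0 1 := by
        intro j
        induction j with
        | zero => simp
        | succ j ih => rw [pow_succ, ih, fromBlocks_multiply]; simp [pow_succ]
      have hpB : ∀ j, (fromBlocks B 0 0 (1 : Matrix (Fin (n - (k + l))) (Fin (n - (k + l))) F)) ^ j = fromBlocks (B ^ j) 0 0 1 := by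
        intro j
        induction j with
        | zero => simp
        | succ j ih => rw [pow_succ, ih, fromBlocks_multiply]; simp [pow_succ]
      have hpB2 : ∀ j, (fromBlocks (1 : Matrix (Fin k) (Fin k) F) 0 0 (fromBlocks B 0 0 (1 : Matrix (Fin (n - (k + l))) (Fin (n - (k + l))) F))) ^ j =
          fromBlocks 1 0 0 ((fromBlocks B 0 0 (1 : Matrix (Fin (n - (k + l))) (Fin (n - (k + l))) F)) ^ j) := by
        intro j
        induction j with
        | zero => simp
        | succ j ih => rw [pow_succ, ih, fromBlocks_multiply]; simp [pow_succ]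
      refine range_of_commuting (ι := Fin k ⊕ (Fin l ⊕ Fin (n - (k + l)))) n r s (by simp; omega) hr hs hrs hrq hsq
        (fromBlocks A 0 0 1) (fromBlocks 1 0 0 (fromBlocks B 0 0 1)) ?_ ?_ ?_ ?_ ?_
      · rw [fromBlocks_multiply, fromBlocks_multiply]; simp
      · rw [hpA, (hA r).mpr dvd_rfl, fromBlocks_one]
      · intro h
        apply hA1
        have := congrArg Matrix.toBlocks₁₁ h
        rwa [toBlocks_fromBlocks₁₁, ← fromBlocks_one, toBlocks_fromBlocks₁₁] at this
      · rw [hpB2, hpB, (hB s).mpr dvd_rfl, fromBlocks_one, fromBlocks_one]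
      · intro h
        apply hB1
        have := congrArg Matrix.toBlocks₂₂ h
        rw [toBlocks_fromBlocks₂₂, ← fromBlocks_one, toBlocks_fromBlocks₂₂] at this
        have := congrArg Matrix.toBlocks₁₁ this
        rwa [toBlocks_fromBlocks₁₁, ← fromBlocks_one, toBlocks_fromBlocks₁₁] at this
    · intro hdvd
      apply hno
      obtain ⟨A, B, hAB, hA, hB⟩ := exists_commuting_matrix (F := F) l r s (by omega)
        (by rw [Nat.card_eq_fintype_card]; exact (order_dvd_iff r l k hr hk).mpr hdvd)
        (by rw [Nat.card_eq_fintype_card]; exact (order_dvd_iff s l l hs hl).mpr dvd_rfl)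
      have hA1 : A ≠ 1 := by
        intro h
        have := (hA 1).mp (by rw [h, one_pow])
        exact hr.one_lt.ne' (Nat.dvd_one.mp this)
      have hB1 : B ≠ 1 := by
        intro h
        have := (hB 1).mp (by rw [h, one_pow])
        exact hs.one_lt.ne' (Nat.dvd_one.mp this)
      have hp : ∀ (C : Matrix (Fin l) (Fin l) F) j, (fromBlocks C 0 0 (1 : Matrix (Fin (n - l)) (Fin (n - l)) F)) ^ j = fromBlocks (C ^ j) 0 0 1 := by
        intro C j
        induction j with
        | zero => simp
        | succ j ih => rw [pow_succ, ih, fromBlocks_multiply]; simp [pow_succ]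
      refine range_of_commuting (ι := Fin l ⊕ Fin (n - l)) n r s (by simp; omega) hr hs hrs hrq hsq
        (fromBlocks A 0 0 1) (fromBlocks B 0 0 1) ?_ ?_ ?_ ?_ ?_
      · rw [fromBlocks_multiply, fromBlocks_multiply, hAB]; simp
      · rw [hp, (hA r).mpr dvd_rfl, fromBlocks_one]
      · intro h
        apply hA1
        have := congrArg Matrix.toBlocks₁₁ h
        rwa [toBlocks_fromBlocks₁₁, ← fromBlocks_one, toBlocks_fromBlocks₁₁] at this
      · rw [hp, (hB s).mpr dvd_rfl, fromBlocks_one]
      · intro h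
        apply hB1
        have := congrArg Matrix.toBlocks₁₁ h
        rwa [toBlocks_fromBlocks₁₁, ← fromBlocks_one, toBlocks_fromBlocks₁₁] at this
  · rintro ⟨hnkl, hndvd⟩ ⟨g, hg⟩
    obtain ⟨A, rfl⟩ := QuotientGroup.mk_surjective g
    -- a lift of order prime to `q - 1`
    obtain ⟨h, hh⟩ : ∃ h : Matrix.SpecialLinearGroup (Fin n) F, h = A ^ (Fintype.card F - 1) := ⟨_, rfl⟩
    have hcop : (r * s).Coprime (Fintype.card F - 1) :=
      Nat.Coprime.mul_left ((Nat.Prime.coprime_iff_not_dvd hr).mpr hrq) ((Nat.Prime.coprime_iff_not_dvd hs).mpr hsq)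
    have hordh : orderOf (QuotientGroup.mk h : Matrix.ProjectiveSpecialLinearGroup (Fin n) F) = r * s := by
      rw [hh, QuotientGroup.mk_pow, Nat.Coprime.orderOf_pow (by rw [hg]; exact hcop), hg]
    have hhpow : h ^ (r * s) = 1 := by
      have h1 : (QuotientGroup.mk (A ^ (r * s)) : Matrix.ProjectiveSpecialLinearGroup (Fin n) F) = 1 := by
        rw [QuotientGroup.mk_pow, ← hg, pow_orderOf_eq_one]
      have h2 : A ^ (r * s) ∈ Subgroup.center (Matrix.SpecialLinearGroup (Fin n) F) := (QuotientGroup.eq_one_iff _).mp h1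
      rw [Matrix.SpecialLinearGroup.mem_center_iff] at h2
      obtain ⟨c, hc1, hc2⟩ := h2
      have hn0 : n ≠ 0 := by omega
      have hc0 : c ≠ 0 := by
        intro hc; rw [hc, Fintype.card_fin, zero_pow hn0] at hc1; exact zero_ne_one hc1
      rw [hh, ← pow_mul, mul_comm, pow_mul]
      apply Subtype.ext
      rw [Matrix.SpecialLinearGroup.coe_pow, ← hc2, ← map_pow, FiniteField.pow_card_sub_one_eq_one _ hc0, map_one]
      rfl
    have hmat : (h : Matrix (Fin n) (Fin n) F) ^ (r * s) = 1 := by
      rw [← Matrix.SpecialLinearGroup.coe_pow, hhpow]; rfl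
    have hne : ∀ t u : ℕ, t.Prime → t * u = r * s → 0 < u → (h : Matrix (Fin n) (Fin n) F) ^ u ≠ 1 := by
      intro t u ht htu hu hcon
      have h1 : h ^ u = 1 := by
        apply Subtype.ext; rw [Matrix.SpecialLinearGroup.coe_pow, hcon]; rfl
      have h2 : (QuotientGroup.mk h : Matrix.ProjectiveSpecialLinearGroup (Fin n) F) ^ u = 1 := by
        rw [← QuotientGroup.mk_pow, h1]; rfl
      have h3 := orderOf_dvd_of_pow_eq_one h2
      rw [hordh, ← htu] at h3
      have h4 := Nat.le_of_dvd hu h3
      have h5 := ht.two_le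
      nlinarith
    have hrsF : ((r * s : ℕ) : F) ≠ 0 := by
      rw [Ne, CharP.cast_eq_zero_iff F p, (Fact.out : p.Prime).dvd_mul]
      rintro (h | h)
      · exact hrp ((Nat.prime_dvd_prime_iff_eq Fact.out hr).mp h).symm
      · exact hsp ((Nat.prime_dvd_prime_iff_eq Fact.out hs).mp h).symm
    let K := AlgebraicClosure F
    have hex : ∀ u : ℕ, (h : Matrix (Fin n) (Fin n) F) ^ u ≠ 1 →
        ∃ l : K, ((h : Matrix (Fin n) (Fin n) F).charpoly.map (algebraMap F K)).IsRoot l ∧ l ^ u ≠ 1 := by
      intro u hu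
      by_contra hcon
      push Not at hcon
      exact hu (pow_eq_one_of_eig (K := K) _ (r * s) u hrsF hmat hcon)
    obtain ⟨a, ha, has⟩ := hex s (hne r s hr rfl hs.pos)
    obtain ⟨b, hb, hbr⟩ := hex r (hne s r hs (mul_comm _ _) hr.pos)
    have hpow : ∀ x : K, ((h : Matrix (Fin n) (Fin n) F).charpoly.map (algebraMap F K)).IsRoot x → x ^ (r * s) = 1 :=
      fun x hx => eig_pow_eq_one _ _ hmat x hx
    have hne0 : (h : Matrix (Fin n) (Fin n) F).charpoly.map (algebraMap F K) ≠ 0 :=
      ((Matrix.charpoly_monic _).map _).ne_zero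
    have hdeg : ((h : Matrix (Fin n) (Fin n) F).charpoly.map (algebraMap F K)).natDegree = n := by
      rw [Polynomial.natDegree_map, Matrix.charpoly_natDegree_eq_dim, Fintype.card_fin]
    have hcardle : ∀ S : Finset K, (∀ x ∈ S, ((h : Matrix (Fin n) (Fin n) F).charpoly.map (algebraMap F K)).IsRoot x) → S.card ≤ n := by
      intro S hS
      rw [← hdeg]
      apply Polynomial.card_le_degree_of_subset_roots
      intro x hx
      rw [mem_roots hne0]
      exact hS x hx
    -- eigenvalue of order `r s` is impossible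
    have hbig : ∀ x : K, ((h : Matrix (Fin n) (Fin n) F).charpoly.map (algebraMap F K)).IsRoot x → orderOf x ≠ r * s := by
      intro x hx hxo
      have h1 := card_orbit (F := F) x (r * s) (Nat.mul_ne_zero hr.ne_zero hs.ne_zero) hxo _ rfl
      have h2 := hcardle ((Finset.range (orderOf ((Fintype.card F : ℕ) : ZMod (r * s)))).image fun i => x ^ (Fintype.card F ^ i)) (by
        intro y hy
        obtain ⟨i, -, rfl⟩ := Finset.mem_image.mp hy
        exact isRoot_frob _ x hx i)
      rw [h1] at h2
      set M := orderOf ((Fintype.card F : ℕ) : ZMod (r * s)) with hM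
      have hM1 : ((Fintype.card F : ℕ) : ZMod (r * s)) ^ M = 1 := pow_orderOf_eq_one _
      have hMpos : 0 < M := by
        rw [hM]
        have hu : IsUnit ((Fintype.card F : ℕ) : ZMod (r * s)) := by
          rw [ZMod.isUnit_iff_coprime]
          exact Nat.Coprime.mul_right ((Nat.Prime.coprime_iff_not_dvd hr).mpr (hprq r hr hrp)).symm
            ((Nat.Prime.coprime_iff_not_dvd hs).mpr (hprq s hs hsp)).symm
        have : NeZero (r * s) := ⟨Nat.mul_ne_zero hr.ne_zero hs.ne_zero⟩
        obtain ⟨u, hu⟩ := hu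
        rw [← hu, orderOf_units]
        exact orderOf_pos u
      have hdvdM : r * s ∣ Fintype.card F ^ M - 1 := by
        have hpos : 1 ≤ Fintype.card F ^ M := Nat.one_le_pow _ _ (by omega)
        rw [← ZMod.natCast_eq_zero_iff, Nat.cast_sub hpos]
        push_cast
        rw [hM1, sub_self]
      have hkM : k ∣ M := (order_dvd_iff r M k hr hk).mp ((dvd_mul_right _ _).trans hdvdM)
      have hlM : l ∣ M := (order_dvd_iff s M l hs hl).mp ((dvd_mul_left _ _).trans hdvdM)
      obtain ⟨t, ht⟩ := hlM
      rcases Nat.lt_or_ge t 2 with ht2 | ht2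
      · interval_cases t
        · omega
        · rw [ht, mul_one] at hkM; exact hndvd hkM
      · nlinarith
    -- orders of `a`, `b`
    have hoa : orderOf a = r := by
      have h1 : orderOf a ∣ r * s := orderOf_dvd_of_pow_eq_one (hpow a ha)
      obtain ⟨x, y, hx, hy, hxy⟩ := (Nat.dvd_mul).mp h1
      rcases (Nat.dvd_prime hr).mp hx with hx | hx <;> rcases (Nat.dvd_prime hs).mp hy with hy | hy
      · exfalso; apply has; rw [orderOf_dvd_iff_pow_eq_one.symm, ← hxy, hx, hy]; exact ⟨s, by ring⟩
      · exfalso; apply has; rw [orderOf_dvd_iff_pow_eq_one.symm, ← hxy, hx, hy]; exact ⟨1, by ring⟩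
      · rw [← hxy, hx, hy, mul_one]
      · exact absurd (by rw [← hxy, hx, hy]) (hbig a ha)
    have hob : orderOf b = s := by
      have h1 : orderOf b ∣ r * s := orderOf_dvd_of_pow_eq_one (hpow b hb)
      obtain ⟨x, y, hx, hy, hxy⟩ := (Nat.dvd_mul).mp h1
      rcases (Nat.dvd_prime hr).mp hx with hx | hx <;> rcases (Nat.dvd_prime hs).mp hy with hy | hy
      · exfalso; apply hbr; rw [orderOf_dvd_iff_pow_eq_one.symm, ← hxy, hx, hy]; exact ⟨r, by ring⟩
      · rw [← hxy, hx, hy, one_mul]
      · exfalso; apply hbr; rw [orderOf_dvd_iff_pow_eq_one.symm, ← hxy, hx, hy]; exact ⟨1, by ring⟩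
      · exact absurd (by rw [← hxy, hx, hy]) (hbig b hb)
    have hca := card_orbit (F := F) a r hr.ne_zero hoa k hk
    have hcb := card_orbit (F := F) b s hs.ne_zero hob l hl
    have hdisj : Disjoint ((Finset.range k).image fun i => a ^ (Fintype.card F ^ i)) ((Finset.range l).image fun i => b ^ (Fintype.card F ^ i)) := by
      rw [Finset.disjoint_left]
      intro x hx hx'
      obtain ⟨i, -, hi⟩ := Finset.mem_image.mp hx
      obtain ⟨j, -, hj⟩ := Finset.mem_image.mp hx'
      have h1 : x ^ r = 1 := by rw [← hi, ← pow_mul, mul_comm, pow_mul, ← hoa, pow_orderOf_eq_one, one_pow]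
      have h2 : x ^ s = 1 := by rw [← hj, ← pow_mul, mul_comm, pow_mul, ← hob, pow_orderOf_eq_one, one_pow]
      have h3 : orderOf x ∣ 1 := by
        have hc : Nat.gcd r s = 1 := (Nat.coprime_primes hr hs).mpr hrs
        rw [← hc]
        exact Nat.dvd_gcd (orderOf_dvd_of_pow_eq_one h1) (orderOf_dvd_of_pow_eq_one h2)
      have h4 : x = 1 := orderOf_eq_one_iff.mp (Nat.dvd_one.mp h3)
      rw [h4] at hi
      have h5 := orderOf_dvd_of_pow_eq_one hi
      rw [hoa] at h5
      exact hprq r hr hrp (hr.dvd_of_dvd_pow h5)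
    have hfin := hcardle (((Finset.range k).image fun i => a ^ (Fintype.card F ^ i)) ∪ ((Finset.range l).image fun i => b ^ (Fintype.card F ^ i)))
      (by
        intro x hx
        rcases Finset.mem_union.mp hx with hx | hx
        · obtain ⟨i, -, rfl⟩ := Finset.mem_image.mp hx
          exact isRoot_frob _ a ha i
        · obtain ⟨i, -, rfl⟩ := Finset.mem_image.mp hx
          exact isRoot_frob _ b hb i)
    rw [Finset.card_union_of_disjoint hdisj, hca, hcb] at hfin
    omega

end Cfsg.Agent.S2468
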