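import Cfsg.Statements.S2469
import Cfsg.Agent.Iso44.SpOrd

set_option autoImplicit false
open Cfsg

namespace Cfsg.Agent.S2469

open Cfsg.Agent.Iso44.SpOrd


/-- Adjacency of two odd primes in the prime graph of PSp(2n,q): let F be a finite field of characteristic p with q elements, n ≥ 2 with PSp(2n,F) simple, and let r ≠ s be odd primes different from p dividing the order of PSp(2n,F). Let k, l be the multiplicative orders of q modulo r and s, put η(m) = m for odd m and η(m) = m/2 for even m, and suppose η(k) ≤ η(l). Then PSp(2n,F) has NO element of order r·s if and only if η(k) + η(l) > n and l/k is not an odd integer. -/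
theorem result {F : Type*} [Field F] [Fintype F] (p : ℕ) [Fact p.Prime] [CharP F p] (n : ℕ) (hn : 2 ≤ n) (hsmall : n = 2 → 3 ≤ Fintype.card F)
    (r s : ℕ) (hr : r.Prime) (hs : s.Prime) (hr2 : r ≠ 2) (hs2 : s ≠ 2) (hrp : r ≠ p) (hsp : s ≠ p) (hrs : r ≠ s)
    (hrG : r ∣ Nat.card (Cfsg.PSp n F)) (hsG : s ∣ Nat.card (Cfsg.PSp n F))
    (k l ηk ηl : ℕ) (hk : k = orderOf ((Fintype.card F : ℕ) : ZMod r)) (hl : l = orderOf ((Fintype.card F : ℕ) : ZMod s))
    (hηk : (Odd k ∧ ηk = k) ∨ (Even k ∧ 2 * ηk = k)) (hηl : (Odd l ∧ ηl = l) ∨ (Even l ∧ 2 * ηl = l)) (hkl : ηk ≤ ηl) :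
    (r * s ∉ Set.range (orderOf : Cfsg.PSp n F → ℕ)) ↔ (n < ηk + ηl ∧ ¬ ∃ t : ℕ, Odd t ∧ l = k * t) := by
  classical
  haveI : Fact r.Prime := ⟨hr⟩
  haveI : Fact s.Prime := ⟨hs⟩
  haveI : Finite (Cfsg.PSp n F) := Quotient.finite _
  have hr3 : 2 < r := lt_of_le_of_ne hr.two_le (Ne.symm hr2)
  have hs3 : 2 < s := lt_of_le_of_ne hs.two_le (Ne.symm hs2)
  have hpr : Nat.Coprime p r := (Nat.coprime_primes Fact.out hr).mpr (Ne.symm hrp)
  have hps : Nat.Coprime p s := (Nat.coprime_primes Fact.out hs).mpr (Ne.symm hsp)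
  have hrsc : Nat.Coprime r s := (Nat.coprime_primes hr hs).mpr hrs
  obtain ⟨m, hpp, hm⟩ := FiniteField.card F p
  have hqr : Nat.Coprime (Fintype.card F) r := by rw [hm]; exact hpr.pow_left _
  have hqs : Nat.Coprime (Fintype.card F) s := by rw [hm]; exact hps.pow_left _
  have hqrs : Nat.Coprime (Fintype.card F) (r * s) := Nat.Coprime.mul_right hqr hqs
  have hk0 : 0 < k := by rw [hk]; exact ord_pos (ne_zero_of_coprime hqr)
  have hl0 : 0 < l := by rw [hl]; exact ord_pos (ne_zero_of_coprime hqs)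
  have hηk0 := eta_pos hk0 hηk
  have hηl0 := eta_pos hl0 hηl
  have hro : Odd r := hr.odd_of_ne_two hr2
  have hso : Odd s := hs.odd_of_ne_two hs2
  have hmink := min_of_eta hk hηk
  have hminl := min_of_eta hl hηl
  constructor
  · intro hnot
    constructor
    · by_contra hle
      push Not at hle
      apply hnot
      obtain ⟨a, ha⟩ := exists_unit_order (F := F) p hpr
      obtain ⟨b, hb⟩ := exists_unit_order (F := F) p hps
      have hda := natDegree_dvd (e := ηk) a (pow_card_of_pm ha ((eta_dvd hk hηk ηk).mpr dvd_rfl))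
      have hdb := natDegree_dvd (e := ηl) b (pow_card_of_pm hb ((eta_dvd hl hηl ηl).mpr dvd_rfl))
      have hda' := Nat.le_of_dvd hηk0 hda
      have hdb' := Nat.le_of_dvd hηl0 hdb
      obtain ⟨A, hA⟩ := exists_sp_eig₂ n a b (by omega)
      have h1 := dvd_orderOf_psp A hA.1 (by rw [ha]; exact hro)
      have h2 := dvd_orderOf_psp A hA.2 (by rw [hb]; exact hso)
      rw [ha] at h1
      rw [hb] at h2
      exact exists_of_dvd (hrsc.mul_dvd_of_dvd_of_dvd h1 h2)
    · rintro ⟨t, ht, hlt⟩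
      apply hnot
      obtain ⟨c, hc⟩ := exists_unit_order (F := F) p (Nat.Coprime.mul_right hpr hps)
      have hpm : ((Fintype.card F : ℕ) : ZMod (r * s)) ^ ηl = 1 ∨ ((Fintype.card F : ℕ) : ZMod (r * s)) ^ ηl = -1 :=
        pm_mul hrsc (pm_of_odd_mul hk hl hk0 hl0 hηk hηl ht hlt)
      have hdc := natDegree_dvd (e := ηl) c (pow_card_of_pm hc hpm)
      have hdc' := Nat.le_of_dvd hηl0 hdc
      have hln := eta_le p hpp hqs hs hs3 hps hsG hminl
      obtain ⟨A, hA⟩ := exists_sp_eig₁ n c (by omega)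
      have h1 := dvd_orderOf_psp A hA (by rw [hc]; exact hro.mul hso)
      rw [hc] at h1
      exact exists_of_dvd h1
  · rintro ⟨hlt, hnt⟩ ⟨x, hx⟩
    obtain ⟨A, hA⟩ := exists_sp_of_odd x (by rw [hx]; exact hro.mul hso)
    rw [hx] at hA
    obtain ⟨ν, hν, hνr⟩ := exists_eig_dvd (p := p) A hA hr hs hpr hps
    obtain ⟨μ, hμ, hμs⟩ := exists_eig_dvd (p := p) A (by rw [hA, mul_comm] : orderOf A = s * r) hs hr hps hpr
    rcases hνr with hνr | hνr
    · rcases hμs with hμs | hμs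
      · have := card_orb_le₂ A hν hμ hνr hr3 hqr hmink hμs hs3 hqs hminl hrs
        omega
      · rw [mul_comm] at hμs
        exact absurd (both hk hl hk0 hl0 hηk hηl hr3 hs3 hrsc hqrs A hμ hμs hkl hlt) hnt
    · exact absurd (both hk hl hk0 hl0 hηk hηl hr3 hs3 hrsc hqrs A hν hνr hkl hlt) hnt

end Cfsg.Agent.S2469
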