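import Cfsg.Statements.S2470
import Cfsg.Agent.H41.SepCent2

set_option autoImplicit false
set_option linter.unusedSimpArgs false
open Cfsg

namespace Cfsg.Agent.S2470

open Cfsg.Agent.H41 Matrix Polynomial

theorem jpow {F : Type*} [Field F] (j : ℕ) : (!![1, 1; 0, 1] : Matrix (Fin 2) (Fin 2) F) ^ j = !![1, (j : F); 0, 1] := by
  induction j with
  | zero => ext i k; fin_cases i <;> fin_cases k <;> simp
  | succ j ih =>
    rw [pow_succ, ih]
    ext i k; fin_cases i <;> fin_cases k <;> simp [Matrix.mul_apply, Fin.sum_univ_two]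
    ring

theorem jp {F : Type*} [Field F] (p : ℕ) [CharP F p] : (!![1, 1; 0, 1] : Matrix (Fin 2) (Fin 2) F) ^ p = 1 := by
  rw [jpow, CharP.cast_eq_zero]
  ext i k; fin_cases i <;> fin_cases k <;> simp

theorem dpow {F : Type*} [Field F] (a : F) (r : ℕ) (ha : a ^ r = 1) : (!![a, 0; 0, a⁻¹] : Matrix (Fin 2) (Fin 2) F) ^ r = 1 := by
  have h : ∀ j : ℕ, (!![a, 0; 0, a⁻¹] : Matrix (Fin 2) (Fin 2) F) ^ j = !![a ^ j, 0; 0, a⁻¹ ^ j] := by
    intro j
    induction j with
    | zero => ext i k; fin_cases i <;> fin_cases k <;> simp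
    | succ j ih =>
      rw [pow_succ, ih]
      ext i k; fin_cases i <;> fin_cases k <;> simp [Matrix.mul_apply, Fin.sum_univ_two, pow_succ]
  rw [h, inv_pow, ha]
  ext i k; fin_cases i <;> fin_cases k <;> simp

theorem jdet {F : Type*} [Field F] : (!![1, 1; 0, 1] : Matrix (Fin 2) (Fin 2) F).det = 1 := by
  rw [Matrix.det_fin_two_of]; ring

theorem nonscalar_block₁ {F : Type*} [Field F] {α β : Type*} [Fintype α] [Fintype β] [DecidableEq α] [DecidableEq β]
    (A : Matrix α α F) (B : Matrix β β F) (h : ∀ c : F, A ≠ c • 1) : ∀ c : F, fromBlocks A 0 0 B ≠ c • (1 : Matrix (α ⊕ β) (α ⊕ β) F) := by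
  intro c hc
  apply h c
  have := congrArg Matrix.toBlocks₁₁ hc
  rw [toBlocks_fromBlocks₁₁, ← fromBlocks_one, fromBlocks_smul, toBlocks_fromBlocks₁₁] at this
  exact this

theorem nonscalar_block₂ {F : Type*} [Field F] {α β : Type*} [Fintype α] [Fintype β] [DecidableEq α] [DecidableEq β]
    (A : Matrix α α F) (B : Matrix β β F) (h : ∀ c : F, B ≠ c • 1) : ∀ c : F, fromBlocks A 0 0 B ≠ c • (1 : Matrix (α ⊕ β) (α ⊕ β) F) := by
  intro c hc
  apply h c
  have := congrArg Matrix.toBlocks₂₂ hc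
  rw [toBlocks_fromBlocks₂₂, ← fromBlocks_one, fromBlocks_smul, toBlocks_fromBlocks₂₂] at this
  exact this

theorem jns {F : Type*} [Field F] : ∀ c : F, (!![1, 1; 0, 1] : Matrix (Fin 2) (Fin 2) F) ≠ c • 1 := by
  intro c hc
  have := congrFun (congrFun hc 0) 1
  simp at this

theorem exist_aux {F : Type*} [Field F] [Fintype F] (p : ℕ) [Fact p.Prime] [CharP F p] (n : ℕ) (hn : 2 ≤ n)
    (r : ℕ) (hr : r.Prime) (hr2 : r ≠ 2) (hrp : r ≠ p)
    (k : ℕ) (hk : k = orderOf ((Fintype.card F : ℕ) : ZMod r)) (hk0 : 0 < k) (hkn : k ≤ n - 2)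
    (hex : ¬ (n = 3 ∧ r = 3 ∧ 3 ∣ Fintype.card F - 1 ∧ ¬ 9 ∣ Fintype.card F - 1)) :
    r * p ∈ Set.range (orderOf : Matrix.ProjectiveSpecialLinearGroup (Fin n) F → ℕ) := by
  have hpp : p.Prime := Fact.out
  have hq1 : 1 < Fintype.card F := Fintype.one_lt_card
  have horder : ∀ d : ℕ, d ∣ Fintype.card F - 1 → ∃ a : F, a ≠ 0 ∧ orderOf a = d := by
    intro d hd
    have hcu : Nat.card Fˣ = Fintype.card F - 1 := by rw [Nat.card_units, Nat.card_eq_fintype_card]
    rw [← hcu] at hd
    obtain ⟨g, hg⟩ := IsCyclic.exists_generator (α := Fˣ)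
    have hgo : orderOf g = Nat.card Fˣ := orderOf_eq_card_of_forall_mem_zpowers hg
    obtain ⟨c, hc⟩ := hd
    have hpos : 0 < Nat.card Fˣ := Nat.card_pos
    have hc0 : c ≠ 0 := by rintro rfl; omega
    have hd0 : 0 < d := by
      rcases Nat.eq_zero_or_pos d with h | h
      · rw [h, zero_mul] at hc; omega
      · exact h
    refine ⟨((g ^ c : Fˣ) : F), Units.ne_zero _, ?_⟩
    rw [orderOf_units, orderOf_pow_of_dvd hc0 (by rw [hgo, hc]; exact dvd_mul_left _ _), hgo, hc]
    exact Nat.mul_div_cancel _ (Nat.pos_of_ne_zero hc0)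
  by_cases hk1 : k = 1
  · have hrq : r ∣ Fintype.card F - 1 := by
      have := (order_dvd_iff r 1 k hr hk).mpr (by rw [hk1])
      rwa [pow_one] at this
    by_cases hn3 : n = 3
    · -- n = 3
      subst hn3
      -- an element `a` with `a ^ (3 r) = 1` and `a ^ 3 ≠ 1`
      obtain ⟨a, ha0, ha1, ha2⟩ : ∃ a : F, a ≠ 0 ∧ a ^ (3 * r) = 1 ∧ a ^ 3 ≠ 1 := by
        by_cases hr3 : r = 3
        · subst hr3
          have h9 : 9 ∣ Fintype.card F - 1 := by
            by_contra h
            exact hex ⟨rfl, rfl, hrq, h⟩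
          obtain ⟨a, ha0, ha⟩ := horder 9 h9
          refine ⟨a, ha0, ?_, ?_⟩
          · rw [show 3 * 3 = 9 by norm_num, ← ha, pow_orderOf_eq_one]
          · intro h
            have := orderOf_dvd_of_pow_eq_one h
            rw [ha] at this; norm_num at this
        · obtain ⟨a, ha0, ha⟩ := horder r hrq
          refine ⟨a, ha0, ?_, ?_⟩
          · rw [mul_comm, pow_mul, ← ha, pow_orderOf_eq_one, one_pow]
          · intro h
            have := orderOf_dvd_of_pow_eq_one h
            rw [ha] at this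
            exact hr3 ((Nat.prime_dvd_prime_iff_eq hr Nat.prime_three).mp this)
      refine range_of_commuting_mod (ι := Fin 2 ⊕ Fin 1) 3 r p (by simp) hr hpp hrp
        (fromBlocks (a • (1 : Matrix (Fin 2) (Fin 2) F)) 0 0 ((a⁻¹ ^ 2) • (1 : Matrix (Fin 1) (Fin 1) F)))
        (fromBlocks !![1, 1; 0, 1] 0 0 (1 : Matrix (Fin 1) (Fin 1) F)) ?_ ?_ ?_ ⟨a ^ r, ?_⟩ ?_ ⟨1, ?_⟩ ?_
      · rw [fromBlocks_multiply, fromBlocks_multiply]; simp
      · rw [det_fromBlocks_zero₂₁, det_smul, det_smul]; simp; field_simp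
      · rw [det_fromBlocks_zero₂₁, jdet, det_one, mul_one]
      · have h1 : (a⁻¹ ^ 2) ^ r = a ^ r := by
          rw [← pow_mul, inv_pow, inv_eq_iff_eq_inv]
          apply eq_inv_of_mul_eq_one_left
          rw [← pow_add, ← ha1]; congr 1; ring
        rw [fromBlocks_diagonal_pow, ← fromBlocks_one, fromBlocks_smul, smul_zero, smul_zero, _root_.smul_pow, one_pow, _root_.smul_pow,
          one_pow, h1]
      · intro c hc
        have h1 := congrFun (congrFun hc (Sum.inl 0)) (Sum.inl 0)
        have h2 := congrFun (congrFun hc (Sum.inr 0)) (Sum.inr 0)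
        simp [Matrix.fromBlocks] at h1 h2
        apply ha2
        rw [← h1] at h2
        field_simp at h2
        rw [← h2]
      · rw [fromBlocks_diagonal_pow, jp, one_pow, fromBlocks_one, one_smul]
      · exact nonscalar_block₁ _ _ jns
    · obtain ⟨a, ha0, ha⟩ := horder r hrq
      have ha1 : a ^ r = 1 := by rw [← ha, pow_orderOf_eq_one]
      have hane : a ≠ 1 := by
        rintro rfl
        rw [orderOf_one] at ha
        exact hr.one_lt.ne ha
      refine range_of_commuting_mod (ι := Fin 2 ⊕ (Fin 2 ⊕ Fin (n - 4))) n r p (by simp; omega) hr hpp hrp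
        (fromBlocks !![a, 0; 0, a⁻¹] 0 0 1)
        (fromBlocks 1 0 0 (fromBlocks !![1, 1; 0, 1] 0 0 1)) ?_ ?_ ?_ ⟨1, ?_⟩ ?_ ⟨1, ?_⟩ ?_
      · rw [fromBlocks_multiply, fromBlocks_multiply]; simp
      · rw [det_fromBlocks_zero₂₁, det_one, Matrix.det_fin_two_of]; simp [ha0]
      · rw [det_fromBlocks_zero₂₁, det_fromBlocks_zero₂₁, jdet, det_one, det_one]; simp
      · rw [fromBlocks_diagonal_pow, dpow a r ha1, one_pow, one_smul, fromBlocks_one]
      · intro c hc
        have h1 := congrFun (congrFun hc (Sum.inl 0)) (Sum.inl 0)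
        have h2 := congrFun (congrFun hc (Sum.inr (Sum.inl 0))) (Sum.inr (Sum.inl 0))
        simp [Matrix.fromBlocks] at h1 h2
        rw [← h2] at h1
        exact hane h1
      · rw [fromBlocks_diagonal_pow, fromBlocks_diagonal_pow, jp, one_pow, one_pow, fromBlocks_one, fromBlocks_one, one_smul]
      · exact nonscalar_block₂ _ _ (nonscalar_block₁ _ _ jns)
  · have hrq : ¬ r ∣ Fintype.card F - 1 := by
      intro h
      have := (order_dvd_iff r 1 k hr hk).mp (by rwa [pow_one])
      exact hk1 (Nat.dvd_one.mp this)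
    obtain ⟨A, -, -, hA, -⟩ := exists_commuting_matrix (F := F) k r 1 (by omega)
      (by rw [Nat.card_eq_fintype_card]; exact (order_dvd_iff r k k hr hk).mpr dvd_rfl) (one_dvd _)
    have hAr : A ^ r = 1 := (hA r).mpr dvd_rfl
    have hA1 : ∀ c : F, A ≠ c • 1 := by
      intro c hc
      have hc1 : c ^ r = 1 := by
        have h1 : (c • (1 : Matrix (Fin k) (Fin k) F)) ^ r = 1 := by rw [← hc]; exact hAr
        rw [_root_.smul_pow, one_pow] at h1
        have h2 := congrFun (congrFun h1 ⟨0, hk0⟩) ⟨0, hk0⟩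
        simpa using h2
      have hc0 : c ≠ 0 := by
        rintro rfl; rw [zero_pow hr.ne_zero] at hc1; exact zero_ne_one hc1
      have h2 : c ^ (Fintype.card F - 1) = 1 := FiniteField.pow_card_sub_one_eq_one _ hc0
      have h3 := orderOf_dvd_of_pow_eq_one hc1
      have h4 := orderOf_dvd_of_pow_eq_one h2
      rcases (Nat.dvd_prime hr).mp h3 with h5 | h5
      · have h6 : c = 1 := orderOf_eq_one_iff.mp h5
        have h7 := (hA 1).mp (by rw [hc, h6, one_smul, one_pow])
        exact hr.one_lt.ne' (Nat.dvd_one.mp h7)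
      · rw [h5] at h4; exact absurd h4 hrq
    refine range_of_commuting_mod (ι := Fin k ⊕ (Fin 2 ⊕ Fin (n - k - 2))) n r p (by simp; omega) hr hpp hrp
      (fromBlocks A 0 0 1)
      (fromBlocks 1 0 0 (fromBlocks !![1, 1; 0, 1] 0 0 1)) ?_ ?_ ?_ ⟨1, ?_⟩ ?_ ⟨1, ?_⟩ ?_
    · rw [fromBlocks_multiply, fromBlocks_multiply]; simp
    · rw [det_fromBlocks_zero₂₁, det_one, det_eq_one_of_pow k r hr hrq A hAr, mul_one]
    · rw [det_fromBlocks_zero₂₁, det_fromBlocks_zero₂₁, jdet, det_one, det_one]; simp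
    · rw [fromBlocks_diagonal_pow, hAr, one_pow, one_smul, fromBlocks_one]
    · exact nonscalar_block₁ _ _ hA1
    · rw [fromBlocks_diagonal_pow, fromBlocks_diagonal_pow, jp, one_pow, one_pow, fromBlocks_one, fromBlocks_one, one_smul]
    · exact nonscalar_block₂ _ _ (nonscalar_block₁ _ _ jns)


/-- Scalars of characteristic `p` order are trivial. -/
theorem scalar_pow_p {F : Type*} [Field F] (p : ℕ) [Fact p.Prime] [CharP F p] {n : ℕ} (hn : n ≠ 0) (u : Matrix (Fin n) (Fin n) F) (c : F)
    (hu : u = c • 1) (hup : u ^ p = 1) : u = 1 := by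
  rw [hu, _root_.smul_pow, one_pow] at hup
  have h2 := congrFun (congrFun hup ⟨0, by omega⟩) ⟨0, by omega⟩
  have h3 : c ^ p = 1 := by simpa using h2
  have h4 : (c - 1) ^ p = 0 := by rw [sub_pow_char, one_pow, sub_eq_zero]; exact h3
  have h5 : c = 1 := sub_eq_zero.mp (pow_eq_zero_iff (Fact.out : p.Prime).ne_zero |>.mp h4)
  rw [hu, h5, one_smul]

theorem nonexist_two {F : Type*} [Field F] (p : ℕ) [Fact p.Prime] [CharP F p] (A u : Matrix (Fin 2) (Fin 2) F)
    (hup : u ^ p = 1) (hu1 : u ≠ 1) (hc : A * u = u * A) : ∃ c : F, A ^ p = c • 1 := by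
  obtain ⟨a, b, hab⟩ := exists_of_comm_two A u (fun c h => hu1 (scalar_pow_p p (by norm_num) u c h hup)) hc
  refine ⟨a ^ p + b ^ p, ?_⟩
  have hcomm : Commute (a • (1 : Matrix (Fin 2) (Fin 2) F)) (b • u) := by
    rw [Commute, SemiconjBy]; simp [smul_smul, mul_comm]
  rw [hab, add_pow_char_of_commute p hcomm, _root_.smul_pow, _root_.smul_pow, one_pow, hup, add_smul]

theorem aux1 {K : Type*} [Field K] (a : K) (ha : a ≠ 0) : a * (2 + (a ^ 3)⁻¹) = 2 * a + (a ^ 2)⁻¹ := by
  field_simp

theorem aux2 {K : Type*} [Field K] (a b : K) (ha : a ≠ 0) : b = a * (a⁻¹ * b) := by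
  field_simp

theorem nonexist_three {F : Type*} [Field F] [Fintype F] (p : ℕ) [Fact p.Prime] [CharP F p] (x u : Matrix (Fin 3) (Fin 3) F)
    (hp3 : 3 ≠ p) (h9 : ¬ 9 ∣ Fintype.card F - 1) (hdet : x.det = 1)
    (hup : u ^ p = 1) (hu1 : u ≠ 1) (hxu : x * u = u * x) (c : F) (hx : x ^ 3 = c • 1) (hc3 : c ^ 3 = 1) : ∃ d : F, x = d • 1 := by
  let K := AlgebraicClosure F
  have hpp : p.Prime := Fact.out
  have h3F : (3 : F) ≠ 0 := by
    intro h
    have : ((3 : ℕ) : F) = 0 := by exact_mod_cast h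
    rw [CharP.cast_eq_zero_iff F p] at this
    exact hp3 ((Nat.prime_dvd_prime_iff_eq hpp Nat.prime_three).mp this).symm
  have hinj := (algebraMap F K).injective
  obtain ⟨β, hβ, -⟩ := exists_roots_fun (K := K) 3 (x.charpoly.map (algebraMap F K)) ((Matrix.charpoly_monic x).map _)
    (by rw [natDegree_map, Matrix.charpoly_natDegree_eq_dim, Fintype.card_fin])
  have hroot : ∀ i, (β i) ^ 3 = algebraMap F K c := by
    intro i
    apply eig_pow_eq x 3 c hx
    rw [hβ, IsRoot.def, eval_prod]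
    exact Finset.prod_eq_zero (Finset.mem_univ i) (by simp)
  have hninj : ¬ Function.Injective β := by
    intro h
    have hsep : x.charpoly.Separable := by
      rw [← Polynomial.separable_map (algebraMap F K), hβ, Polynomial.separable_prod_X_sub_C_iff]
      exact h
    exact hu1 (eq_one_of_commute_separable p x u hsep hxu hup)
  have hexp : x.charpoly.map (algebraMap F K) = X ^ 3 - C (β 0 + β 1 + β 2) * X ^ 2 + C (β 0 * β 1 + β 0 * β 2 + β 1 * β 2) * X - C (β 0 * β 1 * β 2) := by
    rw [hβ, Fin.prod_univ_three]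
    simp only [map_add, map_mul]
    ring
  have htr : algebraMap F K x.trace = β 0 + β 1 + β 2 := by
    rw [Matrix.trace_eq_neg_charpoly_coeff, Fintype.card_fin, map_neg, ← coeff_map, hexp]
    simp only [coeff_sub, coeff_add, coeff_C_mul, coeff_X_pow, coeff_X, coeff_C]
    norm_num
    ring
  have hdt : β 0 * β 1 * β 2 = 1 := by
    have h1 := Matrix.det_eq_sign_charpoly_coeff x
    rw [hdet] at h1
    have h2 := congrArg (algebraMap F K) h1
    rw [map_mul, ← coeff_map, hexp, map_one] at h2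
    simp at h2
    rw [h2]; ring
  obtain ⟨a, b, hab, ha3, h2ab, haab, hβab⟩ : ∃ a b : K, b ^ 3 = algebraMap F K c ∧ a ^ 3 = algebraMap F K c ∧ algebraMap F K x.trace = 2 * a + b ∧ a * a * b = 1 ∧
      ∀ i, β i = a ∨ β i = b := by
    rw [Function.Injective] at hninj
    push Not at hninj
    obtain ⟨i, j, hij, hne⟩ := hninj
    have h01 : β 0 = β 1 ∨ β 0 = β 2 ∨ β 1 = β 2 := by
      fin_cases i <;> fin_cases j <;> simp at hij hne ⊢ <;> first | (exact Or.inl hij) | (exact Or.inl hij.symm) | (exact Or.inr (Or.inl hij)) | (exact Or.inr (Or.inl hij.symm)) | (exact Or.inr (Or.inr hij)) | (exact Or.inr (Or.inr hij.symm))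
    rcases h01 with h | h | h
    · refine ⟨β 0, β 2, hroot 2, hroot 0, by rw [htr, ← h]; ring, by rw [← hdt, ← h], ?_⟩
      intro i; fin_cases i <;> simp [h]
    · refine ⟨β 0, β 1, hroot 1, hroot 0, by rw [htr, ← h]; ring, by rw [← hdt, ← h]; ring, ?_⟩
      intro i; fin_cases i <;> simp [h]
    · refine ⟨β 1, β 0, hroot 0, hroot 1, by rw [htr, ← h]; ring, by rw [← hdt, ← h]; ring, ?_⟩
      intro i; fin_cases i <;> simp [h]
  have ha0 : a ≠ 0 := by rintro rfl; simp at haab
  have hc0 : c ≠ 0 := by rintro rfl; simp at hc3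
  have hcK : algebraMap F K c ≠ 0 := by rw [← ha3]; exact pow_ne_zero _ ha0
  -- `a ∈ F`
  have h2c : 2 + c⁻¹ ≠ 0 := by
    intro h
    have h1 : 2 * c + 1 = 0 := by
      have : (2 + c⁻¹) * c = 0 := by rw [h, zero_mul]
      rw [add_mul, inv_mul_cancel₀ hc0] at this
      exact this
    have h2 : (9 : F) = 0 := by
      have h3 : (2 * c) ^ 3 = (-1) ^ 3 := by rw [eq_neg_of_add_eq_zero_left h1]
      rw [mul_pow, hc3] at h3
      linear_combination h3
    have h3 : (3 : F) * 3 = 0 := by rw [← h2]; norm_num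
    rcases mul_eq_zero.mp h3 with h | h <;> exact h3F h
  have haF : a = algebraMap F K (x.trace * (2 + c⁻¹)⁻¹) := by
    rw [map_mul, map_inv₀, map_add, map_inv₀, ← ha3, h2ab]
    have hb : b = (a ^ 2)⁻¹ := by
      apply eq_inv_of_mul_eq_one_right
      rw [← haab]; ring
    have h2cK : (2 : K) + (a ^ 3)⁻¹ ≠ 0 := by
      rw [ha3, ← map_inv₀]
      intro h
      apply h2c
      apply hinj
      rw [map_add, map_zero, map_ofNat]
      exact h
    rw [map_ofNat, hb]
    rw [eq_mul_inv_iff_mul_eq₀ h2cK]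
    exact aux1 a ha0
  obtain ⟨e, he⟩ : ∃ e : F, e = x.trace * (2 + c⁻¹)⁻¹ := ⟨_, rfl⟩
  rw [← he] at haF
  have he0 : e ≠ 0 := by rintro rfl; rw [map_zero] at haF; exact ha0 haF
  have he9 : e ^ 9 = 1 := by
    apply hinj
    rw [map_pow, ← haF, map_one, show 9 = 3 * 3 by norm_num, pow_mul, ha3, ← map_pow, hc3, map_one]
  have he3 : e ^ 3 = 1 := by
    have h1 : e ^ (Fintype.card F - 1) = 1 := FiniteField.pow_card_sub_one_eq_one _ he0
    have h2 := orderOf_dvd_of_pow_eq_one he9
    have h3 := orderOf_dvd_of_pow_eq_one h1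
    rw [show 9 = 3 ^ 2 by norm_num, Nat.dvd_prime_pow Nat.prime_three] at h2
    obtain ⟨j, hj, hj2⟩ := h2
    rw [← orderOf_dvd_iff_pow_eq_one, hj2]
    interval_cases j
    · simp
    · simp
    · exact absurd (hj2 ▸ h3) (by simpa using h9)
  have ha31 : a ^ 3 = 1 := by rw [haF, ← map_pow, he3, map_one]
  have hba : b = a := by
    have : a ^ 2 * b = a ^ 2 * a := by rw [← pow_succ, ha31, ← haab]; ring
    exact mul_left_cancel₀ (pow_ne_zero _ ha0) this
  have hc1 : c = 1 := by
    apply hinj; rw [← ha3, ha31, map_one]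
  -- `e⁻¹ x` has all eigenvalues one
  refine ⟨e, ?_⟩
  have hy3 : (e⁻¹ • x) ^ 3 = 1 := by
    rw [_root_.smul_pow, hx, hc1, one_smul, inv_pow, he3, inv_one, one_smul]
  have hy : e⁻¹ • x = 1 := by
    have h1 := pow_eq_one_of_eig (K := K) (e⁻¹ • x) 3 1 (by exact_mod_cast h3F) hy3 (by
      intro l hl
      rw [pow_one]
      -- `l * e` is an eigenvalue of `x`
      have h2 : ((e⁻¹ • x).map (algebraMap F K)).charpoly = (e⁻¹ • x).charpoly.map (algebraMap F K) := Matrix.charpoly_map _ _
      rw [← h2, IsRoot.def, Matrix.eval_charpoly] at hl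
      have h3 : (x.charpoly.map (algebraMap F K)).IsRoot (l * a) := by
        rw [← Matrix.charpoly_map, IsRoot.def, Matrix.eval_charpoly]
        have h4 : scalar (Fin 3) (l * a) - x.map (algebraMap F K) = a • (scalar (Fin 3) l - (e⁻¹ • x).map (algebraMap F K)) := by
          ext i j
          simp only [Matrix.sub_apply, Matrix.smul_apply, Matrix.map_apply, smul_eq_mul, Matrix.scalar_apply, map_mul, map_inv₀, ← haF, mul_sub]
          congr 1
          · by_cases hij : i = j
            · subst hij; simp [mul_comm]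
            · simp [Matrix.diagonal_apply_ne _ hij]
          · exact (aux2 a _ ha0)
        rw [h4, Matrix.det_smul, hl, mul_zero]
      rw [hβ, IsRoot.def, eval_prod, Finset.prod_eq_zero_iff] at h3
      obtain ⟨i, -, hi⟩ := h3
      rw [eval_sub, eval_X, eval_C, sub_eq_zero] at hi
      have h5 : β i = a := by rcases hβab i with h | h <;> rw [h]; exact hba
      rw [h5] at hi
      exact mul_right_cancel₀ ha0 (by rw [hi, one_mul]))
    rwa [pow_one] at h1
  rw [← hy, smul_smul, mul_inv_cancel₀ he0, one_smul]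


/-- The separable case. -/
theorem sep_aux {F : Type*} [Field F] [Fintype F] (p : ℕ) [Fact p.Prime] [CharP F p] (n r : ℕ) (hn : 2 ≤ n) (hr : r.Prime) (hrp : r ≠ p)
    (k : ℕ) (hk : k = orderOf ((Fintype.card F : ℕ) : ZMod r)) (hrq : ¬ r ∣ Fintype.card F - 1) (hkn : n - 1 ≤ k)
    (x : Matrix (Fin n) (Fin n) F) (hx : x ^ r = 1) (hx1 : x ≠ 1) : x.charpoly.Separable := by
  classical
  let K := AlgebraicClosure F
  have hrF : (r : F) ≠ 0 := by
    rw [Ne, CharP.cast_eq_zero_iff F p]
    intro h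
    exact hrp ((Nat.prime_dvd_prime_iff_eq Fact.out hr).mp h).symm
  obtain ⟨l, hl, hl1⟩ : ∃ l : K, (x.charpoly.map (algebraMap F K)).IsRoot l ∧ l ^ 1 ≠ 1 := by
    by_contra hcon
    push Not at hcon
    apply hx1
    have := pow_eq_one_of_eig (K := K) x r 1 hrF hx hcon
    rwa [pow_one] at this
  rw [pow_one] at hl1
  have hlr : l ^ r = 1 := eig_pow_eq_one x r hx l hl
  have hlo : orderOf l = r := by
    have : Fact r.Prime := ⟨hr⟩
    exact orderOf_eq_prime hlr hl1
  have hint : IsIntegral F l := Algebra.IsIntegral.isIntegral l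
  obtain ⟨m, hm⟩ : ∃ m, m = minpoly F l := ⟨_, rfl⟩
  have hmirr : Irreducible m := hm ▸ minpoly.irreducible hint
  have hmmon : m.Monic := hm ▸ minpoly.monic hint
  have hmsep : m.Separable := PerfectField.separable_of_irreducible hmirr
  have hmdvd : m ∣ x.charpoly := by
    rw [hm]
    apply minpoly.dvd
    rw [← eval_map_algebraMap]; exact hl
  have hmroot : (m.map (algebraMap F K)).IsRoot l := by
    rw [IsRoot.def, eval_map_algebraMap, hm, minpoly.aeval]
  have hmdeg : k ≤ m.natDegree := by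
    have h1 := card_orbit (F := F) l r hr.ne_zero hlo k hk
    have h2 : ((Finset.range k).image fun i => l ^ (Fintype.card F ^ i)).card ≤ (m.map (algebraMap F K)).natDegree := by
      apply Polynomial.card_le_degree_of_subset_roots
      intro y hy
      rw [Finset.mem_val] at hy
      rw [mem_roots (hmmon.map _).ne_zero]
      obtain ⟨i, -, rfl⟩ := Finset.mem_image.mp hy
      exact isRoot_frob _ l hmroot i
    rwa [h1, natDegree_map] at h2
  obtain ⟨t, ht⟩ := hmdvd
  have hcm := Matrix.charpoly_monic x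
  have htm : t.Monic := by
    rw [ht] at hcm
    exact hmmon.of_mul_monic_left hcm
  have hdeg : m.natDegree + t.natDegree = n := by
    rw [← hmmon.natDegree_mul htm, ← ht, Matrix.charpoly_natDegree_eq_dim, Fintype.card_fin]
  rw [ht]
  rcases Nat.eq_zero_or_pos t.natDegree with h0 | h0
  · rw [htm.natDegree_eq_zero.mp h0, mul_one]; exact hmsep
  · have h1 : t.natDegree = 1 := by omega
    obtain ⟨b, hb⟩ : ∃ b, t = X - C b := by
      refine ⟨-t.coeff 0, ?_⟩
      rw [C_neg, sub_neg_eq_add]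
      exact htm.eq_X_add_C h1
    have hb1 : b = 1 := by
      have h2 : (x.charpoly.map (algebraMap F F)).IsRoot b := by
        rw [Algebra.algebraMap_self, Polynomial.map_id, ht, hb, IsRoot.def, eval_mul]; simp
      have h3 : b ^ r = 1 := eig_pow_eq_one x r hx b h2
      have hb0 : b ≠ 0 := by rintro rfl; rw [zero_pow hr.ne_zero] at h3; exact zero_ne_one h3
      have h4 : b ^ (Fintype.card F - 1) = 1 := FiniteField.pow_card_sub_one_eq_one _ hb0
      have h5 := orderOf_dvd_of_pow_eq_one h3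
      have h6 := orderOf_dvd_of_pow_eq_one h4
      rcases (Nat.dvd_prime hr).mp h5 with h | h
      · exact orderOf_eq_one_iff.mp h
      · rw [h] at h6; exact absurd h6 hrq
    rw [hb, hb1]
    apply hmsep.mul (separable_X_sub_C)
    rcases (EuclideanDomain.dvd_or_coprime m (X - C 1) hmirr).symm with h | h
    · exact h
    · exfalso
      apply hl1
      have h2 := hmroot.dvd (Polynomial.map_dvd (algebraMap F K) h)
      simpa [sub_eq_zero] using h2

/-- Adjacency of an odd prime and the characteristic in the prime graph of PSL(n,q): let F be a finite field of characteristic p with q elements, n ≥ 2 with PSL(n,F) simple, and let r ≠ p be an odd prime dividing the order of PSL(n,F), with k the multiplicative order of q modulo r. Then PSL(n,F) has NO element of order r·p if and only if either k > n − 2, or n = 3, r = 3 and 3 divides q − 1 exactly once. -/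
theorem result {F : Type*} [Field F] [Fintype F] (p : ℕ) [Fact p.Prime] [CharP F p] (n : ℕ) (hn : 2 ≤ n) (hsmall : n = 2 → 4 ≤ Fintype.card F)
    (r : ℕ) (hr : r.Prime) (hr2 : r ≠ 2) (hrp : r ≠ p) (hrG : r ∣ Nat.card (Matrix.ProjectiveSpecialLinearGroup (Fin n) F))
    (k : ℕ) (hk : k = orderOf ((Fintype.card F : ℕ) : ZMod r)) :
    (r * p ∉ Set.range (orderOf : Matrix.ProjectiveSpecialLinearGroup (Fin n) F → ℕ)) ↔
      (n - 2 < k ∨ (n = 3 ∧ r = 3 ∧ 3 ∣ Fintype.card F - 1 ∧ ¬ 9 ∣ Fintype.card F - 1)) := by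
  have hpp : p.Prime := Fact.out
  have hq1 : 1 < Fintype.card F := Fintype.one_lt_card
  obtain ⟨m, hm0, hm⟩ := FiniteField.card F p
  have hrcop : r.Coprime (Fintype.card F) := by
    rw [hm]
    exact Nat.Coprime.pow_right _ ((Nat.coprime_primes hr hpp).mpr hrp)
  have hk0 : 0 < k := by
    have hu : IsUnit ((Fintype.card F : ℕ) : ZMod r) := by
      rw [ZMod.isUnit_iff_coprime]; exact hrcop.symm
    have : NeZero r := ⟨hr.ne_zero⟩
    obtain ⟨u, hu⟩ := hu
    rw [hk, ← hu, orderOf_units]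
    exact orderOf_pos u
  have hpN : ¬ p ∣ Fintype.card F - 1 := by
    intro h
    have h1 : p ∣ Fintype.card F := by rw [hm]; exact dvd_pow_self _ m.ne_zero
    have h2 := Nat.dvd_sub h1 h
    rw [Nat.sub_sub_self hq1.le] at h2
    exact hpp.one_lt.ne' (Nat.dvd_one.mp h2)
  constructor
  · intro hno
    by_contra hcon
    push Not at hcon
    apply hno
    refine exist_aux p n hn r hr hr2 hrp k hk hk0 hcon.1 ?_
    rintro ⟨h1, h2, h3, h4⟩
    exact h4 (hcon.2 h1 h2 h3)
  · rintro hcase ⟨g, hg⟩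
    obtain ⟨A, rfl⟩ := QuotientGroup.mk_surjective g
    -- `A ^ (r p)` is scalar
    have h1 : (QuotientGroup.mk (A ^ (r * p)) : Matrix.ProjectiveSpecialLinearGroup (Fin n) F) = 1 := by
      rw [QuotientGroup.mk_pow, ← hg, pow_orderOf_eq_one]
    have h2 : A ^ (r * p) ∈ Subgroup.center (Matrix.SpecialLinearGroup (Fin n) F) := (QuotientGroup.eq_one_iff _).mp h1
    rw [Matrix.SpecialLinearGroup.mem_center_iff] at h2
    obtain ⟨c, hc1, hc2⟩ := h2
    rw [Fintype.card_fin] at hc1
    have hn0 : n ≠ 0 := by omega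
    have hc0 : c ≠ 0 := by
      intro hc; rw [hc, zero_pow hn0] at hc1; exact zero_ne_one hc1
    have hcen : ∀ (B : Matrix.SpecialLinearGroup (Fin n) F) (d : F), (B : Matrix (Fin n) (Fin n) F) = d • 1 →
        (QuotientGroup.mk B : Matrix.ProjectiveSpecialLinearGroup (Fin n) F) = 1 := by
      intro B d hB
      apply (QuotientGroup.eq_one_iff _).mpr
      rw [Matrix.SpecialLinearGroup.mem_center_iff]
      refine ⟨d, ?_, ?_⟩
      · have := B.2
        rw [hB, det_smul, det_one, mul_one] at this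
        exact this
      · rw [hB]
        ext i j
        simp [Matrix.scalar_apply, Matrix.diagonal_apply, Matrix.one_apply]
    have hAm : (A : Matrix (Fin n) (Fin n) F) ^ (r * p) = c • 1 := by
      rw [← Matrix.SpecialLinearGroup.coe_pow, ← hc2]
      ext i j
      simp [Matrix.scalar_apply, Matrix.diagonal_apply, Matrix.one_apply]
    have hAN : (A : Matrix (Fin n) (Fin n) F) ^ (r * p * (Fintype.card F - 1)) = 1 := by
      rw [pow_mul, hAm, _root_.smul_pow, one_pow, FiniteField.pow_card_sub_one_eq_one _ hc0, one_smul]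
    have hnt : ∀ (j : ℕ) (d : F), (A : Matrix (Fin n) (Fin n) F) ^ j = d • 1 → r * p ∣ j := by
      intro j d hj
      rw [← hg]
      apply orderOf_dvd_of_pow_eq_one
      rw [← QuotientGroup.mk_pow]
      apply hcen _ d
      rw [Matrix.SpecialLinearGroup.coe_pow, hj]
    -- the `p`-part
    obtain ⟨u, hu⟩ : ∃ u, u = (A : Matrix (Fin n) (Fin n) F) ^ (r * (Fintype.card F - 1)) := ⟨_, rfl⟩
    have hup : u ^ p = 1 := by
      rw [hu, ← pow_mul, ← hAN]; congr 1; ring
    have hu1 : u ≠ 1 := by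
      intro h
      have h3 := hnt (r * (Fintype.card F - 1)) 1 (by rw [← hu, h, one_smul])
      have h4 := Nat.dvd_of_mul_dvd_mul_left hr.pos h3
      exact hpN h4
    by_cases hrq : r ∣ Fintype.card F - 1
    · have hk1 : k = 1 := Nat.dvd_one.mp ((order_dvd_iff r 1 k hr hk).mp (by rwa [pow_one]))
      by_cases hn2 : n = 2
      · subst hn2
        obtain ⟨d, hd⟩ := nonexist_two p (A : Matrix (Fin 2) (Fin 2) F) u hup hu1 (by rw [hu, ← pow_succ', pow_succ])
        have h3 := hnt p d hd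
        have h4 := Nat.le_of_dvd hpp.pos h3
        have := hr.two_le
        have := hpp.pos
        nlinarith
      · rcases hcase with hc | ⟨hn3, hr3, h3, h9⟩
        · omega
        · subst hn3 hr3
          have h3 : ∃ d : F, (A : Matrix (Fin 3) (Fin 3) F) ^ p = d • 1 := by
            refine nonexist_three p _ u hrp h9 (by rw [det_pow, A.2, one_pow]) hup hu1 (by rw [hu, ← pow_add, ← pow_add, add_comm]) c ?_ hc1
            rw [← hAm, ← pow_mul, mul_comm]
          obtain ⟨d, hd⟩ := h3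
          have h3 := hnt p d hd
          have h4 := Nat.le_of_dvd hpp.pos h3
          have := hpp.pos
          omega
    · have hk1 : k ≠ 1 := by
        rintro rfl
        apply hrq
        have := (order_dvd_iff r 1 1 hr hk).mpr dvd_rfl
        rwa [pow_one] at this
      have hkn : n - 2 < k := by
        rcases hcase with h | ⟨hn3, hr3, h3, h9⟩
        · exact h
        · exact absurd (hr3 ▸ h3) hrq
      obtain ⟨x, hx⟩ : ∃ x, x = (A : Matrix (Fin n) (Fin n) F) ^ (p * (Fintype.card F - 1)) := ⟨_, rfl⟩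
      have hxr : x ^ r = 1 := by
        rw [hx, ← pow_mul, ← hAN]; congr 1; ring
      have hx1 : x ≠ 1 := by
        intro h
        have h3 := hnt (p * (Fintype.card F - 1)) 1 (by rw [← hx, h, one_smul])
        rw [mul_comm r p] at h3
        exact hrq (Nat.dvd_of_mul_dvd_mul_left hpp.pos h3)
      exact hu1 (eq_one_of_commute_separable p x u (sep_aux p n r hn hr hrp k hk hrq (by omega) x hxr hx1)
        (by rw [hu, hx, ← pow_add, ← pow_add, add_comm]) hup)

end Cfsg.Agent.S2470
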