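import Cfsg.Statements.S2472
import Cfsg.Agent.Iso44.SpOrd
import Cfsg.Agent.H41.SepCent

set_option autoImplicit false
open Cfsg

namespace Cfsg.Agent.S2472

open Cfsg.Agent.Iso44.SpOrd Cfsg.Agent.ClassSp Polynomial

/-- orders in the projective group -/
theorem dvd_orderOf_psp' {F : Type*} [Field F] {n N : ℕ} (A : Matrix.symplecticGroup (Fin n) F) (h : N ∣ orderOf A)
    (h2 : Odd N ∨ (2 : F) = 0) : N ∣ orderOf (A : Cfsg.PSp n F) := by
  have h1 := (psp_pow_iff A (orderOf (A : Cfsg.PSp n F))).mp (pow_orderOf_eq_one _)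
  rcases h2 with h2 | h2
  · have h3 : A ^ (orderOf (A : Cfsg.PSp n F) * 2) = 1 := by
      apply Subtype.ext
      show (A : Matrix (Fin n ⊕ Fin n) (Fin n ⊕ Fin n) F) ^ (orderOf (A : Cfsg.PSp n F) * 2) = 1
      rw [pow_mul]
      rcases h1 with h | h
      · rw [h, one_pow]
      · rw [h, neg_one_sq]
    exact (Nat.coprime_two_right.mpr h2).dvd_of_dvd_mul_right (h.trans (orderOf_dvd_of_pow_eq_one h3))
  · have h3 : A ^ (orderOf (A : Cfsg.PSp n F)) = 1 := by
      apply Subtype.ext
      show (A : Matrix (Fin n ⊕ Fin n) (Fin n ⊕ Fin n) F) ^ (orderOf (A : Cfsg.PSp n F)) = 1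
      rcases h1 with h | h
      · exact h
      · rw [h]
        have h4 : (-1 : F) = 1 := by linear_combination -h2
        rw [← one_smul F (1 : Matrix (Fin n ⊕ Fin n) (Fin n ⊕ Fin n) F), ← neg_smul, h4]
    exact h.trans (orderOf_dvd_of_pow_eq_one h3)

theorem exists_sp_lift {F : Type*} [Field F] {n : ℕ} (x : Cfsg.PSp n F) (h2 : Odd (orderOf x) ∨ (2 : F) = 0) :
    ∃ A : Matrix.symplecticGroup (Fin n) F, orderOf A = orderOf x := by
  rcases h2 with h2 | h2
  · exact exists_sp_of_odd x h2
  · obtain ⟨A, rfl⟩ := QuotientGroup.mk_surjective x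
    refine ⟨A, Nat.dvd_antisymm ?_ (orderOf_dvd_of_pow_eq_one ?_)⟩
    · exact dvd_orderOf_psp' A dvd_rfl (Or.inr h2)
    · have h3 := pow_orderOf_eq_one A
      exact congrArg (fun B : Matrix.symplecticGroup (Fin n) F => (B : Cfsg.PSp n F)) h3

theorem orderOf_tv {F : Type*} [Field F] (p : ℕ) [Fact p.Prime] [CharP F p] {n : ℕ} {w : Fin n ⊕ Fin n → F} (hw : w ≠ 0) :
    orderOf (tv w (1 : F)) = p := by
  have hpow : ∀ m : ℕ, (tv w (1 : F)) ^ m = tv w (m : F) := by
    intro m
    induction m with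
    | zero => rw [pow_zero, Nat.cast_zero, tv_zero]
    | succ m ih => rw [pow_succ, ih, Nat.cast_succ, tv_add]
  apply orderOf_eq_prime
  · rw [hpow, CharP.cast_eq_zero, tv_zero]
  · intro h
    -- choose `v` with `sf v w ≠ 0`
    have h1 : ∀ v, sf v w = 0 := by
      intro v
      have h2 := congrArg (fun B : Matrix.symplecticGroup (Fin n) F => (B : Matrix (Fin n ⊕ Fin n) (Fin n ⊕ Fin n) F).mulVec v) h
      simp only [tv_mulVec, one_mulVec'] at h2
      have h3 : (1 * sf v w) • w = 0 := by
        have := congrArg (fun x => x - v) h2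
        simpa using this
      rcases smul_eq_zero.mp h3 with h4 | h4
      · simpa using h4
      · exact absurd h4 hw
    apply hw
    funext i
    have hnd := Cfsg.Agent.ClGeo.sfB_nondegenerate (F := F) (l := Fin n)
    have h4 : w = 0 := by
      apply hnd.2
      intro v
      exact h1 v
    rw [h4]

theorem exists_fixed {F : Type*} [Field F] {ι : Type*} [Fintype ι] [DecidableEq ι] (M : Matrix ι ι F)
    (h : aeval (1 : AlgebraicClosure F) M.charpoly = 0) : ∃ v : ι → F, v ≠ 0 ∧ M.mulVec v = v := by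
  have h1 : eval 1 M.charpoly = 0 := by
    have h2 : aeval (algebraMap F (AlgebraicClosure F) 1) M.charpoly = 0 := by rw [map_one]; exact h
    rw [aeval_algebraMap_apply] at h2
    have h3 := (map_eq_zero_iff _ (algebraMap F (AlgebraicClosure F)).injective).mp h2
    rwa [coe_aeval_eq_eval] at h3
  rw [Matrix.eval_charpoly] at h1
  obtain ⟨v, hv0, hv⟩ := Matrix.exists_mulVec_eq_zero_iff.mpr h1
  refine ⟨v, hv0, ?_⟩
  rw [Matrix.sub_mulVec, Matrix.scalar_apply, sub_eq_zero] at hv
  rw [← hv]
  simp [Matrix.mulVec_diagonal]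


/-- Adjacency of a prime and the characteristic in the prime graph of PSp(2n,q): let F be a finite field of characteristic p with q elements, n ≥ 2 with PSp(2n,F) simple, and let r ≠ p be an odd prime dividing the order of PSp(2n,F), with k the multiplicative order of q modulo r and η(k) = k for odd k, k/2 for even k. Then PSp(2n,F) has NO element of order r·p if and only if η(k) > n − 1. -/
theorem result {F : Type*} [Field F] [Fintype F] (p : ℕ) [Fact p.Prime] [CharP F p] (n : ℕ) (hn : 2 ≤ n) (hsmall : n = 2 → 3 ≤ Fintype.card F)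
    (r : ℕ) (hr : r.Prime) (hr2 : r ≠ 2) (hrp : r ≠ p) (hrG : r ∣ Nat.card (Cfsg.PSp n F))
    (k ηk : ℕ) (hk : k = orderOf ((Fintype.card F : ℕ) : ZMod r)) (hηk : (Odd k ∧ ηk = k) ∨ (Even k ∧ 2 * ηk = k)) :
    (r * p ∉ Set.range (orderOf : Cfsg.PSp n F → ℕ)) ↔ n - 1 < ηk := by
  classical
  haveI : Fact r.Prime := ⟨hr⟩
  haveI : Finite (Cfsg.PSp n F) := Quotient.finite _
  have hr3 : 2 < r := lt_of_le_of_ne hr.two_le (Ne.symm hr2)
  have hpr : Nat.Coprime p r := (Nat.coprime_primes Fact.out hr).mpr (Ne.symm hrp)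
  obtain ⟨m, hpp, hm⟩ := FiniteField.card F p
  have hqr : Nat.Coprime (Fintype.card F) r := by rw [hm]; exact hpr.pow_left _
  have hk0 : 0 < k := by rw [hk]; exact ord_pos (ne_zero_of_coprime hqr)
  have hηk0 := eta_pos hk0 hηk
  have hro : Odd r := hr.odd_of_ne_two hr2
  have hmink := min_of_eta hk hηk
  have h2F : Odd (r * p) ∨ (2 : F) = 0 := by
    rcases hpp.eq_two_or_odd' with h | h
    · right
      subst h
      exact_mod_cast CharP.cast_eq_zero F 2
    · left; exact hro.mul h
  constructor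
  · intro hnot
    by_contra hle
    push Not at hle
    apply hnot
    obtain ⟨a, ha⟩ := exists_unit_order (F := F) p hpr
    have hda := natDegree_dvd (e := ηk) a (pow_card_of_pm ha ((eta_dvd hk hηk ηk).mpr dvd_rfl))
    have hda' := Nat.le_of_dvd hηk0 hda
    set f := minpoly F ((a : AlgebraicClosure F) + ((a⁻¹ : (AlgebraicClosure F)ˣ) : AlgebraicClosure F)) with hf
    have hfm : f.Monic := minpoly.monic (Algebra.IsIntegral.isIntegral _)
    obtain ⟨B, hB⟩ := exists_sp n (f * (X - C 2) ^ (n - f.natDegree)) (hfm.mul ((monic_X_sub_C 2).pow _)) (by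
      rw [hfm.natDegree_mul ((monic_X_sub_C 2).pow _), natDegree_pow, natDegree_X_sub_C]
      omega)
    have hBa : a ∈ eig (B : Matrix (Fin n ⊕ Fin n) (Fin n ⊕ Fin n) F) := by
      show aeval _ _ = 0
      rw [hB _ a.ne_zero, map_mul]
      have h1 : aeval ((a : AlgebraicClosure F) + (a : AlgebraicClosure F)⁻¹) f = 0 := by
        have := minpoly.aeval F ((a : AlgebraicClosure F) + ((a⁻¹ : (AlgebraicClosure F)ˣ) : AlgebraicClosure F))
        rw [Units.val_inv_eq_inv_val] at this
        rw [hf, Units.val_inv_eq_inv_val]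
        exact this
      rw [h1]; ring
    obtain ⟨v, hv0, hv⟩ := exists_fixed (B : Matrix (Fin n ⊕ Fin n) (Fin n ⊕ Fin n) F) (by
      rw [hB 1 one_ne_zero, map_mul, map_pow, map_sub, aeval_X, aeval_C, map_ofNat, inv_one, one_add_one_eq_two, sub_self,
        zero_pow (by omega), mul_zero, mul_zero])
    have hrB : r ∣ orderOf B := by
      have h1 : (B : Matrix (Fin n ⊕ Fin n) (Fin n ⊕ Fin n) F) ^ orderOf B = 1 := congrArg Subtype.val (pow_orderOf_eq_one B)
      have := orderOf_dvd_of_eig hBa h1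
      rwa [ha] at this
    haveI : Finite (Matrix.symplecticGroup (Fin n) F) := Subtype.finite
    obtain ⟨c, hc⟩ := hrB
    have hc0 : c ≠ 0 := by
      rintro rfl
      have := orderOf_pos B
      omega
    have hg : orderOf (B ^ c) = r := by
      rw [orderOf_pow_of_dvd hc0 ⟨r, by rw [hc, mul_comm]⟩, hc, Nat.mul_div_cancel _ (Nat.pos_of_ne_zero hc0)]
    have hgv : ((B ^ c : Matrix.symplecticGroup (Fin n) F) : Matrix (Fin n ⊕ Fin n) (Fin n ⊕ Fin n) F).mulVec v = v := by
      clear hc0 hg hc
      induction c with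
      | zero => rw [pow_zero, one_mulVec']
      | succ c ih => rw [pow_succ, mul_mulVec, hv, ih]
    have hcomm : Commute (B ^ c) (tv v (1 : F)) := by
      have h1 := tv_conj (B ^ c) v (1 : F)
      rw [hgv] at h1
      exact mul_inv_eq_iff_eq_mul.mp h1
    have hord : orderOf (B ^ c * tv v (1 : F)) = r * p := by
      rw [hcomm.orderOf_mul_eq_mul_orderOf_of_coprime, hg, orderOf_tv p hv0]
      rw [hg, orderOf_tv p hv0]
      exact hpr.symm
    exact exists_of_dvd (dvd_orderOf_psp' (B ^ c * tv v (1 : F)) (by rw [hord]) h2F)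
  · rintro hlt ⟨x, hx⟩
    obtain ⟨A, hA⟩ := exists_sp_lift x (by rw [hx]; exact h2F)
    rw [hx] at hA
    have hAp : orderOf (A ^ p) = r := by
      rw [orderOf_pow_of_dvd hpp.ne_zero ⟨r, by rw [hA, mul_comm]⟩, hA, Nat.mul_div_cancel _ hpp.pos]
    have hg1 : ((A ^ p : Matrix.symplecticGroup (Fin n) F) : Matrix (Fin n ⊕ Fin n) (Fin n ⊕ Fin n) F) ^ r = 1 := by
      have h1 : (A ^ p) ^ r = 1 := by rw [← hAp]; exact pow_orderOf_eq_one _
      exact congrArg Subtype.val h1
    have hg2 : ((A ^ p : Matrix.symplecticGroup (Fin n) F) : Matrix (Fin n ⊕ Fin n) (Fin n ⊕ Fin n) F) ≠ 1 := by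
      intro h
      have h3 : A ^ p = 1 := Subtype.ext h
      rw [h3, orderOf_one] at hAp
      omega
    obtain ⟨ν, hν, hν1⟩ := exists_eig_ne_one p hg1 hpr hg2
    have hνr : orderOf ν = r := by
      rcases (Nat.dvd_prime hr).mp (orderOf_dvd_of_eig hν hg1) with h4 | h4
      · exact absurd (orderOf_eq_one_iff.mp h4) hν1
      · exact h4
    have hle := card_orb_le (A ^ p) hν hνr hr3 hqr hmink
    have heq : ηk = n := by omega
    -- separability
    have hsep : ((A ^ p : Matrix.symplecticGroup (Fin n) F) : Matrix (Fin n ⊕ Fin n) (Fin n ⊕ Fin n) F).charpoly.Separable := by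
      set P := ((A ^ p : Matrix.symplecticGroup (Fin n) F) : Matrix (Fin n ⊕ Fin n) (Fin n ⊕ Fin n) F).charpoly with hP
      have hPm : P.Monic := Matrix.charpoly_monic _
      rw [← separable_map (algebraMap F (AlgebraicClosure F)), ← nodup_roots_iff_of_splits (hPm.map _).ne_zero (IsAlgClosed.splits _)]
      rw [← Multiset.toFinset_card_eq_card_iff_nodup]
      apply le_antisymm (Multiset.toFinset_card_le _)
      refine (card_roots' _).trans ?_
      have hPd : P.natDegree = Fintype.card (Fin n ⊕ Fin n) := Matrix.charpoly_natDegree_eq_dim _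
      rw [natDegree_map, hPd]
      have h1 : (((Finset.univ.image (orb (Fintype.card F) ηk ν))).image (fun ν : (AlgebraicClosure F)ˣ => (ν : AlgebraicClosure F))) ⊆
          (P.map (algebraMap F (AlgebraicClosure F))).roots.toFinset := by
        intro x hx
        rw [Finset.mem_image] at hx
        obtain ⟨μ, hμ, rfl⟩ := hx
        rw [Finset.mem_image] at hμ
        obtain ⟨y, _, rfl⟩ := hμ
        rw [Multiset.mem_toFinset, mem_roots (hPm.map _).ne_zero, IsRoot.def, eval_map_algebraMap]
        exact orb_mem_eig (A ^ p) hν ηk y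
      have h2 := Finset.card_le_card h1
      rw [Finset.card_image_of_injective _ Units.val_injective, Finset.card_image_of_injective _ (orb_injective hνr hr3 hqr hmink),
        Finset.card_univ, Fintype.card_prod, Fintype.card_fin, Fintype.card_bool] at h2
      rw [Fintype.card_sum, Fintype.card_fin]
      omega
    have hu : (((A ^ r : Matrix.symplecticGroup (Fin n) F)) : Matrix (Fin n ⊕ Fin n) (Fin n ⊕ Fin n) F) = 1 := by
      let ψ := Matrix.reindexAlgEquiv F F (finSumFinEquiv (m := n) (n := n))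
      have h1 : ψ (((A ^ r : Matrix.symplecticGroup (Fin n) F)) : Matrix (Fin n ⊕ Fin n) (Fin n ⊕ Fin n) F) = 1 := by
        apply Cfsg.Agent.H41.eq_one_of_commute_separable p (ψ (((A ^ p : Matrix.symplecticGroup (Fin n) F)) : Matrix (Fin n ⊕ Fin n) (Fin n ⊕ Fin n) F))
        · rw [show (ψ (((A ^ p : Matrix.symplecticGroup (Fin n) F)) : Matrix (Fin n ⊕ Fin n) (Fin n ⊕ Fin n) F)) =
            Matrix.reindex (finSumFinEquiv (m := n) (n := n)) (finSumFinEquiv (m := n) (n := n)) (((A ^ p : Matrix.symplecticGroup (Fin n) F)) : Matrix (Fin n ⊕ Fin n) (Fin n ⊕ Fin n) F) from rfl,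
            Matrix.charpoly_reindex]
          exact hsep
        · rw [← map_mul, ← map_mul]
          congr 1
          have h2 : A ^ p * A ^ r = A ^ r * A ^ p := by rw [← pow_add, ← pow_add, add_comm]
          exact congrArg Subtype.val h2
        · rw [← map_pow]
          have h2 : (A ^ r) ^ p = 1 := by rw [← pow_mul, ← hA, pow_orderOf_eq_one]
          have h3 := congrArg Subtype.val h2
          have h4 : (((A ^ r : Matrix.symplecticGroup (Fin n) F)) : Matrix (Fin n ⊕ Fin n) (Fin n ⊕ Fin n) F) ^ p = 1 := h3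
          rw [h4, map_one]
      have := ψ.injective (h1.trans (map_one ψ).symm)
      exact this
    have h3 : A ^ r = 1 := Subtype.ext hu
    have h4 := orderOf_dvd_of_pow_eq_one h3
    rw [hA] at h4
    have := Nat.le_of_dvd hr.pos h4
    nlinarith [hpp.two_le, hr.pos]

end Cfsg.Agent.S2472
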