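import Cfsg.Statements.S2474
import Cfsg.Agent.H39.EForm3

set_option autoImplicit false
open Cfsg

namespace Cfsg.Agent.S2474

open Module QuadraticMap Cfsg.Agent.Orth Cfsg.Agent.H42.SpSpec Cfsg.Agent.H39.SpecBC Cfsg.Agent.ClGeo
  Cfsg.Agent.OrthCount Cfsg.Agent.OCase Cfsg.Agent.H39.EForm

/-- the arithmetic condition in the extreme case -/
def PP (q n e : ℕ) : Prop := (e = 2 * n ∧ q ^ n % 4 = 3) ∨ (e = n ∧ q ^ n % 4 = 1)

theorem cases_dim {F V : Type*} [Field F] [Finite F] [AddCommGroup V] [Module F V] [FiniteDimensional F V]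
    {Q : QuadraticForm F V} {p : ℕ} [Fact p.Prime] [CharP F p] {n r : ℕ}
    (hV : finrank F V = 2 * n + 1) (hr : r.Prime) (hr2 : r ≠ 2) (hrp : r ≠ p)
    (hno : ∀ a, 1 ≤ a → a + 1 ≤ n → ¬ orderOf ((Nat.card F : ℕ) : ZMod r) ∣ 2 * a)
    {y : OGrp Q} (hy : y ^ r = 1) {X : Submodule F V}
    (hX : ∀ x ∈ X, (y : V ≃ₗ[F] V) x ∈ X) (h : X ⊓ fx y = ⊥) (hnd : X ⊓ perp Q X = ⊥) :
    finrank F X = 0 ∨ finrank F X = 2 * n := by
  have h1 := dvd_finrank hr hrp rfl y hy hX h
  obtain ⟨t, ht⟩ := hr.odd_of_ne_two hr2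
  have hy' : y ^ (2 * t + 1) = 1 := by rw [← ht]; exact hy
  obtain ⟨a, ha⟩ := even_of_odd y hy' hX hnd h
  rw [ha] at h1
  have h3 : finrank F X ≤ finrank F V := Submodule.finrank_le X
  by_contra hcon
  push Not at hcon
  exact hno a (by omega) (by omega) h1

theorem OtoP {F V : Type*} [Field F] [Fintype F] (hodd : Odd (Fintype.card F)) [AddCommGroup V] [Module F V]
    [FiniteDimensional F V] {Q : QuadraticForm F V} (hQ : (polarBilin Q).Nondegenerate) (hR : RGrp Q = ⊤)
    {p : ℕ} [Fact p.Prime] [CharP F p] {n r e : ℕ}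
    (hV : finrank F V = 2 * n + 1) (hr : r.Prime) (hr2 : r ≠ 2) (hrp : r ≠ p)
    (he : orderOf ((Nat.card F : ℕ) : ZMod r) = e) (hn : Num e n)
    (hno : ∀ a, 1 ≤ a → a + 1 ≤ n → ¬ orderOf ((Nat.card F : ℕ) : ZMod r) ∣ 2 * a)
    (g : OGrp Q) (hg : g ∈ commutator (OGrp Q)) (hgo : orderOf g = 2 * r) : PP (Nat.card F) n e := by
  have h2 := two_ne_zero_of_odd hodd
  have hk2 : 2 ≤ n := hn.1
  have hr0 : (r : F) ≠ 0 := by
    rw [Ne, CharP.cast_eq_zero_iff F p, Nat.prime_dvd_prime_iff_eq Fact.out hr]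
    exact fun h => hrp h.symm
  have h20 : ((2 : ℕ) : F) ≠ 0 := by exact_mod_cast h2
  have hr3 : 3 ≤ r := by
    have := hr.two_le
    omega
  set y := g ^ 2 with hydef
  set z := g ^ r with hzdef
  have hy : y ^ r = 1 := by rw [hydef, ← pow_mul, ← hgo, pow_orderOf_eq_one]
  have hz : z ^ 2 = 1 := by rw [hzdef, ← pow_mul, mul_comm, ← hgo, pow_orderOf_eq_one]
  have hy1 : y ≠ 1 := by
    intro h
    have := orderOf_dvd_of_pow_eq_one h
    rw [hgo] at this
    have := Nat.le_of_dvd (by norm_num) this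
    omega
  have hz1 : z ≠ 1 := by
    intro h
    have := orderOf_dvd_of_pow_eq_one h
    rw [hgo] at this
    have := Nat.le_of_dvd (by omega) this
    omega
  have hyz : Commute y z := (Commute.refl g).pow_pow _ _
  have hzc : z ∈ commutator (OGrp Q) := Subgroup.pow_mem _ hg _
  have hC := fx_nondeg hQ hy hr0
  set C := fx y with hCdef
  set W := perp Q C with hWdef
  have hW : W ⊓ perp Q W = ⊥ := perp_inf_eq_bot hQ hC
  have hWC : W ⊓ C = ⊥ := by rw [inf_comm]; exact hC
  have hCW : C ⊔ W = ⊤ := sup_perp hQ hC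
  have hperpW : perp Q W = C := perp_perp hQ C
  have hWy : ∀ w ∈ W, (y : V ≃ₗ[F] V) w ∈ W := perp_fx_inv (Commute.refl y)
  have hdim : finrank F W + finrank F C = finrank F V := finrank_perp hQ C
  have hW0 : finrank F W ≠ 0 := by
    intro h0
    have h1 : finrank F C = finrank F V := by omega
    have h3 : C = ⊤ := Submodule.eq_top_of_finrank_eq h1
    apply hy1
    refine OGrp_ext fun x => ?_
    have : x ∈ C := by rw [h3]; exact Submodule.mem_top
    rw [coe_one_apply]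
    exact mem_fx.1 this
  have hWd : finrank F W = 2 * n :=
    (cases_dim hV hr hr2 hrp hno hy hWy hWC hW).resolve_left hW0
  have hCd : finrank F C = 1 := by omega
  have hWne : W ≠ ⊥ := by
    intro h0
    rw [h0, finrank_bot] at hW0
    exact hW0 rfl
  have hWz : ∀ w ∈ W, (z : V ≃ₗ[F] V) w ∈ W := perp_fx_inv hyz
  have hCz : ∀ w ∈ C, (z : V ≃ₗ[F] V) w ∈ C := fx_inv hyz
  have hzz : ∀ v, (z : V ≃ₗ[F] V) ((z : V ≃ₗ[F] V) v) = v := by
    intro v
    rw [← coe_mul_apply, ← pow_two, hz, coe_one_apply]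
  have hzW : (∀ w ∈ W, (z : V ≃ₗ[F] V) w = w) ∨ (∀ w ∈ W, (z : V ≃ₗ[F] V) w = -w) := by
    have hinv : ∀ w ∈ W ⊓ fx z, (y : V ≃ₗ[F] V) w ∈ W ⊓ fx z := by
      rintro w ⟨hw1, hw2⟩
      exact ⟨hWy w hw1, fx_inv hyz.symm w hw2⟩
    have hbot : (W ⊓ fx z) ⊓ C = ⊥ := by
      rw [eq_bot_iff, ← hWC]
      exact inf_le_inf_right C inf_le_left
    rcases cases_dim hV hr hr2 hrp hno hy hinv hbot (inf_fx_nondeg z hz h20 hWz hW) with h | h
    · right
      intro w hw
      have h3 : W ⊓ fx z = ⊥ := Submodule.finrank_eq_zero.1 h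
      have h4 : w + (z : V ≃ₗ[F] V) w ∈ W ⊓ fx z := by
        refine ⟨W.add_mem hw (hWz w hw), mem_fx.2 ?_⟩
        rw [map_add, hzz, add_comm]
      rw [h3, Submodule.mem_bot] at h4
      exact (neg_eq_of_add_eq_zero_right h4).symm
    · left
      have h3 : W ⊓ fx z = W := Submodule.eq_of_le_of_finrank_le inf_le_left (by omega)
      intro w hw
      rw [← h3] at hw
      exact mem_fx.1 hw.2
  have hzC : (∀ w ∈ C, (z : V ≃ₗ[F] V) w = w) ∨ (∀ w ∈ C, (z : V ≃ₗ[F] V) w = -w) := by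
    by_cases hp : finrank F ↥(C ⊓ fx z) = 0
    · right
      intro w hw
      have h3 : C ⊓ fx z = ⊥ := Submodule.finrank_eq_zero.1 hp
      have h4 : w + (z : V ≃ₗ[F] V) w ∈ C ⊓ fx z := by
        refine ⟨C.add_mem hw (hCz w hw), mem_fx.2 ?_⟩
        rw [map_add, hzz, add_comm]
      rw [h3, Submodule.mem_bot] at h4
      exact (neg_eq_of_add_eq_zero_right h4).symm
    · left
      have h3 : C ⊓ fx z = C := Submodule.eq_of_le_of_finrank_le inf_le_left (by omega)
      intro w hw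
      rw [← h3] at hw
      exact mem_fx.1 hw.2
  obtain ⟨k', hk'⟩ : ∃ k', 2 * n = k' + 1 := ⟨2 * n - 1, by omega⟩
  obtain ⟨lW, bW, hlW, hlW1, hlW2, hlW3⟩ := exists_list_sub h2 (Q := Q) hW (m := k') (by omega)
  obtain ⟨lC, bC, hlC, hlC1, hlC2, hlC3⟩ := exists_list_sub h2 (Q := Q) hC (m := 0) (by omega)
  rw [hperpW] at hlW2
  have hdvd := Cfsg.Agent.S2362.dvd_card_OG hr hy hWne hWy hWC
  rcases hzC with hzC | hzC
  · rcases hzW with hzW | hzW
    · exfalso
      apply hz1
      refine ext_of_sup hCW (fun x hx => ?_) (fun x hx => ?_)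
      · rw [hzC x hx, coe_one_apply]
      · rw [hzW x hx, coe_one_apply]
    · have hzl : z = reflProd Q lW := by
        refine ext_of_sup hCW (fun x hx => ?_) (fun x hx => ?_)
        · rw [hzC x hx, hlW2 x hx]
        · rw [hzW x hx, hlW1 x hx]
      rw [hzl, reflProd_mem_commutator_iff hQ hR] at hzc
      refine (disc_iff hodd (nondegenerate_restrict hW) hWd hr hr2 he hn hdvd bW).1 ?_
      rw [hlW3, ← hk', pow_mul']
      obtain ⟨s, hs⟩ := hzc.2
      exact ⟨2 ^ n * s, by rw [hs]; ring⟩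
  · exfalso
    rcases hzW with hzW | hzW
    · have hzl : z = reflProd Q lC := by
        refine ext_of_sup hCW (fun x hx => ?_) (fun x hx => ?_)
        · rw [hzC x hx, hlC1 x hx]
        · rw [hzW x hx, hlC2 x hx]
      rw [hzl, reflProd_mem_commutator_iff hQ hR, hlC] at hzc
      exact absurd hzc.1 (by decide)
    · have hzl : z = reflProd Q (lW ++ lC) := by
        rw [reflProd_append]
        refine ext_of_sup hCW (fun x hx => ?_) (fun x hx => ?_)
        · rw [hzC x hx, coe_mul_apply, hlC1 x hx, map_neg, hlW2 x hx]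
        · rw [hzW x hx, coe_mul_apply, hlC2 x hx, hlW1 x hx]
      rw [hzl, reflProd_mem_commutator_iff hQ hR, List.length_append, hlC, hlW, ← hk'] at hzc
      obtain ⟨t, ht⟩ := hzc.1
      omega

theorem PtoO {F V : Type*} [Field F] [Fintype F] (hodd : Odd (Fintype.card F)) [AddCommGroup V] [Module F V]
    [FiniteDimensional F V] {Q : QuadraticForm F V} (hQ : (polarBilin Q).Nondegenerate)
    {p : ℕ} [Fact p.Prime] [CharP F p] {n r e : ℕ}
    (hV : finrank F V = 2 * n + 1) (hr : r.Prime) (hr2 : r ≠ 2) (hrp : r ≠ p)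
    (he : orderOf ((Nat.card F : ℕ) : ZMod r) = e) (hn : Num e n)
    (hno : ∀ a, 1 ≤ a → a + 1 ≤ n → ¬ orderOf ((Nat.card F : ℕ) : ZMod r) ∣ 2 * a)
    (y : OGrp Q) (hyo : orderOf y = r) (hP : PP (Nat.card F) n e) :
    ∃ g' : OGrp (qfOdd n F), g' ∈ commutator (OGrp (qfOdd n F)) ∧ orderOf g' = 2 * r := by
  have h2 := two_ne_zero_of_odd hodd
  have hk2 : 2 ≤ n := hn.1
  have hr0 : (r : F) ≠ 0 := by
    rw [Ne, CharP.cast_eq_zero_iff F p, Nat.prime_dvd_prime_iff_eq Fact.out hr]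
    exact fun h => hrp h.symm
  have hR := RGrp_top_of_two hQ h2
  have hy : y ^ r = 1 := by rw [← hyo, pow_orderOf_eq_one]
  have hy1 : y ≠ 1 := by
    rintro rfl
    rw [orderOf_one] at hyo
    exact hr.one_lt.ne hyo
  have hC := fx_nondeg hQ hy hr0
  set C := fx y with hCdef
  set W := perp Q C with hWdef
  have hW : W ⊓ perp Q W = ⊥ := perp_inf_eq_bot hQ hC
  have hWC : W ⊓ C = ⊥ := by rw [inf_comm]; exact hC
  have hCW : C ⊔ W = ⊤ := sup_perp hQ hC
  have hperpW : perp Q W = C := perp_perp hQ C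
  have hWy : ∀ w ∈ W, (y : V ≃ₗ[F] V) w ∈ W := perp_fx_inv (Commute.refl y)
  have hdim : finrank F W + finrank F C = finrank F V := finrank_perp hQ C
  have hW0 : finrank F W ≠ 0 := by
    intro h0
    have h1 : finrank F C = finrank F V := by omega
    have h3 : C = ⊤ := Submodule.eq_top_of_finrank_eq h1
    apply hy1
    refine OGrp_ext fun x => ?_
    have : x ∈ C := by rw [h3]; exact Submodule.mem_top
    rw [coe_one_apply]
    exact mem_fx.1 this
  have hWd : finrank F W = 2 * n :=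
    (cases_dim hV hr hr2 hrp hno hy hWy hWC hW).resolve_left hW0
  have hWne : W ≠ ⊥ := by
    intro h0
    rw [h0, finrank_bot] at hW0
    exact hW0 rfl
  have hdvd := Cfsg.Agent.S2362.dvd_card_OG hr hy hWne hWy hWC
  obtain ⟨k', hk'⟩ : ∃ k', 2 * n = k' + 1 := ⟨2 * n - 1, by omega⟩
  obtain ⟨lW, bW, hlW, hlW1, hlW2, hlW3⟩ := exists_list_sub h2 (Q := Q) hW (m := k') (by omega)
  rw [hperpW] at hlW2
  have hsq := (disc_iff hodd (nondegenerate_restrict hW) hWd hr hr2 he hn hdvd bW).2 hP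
  have hnsq : IsSquare (nrm Q lW) := by
    rw [hlW3, ← hk', isSquare_mul_iff_of_sq ⟨2 ^ n, by rw [← pow_add, two_mul]⟩ (pow_ne_zero _ h2)] at hsq
    exact hsq
  have hzc : reflProd Q lW ∈ commutator (OGrp Q) :=
    (reflProd_mem_commutator_iff hQ hR).2 ⟨by rw [hlW, ← hk']; exact even_two_mul n, hnsq⟩
  refine two_of_inv h2 hQ hV hyo (hr.odd_of_ne_two hr2) (z := reflProd Q lW) ?_ ?_ hzc ?_
  · refine ext_of_sup hCW (fun x hx => ?_) (fun x hx => ?_)
    · rw [pow_two, coe_mul_apply, hlW2 x hx, hlW2 x hx, coe_one_apply]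
    · rw [pow_two, coe_mul_apply, hlW1 x hx, map_neg, hlW1 x hx, neg_neg, coe_one_apply]
  · intro h
    obtain ⟨x, hx, hx0⟩ := (Submodule.ne_bot_iff _).1 hWne
    have h3 := hlW1 x hx
    rw [h, coe_one_apply] at h3
    have h4 : (2 : F) • x = 0 := by
      rw [two_smul]
      nth_rewrite 1 [h3]
      exact neg_add_cancel x
    exact hx0 ((smul_eq_zero.1 h4).resolve_left h2)
  · refine ext_of_sup hCW (fun x hx => ?_) (fun x hx => ?_)
    · have h3 : (y : V ≃ₗ[F] V) x = x := mem_fx.1 hx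
      rw [coe_mul_apply, coe_mul_apply, h3, hlW2 x hx, h3]
    · rw [coe_mul_apply, coe_mul_apply, hlW1 _ (hWy x hx), hlW1 x hx, map_neg]

/-- elements of order `2 σ` in tori -/
theorem exists_of_four_mul {F : Type*} [Field F] [Finite F] (p : ℕ) [Fact p.Prime] [CharP F p] {n : ℕ}
    (h2F : (2 : F) ≠ 0) (hn : 1 ≤ n) {σ : ℕ}
    (h : 4 * σ ∣ Nat.card F ^ n + 1 ∨ 4 * σ ∣ Nat.card F ^ n - 1) : ∃ y : Cfsg.PSp n F, orderOf y = 2 * σ := by
  have key : ∀ x : Cfsg.PSp n F, (∀ m : ℕ, x ^ m = 1 ↔ 4 * σ ∣ 2 * m) → orderOf x = 2 * σ := by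
    intro x hx
    apply Nat.dvd_antisymm
    · rw [orderOf_dvd_iff_pow_eq_one, hx]
      exact ⟨1, by ring⟩
    · have h1 := (hx (orderOf x)).mp (pow_orderOf_eq_one x)
      obtain ⟨k, hk⟩ := h1
      exact ⟨k, by linarith⟩
  rcases h with h | h
  · haveI : NeZero (2 * n) := ⟨by omega⟩
    obtain ⟨t, ht, hto⟩ := torus_plus (F := F) p h2F hn h
    obtain ⟨x, hx⟩ := ht.exists_psp (FiniteField.finrank_extension F p (2 * n))
    refine ⟨x, key x fun m => ?_⟩
    rw [hx, ← hto, orderOf_dvd_iff_pow_eq_one, pow_mul', sq_eq_one_iff]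
  · haveI : NeZero n := ⟨by omega⟩
    obtain ⟨t, ht, hto, htm⟩ := torus_minus (F := F) p h2F hn h
    obtain ⟨x, hx⟩ := ht.exists_psp (n := n) (by
      rw [Module.finrank_prod, FiniteField.finrank_extension F p n]
      ring)
    refine ⟨x, key x fun m => ?_⟩
    rw [hx, htm]

theorem dvd_plus_or {q r n : ℕ} (hr : r.Prime) (h : r ∣ q ^ (2 * n) - 1) : r ∣ q ^ n + 1 ∨ r ∣ q ^ n - 1 := by
  have h7 : q ^ (2 * n) - 1 = (q ^ n + 1) * (q ^ n - 1) := by
    have := Nat.sq_sub_sq (q ^ n) 1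
    rw [one_pow, ← pow_mul, mul_comm n 2] at this
    exact this
  rw [h7, hr.dvd_mul] at h
  exact h

theorem PtoS {F : Type*} [Field F] [Fintype F] (hodd : Odd (Fintype.card F))
    {p : ℕ} [Fact p.Prime] [CharP F p] {n r e : ℕ} (hr : r.Prime) (hr2 : r ≠ 2)
    (he : orderOf ((Nat.card F : ℕ) : ZMod r) = e) (hn : Num e n)
    (hP : PP (Nat.card F) n e) : ∃ y : Cfsg.PSp n F, orderOf y = 2 * r := by
  have h2 := two_ne_zero_of_odd hodd
  have hk2 : 2 ≤ n := hn.1
  have hq : 1 < Nat.card F := Finite.one_lt_card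
  have hcop : Nat.Coprime 4 r := by
    have : Nat.Coprime 2 r := Nat.coprime_two_left.mpr (hr.odd_of_ne_two hr2)
    exact Nat.Coprime.pow_left 2 this
  refine exists_of_four_mul p h2 (by omega) ?_
  rcases hP with ⟨h1, h3⟩ | ⟨h1, h3⟩
  · left
    refine Nat.Coprime.mul_dvd_of_dvd_of_dvd hcop (by omega) ?_
    have h4 : r ∣ Nat.card F ^ (2 * n) - 1 := by
      rw [Cfsg.Agent.S2362.dvd_iff hq he, h1]
    rcases dvd_plus_or hr h4 with h5 | h5
    · exact h5
    · rw [Cfsg.Agent.S2362.dvd_iff hq he, h1] at h5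
      have := Nat.le_of_dvd (by omega) h5
      omega
  · right
    refine Nat.Coprime.mul_dvd_of_dvd_of_dvd hcop (by omega) ?_
    rw [Cfsg.Agent.S2362.dvd_iff hq he, h1]

/-- the symplectic side of the extreme case -/
theorem StoP {F : Type*} [Field F] [Fintype F] (hodd : Odd (Fintype.card F))
    {p : ℕ} [Fact p.Prime] [CharP F p] {n r e : ℕ} (hr : r.Prime) (hr2 : r ≠ 2) (hrp : r ≠ p)
    (he : orderOf ((Nat.card F : ℕ) : ZMod r) = e) (hn : Num e n)
    (hno : ∀ a, 1 ≤ a → a + 1 ≤ n → ¬ orderOf ((Nat.card F : ℕ) : ZMod r) ∣ 2 * a)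
    (x : Cfsg.PSp n F) (hx : orderOf x = 2 * r) : PP (Nat.card F) n e := by
  classical
  have h2 := two_ne_zero_of_odd hodd
  have hk2 : 2 ≤ n := hn.1
  have hr0 : (r : F) ≠ 0 := by
    rw [Ne, CharP.cast_eq_zero_iff F p, Nat.prime_dvd_prime_iff_eq Fact.out hr]
    exact fun h => hrp h.symm
  have h20 : ((2 : ℕ) : F) ≠ 0 := by exact_mod_cast h2
  have hr3 : 3 ≤ r := by
    have := hr.two_le
    omega
  obtain ⟨s, hs⟩ := hr.odd_of_ne_two hr2
  obtain ⟨A, rfl⟩ := QuotientGroup.mk_surjective x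
  set T := lin A with hTdef
  have hT : ∀ u v, sfB F (Fin n) (T u) (T v) = sfB F (Fin n) u v := fun u v => ClassSp.sf_mulVec A u v
  have hTm : ∀ m : ℕ, ((A : Cfsg.PSp n F)) ^ m = 1 ↔ (T ^ m = 1 ∨ T ^ m = -1) := psp_pow_eq_one_iff A
  have hε : ∀ u v, sfB F (Fin n) u v = (-1 : F) * sfB F (Fin n) v u := fun u v => by
    rw [neg_one_mul, (sfB_isAlt (F := F) (l := Fin n)).neg_eq]
  have hB : (sfB F (Fin n)).Nondegenerate := sfB_nondegenerate
  have hdimV : finrank F (Fin n ⊕ Fin n → F) = 2 * n := by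
    rw [Module.finrank_fintype_fun_eq_card, Fintype.card_sum, Fintype.card_fin]
    ring
  have h2r : T ^ (2 * r) = 1 ∨ T ^ (2 * r) = -1 := by
    rw [← hTm]
    have := pow_orderOf_eq_one (A : Cfsg.PSp n F)
    rw [← hx]
    exact this
  have h4r : T ^ (4 * r) = 1 := by
    have : 4 * r = (2 * r) * 2 := by ring
    rw [this, pow_mul]
    rcases h2r with h | h
    · rw [h, one_pow]
    · rw [h]
      exact neg_one_pow_two_mul' (V := Fin n ⊕ Fin n → F) 1
  have hnr : ¬ (T ^ r = 1 ∨ T ^ r = -1) := by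
    rw [← hTm]
    intro h
    have := orderOf_dvd_of_pow_eq_one h
    rw [hx] at this
    have := Nat.le_of_dvd hr.pos this
    omega
  have hn2 : ¬ (T ^ 2 = 1 ∨ T ^ 2 = -1) := by
    rw [← hTm]
    intro h
    have := orderOf_dvd_of_pow_eq_one h
    rw [hx] at this
    have := Nat.le_of_dvd (by norm_num) this
    omega
  set y : (Fin n ⊕ Fin n → F) →ₗ[F] (Fin n ⊕ Fin n → F) := T ^ 4 with hydef
  have hyr : y ^ r = 1 := by rw [hydef, ← pow_mul]; exact h4r
  have hy1 : y ≠ 1 := by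
    intro h
    apply hn2
    have h3 : T ^ (2 * r) = T ^ 2 := by
      have : 2 * r = 4 * s + 2 := by omega
      rw [this, pow_add, pow_mul, ← hydef, h, one_pow, one_mul]
    rwa [h3] at h2r
  haveI : Fact r.Prime := ⟨hr⟩
  have hyo : orderOf y = r := orderOf_eq_prime hyr hy1
  set t : (Fin n ⊕ Fin n → F) →ₗ[F] (Fin n ⊕ Fin n → F) := T ^ r with htdef
  have htB : ∀ u v, sfB F (Fin n) (t u) (t v) = sfB F (Fin n) u v := pow_isom hT r
  have hyB : ∀ u v, sfB F (Fin n) (y u) (y v) = sfB F (Fin n) u v := pow_isom hT 4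
  have hty : ∀ v, t (y v) = y (t v) := by
    intro v
    change (T ^ r * T ^ 4 : Module.End F _) v = (T ^ 4 * T ^ r : Module.End F _) v
    rw [← pow_add, ← pow_add, add_comm]
  have ht2 : t ^ 2 = 1 ∨ t ^ 2 = -1 := by
    rw [htdef, ← pow_mul, mul_comm]
    exact h2r
  -- the whole space is moved by y
  have hXinv := range_inv (T := y) (y := y) (fun _ => rfl)
  have hX0 : LinearMap.range (y - 1) ≠ ⊥ := by
    intro h0
    rw [LinearMap.range_eq_bot, sub_eq_zero] at h0
    exact hy1 h0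
  have hdimX : ∀ X : Submodule F (Fin n ⊕ Fin n → F), (∀ x ∈ X, y x ∈ X) → (∀ x ∈ X, y x = x → x = 0) →
      (∀ x ∈ X, (∀ x' ∈ X, sfB F (Fin n) x x' = 0) → x = 0) → X ≠ ⊥ → X = ⊤ := by
    intro X hX1 hX2 hX3 hX4
    have h3 := dvd_finrank_sub hr hrp rfl y hyr X hX1
    have h4 : X ⊓ LinearMap.ker (y - 1) = ⊥ := by
      rw [eq_bot_iff]
      rintro v ⟨hv1, hv2⟩
      rw [SetLike.mem_coe, LinearMap.mem_ker, LinearMap.sub_apply, Module.End.one_apply, sub_eq_zero] at hv2
      exact (Submodule.mem_bot F).2 (hX2 v hv1 hv2)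
    rw [h4, finrank_bot, Nat.sub_zero] at h3
    obtain ⟨a, ha, -⟩ := (eOrd_restrict hε hyB hX1 hX3).sp h2
    rw [ha] at h3
    have h5 : finrank F X ≤ 2 * n := by rw [← hdimV]; exact Submodule.finrank_le X
    have h6 : finrank F X ≠ 0 := fun h => hX4 (Submodule.finrank_eq_zero.1 h)
    apply Submodule.eq_top_of_finrank_eq
    rw [hdimV, ha]
    by_contra hne
    exact hno a (by omega) (by omega) h3
  have hXtop := hdimX _ hXinv (range_fix hyr hr0) (range_nondeg hε hB hyB hyr hr0) hX0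
  have hnofix : ∀ v, y v = v → v = 0 := by
    intro v hv
    exact range_fix hyr hr0 v (by rw [hXtop]; exact Submodule.mem_top) hv
  rcases ht2 with ht2 | ht2
  · exfalso
    have h3 := hdimX (LinearMap.ker (t - 1)) (ker_inv (T := y) (y := t) (fun v => (hty v).symm))
      (fun v _ hv => hnofix v hv) (ker_nondeg hB htB ht2 h20) (by
        intro h0
        apply hnr
        right
        apply LinearMap.ext
        intro v
        have h4 : v + t v ∈ LinearMap.ker (t - 1) := by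
          rw [LinearMap.mem_ker, LinearMap.sub_apply, Module.End.one_apply, sub_eq_zero, map_add]
          have h5 : t (t v) = v := by
            change (t * t : Module.End F _) v = v
            rw [← pow_two, ht2]; rfl
          rw [h5, add_comm]
        rw [h0, Submodule.mem_bot] at h4
        exact (neg_eq_of_add_eq_zero_right h4).symm)
    apply hnr
    left
    apply LinearMap.ext
    intro v
    have h4 : v ∈ LinearMap.ker (t - 1) := by rw [h3]; exact Submodule.mem_top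
    rw [LinearMap.mem_ker, LinearMap.sub_apply, Module.End.one_apply, sub_eq_zero] at h4
    exact h4
  · -- the quadratic form B (t u) u
    have htt : ∀ v, t (t v) = -v := by
      intro v
      change (t * t : Module.End F _) v = -v
      rw [← pow_two, ht2]; rfl
    let B' : LinearMap.BilinForm F (Fin n ⊕ Fin n → F) := LinearMap.comp (sfB F (Fin n)) t
    have hB' : ∀ u v, B' u v = sfB F (Fin n) (t u) v := fun u v => rfl
    have hsym : ∀ u v, B' u v = B' v u := by
      intro u v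
      rw [hB', hB', ← htB (t u), htt, map_neg, LinearMap.neg_apply, hε u (t v)]
      ring
    let Q : QuadraticForm F (Fin n ⊕ Fin n → F) := B'.toQuadraticMap
    have hQa : ∀ v, Q v = B' v v := fun v => rfl
    have hp : ∀ u v, polar Q u v = 2 * B' u v := by
      intro u v
      rw [polar, hQa, hQa, hQa]
      simp only [map_add, LinearMap.add_apply]
      rw [hsym v u]
      ring
    have hnd : (polarBilin Q).Nondegenerate := by
      refine nondeg_of (ε := 1) (fun u v => by rw [one_mul, pbil, pbil, pc]) ?_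
      intro u hu
      have h3 : t u = 0 := by
        refine hB.1 _ fun v => ?_
        have := hu v
        rw [pbil, hp] at this
        exact (mul_eq_zero.1 this).resolve_left h2
      have h4 := htt u
      rw [h3, map_zero] at h4
      exact neg_eq_zero.1 h4.symm
    have hyN : ∀ v, (y ^ (r - 1) : Module.End F _) (y v) = v := by
      intro v
      change (y ^ (r - 1) * y : Module.End F _) v = v
      rw [← pow_succ, Nat.sub_add_cancel hr.pos, hyr]; rfl
    have hyN' : ∀ v, y ((y ^ (r - 1) : Module.End F _) v) = v := by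
      intro v
      change (y * y ^ (r - 1) : Module.End F _) v = v
      rw [← pow_succ', Nat.sub_add_cancel hr.pos, hyr]; rfl
    let Y : OGrp Q := mkIsom Q y (y ^ (r - 1) : Module.End F _) hyN' hyN (fun v => by
      rw [hQa, hQa, hB', hB', hty, hyB])
    have hYo : orderOf Y = r := by
      rw [← lin_orderOf Y, ← hyo]
      rfl
    have hdvd : r ∣ Nat.card (OG Q) := by
      rw [← hYo]
      exact dvd_card_OG' Y
    refine (disc_iff hodd hnd hdimV hr hr2 he hn hdvd (Pi.basisFun F (Fin n ⊕ Fin n))).1 ?_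
    -- the discriminant
    have hAt : ((A ^ r : Matrix.symplecticGroup (Fin n) F) : Matrix (Fin n ⊕ Fin n) (Fin n ⊕ Fin n) F).det = 1 :=
      SymplecticGroup.det_eq_one (A ^ r).2
    have htA : ∀ v, t v = Matrix.mulVec ((A ^ r : Matrix.symplecticGroup (Fin n) F) :
        Matrix (Fin n ⊕ Fin n) (Fin n ⊕ Fin n) F) v := by
      intro v
      rw [← lin_apply, lin_pow]
    have hJ : (Matrix.J (Fin n) F).det = 1 := SymplecticGroup.det_eq_one (SymplecticGroup.J_mem _ _)
    have hgram : gram Q (Pi.basisFun F (Fin n ⊕ Fin n)) =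
        (2 : F) • (((A ^ r : Matrix.symplecticGroup (Fin n) F) :
          Matrix (Fin n ⊕ Fin n) (Fin n ⊕ Fin n) F).transpose * (- Matrix.J (Fin n) F)) := by
      ext i j
      rw [gram, Matrix.of_apply, hp, hB', Matrix.smul_apply, smul_eq_mul]
      congr 1
      rw [sfB_apply, htA, Matrix.mul_apply, Pi.basisFun_apply, Pi.basisFun_apply, Matrix.mulVec_single_one,
        ClassSp.sf, Fintype.sum_sum_type]
      rcases j with j | j <;> simp [Matrix.J, Matrix.fromBlocks, Matrix.one_apply, Pi.single_apply]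
    rw [hgram, Matrix.det_smul, Matrix.det_mul, Matrix.det_transpose, hAt, Matrix.det_neg, hJ]
    refine ⟨2 ^ n, ?_⟩
    rw [Fintype.card_sum, Fintype.card_fin]
    have : (-1 : F) ^ (n + n) = 1 := Even.neg_one_pow ⟨n, rfl⟩
    rw [this]
    ring

theorem odd_case {F : Type*} [Field F] [Fintype F] (hodd : Odd (Fintype.card F))
    {p : ℕ} [Fact p.Prime] [CharP F p] {n r s : ℕ} (hr : r.Prime) (hs : s.Prime) (hr2 : r ≠ 2) (hs2 : s ≠ 2)
    (hrp : r ≠ p) (hrs : r ≠ s) :
    (∃ g' : OGrp (qfOdd n F), g' ∈ commutator (OGrp (qfOdd n F)) ∧ orderOf g' = r * s) ↔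
      ∃ x : Cfsg.PSp n F, orderOf x = r * s := by
  have h2 := two_ne_zero_of_odd hodd
  have hQ := qfOdd_nondegenerate n F h2
  have hdim : finrank F (Unit ⊕ (Fin n ⊕ Fin n) → F) = 2 * n + 1 := by
    rw [Module.finrank_fintype_fun_eq_card]
    simp
    ring
  constructor
  · rintro ⟨g, -, hg⟩
    have h1 := ofOGrp hQ g
    rw [hdim, hg] at h1
    exact OtoS h2 hr hs hr2 hs2 hrp h1 hrs
  · rintro ⟨x, hx⟩
    have h1 := ofPSp x hx ((hr.odd_of_ne_two hr2).mul (hs.odd_of_ne_two hs2))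
    exact StoO h2 hr hs hr2 hs2 hrp h1 hrs

theorem two_case {F : Type*} [Field F] [Fintype F] (hodd : Odd (Fintype.card F))
    {p : ℕ} [Fact p.Prime] [CharP F p] {n r : ℕ} (hn : 3 ≤ n) (hr : r.Prime) (hr2 : r ≠ 2) (hrp : r ≠ p) :
    (∃ g' : OGrp (qfOdd n F), g' ∈ commutator (OGrp (qfOdd n F)) ∧ orderOf g' = 2 * r) ↔
      ∃ x : Cfsg.PSp n F, orderOf x = 2 * r := by
  have h2 := two_ne_zero_of_odd hodd
  have hQ := qfOdd_nondegenerate n F h2
  have hR := RGrp_top_of_two hQ h2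
  have hq : 1 < Nat.card F := Finite.one_lt_card
  have hro := hr.odd_of_ne_two hr2
  have hr0 : (r : F) ≠ 0 := by
    rw [Ne, CharP.cast_eq_zero_iff F p, Nat.prime_dvd_prime_iff_eq Fact.out hr]
    exact fun h => hrp h.symm
  have hdim : finrank F (Unit ⊕ (Fin n ⊕ Fin n) → F) = 2 * n + 1 := by
    rw [Module.finrank_fintype_fun_eq_card]
    simp
    ring
  set e := orderOf ((Nat.card F : ℕ) : ZMod r) with he
  have htor : ∀ a, 1 ≤ a → e ∣ 2 * a → SpOrd.{_, 0} F a r := by
    intro a ha h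
    refine Cfsg.Agent.S2362.spOrd_torus p h2 ha (dvd_plus_or hr ?_)
    rw [Cfsg.Agent.S2362.dvd_iff hq he.symm]
    exact h
  by_cases h1 : ∃ a, 1 ≤ a ∧ a + 1 ≤ n ∧ e ∣ 2 * a
  · obtain ⟨a, ha1, ha2, ha3⟩ := h1
    have ht := htor a ha1 ha3
    constructor
    · intro _
      obtain ⟨m, rfl⟩ : ∃ m, n = a + m := ⟨n - a, by omega⟩
      obtain ⟨x, hx⟩ := ht.prod (spOrd_one F m) h2 ha1 (by omega) hro odd_one
      rw [Nat.lcm_one_right] at hx
      exact ⟨x, hx⟩
    · intro _
      obtain ⟨w, hw1, hw2, h3⟩ := (SpOrd.toE ht).single hr hr2 hr0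
      rw [neg_neg] at h3
      exact h3.two h2 hro (by omega)
  push Not at h1
  have hno : ∀ a, 1 ≤ a → a + 1 ≤ n → ¬ orderOf ((Nat.card F : ℕ) : ZMod r) ∣ 2 * a :=
    fun a h3 h4 => h1 a h3 h4
  have he0 : 0 < e := by
    haveI : Fact r.Prime := ⟨hr⟩
    haveI : NeZero r := ⟨hr.ne_zero⟩
    have hqr : ((Nat.card F : ℕ) : ZMod r) ≠ 0 := by
      rw [Ne, ZMod.natCast_eq_zero_iff]
      intro h
      obtain ⟨k, hk, hc⟩ := FiniteField.card F p
      rw [Nat.card_eq_fintype_card, hc] at h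
      have h3 := hr.dvd_of_dvd_pow h
      exact hrp ((Nat.prime_dvd_prime_iff_eq hr hk).1 h3)
    rw [he, ← Units.val_mk0 hqr, orderOf_units]
    exact orderOf_pos _
  by_cases h3 : e ∣ 2 * n
  · have hnum : H39.SpecBC.Num e n := by
      refine ⟨by omega, ?_⟩
      have h4 : n ≤ e := by
        by_contra hlt
        push Not at hlt
        exact h1 e he0 (by omega) (Dvd.intro_left 2 rfl)
      obtain ⟨c, hc⟩ := h3
      have h5 : c = 1 ∨ c = 2 := by
        have hc0 : c ≠ 0 := by rintro rfl; omega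
        have : c < 3 := by
          by_contra h6
          push Not at h6
          have : e * 3 ≤ e * c := Nat.mul_le_mul_left _ h6
          omega
        omega
      rcases h5 with rfl | rfl
      · left; omega
      · right
        have h6 : e = n := by omega
        refine ⟨h6, ?_, hn⟩
        rw [← Nat.not_even_iff_odd]
        rintro ⟨a, ha⟩
        exact h1 a (by omega) (by omega) (by rw [h6, ha, two_mul])
    constructor
    · rintro ⟨g, hg, hgo⟩
      have hP := OtoP hodd hQ hR hdim hr hr2 hrp he.symm hnum hno g hg hgo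
      exact PtoS (p := p) hodd hr hr2 he.symm hnum hP
    · rintro ⟨x, hx⟩
      have hP := StoP hodd hr hr2 hrp he.symm hnum hno x hx
      obtain ⟨w, hw1, hw2, h4⟩ := (SpOrd.toE (htor n (by omega) h3)).single hr hr2 hr0
      rw [neg_neg] at h4
      obtain ⟨V, i1, i2, i3, Q, g, hV, hQ', hg⟩ := (h4.pad (e := 2 * n + 1) (by omega)).toQuad h2 hr.ne_zero
      exact PtoO hodd hQ' hV hr hr2 hrp he.symm hnum hno g hg hP
  · have hcon : ∀ a, 1 ≤ a → a ≤ n → e ∣ 2 * a → False := by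
      intro a ha1 ha2 ha3
      by_cases h4 : a = n
      · subst h4; exact h3 ha3
      · exact h1 a ha1 (by omega) ha3
    constructor
    · rintro ⟨g, hg, hgo⟩
      exfalso
      have h4 := ofOGrp hQ (g ^ 2)
      have h5 : orderOf (g ^ 2) = r := by
        rw [orderOf_pow_of_dvd (by norm_num) (by rw [hgo]; exact Dvd.intro _ rfl), hgo]
        omega
      rw [hdim, h5] at h4
      obtain ⟨a, ha1, ha2, ha3⟩ := exists_a h2 (p := p) (Or.inl rfl) h4 hr hr2 hrp
      exact hcon a ha1 (by omega) ha3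
    · rintro ⟨x, hx⟩
      exfalso
      have h5 : orderOf (x ^ 2) = r := by
        rw [orderOf_pow_of_dvd (by norm_num) (by rw [hx]; exact Dvd.intro _ rfl), hx]
        omega
      have h4 := ofPSp (x ^ 2) h5 hro
      obtain ⟨a, ha1, ha2, ha3⟩ := exists_a h2 (p := p) (Or.inr rfl) h4 hr hr2 hrp
      exact hcon a ha1 (by omega) ha3

theorem two_p {F : Type*} [Field F] [Fintype F] (hodd : Odd (Fintype.card F))
    {p : ℕ} [hp : Fact p.Prime] [CharP F p] {n : ℕ} (hn : 3 ≤ n) (hp2 : p ≠ 2) :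
    (∃ g' : OGrp (qfOdd n F), g' ∈ commutator (OGrp (qfOdd n F)) ∧ orderOf g' = 2 * p) ↔
      ∃ x : Cfsg.PSp n F, orderOf x = 2 * p := by
  have h2 := two_ne_zero_of_odd hodd
  have hpo := hp.out.odd_of_ne_two hp2
  constructor
  · intro _
    obtain ⟨a, ha, h3⟩ := (eOrd_sp_two (F := F) h2 (p := p)).sp h2
    have ha1 : a = 1 := by omega
    subst ha1
    obtain ⟨m, rfl⟩ : ∃ m, n = 1 + m := ⟨n - 1, by omega⟩
    obtain ⟨x, hx⟩ := h3.prod (spOrd_one F m) h2 le_rfl (by omega) hpo odd_one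
    rw [Nat.lcm_one_right] at hx
    exact ⟨x, hx⟩
  · intro _
    exact (eOrd_three (F := F) h2 (p := p)).two h2 hpo (by omega)

theorem range_iff {F : Type*} [Field F] [Fintype F] (hodd : Odd (Fintype.card F)) (n : ℕ) (hn : 3 ≤ n) (N : ℕ) :
    (N ∈ Set.range (orderOf : Cfsg.POmega F (Cfsg.quadFormOdd n F) → ℕ)) ↔
    (∃ g' : OGrp (qfOdd n F), g' ∈ commutator (OGrp (qfOdd n F)) ∧ orderOf g' = N) := by
  have hcen := Cfsg.Agent.S2362.center_triv hodd n hn
  have hbot : Subgroup.center ↥(commutator (OGrp (qfOdd n F))) = ⊥ := Subgroup.card_eq_one.1 hcen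
  let E : Cfsg.POmega F (Cfsg.quadFormOdd n F) ≃* ↥(commutator (OGrp (qfOdd n F))) :=
    ((ClassO.pomE (qfOdd n F)).trans (QuotientGroup.quotientMulEquivOfEq hbot)).trans QuotientGroup.quotientBot
  constructor
  · rintro ⟨x, hx⟩
    exact ⟨(E x : ↥(commutator (OGrp (qfOdd n F)))), (E x).2, by
      rw [Subgroup.orderOf_coe, MulEquiv.orderOf_eq, hx]⟩
  · rintro ⟨g, hg, hgo⟩
    refine ⟨E.symm ⟨g, hg⟩, ?_⟩
    rw [MulEquiv.orderOf_eq, Subgroup.orderOf_mk, hgo]

/-- For q odd and n ≥ 3 the simple groups PΩ(2n+1,q) and PSp(2n,q) (which have the same order but different sets of element orders) have the same prime graph: for all distinct primes r, s, one of them has an element of order r·s if and only if the other does. -/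
theorem result {F : Type*} [Field F] [Fintype F] (hodd : Odd (Fintype.card F)) (n : ℕ) (hn : 3 ≤ n) (r s : ℕ) (hr : r.Prime) (hs : s.Prime) (hrs : r ≠ s) :
    (r * s ∈ Set.range (orderOf : Cfsg.POmega F (Cfsg.quadFormOdd n F) → ℕ)) ↔ (r * s ∈ Set.range (orderOf : Cfsg.PSp n F → ℕ)) := by
  obtain ⟨p, hpc⟩ := CharP.exists F
  haveI hpf : Fact p.Prime := ⟨CharP.char_is_prime F p⟩
  have h2 := two_ne_zero_of_odd hodd
  have hp2 : p ≠ 2 := by
    rintro rfl
    exact h2 (by exact_mod_cast CharP.cast_eq_zero F 2)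
  rw [range_iff hodd n hn]
  by_cases hr2 : r = 2
  · subst hr2
    by_cases hsp : s = p
    · subst hsp
      exact two_p hodd hn hp2
    · exact two_case (p := p) hodd hn hs (fun h => hrs h.symm) hsp
  by_cases hs2 : s = 2
  · subst hs2
    rw [mul_comm r 2]
    by_cases hrp : r = p
    · subst hrp
      exact two_p hodd hn hp2
    · exact two_case (p := p) hodd hn hr hr2 hrp
  by_cases hrp : r = p
  · rw [mul_comm r s]
    exact odd_case (p := p) hodd hs hr hs2 hr2 (fun h => hrs (hrp.trans h.symm)) (fun h => hrs h.symm)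
  · exact odd_case (p := p) hodd hr hs hr2 hs2 hrp hrs

end Cfsg.Agent.S2474
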