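import Cfsg.Statements.S2477
import Cfsg.Agent.H41.AltOrders

set_option autoImplicit false
open Cfsg

namespace Cfsg.Agent.S2477

open Cfsg.Agent.H41

def states : List (ℕ × ℕ × ℕ) := [(0, 1, 0), (2, 2, 1), (3, 3, 0), (4, 2, 0), (4, 4, 1), (5, 5, 0), (5, 6, 1),
  (6, 2, 1), (6, 3, 0), (6, 4, 0), (6, 6, 1), (7, 6, 0), (7, 7, 0), (7, 10, 1), (7, 12, 1), (8, 2, 0), (8, 4, 0),
  (8, 4, 1), (8, 6, 0), (8, 6, 1), (8, 8, 1), (8, 15, 0), (9, 3, 0), (9, 6, 1), (9, 9, 0), (9, 10, 0), (9, 12, 0),
  (9, 14, 1), (9, 20, 1), (10, 2, 1), (10, 4, 0), (10, 4, 1), (10, 5, 0), (10, 6, 0), (10, 6, 1), (10, 8, 0),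
  (10, 10, 1), (10, 12, 0), (10, 12, 1), (10, 21, 0), (10, 30, 1)]

theorem states_closed : ∀ x ∈ states, ∀ a ∈ List.range 9, x.1 + (a + 2) ≤ 10 →
    (x.1 + (a + 2), Nat.lcm (a + 2) x.2.1, (x.2.2 + (a + 2) + 1) % 2) ∈ states := by decide

theorem states_final : ∀ x ∈ states, x.2.2 = 0 →
    x.2.1 ∈ [1, 2, 3, 4, 5, 6, 7, 8, 9, 10, 12, 15, 21] := by decide

theorem mem_states (m : Multiset ℕ) : m.sum ≤ 10 → (∀ a ∈ m, 2 ≤ a) →
    (m.sum, m.lcm, (m.sum + Multiset.card m) % 2) ∈ states := by
  induction m using Multiset.induction_on with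
  | empty => intro _ _; simp [states]
  | cons a s ih =>
    intro h1 h2
    rw [Multiset.sum_cons] at h1
    have ih' := ih (by omega) (fun b hb => h2 b (Multiset.mem_cons_of_mem hb))
    have ha := h2 a (Multiset.mem_cons_self a s)
    have := states_closed _ ih' (a - 2) (by rw [List.mem_range]; omega) (by
      simp only; omega)
    simp only at this
    rw [show a - 2 + 2 = a by omega] at this
    rw [Multiset.sum_cons, Multiset.lcm_cons, Multiset.card_cons]
    convert this using 2
    · ring
    · congr 1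
      omega

/-- The set of element orders of the alternating group of degree 10 is {1, 2, 3, 4, 5, 6, 7, 8, 9, 10, 12, 15, 21}. -/
theorem result : Set.range (orderOf : alternatingGroup (Fin 10) → ℕ) = {1, 2, 3, 4, 5, 6, 7, 8, 9, 10, 12, 15, 21} := by
  ext k
  rw [mem_range_orderOf_alt_iff]
  constructor
  · rintro ⟨m, h1, h2, h3, rfl⟩
    have h4 := states_final _ (mem_states m h1 h2) (by
      rw [Nat.even_iff] at h3; exact h3)
    simpa using h4
  · intro h
    simp only [Set.mem_insert_iff, Set.mem_singleton_iff] at h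
    rcases h with rfl | rfl | rfl | rfl | rfl | rfl | rfl | rfl | rfl | rfl | rfl | rfl | rfl
    · exact ⟨0, by decide, by decide, by decide, by decide⟩
    · exact ⟨{2, 2}, by decide, by decide, by decide, by decide⟩
    · exact ⟨{3}, by decide, by decide, by decide, by decide⟩
    · exact ⟨{4, 2}, by decide, by decide, by decide, by decide⟩
    · exact ⟨{5}, by decide, by decide, by decide, by decide⟩
    · exact ⟨{3, 2, 2}, by decide, by decide, by decide, by decide⟩
    · exact ⟨{7}, by decide, by decide, by decide, by decide⟩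
    · exact ⟨{8, 2}, by decide, by decide, by decide, by decide⟩
    · exact ⟨{9}, by decide, by decide, by decide, by decide⟩
    · exact ⟨{5, 2, 2}, by decide, by decide, by decide, by decide⟩
    · exact ⟨{4, 3, 2}, by decide, by decide, by decide, by decide⟩
    · exact ⟨{5, 3}, by decide, by decide, by decide, by decide⟩
    · exact ⟨{7, 3}, by decide, by decide, by decide, by decide⟩

end Cfsg.Agent.S2477
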