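import Cfsg.Statements.S2490
import Cfsg.Agent.H37.OrdD
import Cfsg.Agent.S4303
import Cfsg.Agent.H46SN.D
import Cfsg.Agent.Cop.Basic

set_option autoImplicit false
open Cfsg

namespace Cfsg.Agent.S2490

universe u

open Subgroup

theorem edge {G : Type u} [Group G] {p q : ℕ} (hp : p.Prime) (hq : q.Prime) (hpq : p ≠ q) {x y : G}
    (hx : orderOf x = p) (hy : orderOf y = q) (h : x * y = y * x) : ∃ g : G, orderOf g = p * q :=
  ⟨x * y, by
    rw [Commute.orderOf_mul_eq_mul_orderOf_of_coprime (show Commute x y from h)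
      (by rw [hx, hy]; exact (Nat.coprime_primes hp hq).2 hpq), hx, hy]⟩

theorem edgeC {G : Type u} [Group G] [Finite G] {p q : ℕ} (hp : p.Prime) (hq : q.Prime) (hpq : p ≠ q)
    {A K : Subgroup G} (hA : p ∣ Nat.card A) (hK : q ∣ Nat.card K) (h : K ≤ centralizer (A : Set G)) :
    ∃ g : G, orderOf g = p * q := by
  have : Fact p.Prime := ⟨hp⟩
  have : Fact q.Prime := ⟨hq⟩
  obtain ⟨x, hx⟩ := exists_prime_orderOf_dvd_card' p hA
  obtain ⟨y, hy⟩ := exists_prime_orderOf_dvd_card' q hK
  refine edge hp hq hpq (x := (x : G)) (y := (y : G)) ?_ ?_ ?_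
  · rw [← hx]; exact Subgroup.orderOf_coe x
  · rw [← hy]; exact Subgroup.orderOf_coe y
  · exact mem_centralizer_iff.1 (h y.2) x x.2

theorem primes {p : ℕ} (hp : p.Prime) (h : p ∣ 7920) : p = 2 ∨ p = 3 ∨ p = 5 ∨ p = 11 := by
  have h1 : (7920 : ℕ) = 2 ^ 4 * 3 ^ 2 * 5 * 11 := by norm_num
  rw [h1, hp.dvd_mul, hp.dvd_mul, hp.dvd_mul] at h
  rcases h with ((h | h) | h) | h
  · exact Or.inl ((Nat.prime_dvd_prime_iff_eq hp Nat.prime_two).1 (hp.dvd_of_dvd_pow h))
  · exact Or.inr (Or.inl ((Nat.prime_dvd_prime_iff_eq hp Nat.prime_three).1 (hp.dvd_of_dvd_pow h)))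
  · exact Or.inr (Or.inr (Or.inl ((Nat.prime_dvd_prime_iff_eq hp (by norm_num)).1 h)))
  · exact Or.inr (Or.inr (Or.inr ((Nat.prime_dvd_prime_iff_eq hp (by norm_num)).1 h)))

theorem n_cases {n : ℕ} (h : n ∣ 720) (h1 : n % 11 = 1) : n = 1 ∨ n = 12 ∨ n = 45 ∨ n = 144 := by
  have h2 : n ∈ (Nat.divisors 720).filter (fun n => n % 11 = 1) := by
    rw [Finset.mem_filter, Nat.mem_divisors]; exact ⟨⟨h, by norm_num⟩, h1⟩
  have h3 : (Nat.divisors 720).filter (fun n => n % 11 = 1) = {1, 12, 45, 144} := by decide +kernel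
  rw [h3] at h2
  simpa using h2

instance f11 : Fact (Nat.Prime 11) := ⟨by norm_num⟩
instance f5 : Fact (Nat.Prime 5) := ⟨by norm_num⟩

theorem card_P {G : Type u} [Group G] [Finite G] {m : ℕ} (hm : Nat.card G = 11 * m) (h11 : ¬ 11 ∣ m) (P : Sylow 11 G) :
    Nat.card (P : Subgroup G) = 11 := by
  obtain ⟨k, hk⟩ := IsPGroup.iff_card.1 P.2
  have h1 : 11 ∣ Nat.card (P : Subgroup G) := P.dvd_card_of_dvd_card (by rw [hm]; exact Dvd.intro _ rfl)
  have h2 : Nat.card (P : Subgroup G) ∣ 11 * m := by rw [← hm]; exact Subgroup.card_subgroup_dvd_card _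
  rw [hk] at h1 h2 ⊢
  rcases k with _ | _ | k
  · norm_num at h1
  · norm_num
  · exfalso
    apply h11
    have : 11 ^ (k + 1 + 1) = 11 * (11 * 11 ^ k) := by ring
    rw [this] at h2
    exact (Dvd.intro _ rfl).trans (Nat.dvd_of_mul_dvd_mul_left (by norm_num) h2)

/-- the index of the centralizer in the normalizer of a group of prime order divides `p - 1`. -/
theorem card_norm {G : Type u} [Group G] [Finite G] {p : ℕ} [hp : Fact p.Prime] (P : Subgroup G) (hP : Nat.card P = p) :
    ∃ e, e ∣ p - 1 ∧ Nat.card (normalizer (P : Set G)) = e * Nat.card (centralizer (P : Set G)) := by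
  have hle : centralizer (P : Set G) ≤ normalizer (P : Set G) := Subgroup.centralizer_le_normalizer _
  refine ⟨(centralizer (P : Set G)).relIndex (normalizer (P : Set G)), ?_, ?_⟩
  · have h1 : (P.normalizerMonoidHom).ker = (centralizer (P : Set G)).subgroupOf (normalizer (P : Set G)) :=
      P.normalizerMonoidHom_ker
    have h2 : (centralizer (P : Set G)).relIndex (normalizer (P : Set G)) = Nat.card (P.normalizerMonoidHom).range := by
      rw [Subgroup.relIndex, ← h1, Subgroup.index_ker]
    rw [h2]
    have : IsCyclic P := isCyclic_of_prime_card hP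
    have h3 := Subgroup.card_subgroup_dvd_card (P.normalizerMonoidHom).range
    rw [IsCyclic.card_mulAut, hP, Nat.totient_prime hp.out] at h3
    exact h3
  · have h1 := ((centralizer (P : Set G)).subgroupOf (normalizer (P : Set G))).card_mul_index
    rw [Nat.card_congr (Subgroup.subgroupOfEquivOfLe hle).toEquiv] at h1
    rw [← h1, mul_comm]; rfl

/-- `45` is not the number of Sylow 11-subgroups. -/
theorem no45 {G : Type u} [Group G] [Finite G] (h : Nat.card (Sylow 11 G) = 45) : False := by
  obtain ⟨l, hl, hg⟩ := Cfsg.Agent.S4303.main 11 _ G rfl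
  rw [h] at hl
  have key : ∀ m ∈ l, m = 1 ∨ m = 45 := by
    intro m hm
    have h1 : m ∣ 45 := by rw [← hl]; exact List.dvd_prod hm
    have h2 : m % 11 = 1 := by
      rcases hg m hm with h2 | ⟨S, _, _, _, h2⟩
      · exact h2.2
      · rw [h2]; exact card_sylow_modEq_one 11 S
    have h3 : m ∈ (Nat.divisors 45).filter (fun n => n % 11 = 1) := by
      rw [Finset.mem_filter, Nat.mem_divisors]; exact ⟨⟨h1, by norm_num⟩, h2⟩
    have h4 : (Nat.divisors 45).filter (fun n => n % 11 = 1) = {1, 45} := by decide +kernel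
    rw [h4] at h3
    simpa using h3
  have hex : ∃ m ∈ l, m = 45 := by
    by_contra hcon
    push Not at hcon
    have : l.prod = 1 := List.prod_eq_one fun m hm => (key m hm).resolve_right (hcon m hm)
    omega
  obtain ⟨m, hm, rfl⟩ := hex
  rcases hg _ hm with h1 | ⟨S, _, _, hsimp, h1⟩
  · have h2 := h1.1
    rw [isPrimePow_nat_iff] at h2
    obtain ⟨p, k, hp, hk, hpk⟩ := h2
    have h3 : 3 ∣ p ^ k := by rw [hpk]; norm_num
    have h5 : 5 ∣ p ^ k := by rw [hpk]; norm_num
    have e3 := (Nat.prime_dvd_prime_iff_eq Nat.prime_three hp).1 (Nat.prime_three.dvd_of_dvd_pow h3)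
    have e5 := (Nat.prime_dvd_prime_iff_eq Nat.prime_five hp).1 (Nat.prime_five.dvd_of_dvd_pow h5)
    omega
  · have hn : Nat.card (Sylow 11 S) < 11 ^ 2 := by rw [← h1]; norm_num
    have hpos : 1 < Nat.card (Sylow 11 S) := by rw [← h1]; norm_num
    obtain ⟨P⟩ : Nonempty (Sylow 11 S) := inferInstance
    have hPn : ¬ (P : Subgroup S).Normal := by
      intro hPn
      have : Unique (Sylow 11 S) := Sylow.unique_of_normal P hPn
      rw [Finite.one_lt_card_iff_nontrivial] at hpos
      exact not_nontrivial _ hpos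
    have hS : ¬ IsMulCommutative S := by
      intro hS
      exact hPn ⟨fun n hn g => by rw [hS.is_comm.comm g n, mul_inv_cancel_right]; exact hn⟩
    have hcore : ∀ N : Subgroup S, N.Normal → IsPGroup 11 N → N = ⊥ := by
      intro N hN hNp
      refine (Subgroup.Normal.eq_bot_or_eq_top hN).resolve_right ?_
      rintro rfl
      exact hS (H46SN.comm_of_pgroup (p := 11) (hNp.of_equiv Subgroup.topEquiv))
    have hex : ∃ Q : Sylow 11 S, Q ≠ P := by
      by_contra h
      push Not at h
      have : Subsingleton (Sylow 11 S) := ⟨fun a b => (h a).trans (h b).symm⟩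
      exact hPn P.normal_of_subsingleton
    obtain ⟨Q, hQ⟩ := hex
    have hP : Nat.card (P : Subgroup S) = 11 := H46SN.card_eq_of_core hn P Q hQ hcore
    have h45 : 45 ∣ Nat.card S := by rw [h1]; exact P.card_dvd_index.trans (Subgroup.index_dvd_card _)
    rcases Cfsg.Agent.S4700.result (H46SN.perfect_of_simple hS) 11 P hP 4 (by rw [← h1]) with
      ⟨F, _, _, hF, h3, ⟨e⟩⟩ | ⟨m', F, _, _, hF, hpm, h3, ⟨e⟩⟩ | ⟨h, u, hh, hu, he⟩
    · have hbot : Cfsg.pPrimeCore 11 S = ⊥ := by
        refine (Subgroup.Normal.eq_bot_or_eq_top (inferInstance : (Cfsg.pPrimeCore 11 S).Normal)).resolve_right ?_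
        intro h
        have h1 := Cfsg.Agent.Solv.pPrimeCore_card_coprime (G := S) 11
        rw [h, Subgroup.card_top] at h1
        have h2 : 11 ∣ Nat.card S := by rw [← hP]; exact Subgroup.card_subgroup_dvd_card _
        exact (Nat.Prime.coprime_iff_not_dvd (by norm_num)).1 h1.symm h2
      have hqc : Nat.card (S ⧸ Cfsg.pPrimeCore 11 S) = Nat.card S := by
        rw [Subgroup.card_eq_card_quotient_mul_card_subgroup (Cfsg.pPrimeCore 11 S), hbot, Subgroup.card_bot, mul_one]
      have h1 : Nat.card S = Nat.card (Matrix.ProjectiveSpecialLinearGroup (Fin 2) F) := by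
        rw [← hqc]; exact Nat.card_congr e.toEquiv
      have h2 := Cfsg.Agent.H4.card_PSL_mul (F := F) 2 (by norm_num)
      rw [← h1, Cfsg.Agent.H81.card_sl2, hF] at h2
      norm_num at h2
      omega
    · have : 2 ^ m' = 10 := by omega
      rcases m' with _ | _ | _ | _ | m'
      · omega
      · omega
      · omega
      · omega
      · have : 2 ^ (m' + 1 + 1 + 1 + 1) = 16 * 2 ^ m' := by ring
        have := Nat.pow_pos (show 0 < 2 by norm_num) (n := m')
        omega
    · nlinarith [Nat.mul_le_mul hh hu]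

/-- normal `11'`-subgroups are centralized by the Sylow `11`-subgroups. -/
theorem centK {G : Type u} [Group G] [Finite G] (hord : Nat.card G = 7920) (P : Sylow 11 G) (K : Subgroup G) [hK : K.Normal]
    (h11 : ¬ 11 ∣ Nat.card K) : K ≤ centralizer ((P : Subgroup G) : Set G) := by
  refine Cfsg.Agent.H37.Ord.le_centralizer_of_small P.2 h11 ?_ ?_
  · rw [Subgroup.normalizer_eq_top_iff.2 hK]; exact le_top
  have h720 : Nat.card K ∣ 720 := by
    have h1 : Nat.card K ∣ 11 * 720 := by
      have := Subgroup.card_subgroup_dvd_card K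
      rw [hord] at this; exact this
    exact (Nat.Coprime.dvd_mul_left ((Nat.Prime.coprime_iff_not_dvd (by norm_num)).2 h11).symm).1 h1
  intro q i j hq hi hji hmod
  have h1 : q ^ i ∣ 720 := hi.trans h720
  have hqi : q ∣ q ^ i := dvd_pow_self q (by omega)
  have h2 : q = 2 ∨ q = 3 ∨ q = 5 := by
    rcases primes hq ((hqi.trans h1).trans (by norm_num)) with h | h | h | h
    · exact Or.inl h
    · exact Or.inr (Or.inl h)
    · exact Or.inr (Or.inr h)
    · rw [h] at hqi h1
      have := hqi.trans h1
      norm_num at this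
  have hmod' : q ^ j % 11 = q ^ i % 11 := hmod
  have aux : ∀ k, q ^ k ∣ q ^ i ↔ k ≤ i := fun k => Nat.pow_dvd_pow_iff_le_right hq.one_lt
  rcases h2 with rfl | rfl | rfl
  · have : i < 5 := by
      by_contra hcon
      have h3 : 2 ^ 5 ∣ 2 ^ i := (aux 5).2 (by omega)
      have := h3.trans h1
      norm_num at this
    interval_cases i <;> interval_cases j <;> simp at hmod'
  · have : i < 3 := by
      by_contra hcon
      have h3 : 3 ^ 3 ∣ 3 ^ i := (aux 3).2 (by omega)
      have := h3.trans h1
      norm_num at this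
    interval_cases i <;> interval_cases j <;> simp at hmod'
  · have : i < 2 := by
      by_contra hcon
      have h3 : 5 ^ 2 ∣ 5 ^ i := (aux 2).2 (by omega)
      have := h3.trans h1
      norm_num at this
    have hi1 : i = 1 := by omega
    have hj0 : j = 0 := by omega
    subst hi1 hj0
    norm_num at hmod'

/-- the case `n = 1, 12`: edges. -/
theorem edges_small {G : Type u} [Group G] [Finite G] (hord : Nat.card G = 7920) (P : Sylow 11 G)
    (h5 : 5 ∣ Nat.card (normalizer ((P : Subgroup G) : Set G)))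
    (h3 : 3 ∣ Nat.card (centralizer ((P : Subgroup G) : Set G)))
    (h5C : ¬ 5 ∣ Nat.card (centralizer ((P : Subgroup G) : Set G))) :
    ∃ g : G, orderOf g = 5 * 3 := by
  set C := centralizer ((P : Subgroup G) : Set G) with hC
  obtain ⟨x, hx⟩ := exists_prime_orderOf_dvd_card' 5 h5
  set A : Subgroup G := zpowers (x : G) with hA
  have hA5 : Nat.card A = 5 := by
    rw [hA, Nat.card_zpowers, Subgroup.orderOf_coe, hx]
  have hAp : IsPGroup 5 A := IsPGroup.of_card (n := 1) (by rw [hA5, pow_one])
  have hAN : A ≤ normalizer ((P : Subgroup G) : Set G) := by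
    rw [hA, zpowers_le]; exact x.2
  have hNC : normalizer ((P : Subgroup G) : Set G) ≤ normalizer (C : Set G) := by
    have h1 : (C.subgroupOf (normalizer ((P : Subgroup G) : Set G))).Normal := by
      rw [← Subgroup.normalizerMonoidHom_ker]
      exact MonoidHom.normal_ker _
    exact (Subgroup.normal_subgroupOf_iff_le_normalizer (Subgroup.centralizer_le_normalizer _)).1 h1
  have hcop : (Nat.card A).Coprime (Nat.card C) := by
    rw [hA5]; exact (Nat.Prime.coprime_iff_not_dvd (by norm_num)).2 h5C
  have hAsol : Group.IsSolvable A := by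
    have : IsCyclic A := isCyclic_of_prime_card hA5
    have := IsCyclic.commGroup (α := A)
    infer_instance
  have f3 : Fact (Nat.Prime 3) := ⟨Nat.prime_three⟩
  obtain ⟨R, hR⟩ := Cfsg.Agent.Cop.exists_invariant_sylow (hAN.trans hNC) hcop (Or.inl hAsol) 3
  have h4 := Cfsg.Agent.H37.Ord.card_inf_centralizer_mod hAp hR
  obtain ⟨k, hk⟩ := IsPGroup.iff_card.1 R.2
  have hcR : Nat.card ((R : Subgroup C).map C.subtype) = 3 ^ k := by rw [Cfsg.Agent.Cop.card_map_subtype, hk]
  have hk0 : k ≠ 0 := by
    rintro rfl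
    have h6 : 3 ∣ Nat.card (R : Subgroup C) := R.dvd_card_of_dvd_card h3
    rw [hk] at h6
    norm_num at h6
  have hk2 : k ≤ 2 := by
    by_contra hcon
    have h6 : 3 ^ 3 ∣ 7920 := by
      have h7 : 3 ^ 3 ∣ 3 ^ k := (Nat.pow_dvd_pow_iff_le_right (by norm_num)).2 (by omega)
      rw [← hcR] at h7
      have := h7.trans (Subgroup.card_subgroup_dvd_card _)
      rwa [hord] at this
    norm_num at h6
  rw [hcR] at h4
  have h7 : 3 ∣ Nat.card (((R : Subgroup C).map C.subtype) ⊓ centralizer (A : Set G) : Subgroup G) := by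
    have h8 : Nat.card (((R : Subgroup C).map C.subtype) ⊓ centralizer (A : Set G) : Subgroup G) ∣ 3 ^ k := by
      rw [← hcR]; exact Subgroup.card_dvd_of_le inf_le_left
    obtain ⟨j, hj, hj2⟩ := (Nat.dvd_prime_pow Nat.prime_three).1 h8
    rw [hj2] at h4 ⊢
    rcases j with _ | j
    · exfalso
      have h9 : 1 % 5 = 3 ^ k % 5 := h4
      interval_cases k
      · exact hk0 rfl
      · norm_num at h9
      · norm_num at h9
    · exact dvd_pow_self 3 (by omega)
  exact edgeC (by norm_num) Nat.prime_three (by norm_num) (A := A)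
    (K := ((R : Subgroup C).map C.subtype) ⊓ centralizer (A : Set G)) (by rw [hA5]) h7 inf_le_right


theorem main144 {G : Type u} [Group G] [Finite G] (hord : Nat.card G = 7920) (hn : Nat.card (Sylow 11 G) = 144)
    (A : Set ℕ) (hA : ∀ p q : ℕ, p.Prime → q.Prime → p ∣ 7920 → q ∣ 7920 → (∃ g : G, orderOf g = p * q) →
      (p ∈ A ↔ q ∈ A))
    (hno : ¬ ((2 ∈ A ↔ 11 ∈ A) ∧ (3 ∈ A ↔ 11 ∈ A) ∧ (5 ∈ A ↔ 11 ∈ A))) (N : Subgroup G) [hN : N.Normal] :
    N = ⊥ ∨ N = ⊤ := by
  have hPn : ∀ Q : Sylow 11 G, Nat.card (normalizer ((Q : Subgroup G) : Set G)) = 55 := by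
    intro Q
    have h1 := (normalizer ((Q : Subgroup G) : Set G)).card_mul_index
    have h2 := Q.card_eq_index_normalizer
    have h3 : (normalizer ((Q : Subgroup G) : Set G)).index = 144 := by rw [← hn, h2]; rfl
    rw [h3, hord] at h1
    omega
  have hcard : ∀ Q : Sylow 11 G, Nat.card (Q : Subgroup G) = 11 := fun Q => card_P (m := 720) hord (by norm_num) Q
  by_cases h11 : 11 ∣ Nat.card N
  · right
    obtain ⟨m, hm⟩ := h11
    have hm11 : ¬ 11 ∣ m := by
      intro h
      have h1 := Subgroup.card_subgroup_dvd_card N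
      rw [hord, hm] at h1
      have h2 : 11 * 11 ∣ 7920 := (Nat.mul_dvd_mul_left 11 h).trans h1
      norm_num at h2
    obtain ⟨R⟩ : Nonempty (Sylow 11 N) := inferInstance
    have hR : Nat.card (R : Subgroup N) = 11 := card_P hm hm11 R
    have hRm : Nat.card ((R : Subgroup N).map N.subtype) = 11 := by
      rw [Cfsg.Agent.Cop.card_map_subtype, hR]
    have hfac : (Nat.card G).factorization 11 = 1 := by
      obtain ⟨Q⟩ : Nonempty (Sylow 11 G) := inferInstance
      have h1 := Q.card_eq_multiplicity
      rw [hcard Q] at h1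
      have h2 : 11 ^ 1 = 11 ^ (Nat.card G).factorization 11 := by rw [← h1]; norm_num
      exact (Nat.pow_right_injective (le_refl 2 |>.trans (by norm_num : 2 ≤ 11)) h2).symm
    let Q : Sylow 11 G := Sylow.ofCard ((R : Subgroup N).map N.subtype) (by rw [hRm, hfac, pow_one])
    have hQ : (Q : Subgroup G) = (R : Subgroup N).map N.subtype := rfl
    have hM := hPn Q
    set M := normalizer ((Q : Subgroup G) : Set G) with hMdef
    have hfrat : M ⊔ N = ⊤ := Sylow.normalizer_sup_eq_top R
    have hidx : N.relIndex M = N.index := by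
      rw [← Subgroup.relIndex_sup_right, hfrat, Subgroup.relIndex_top_right]
    have hmul : Nat.card (N ⊓ M : Subgroup G) * N.relIndex M = 55 := by
      rw [← hM]
      have h1 := (N.subgroupOf M).card_mul_index
      have h2 : Nat.card (N.subgroupOf M) = Nat.card (N ⊓ M : Subgroup G) := by
        rw [← Subgroup.inf_subgroupOf_right]
        exact Nat.card_congr (Subgroup.subgroupOfEquivOfLe inf_le_right).toEquiv
      rw [h2] at h1
      exact h1
    have hQN : (Q : Subgroup G) ≤ N := by
      rw [hQ]; rintro _ ⟨y, _, rfl⟩; exact y.2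
    have hQM : (Q : Subgroup G) ≤ N ⊓ M := le_inf hQN le_normalizer
    have h11d : 11 ∣ Nat.card (N ⊓ M : Subgroup G) := by
      rw [← hcard Q]; exact Subgroup.card_dvd_of_le hQM
    obtain ⟨c, hc⟩ := h11d
    rw [hc] at hmul
    have hc5 : c * N.relIndex M = 5 := by
      have : 11 * (c * N.relIndex M) = 11 * 5 := by rw [← mul_assoc, hmul]
      exact Nat.eq_of_mul_eq_mul_left (by norm_num) this
    have hc1 : c = 1 ∨ c = 5 := (Nat.dvd_prime (by norm_num)).1 (Dvd.intro _ hc5)
    rcases hc1 with rfl | rfl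
    · exfalso
      rw [mul_one] at hc
      rw [one_mul, hidx] at hc5
      -- `N` has a normal complement
      have hnR : Nat.card (normalizer ((R : Subgroup N) : Set N)) ≤ 11 := by
        have h1 : (normalizer ((R : Subgroup N) : Set N)).map N.subtype ≤ N ⊓ M := by
          refine le_inf ?_ ?_
          · rintro _ ⟨y, _, rfl⟩; exact y.2
          · exact Subgroup.le_normalizer_map N.subtype
        have h2 := Nat.le_of_dvd Nat.card_pos (Subgroup.card_dvd_of_le h1)
        rwa [hc, Cfsg.Agent.Cop.card_map_subtype] at h2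
      have hnR' : (R : Subgroup N) = normalizer ((R : Subgroup N) : Set N) :=
        Subgroup.eq_of_le_of_card_ge le_normalizer (by rw [hR]; exact hnR)
      have hcyc : IsCyclic (R : Subgroup N) := isCyclic_of_prime_card hR
      have hle : normalizer ((R : Subgroup N) : Set N) ≤ centralizer ((R : Subgroup N) : Set N) := by
        rw [← hnR']
        intro y hy
        rw [mem_centralizer_iff]
        intro z hz
        have h1 := hcyc.isMulCommutative.is_comm.comm (⟨z, hz⟩ : (R : Subgroup N)) ⟨y, hy⟩
        exact congrArg Subtype.val h1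
      have hK0 := MonoidHom.ker_transferSylow_isComplement' R hle
      have hK0n := MonoidHom.not_dvd_card_ker_transferSylow R hle
      set K0 := (MonoidHom.transferSylow R hle).ker with hK0def
      have hK0c : Nat.card K0 * 11 = Nat.card N := by rw [← hR]; exact hK0.card_mul_card
      have hK0le : K0 ≤ Cfsg.pPrimeCore 11 N :=
        Cfsg.Agent.Solv.le_pPrimeCore (MonoidHom.normal_ker _)
          ((Nat.Prime.coprime_iff_not_dvd (by norm_num)).2 hK0n).symm
      have hKn : ((Cfsg.pPrimeCore 11 N).map N.subtype).Normal := inferInstance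
      have hKc : ¬ 11 ∣ Nat.card ((Cfsg.pPrimeCore 11 N).map N.subtype) := by
        rw [Cfsg.Agent.Cop.card_map_subtype]
        exact (Nat.Prime.coprime_iff_not_dvd (by norm_num)).1 (Cfsg.Agent.Solv.pPrimeCore_card_coprime (G := N) 11).symm
      have h1 := centK hord Q _ hKc
      have h2 := Subgroup.card_dvd_of_le (h1.trans (Subgroup.centralizer_le_normalizer _))
      rw [hPn Q, Cfsg.Agent.Cop.card_map_subtype] at h2
      have h3 := (Subgroup.card_dvd_of_le hK0le).trans h2
      have h4 := N.card_mul_index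
      rw [hc5, hord, ← hK0c] at h4
      have h5 : Nat.card K0 = 144 := by omega
      rw [h5] at h3
      norm_num at h3
    · have : N.index = 1 := by rw [← hidx]; omega
      exact Subgroup.index_eq_one.1 this
  · left
    obtain ⟨P⟩ : Nonempty (Sylow 11 G) := inferInstance
    have h1 := centK hord P N h11
    have h2 := Subgroup.card_dvd_of_le (h1.trans (Subgroup.centralizer_le_normalizer _))
    rw [hPn P] at h2
    have h3 : Nat.card N ∣ 5 := by
      have h4 : Nat.card N ∣ 11 * 5 := h2
      exact (Nat.Coprime.dvd_mul_left ((Nat.Prime.coprime_iff_not_dvd (by norm_num)).2 h11).symm).1 h4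
    rcases (Nat.dvd_prime (by norm_num)).1 h3 with h4 | h4
    · exact Subgroup.card_eq_one.1 h4
    · exfalso
      obtain ⟨e, he, hee⟩ := card_norm (p := 5) N h4
      rw [Subgroup.normalizer_eq_top_iff.2 hN, Subgroup.card_top, hord] at hee
      have he4 : e ∣ 4 := he
      have hele : e ≤ 4 := Nat.le_of_dvd (by norm_num) he4
      have h6 : ∀ q, q = 2 ∨ q = 3 ∨ q = 11 → q ∣ Nat.card (centralizer (N : Set G)) := by
        intro q hq
        interval_cases e
        · omega
        · rcases hq with rfl | rfl | rfl <;> omega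
        · rcases hq with rfl | rfl | rfl <;> omega
        · omega
        · rcases hq with rfl | rfl | rfl <;> omega
      have h5N : 5 ∣ Nat.card N := by rw [h4]
      have e2 := hA 5 2 (by norm_num) (by norm_num) (by norm_num) (by norm_num)
        (edgeC (by norm_num) (by norm_num) (by norm_num) h5N (h6 2 (by simp)) le_rfl)
      have e3 := hA 5 3 (by norm_num) (by norm_num) (by norm_num) (by norm_num)
        (edgeC (by norm_num) (by norm_num) (by norm_num) h5N (h6 3 (by simp)) le_rfl)
      have e11 := hA 5 11 (by norm_num) (by norm_num) (by norm_num) (by norm_num)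
        (edgeC (by norm_num) (by norm_num) (by norm_num) h5N (h6 11 (by simp)) le_rfl)
      exact hno ⟨e2.symm.trans e11, e3.symm.trans e11, e11⟩

/-- Let G be a finite group of order 7920 = 2⁴·3²·5·11 (the order of the smallest Mathieu group) and suppose its prime graph (vertices the prime divisors of the order, distinct p, q joined when there is an element of order pq) is disconnected: the prime divisors split into two non-empty parts with no element of order pq for p in one part and q in the other. Then G is simple. -/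
theorem result {G : Type*} [Group G] [Finite G] (hord : Nat.card G = 7920)
    (hdisc : (∃ A : Set ℕ, (∃ a ∈ A, a.Prime ∧ a ∣ Nat.card G) ∧ (∃ b ∉ A, b.Prime ∧ b ∣ Nat.card G) ∧
      ∀ a ∈ A, ∀ b ∉ A, a.Prime → b.Prime → a ∣ Nat.card G → b ∣ Nat.card G → ¬ ∃ g : G, orderOf g = a * b)) :
    IsSimpleGroup G := by
  obtain ⟨A, ⟨a, haA, hap, had⟩, ⟨b, hbA, hbp, hbd⟩, hAB⟩ := hdisc
  rw [hord] at had hbd
  simp only [hord] at hAB
  have hA : ∀ p q : ℕ, p.Prime → q.Prime → p ∣ 7920 → q ∣ 7920 → (∃ g : G, orderOf g = p * q) →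
      (p ∈ A ↔ q ∈ A) := by
    intro p q hp hq hpd hqd hg
    constructor
    · intro hpA
      by_contra hqA
      exact hAB p hpA q hqA hp hq hpd hqd hg
    · intro hqA
      by_contra hpA
      exact hAB q hqA p hpA hq hp hqd hpd (by rw [mul_comm]; exact hg)
  have hno : ¬ ((2 ∈ A ↔ 11 ∈ A) ∧ (3 ∈ A ↔ 11 ∈ A) ∧ (5 ∈ A ↔ 11 ∈ A)) := by
    rintro ⟨h2, h3, h5⟩
    have ha11 : 11 ∈ A := by
      rcases primes hap had with rfl | rfl | rfl | rfl
      · exact h2.1 haA
      · exact h3.1 haA
      · exact h5.1 haA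
      · exact haA
    apply hbA
    rcases primes hbp hbd with rfl | rfl | rfl | rfl
    · exact h2.2 ha11
    · exact h3.2 ha11
    · exact h5.2 ha11
    · exact ha11
  obtain ⟨P⟩ : Nonempty (Sylow 11 G) := inferInstance
  have hP : Nat.card (P : Subgroup G) = 11 := card_P (m := 720) hord (by norm_num) P
  have hdvd : Nat.card (Sylow 11 G) ∣ 720 := by
    have h1 := P.card_dvd_index
    have h2 := (P : Subgroup G).card_mul_index
    rw [hP, hord] at h2
    have h3 : (P : Subgroup G).index = 720 := by omega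
    rwa [h3] at h1
  have hmod : Nat.card (Sylow 11 G) % 11 = 1 := card_sylow_modEq_one 11 G
  obtain ⟨e, he, hee⟩ := card_norm (p := 11) (P : Subgroup G) hP
  have he10 : e ∣ 10 := he
  have hel : e ≤ 10 := Nat.le_of_dvd (by norm_num) he10
  have hNi : Nat.card (normalizer ((P : Subgroup G) : Set G)) * Nat.card (Sylow 11 G) = 7920 := by
    have h1 := (normalizer ((P : Subgroup G) : Set G)).card_mul_index
    have h3 : (normalizer ((P : Subgroup G) : Set G)).index = Nat.card (Sylow 11 G) := by
      rw [P.card_eq_index_normalizer]; rfl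
    rw [h3, hord] at h1
    exact h1
  have small : 6 ∣ Nat.card (centralizer ((P : Subgroup G) : Set G)) →
      5 ∣ Nat.card (normalizer ((P : Subgroup G) : Set G)) → False := by
    intro h6 h5
    have h11P : 11 ∣ Nat.card (P : Subgroup G) := by rw [hP]
    have e2 := hA 11 2 (by norm_num) (by norm_num) (by norm_num) (by norm_num)
      (edgeC (by norm_num) (by norm_num) (by norm_num) h11P ((by norm_num : 2 ∣ 6).trans h6) le_rfl)
    have e3 := hA 11 3 (by norm_num) (by norm_num) (by norm_num) (by norm_num)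
      (edgeC (by norm_num) (by norm_num) (by norm_num) h11P ((by norm_num : 3 ∣ 6).trans h6) le_rfl)
    by_cases h5C : 5 ∣ Nat.card (centralizer ((P : Subgroup G) : Set G))
    · have e5 := hA 11 5 (by norm_num) (by norm_num) (by norm_num) (by norm_num)
        (edgeC (by norm_num) (by norm_num) (by norm_num) h11P h5C le_rfl)
      exact hno ⟨e2.symm, e3.symm, e5.symm⟩
    · have e5 := hA 5 3 (by norm_num) (by norm_num) (by norm_num) (by norm_num)
        (edges_small hord P h5 ((by norm_num : 3 ∣ 6).trans h6) h5C)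
      exact hno ⟨e2.symm, e3.symm, e5.trans e3.symm⟩
  rcases n_cases hdvd hmod with hn | hn | hn | hn
  · exfalso
    rw [hn, mul_one] at hNi
    rw [hNi] at hee
    apply small
    · interval_cases e <;> omega
    · rw [hNi]; norm_num
  · exfalso
    rw [hn] at hNi
    have hNi' : Nat.card (normalizer ((P : Subgroup G) : Set G)) = 660 := by omega
    rw [hNi'] at hee
    apply small
    · interval_cases e <;> omega
    · rw [hNi']; norm_num
  · exact (no45 hn).elim
  · have hnt : Nontrivial G := by
      rw [← Finite.one_lt_card_iff_nontrivial, hord]; norm_num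
    exact ⟨fun N hN => main144 hord hn A hA hno N⟩

end Cfsg.Agent.S2490
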