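import Cfsg.Statements.S2496
import Cfsg.Agent.H43.PsuTorus

set_option autoImplicit false
open Cfsg

namespace Cfsg.Agent.S2496

open Cfsg.Agent.H43

/-- Let q be an odd prime power, n ≥ 4 even, and U = PSU(n,q) (realised over the field with q² elements). Then U has an element of order q^(n/2) + (−1)^(n/2) — that is, q^(n/2) + 1 when n/2 is even and q^(n/2) − 1 when n/2 is odd — if and only if the 2-part of n exceeds the 2-part of q + 1. -/
theorem result {F : Type*} [Field F] [Fintype F] {q : ℕ} (hF : Fintype.card F = q ^ 2) (hodd : Odd q)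
    {n : ℕ} (hn : 4 ≤ n) (heven : Even n) :
    (∃ g : Cfsg.PSU n F q, orderOf g = if Even (n / 2) then q ^ (n / 2) + 1 else q ^ (n / 2) - 1) ↔
      padicValNat 2 (q + 1) < padicValNat 2 n := by
  classical
  have hq : 3 ≤ q := by
    have h1 := Cfsg.Agent.Uni.two_le_q hF
    rcases hodd with ⟨t, ht⟩
    omega
  obtain ⟨m, hm⟩ := heven
  have h2 : n = 2 * m := by omega
  have h3 : 2 ≤ m := by omega
  have h5 : n / 2 = m := by omega
  rw [h5]
  obtain ⟨T, hT1, hT2, hT3, hT4, hT5⟩ := PsuTorus.nums q m hq h3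
  have hv : padicValNat 2 n = padicValNat 2 (2 * m) := by rw [h2]
  rw [hv, ← hT4]
  have hbN : (if Even m then q ^ m + 1 else q ^ m - 1) = PsuTorus.bN q m := rfl
  rw [hbN]
  have hNpos := PsuTorus.bN_pos q m hq h3
  have hd0 : 0 < Nat.gcd (2 * m) (q + 1) := Nat.gcd_pos_of_pos_left _ (by omega)
  obtain ⟨d, hd⟩ : ∃ d, d = Nat.gcd (2 * m) (q + 1) := ⟨_, rfl⟩
  rw [← hd] at hd0 hT5 ⊢
  have hdq : d ∣ q + 1 := hd ▸ Nat.gcd_dvd_right _ _
  have hcoepow : ∀ (A : SU n F q) (k : ℕ), (((A ^ k : SU n F q) : Matrix.SpecialLinearGroup (Fin n) F) : Matrix (Fin n) (Fin n) F) =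
      ((A : Matrix.SpecialLinearGroup (Fin n) F) : Matrix (Fin n) (Fin n) F) ^ k := by
    intro A k; rfl
  constructor
  · rintro ⟨g, hg⟩
    obtain ⟨A, rfl⟩ := QuotientGroup.mk_surjective g
    have hcent : ∀ k, A ^ k ∈ Subgroup.center (SU n F q) ↔ PsuTorus.bN q m ∣ k := by
      intro k
      rw [← QuotientGroup.eq_one_iff, QuotientGroup.mk_pow, ← hg, orderOf_dvd_iff_pow_eq_one]
    obtain ⟨M, hM⟩ := hT5
    have hAN : A ^ (PsuTorus.bN q m * (q + 1)) = 1 := by
      have h6 := (hcent (PsuTorus.bN q m)).mpr (dvd_refl _)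
      rw [Cfsg.Agent.Uni.mem_center_SU_iff hF (by omega)] at h6
      obtain ⟨c, hc⟩ := h6
      have h7 : c ^ (q + 1) = 1 := by
        rw [← Cfsg.Agent.Uni.pres_scalar_iff (q := q) (n := n) (by omega), ← hc]
        exact Cfsg.Agent.Uni.SU_pres _
      apply Cfsg.Agent.Uni.SU_ext
      rw [pow_mul, hcoepow, hc, Matrix.diagonal_pow]
      have h8 : ((fun _ => c : Fin n → F) ^ (q + 1)) = fun _ => 1 := by
        funext i; rw [Pi.pow_apply, h7]
      rw [h8]
      exact Matrix.diagonal_one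
    obtain ⟨c, hc⟩ := PsuTorus.scalar_pow hF hq hodd h3 h2 ((A : Matrix.SpecialLinearGroup (Fin n) F) : Matrix (Fin n) (Fin n) F)
      (Cfsg.Agent.Uni.SU_pres A) A.1.2 (by
        rw [← hcoepow, hAN]; rfl) (by
        intro r s hr hrs hrq hcon
        have h6 : A ^ (s * (q + 1)) = 1 := Cfsg.Agent.Uni.SU_ext (by rw [hcoepow, hcon]; rfl)
        have h7 : A ^ (s * (q + 1)) ∈ Subgroup.center (SU n F q) := by rw [h6]; exact one_mem _
        rw [hcent, hrs] at h7
        have hs0 : 0 < s := by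
          rcases Nat.eq_zero_or_pos s with rfl | h
          · rw [mul_zero] at hrs; omega
          · exact h
        rw [mul_comm r s] at h7
        exact hrq (Nat.dvd_of_mul_dvd_mul_left hs0 h7)) (PsuTorus.bN q m * T) M d hT3 (by rw [hM]; ring) hdq
    have h6 : A ^ M ∈ Subgroup.center (SU n F q) := by
      rw [Cfsg.Agent.Uni.mem_center_SU_iff hF (by omega)]
      exact ⟨c, by rw [hcoepow]; exact hc⟩
    rw [hcent] at h6
    obtain ⟨t, ht⟩ := h6
    refine ⟨t, ?_⟩
    apply Nat.eq_of_mul_eq_mul_left (show 0 < PsuTorus.bN q m by omega)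
    rw [hM, ht]; ring
  · intro hdT
    obtain ⟨K, hK1, hK2, l, A0, hlo, hpres, hdet, hpow⟩ := PsuTorus.exists_mat hF hq hodd h3 (by omega : m + m = n)
      (PsuTorus.bN q m * T) hT1
    obtain ⟨A, hA⟩ : ∃ A : SU n F q, ((A : Matrix.SpecialLinearGroup (Fin n) F) : Matrix (Fin n) (Fin n) F) = A0 :=
      ⟨Cfsg.Agent.Uni.mkSU A0 hpres hdet, rfl⟩
    obtain ⟨k, hk⟩ : ∃ k, k = orderOf (QuotientGroup.mk A : PSU n F q) := ⟨_, rfl⟩
    have hkc : A ^ k ∈ Subgroup.center (SU n F q) := by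
      rw [← QuotientGroup.eq_one_iff, QuotientGroup.mk_pow, hk]
      exact pow_orderOf_eq_one _
    rw [Cfsg.Agent.Uni.mem_center_SU_iff hF (by omega)] at hkc
    obtain ⟨c, hc⟩ := hkc
    have hc1 : c ^ (q + 1) = 1 := by
      rw [← Cfsg.Agent.Uni.pres_scalar_iff (q := q) (n := n) (by omega), ← hc]
      exact Cfsg.Agent.Uni.SU_pres _
    have hc2 : c ^ n = 1 := by
      have h6 := (A ^ k).1.2
      rw [hc, Matrix.det_diagonal, Finset.prod_const, Finset.card_univ, Fintype.card_fin] at h6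
      exact h6
    rw [hcoepow, hA] at hc
    have hlc := hpow k c hc
    have h7 : PsuTorus.bN q m * T ∣ k * (q + 1) := by
      rw [← hlo]
      apply orderOf_dvd_of_pow_eq_one
      apply Units.ext
      rw [pow_mul, Units.val_pow_eq_pow_val, Units.val_pow_eq_pow_val, hlc, ← map_pow, hc1, map_one, Units.val_one]
    have h8 : PsuTorus.bN q m * T ∣ k * (2 * m) := by
      rw [← hlo]
      apply orderOf_dvd_of_pow_eq_one
      apply Units.ext
      rw [pow_mul, Units.val_pow_eq_pow_val, Units.val_pow_eq_pow_val, hlc, ← map_pow, ← h2, hc2, map_one, Units.val_one]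
    have h9 : PsuTorus.bN q m * T ∣ k * d := by
      rw [hd, ← Nat.gcd_mul_left]
      exact Nat.dvd_gcd h8 h7
    obtain ⟨t, ht⟩ := hdT
    have h10 : PsuTorus.bN q m ∣ k := by
      rw [ht] at h9
      have h11 : PsuTorus.bN q m * d ∣ k * d := (mul_dvd_mul_left _ (Dvd.intro _ rfl)).trans h9
      exact Nat.dvd_of_mul_dvd_mul_right hd0 h11
    obtain ⟨u, hu⟩ := h10
    have hk0 : 0 < k := by rw [hk]; exact orderOf_pos _
    have hu0 : 0 < u := by
      rcases Nat.eq_zero_or_pos u with rfl | h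
      · rw [mul_zero] at hu; omega
      · exact h
    refine ⟨(QuotientGroup.mk A : PSU n F q) ^ u, ?_⟩
    rw [orderOf_pow, ← hk, hu, Nat.gcd_eq_right (Dvd.intro_left _ rfl)]
    exact Nat.mul_div_cancel _ hu0

end Cfsg.Agent.S2496
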