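import Cfsg.Statements.S2518
import Cfsg.Agent.HH.G2Three2
import Cfsg.Agent.S1059
import Cfsg.Agent.S2371
import Cfsg.Agent.S2475
import Mathlib.GroupTheory.Perm.Cycle.Type

set_option autoImplicit false
open Cfsg

namespace Cfsg.Agent.S2518


/-- the order of the group -/
lemma card_g2 {F : Type*} [Field F] [Fintype F] (hF : Fintype.card F = 3) : Nat.card ↥(Cfsg.Lie.chevG2.group F) = 2 ^ 6 * 3 ^ 6 * 7 * 13 := by
  rw [S1059.result hF]
  norm_num

lemma prime_g2 {F : Type*} [Field F] [Fintype F] (hF : Fintype.card F = 3) {r : ℕ} (hr : r.Prime) :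
    r ∣ Nat.card ↥(Cfsg.Lie.chevG2.group F) ↔ r = 2 ∨ r = 3 ∨ r = 7 ∨ r = 13 := by
  rw [card_g2 hF]
  constructor
  · intro h
    rw [hr.dvd_mul, hr.dvd_mul, hr.dvd_mul, Nat.prime_dvd_prime_iff_eq hr (show Nat.Prime 7 by norm_num),
      Nat.prime_dvd_prime_iff_eq hr (show Nat.Prime 13 by norm_num)] at h
    rcases h with ((h | h) | h) | h
    · left; exact (Nat.prime_dvd_prime_iff_eq hr (by norm_num)).1 (hr.dvd_of_dvd_pow h)
    · right; left; exact (Nat.prime_dvd_prime_iff_eq hr (by norm_num)).1 (hr.dvd_of_dvd_pow h)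
    · right; right; left; exact h
    · right; right; right; exact h
  · rintro (rfl | rfl | rfl | rfl) <;> decide

lemma orders {E : Type*} [Field E] [Fintype E] (hE : Fintype.card E = 13) (m : ℕ) :
    (∃ y : Matrix.ProjectiveSpecialLinearGroup (Fin 2) E, orderOf y = m) ↔ m ∣ 13 ∨ m ∣ 6 ∨ m ∣ 7 := by
  haveI : Fact (Nat.Prime 13) := ⟨by norm_num⟩
  haveI : CharP E 13 := charP_of_card_eq_prime hE
  have h := S2475.result (F := E) 13 (by rw [hE]; norm_num)
  have h2 := Set.ext_iff.1 h m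
  rw [hE] at h2
  exact h2

lemma prime_psl {E : Type*} [Field E] [Fintype E] (hE : Fintype.card E = 13) {r : ℕ} (hr : r.Prime) :
    r ∣ Nat.card (Matrix.ProjectiveSpecialLinearGroup (Fin 2) E) ↔ r = 2 ∨ r = 3 ∨ r = 7 ∨ r = 13 := by
  haveI : Fact r.Prime := ⟨hr⟩
  have h : r ∣ Nat.card (Matrix.ProjectiveSpecialLinearGroup (Fin 2) E) ↔ r ∣ 13 ∨ r ∣ 6 ∨ r ∣ 7 := by
    rw [← orders hE]
    constructor
    · intro h; exact exists_prime_orderOf_dvd_card' r h
    · rintro ⟨y, rfl⟩; exact orderOf_dvd_natCard y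
  rw [h, show 6 = 2 * 3 by norm_num, hr.dvd_mul, Nat.prime_dvd_prime_iff_eq hr (show Nat.Prime 13 by norm_num),
    Nat.prime_dvd_prime_iff_eq hr (show Nat.Prime 7 by norm_num),
    Nat.prime_dvd_prime_iff_eq hr (show Nat.Prime 2 by norm_num), Nat.prime_dvd_prime_iff_eq hr (show Nat.Prime 3 by norm_num)]
  tauto

lemma prod_g2 {F : Type*} [Field F] [Fintype F] (hF : Fintype.card F = 3) {r s : ℕ} (hr : r.Prime) (hs : s.Prime) (hrs : r ≠ s) :
    (∃ x : ↥(Cfsg.Lie.chevG2.group F), orderOf x = r * s) ↔ r * s = 6 := by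
  classical
  haveI : Fact (Nat.Prime 13) := ⟨by norm_num⟩
  haveI : Finite ↥(Cfsg.Lie.chevG2.group F) := Nat.finite_of_card_ne_zero (by rw [card_g2 hF]; norm_num)
  have h3 := HH.G23.three_zero hF
  constructor
  · rintro ⟨x, hx⟩
    have hr2 := (prime_g2 hF hr).1 ((dvd_mul_right r s).trans (hx ▸ orderOf_dvd_natCard x))
    have hs2 := (prime_g2 hF hs).1 ((dvd_mul_left s r).trans (hx ▸ orderOf_dvd_natCard x))
    have hf : (Nat.card ↥(Cfsg.Lie.chevG2.group F)).factorization 13 = 1 := by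
      rw [card_g2 hF, Nat.factorization_mul (by norm_num) (by norm_num), Finsupp.add_apply, Nat.Prime.factorization_self (by norm_num),
        Nat.factorization_eq_zero_of_not_dvd (by decide)]
    obtain ⟨H, hH1, hH2, hH3⟩ := S2371.result 3 hF le_rfl
    haveI := hH1
    have k13 : ∀ {s : ℕ}, s.Prime → orderOf x ≠ 13 * s := fun hs => HH.G23.self_cent hf H hH2 hH3 hs
    have k7 : ∀ {s : ℕ}, (s = 2 ∨ s = 3) → orderOf x ≠ 7 * s := fun hs => HH.G23.no_seven hF hs
    rcases hr2 with rfl | rfl | rfl | rfl <;> rcases hs2 with rfl | rfl | rfl | rfl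
    · exact absurd rfl hrs
    · rfl
    · exact absurd hx (by rw [mul_comm]; exact k7 (Or.inl rfl))
    · exact absurd hx (by rw [mul_comm]; exact k13 hr)
    · rfl
    · exact absurd rfl hrs
    · exact absurd hx (by rw [mul_comm]; exact k7 (Or.inr rfl))
    · exact absurd hx (by rw [mul_comm]; exact k13 hr)
    · exact absurd hx (k7 (Or.inl rfl))
    · exact absurd hx (k7 (Or.inr rfl))
    · exact absurd rfl hrs
    · exact absurd hx (by rw [mul_comm]; exact k13 hr)
    · exact absurd hx (k13 hs)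
    · exact absurd hx (k13 hs)
    · exact absurd hx (k13 hs)
    · exact absurd rfl hrs
  · intro h
    rw [h]
    exact HH.G23.exists_six h3

lemma prod_psl {E : Type*} [Field E] [Fintype E] (hE : Fintype.card E = 13) {r s : ℕ} (hr : r.Prime) (hs : s.Prime) (hrs : r ≠ s) :
    (∃ y : Matrix.ProjectiveSpecialLinearGroup (Fin 2) E, orderOf y = r * s) ↔ r * s = 6 := by
  rw [orders hE]
  have h4 : ∀ p : ℕ, p.Prime → ¬ r * s ∣ p := by
    intro p hp h
    have e1 := (Nat.prime_dvd_prime_iff_eq hr hp).1 ((dvd_mul_right r s).trans h)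
    have e2 := (Nat.prime_dvd_prime_iff_eq hs hp).1 ((dvd_mul_left s r).trans h)
    exact hrs (e1.trans e2.symm)
  constructor
  · rintro (h | h | h)
    · exact absurd h (h4 13 (by norm_num))
    · have hle := Nat.le_of_dvd (by norm_num) h
      have hr2 := hr.two_le
      have hs2 := hs.two_le
      have : r ≤ 3 := by nlinarith
      have : s ≤ 3 := by nlinarith
      interval_cases r <;> interval_cases s <;> first | rfl | exact absurd rfl hrs
    · exact absurd h (h4 7 (by norm_num))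
  · intro h; right; left; rw [h]


/-- Let F₃ be the field with 3 elements and F₁₃ the field with 13 elements. The Chevalley group G₂(F₃) and PSL(2, F₁₃) have the same prime graph: the same prime divisors of their orders, and for distinct primes r, s an element of order rs in one iff in the other. -/
theorem result {F : Type*} [Field F] [Fintype F] (hF : Fintype.card F = 3) {E : Type*} [Field E] [Fintype E] (hE : Fintype.card E = 13) :
    ((∀ r : ℕ, r.Prime → (r ∣ Nat.card ↥(Cfsg.Lie.chevG2.group F) ↔ r ∣ Nat.card (Matrix.ProjectiveSpecialLinearGroup (Fin 2) E))) ∧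
      (∀ r s : ℕ, r.Prime → s.Prime → r ≠ s → ((∃ x : ↥(Cfsg.Lie.chevG2.group F), orderOf x = r * s) ↔ (∃ y : (Matrix.ProjectiveSpecialLinearGroup (Fin 2) E), orderOf y = r * s)))) := by
  refine ⟨fun r hr => ?_, fun r s hr hs hrs => ?_⟩
  · rw [prime_g2 hF hr, prime_psl hE hr]
  · rw [prod_g2 hF hr hs hrs, prod_psl hE hr hs hrs]

end Cfsg.Agent.S2518
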