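import Cfsg.Statements.S2530
import Cfsg.Agent.ThreeTransp.SymPres

set_option autoImplicit false
open Cfsg

namespace Cfsg.Agent.S2530

open Cfsg.Agent.ThreeTransp

private theorem comm_of {G : Type*} [Group G] {a b : G} (ha : a * a = 1) (hb : b * b = 1) (h : (a * b) ^ 2 = 1) :
    a * b = b * a := by
  have ha' : a⁻¹ = a := inv_eq_of_mul_eq_one_left ha
  have hb' : b⁻¹ = b := inv_eq_of_mul_eq_one_left hb
  rw [sq] at h
  have h1 : a * b = (a * b)⁻¹ := eq_inv_of_mul_eq_one_left h
  rw [mul_inv_rev, ha', hb'] at h1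
  exact h1

private theorem sq_of {G : Type*} [Group G] {a b : G} (ha : a * a = 1) (hb : b * b = 1) (h : a * b = b * a) :
    (a * b) ^ 2 = 1 := by
  rw [sq]
  calc a * b * (a * b) = a * (b * a) * b := by group
    _ = a * (a * b) * b := by rw [h]
    _ = (a * a) * (b * b) := by group
    _ = 1 := by rw [ha, hb, one_mul]

private theorem braid_of {G : Type*} [Group G] {a b : G} (ha : a * a = 1) (hb : b * b = 1) (h : (a * b) ^ 3 = 1) :
    a * b * a = b * a * b := by
  have ha' : a⁻¹ = a := inv_eq_of_mul_eq_one_left ha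
  have hb' : b⁻¹ = b := inv_eq_of_mul_eq_one_left hb
  have h1 : (a * b * a) * (b * a * b) = 1 := by rw [← h, pow_succ, sq]; group
  have h2 : a * b * a = (b * a * b)⁻¹ := eq_inv_of_mul_eq_one_left h1
  rw [h2, mul_inv_rev, mul_inv_rev, ha', hb', mul_assoc]

private theorem cube_of {G : Type*} [Group G] {a b : G} (ha : a * a = 1) (hb : b * b = 1) (h : a * b * a = b * a * b) :
    (a * b) ^ 3 = 1 := by
  have ha' : a⁻¹ = a := inv_eq_of_mul_eq_one_left ha
  have hb' : b⁻¹ = b := inv_eq_of_mul_eq_one_left hb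
  calc (a * b) ^ 3 = (a * b * a) * (b * a * b) := by rw [pow_succ, sq]; group
    _ = (b * a * b) * (b * a * b) := by rw [h]
    _ = b * a * (b * b) * a * b := by group
    _ = b * (a * a) * b := by rw [hb]; group
    _ = 1 := by rw [ha, mul_one, hb]


/-- The Coxeter presentation of the symmetric group: for every n, the symmetric group on n+1 letters is the Coxeter group of type A_n with the adjacent transpositions (i, i+1) as simple reflections; that is, it is presented by generators r_1, …, r_n subject to r_i² = 1, (r_i r_j)² = 1 for |i − j| > 1 and (r_i r_{i+1})³ = 1, with r_i mapping to (i, i+1). -/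
theorem result (n : ℕ) :
    ∃ cs : CoxeterSystem (CoxeterMatrix.A n) (Equiv.Perm (Fin (n + 1))), ∀ i : Fin n, cs.simple i = Equiv.swap i.castSucc i.succ := by
  set M := CoxeterMatrix.A n with hM
  set cs0 := M.toCoxeterSystem with hcs0
  have hval : ∀ i j : Fin n, M i j = if i = j then 1 else (if (j : ℕ) + 1 = i ∨ (i : ℕ) + 1 = j then 3 else 2) := by
    intro i j; rfl
  set s : ℕ → M.Group := fun i => if h : i < n then cs0.simple ⟨i, h⟩ else 1 with hs
  have hs' : ∀ i (h : i < n), s i = cs0.simple ⟨i, h⟩ := fun i h => by rw [hs]; simp only [dif_pos h]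
  have hB : BraidRel n s := by
    refine ⟨fun i hi => ?_, fun i j hij hj => ?_, fun i hi => ?_⟩
    · rw [hs' i hi]; exact cs0.simple_mul_simple_self _
    · rw [hs' i (by omega), hs' j hj]
      apply comm_of (cs0.simple_mul_simple_self _) (cs0.simple_mul_simple_self _)
      have h1 := cs0.simple_mul_simple_pow ⟨i, by omega⟩ ⟨j, hj⟩
      have h5 : ¬ (((⟨j, hj⟩ : Fin n) : ℕ) + 1 = ((⟨i, by omega⟩ : Fin n) : ℕ) ∨ ((⟨i, by omega⟩ : Fin n) : ℕ) + 1 = ((⟨j, hj⟩ : Fin n) : ℕ)) := by
        simp only; omega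
      have h4 : (⟨i, by omega⟩ : Fin n) ≠ ⟨j, hj⟩ := by
        intro h; rw [Fin.mk.injEq] at h; omega
      rw [hval, if_neg h4, if_neg h5] at h1
      exact h1
    · rw [hs' i (by omega), hs' (i + 1) hi]
      apply braid_of (cs0.simple_mul_simple_self _) (cs0.simple_mul_simple_self _)
      have h1 := cs0.simple_mul_simple_pow ⟨i, by omega⟩ ⟨i + 1, hi⟩
      have h4 : (⟨i, by omega⟩ : Fin n) ≠ ⟨i + 1, hi⟩ := by
        intro h; rw [Fin.mk.injEq] at h; omega
      have h5 : (((⟨i + 1, hi⟩ : Fin n) : ℕ) + 1 = ((⟨i, by omega⟩ : Fin n) : ℕ) ∨ ((⟨i, by omega⟩ : Fin n) : ℕ) + 1 = ((⟨i + 1, hi⟩ : Fin n) : ℕ)) := Or.inr rfl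
      rw [hval, if_neg h4, if_pos h5] at h1
      exact h1
  obtain ⟨φ, hφ⟩ := hB.exists_hom
  have hA := adj_braidRel n
  have hlift : M.IsLiftable (fun i : Fin n => adj n i) := by
    intro i j
    rw [hval]
    have hi := hA.sq i i.2
    have hj := hA.sq j j.2
    split_ifs with h1 h2
    · rw [h1, pow_one]; exact hj
    · rcases h2 with h2 | h2
      · have h3 := hA.braid j (by omega)
        rw [h2] at h3
        exact cube_of hi hj h3.symm
      · have h3 := hA.braid i (by omega)
        rw [h2] at h3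
        exact cube_of hi hj h3
    · push Not at h2
      have hne : (i : ℕ) ≠ j := fun h => h1 (Fin.ext h)
      rcases Nat.lt_or_gt_of_ne hne with h | h
      · exact sq_of hi hj (hA.comm i j (by omega) j.2)
      · exact sq_of hi hj (hA.comm j i (by omega) i.2).symm
  set ψ : M.Group →* Equiv.Perm (Fin (n + 1)) := cs0.lift ⟨fun i : Fin n => adj n i, hlift⟩ with hψ
  have hψs : ∀ i : Fin n, ψ (cs0.simple i) = adj n i := fun i => cs0.lift_apply_simple hlift i
  have h1 : φ.comp ψ = MonoidHom.id _ := by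
    apply cs0.ext_simple
    intro i
    rw [MonoidHom.comp_apply, hψs, hφ i i.2, hs' i i.2]; rfl
  have h2 : ψ.comp φ = MonoidHom.id _ := by
    apply MonoidHom.eq_of_eqOn_dense (genSub_adj n)
    rintro _ ⟨i, hi, rfl⟩
    rw [MonoidHom.comp_apply, hφ i hi, hs' i hi, hψs]; rfl
  let e : M.Group ≃* Equiv.Perm (Fin (n + 1)) := MonoidHom.toMulEquiv ψ φ h1 h2
  refine ⟨cs0.map e, fun i => ?_⟩
  rw [CoxeterSystem.map_simple]
  show ψ (cs0.simple i) = _
  rw [hψs, adj, dif_pos i.2]
  rfl

end Cfsg.Agent.S2530
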