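import Cfsg.Statements.S2556
import Cfsg.Agent.H38.AutSz
import Cfsg.Agent.SzLie.Simple
import Cfsg.Agent.Fus.Alperin

set_option autoImplicit false
open Cfsg

namespace Cfsg.Agent.S2556

open Cfsg.Agent.Suz2 Cfsg.Agent.SzLie Cfsg.Agent.H38.AutSz

/-- a normal 2-subgroup of odd index is the 2-core -/
theorem pCore_eq {G : Type*} [Group G] (K : Subgroup G) (hK : K.Normal) (h2 : IsPGroup 2 K)
    (hodd : ¬ 2 ∣ K.index) : pCore 2 G = K := by
  haveI : Fact (Nat.Prime 2) := ⟨Nat.prime_two⟩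
  apply le_antisymm
  · exact Cfsg.Agent.Fus.pCore_le_sylow (h2.toSylow hodd)
  · exact Cfsg.Agent.Fus.le_pCore hK h2

theorem exists_equiv {F : Type*} [Field F] [Fintype F] {m : ℕ} (hF : Fintype.card F = 2 ^ (2 * m + 1))
    (P : Sylow 2 ↥(Cfsg.Lie.Sz F (2 ^ (m + 1)))) :
    Nonempty (TA (theta (szE_of_card hF)) ≃* ↥(P : Subgroup ↥(Cfsg.Lie.Sz F (2 ^ (m + 1))))) := by
  haveI : Fact (Nat.Prime 2) := ⟨Nat.prime_two⟩
  set h := szE_of_card hF with hh
  haveI : Finite ↥(Cfsg.Lie.Sz F (2 ^ (m + 1))) := by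
    apply Nat.finite_of_card_ne_zero
    rw [card_sz h]
    have := Fintype.one_lt_card (α := F)
    have h3 : 0 < Fintype.card F - 1 := by omega
    positivity
  have hind : ¬ 2 ∣ (szQSub h).index := by
    have h1 := (szQSub h).card_mul_index
    rw [card_szQSub h, card_sz h, mul_assoc] at h1
    have h2 : 0 < Fintype.card F ^ 2 := by have := Fintype.one_lt_card (α := F); positivity
    rw [Nat.eq_of_mul_eq_mul_left h2 h1, hF]
    have h3 : 2 ^ (2 * m + 1) = 2 * 2 ^ (2 * m) := by ring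
    have h4 : 0 < 2 ^ (2 * m) := by positivity
    intro h5
    rcases (Nat.Prime.dvd_mul Nat.prime_two).1 h5 with h6 | h6
    · rw [h3] at h6; omega
    · rw [h3] at h6
      have : (2 * 2 ^ (2 * m)) ^ 2 = 2 * (2 * (2 ^ (2 * m)) ^ 2) := by ring
      rw [this] at h6
      omega
  let Q : Sylow 2 ↥(Cfsg.Lie.Sz F (2 ^ (m + 1))) := (isPGroup_szQSub h hF).toSylow hind
  have e1 : (Q : Subgroup ↥(Cfsg.Lie.Sz F (2 ^ (m + 1)))) ≃* (P : Subgroup ↥(Cfsg.Lie.Sz F (2 ^ (m + 1)))) :=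
    Sylow.equiv Q P
  have hanti : ∀ u v : TA (theta h), szQ h (u * v).x (u * v).y = szQ h v.x v.y * szQ h u.x u.y := by
    intro u v
    rw [szQ_mul]
    simp only [TA.mul_x, TA.mul_y, theta_apply]
    congr 1 <;> ring
  let f : TA (theta h) →* (Q : Subgroup ↥(Cfsg.Lie.Sz F (2 ^ (m + 1)))) :=
    { toFun := fun u => ⟨(szQ h u.x u.y)⁻¹, (szQSub h).inv_mem ⟨u.x, u.y, rfl⟩⟩
      map_one' := by
        apply Subtype.ext
        show (szQ h 0 0)⁻¹ = 1
        rw [szQ_zero, inv_one]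
      map_mul' := by
        intro u v
        apply Subtype.ext
        show (szQ h (u * v).x (u * v).y)⁻¹ = (szQ h u.x u.y)⁻¹ * (szQ h v.x v.y)⁻¹
        rw [hanti, mul_inv_rev] }
  have hf : Function.Bijective f := by
    constructor
    · intro u v huv
      have h1 : (szQ h u.x u.y)⁻¹ = (szQ h v.x v.y)⁻¹ := congrArg Subtype.val huv
      obtain ⟨h2, h3⟩ := szQ_injective h (inv_injective h1)
      exact TA.ext h2 h3
    · rintro ⟨g, hg⟩
      obtain ⟨x, y, hxy⟩ := (szQSub h).inv_mem hg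
      refine ⟨⟨x, y⟩, Subtype.ext ?_⟩
      show (szQ h x y)⁻¹ = g
      rw [← hxy, inv_inv]
  exact ⟨(MulEquiv.ofBijective f hf).trans e1⟩

/-- Let S be a Sylow 2-subgroup of the Suzuki group Sz(q), q = 2ⁿ with n = 2m + 1 ≥ 3 (realised as 4 × 4 matrices over the field with q elements). Then the largest normal 2-subgroup of the automorphism group of S is elementary abelian of order 2^(n²), and the automorphism group of S has order 2^(n²) · n · (q − 1). -/
theorem result {S : Type*} [Group S] [Finite S] (m : ℕ) (hm : 1 ≤ m)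
    {F : Type*} [Field F] [Fintype F] (hF : Fintype.card F = 2 ^ (2 * m + 1))
    (P : Sylow 2 ↥(Cfsg.Lie.Sz F (2 ^ (m + 1)))) (hS : Nonempty (S ≃* ↥(P : Subgroup ↥(Cfsg.Lie.Sz F (2 ^ (m + 1)))))) :
    Cfsg.IsElementaryAbelian 2 (Cfsg.pCore 2 (MulAut S)) ∧ Nat.card ↥(Cfsg.pCore 2 (MulAut S)) = 2 ^ ((2 * m + 1) ^ 2) ∧
      Nat.card (MulAut S) = 2 ^ ((2 * m + 1) ^ 2) * ((2 * m + 1) * (2 ^ (2 * m + 1) - 1)) := by
  classical
  haveI : Fact (Nat.Prime 2) := ⟨Nat.prime_two⟩
  haveI hchar : CharP F 2 := Cfsg.Agent.H39.sz_charTwo hF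
  have h := szE_of_card hF
  have hnF : Nat.card F = 2 ^ (2 * m + 1) := by rw [Nat.card_eq_fintype_card, hF]
  set φ := theta (szE_of_card hF) with hφdef
  obtain ⟨e1⟩ := exists_equiv hF P
  obtain ⟨e2⟩ := hS
  let e : MulAut S ≃* MulAut (TA φ) := MulAut.congr (e2.trans e1.symm)
  have hσ : ∀ σ : F ≃+* F, ∀ x, σ (φ x) = φ (σ x) := fun σ x => by
    rw [hφdef, theta_apply, theta_apply, map_pow]
  have hφ2 : ∀ x, φ (φ x) = x ^ 2 := fun x => by
    rw [hφdef, theta_apply, theta_apply]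
    exact h.tt x
  have h8 : 8 ≤ Fintype.card F := by
    rw [hF]
    calc 8 = 2 ^ 3 := by norm_num
      _ ≤ 2 ^ (2 * m + 1) := Nat.pow_le_pow_right (by norm_num) (by omega)
  have hbig : ∃ x : F, x ^ 4 ≠ x := by
    obtain ⟨g, hg⟩ := IsCyclic.exists_ofOrder_eq_natCard (α := Fˣ)
    refine ⟨g, fun h4 => ?_⟩
    have h5 : (g : F) ^ 3 = 1 := by
      apply mul_right_cancel₀ g.ne_zero
      rw [one_mul]
      have h4' : (g : F) ^ 4 = (g : F) := h4
      calc (g : F) ^ 3 * (g : F) = (g : F) ^ 4 := by ring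
        _ = (g : F) := h4'
    have h6 : g ^ 3 = 1 := by
      apply Units.ext
      rw [Units.val_pow_eq_pow_val, h5, Units.val_one]
    have h7 := orderOf_le_of_pow_eq_one (by norm_num) h6
    rw [hg, Nat.card_units, Nat.card_eq_fintype_card] at h7
    omega
  haveI : Finite (F ≃+* F) := finite_aut F
  have hcardA : Nat.card (MulAut (TA φ)) = 2 ^ ((2 * m + 1) ^ 2) * ((2 * m + 1) * (2 ^ (2 * m + 1) - 1)) := by
    rw [← Nat.card_congr (Equiv.ofBijective _ ⟨mk_injective hσ, mk_surjective hσ hφ2 hbig⟩), Nat.card_prod,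
      Nat.card_prod, card_hom hnF, card_aut hnF, Nat.card_units, hnF]
    ring
  have hcardS : Nat.card (MulAut S) = 2 ^ ((2 * m + 1) ^ 2) * ((2 * m + 1) * (2 ^ (2 * m + 1) - 1)) := by
    rw [Nat.card_congr e.toEquiv, hcardA]
  have hpos : 0 < (2 * m + 1) * (2 ^ (2 * m + 1) - 1) := by
    rw [← hF]
    have : 0 < Fintype.card F - 1 := by omega
    positivity
  haveI : Finite (MulAut (TA φ)) := by
    apply Nat.finite_of_card_ne_zero
    rw [hcardA]
    positivity
  -- the elements of `K`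
  have hKform : ∀ f ∈ K φ, ∃ g : F →+ F, f = mk hσ g 1 1 := by
    intro f hf
    obtain ⟨⟨g, c, σ⟩, hgc⟩ := mk_surjective hσ hφ2 hbig f
    simp only at hgc
    have h1 : ∀ x, c * σ x = x := by
      intro x
      have h2 := hf ⟨x, 0⟩
      rw [← hgc] at h2
      exact h2
    have hc : c = 1 := by
      have h2 := h1 1
      rw [map_one, mul_one] at h2
      exact Units.ext h2
    have hs : σ = 1 := by
      ext x
      have h2 := h1 x
      rw [hc, Units.val_one, one_mul] at h2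
      exact h2
    refine ⟨g, ?_⟩
    rw [← hgc, hc, hs]
  have hKmem : ∀ g : F →+ F, mk hσ g 1 1 ∈ K φ := by
    intro g u
    show ((1 : Fˣ) : F) * (1 : F ≃+* F) u.x = u.x
    rw [Units.val_one, one_mul]
    rfl
  have hKmul : ∀ g g' : F →+ F, mk hσ g 1 1 * mk hσ g' 1 1 = mk hσ (g + g') 1 1 := by
    intro g g'
    apply MulEquiv.ext
    intro u
    show mk hσ g 1 1 (mk hσ g' 1 1 u) = mk hσ (g + g') 1 1 u
    have h1 : ∀ x : F, (1 : F ≃+* F) x = x := fun _ => rfl
    ext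
    · simp [h1]
    · simp [h1]
      ring
  have hKcard : Nat.card (K φ) = 2 ^ ((2 * m + 1) ^ 2) := by
    rw [← card_hom hnF]
    symm
    apply Nat.card_congr
    apply Equiv.ofBijective (fun g : F →+ F => (⟨mk hσ g 1 1, hKmem g⟩ : K φ))
    constructor
    · intro g g' hgg
      have h1 := congrArg Subtype.val hgg
      simp only at h1
      have h2 := mk_injective hσ (a₁ := (g, 1, 1)) (a₂ := (g', 1, 1)) h1
      exact congrArg Prod.fst h2
    · rintro ⟨f, hf⟩
      obtain ⟨g, hg⟩ := hKform f hf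
      exact ⟨g, Subtype.ext hg.symm⟩
  have hKn : (K φ).Normal := by
    constructor
    intro f hf t u
    have hx : ∀ v w : TA φ, v.x = w.x → (t v).x = (t w).x := by
      obtain ⟨⟨g, c, σ⟩, hgc⟩ := mk_surjective hσ hφ2 hbig t
      intro v w hvw
      rw [← hgc]
      show (c : F) * σ v.x = c * σ w.x
      rw [hvw]
    show (t (f (t⁻¹ u))).x = u.x
    rw [hx _ _ (hf (t⁻¹ u))]
    exact congrArg TA.x (t.apply_symm_apply u)
  have hKidx : (K φ).index = (2 * m + 1) * (2 ^ (2 * m + 1) - 1) := by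
    have h1 := (K φ).card_mul_index
    rw [hKcard, hcardA] at h1
    exact Nat.eq_of_mul_eq_mul_left (by positivity) h1
  -- transfer
  let K' : Subgroup (MulAut S) := (K φ).comap e.toMonoidHom
  have hK'n : K'.Normal := hKn.comap _
  have hK'card : Nat.card K' = 2 ^ ((2 * m + 1) ^ 2) := by
    rw [← hKcard]
    have h1 : K' = (K φ).map e.symm.toMonoidHom := by
      ext x
      constructor
      · intro hx
        exact ⟨e x, hx, e.symm_apply_apply x⟩
      · rintro ⟨y, hy, rfl⟩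
        show e (e.symm y) ∈ K φ
        rw [e.apply_symm_apply]
        exact hy
    rw [h1]
    exact (Nat.card_congr ((K φ).equivMapOfInjective _ e.symm.injective).toEquiv).symm
  have hK'idx : K'.index = (2 * m + 1) * (2 ^ (2 * m + 1) - 1) := by
    have h1 := K'.card_mul_index
    rw [hK'card, hcardS] at h1
    exact Nat.eq_of_mul_eq_mul_left (by positivity) h1
  have hcore : pCore 2 (MulAut S) = K' := by
    apply pCore_eq K' hK'n (IsPGroup.of_card hK'card)
    rw [hK'idx]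
    intro h5
    rcases (Nat.Prime.dvd_mul Nat.prime_two).1 h5 with h6 | h6
    · omega
    · have h3 : 2 ^ (2 * m + 1) = 2 * 2 ^ (2 * m) := by ring
      have h4 : 0 < 2 ^ (2 * m) := by positivity
      rw [h3] at h6; omega
  rw [hcore]
  refine ⟨⟨⟨⟨?_⟩⟩, ?_⟩, hK'card, hcardS⟩
  · rintro ⟨a, ha⟩ ⟨b, hb⟩
    apply Subtype.ext
    apply e.injective
    show e (a * b) = e (b * a)
    rw [map_mul, map_mul]
    obtain ⟨g, hg⟩ := hKform _ ha
    obtain ⟨g', hg'⟩ := hKform _ hb
    have hg2 : e a = mk hσ g 1 1 := hg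
    have hg2' : e b = mk hσ g' 1 1 := hg'
    rw [hg2, hg2', hKmul, hKmul, add_comm]
  · intro a ha
    apply e.injective
    rw [map_pow, map_one]
    obtain ⟨g, hg⟩ := hKform _ ha
    have hg2 : e a = mk hσ g 1 1 := hg
    rw [hg2, sq, hKmul]
    apply MulEquiv.ext
    intro u
    have h1 : ∀ x : F, (1 : F ≃+* F) x = x := fun _ => rfl
    ext
    · simp [h1]
    · simp [h1, CharTwo.add_self_eq_zero]

end Cfsg.Agent.S2556
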