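import Cfsg.Statements.S2650
import Cfsg.Agent.HH.M23Ext3

set_option autoImplicit false
open Cfsg

namespace Cfsg.Agent.S2650

open Cfsg.Agent.HH.M23E in
lemma no_complement (H : Subgroup E) (h1 : H ⊓ prj.ker = ⊥) (h2 : H ⊔ prj.ker = ⊤) : False := by
  have hl : ∀ s : Cfsg.Spor.M23, ∃ A ∈ H, A.s = s := by
    intro s
    obtain ⟨g, hg⟩ := prj_surj s
    have hgt : g ∈ H ⊔ prj.ker := by rw [h2]; trivial
    obtain ⟨y, hy, z, hz, rfl⟩ := Subgroup.mem_sup_of_normal_right.1 hgt
    refine ⟨y, hy, ?_⟩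
    rw [map_mul, MonoidHom.mem_ker.1 hz, mul_one] at hg
    exact hg
  obtain ⟨A, hA, hAs⟩ := hl eA
  obtain ⟨B, hB, hBs⟩ := hl eB
  have huniq : ∀ g h : E, g ∈ H → h ∈ H → g.s = h.s → g = h := by
    intro g h hg hh hs
    have : g * h⁻¹ ∈ H ⊓ prj.ker := by
      refine Subgroup.mem_inf.2 ⟨mul_mem hg (inv_mem hh), ?_⟩
      rw [MonoidHom.mem_ker, map_mul, map_inv]
      change g.s * h.s⁻¹ = 1
      rw [hs, mul_inv_cancel]
    rw [h1, Subgroup.mem_bot, mul_inv_eq_one] at this
    exact this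
  refine no_lift A B hAs hBs (huniq _ _ (mul_mem hA hA) (mul_mem hB hB) ?_) (huniq _ _ (mul_mem (mul_mem hA hB) hA) hB ?_)
  · rw [mul_s, mul_s, hAs, hBs, relAABB]
  · rw [mul_s, mul_s, hAs, hBs, relABA]

/-- A non-split extension of the Mathieu group M₂₃ by its cocode module exists. There is a finite group E with a normal subgroup N, an isomorphism φ from E/N onto M₂₃ = `Spor.M23` (the stabiliser of the extra point `none` in M₂₄ acting on the 24 points `GolayPt`), and a surjective additive homomorphism θ from the binary words on `GolayPt` onto N whose kernel consists of the words of the Golay code `golayCode` and their translates by the unit vector at `none` (so N is elementary abelian of order 2¹¹), such that θ carries the coordinate permutation w ↦ w ∘ σ⁻¹, σ = φ(gN), to conjugation by g on N — and such that N has no complement in E. -/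
theorem result :
    ∃ (E : Type) (_ : Group E) (_ : Finite E) (N : Subgroup E) (_ : N.Normal)
      (φ : E ⧸ N ≃* ↥Cfsg.Spor.M23) (θ : (Cfsg.GolayPt → ZMod 2) →+ Additive ↥N),
      Function.Surjective θ ∧
      (∀ w : Cfsg.GolayPt → ZMod 2, θ w = 0 ↔ (w ∈ Cfsg.golayCode ∨ w + Pi.single none 1 ∈ Cfsg.golayCode)) ∧
      (∀ (g : E) (w : Cfsg.GolayPt → ZMod 2),
        ((θ (w ∘ ⇑(((φ (QuotientGroup.mk g) : ↥Cfsg.Spor.M23) : Equiv.Perm Cfsg.GolayPt)⁻¹))).toMul : E)
          = g * ((θ w).toMul : E) * g⁻¹) ∧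
      ∀ H : Subgroup E, H ⊓ N = ⊥ → H ⊔ N ≠ ⊤ := by
  refine ⟨Cfsg.Agent.HH.M23E.E, inferInstance, inferInstance, Cfsg.Agent.HH.M23E.prj.ker, inferInstance,
    QuotientGroup.quotientKerEquivOfSurjective _ Cfsg.Agent.HH.M23E.prj_surj, Cfsg.Agent.HH.M23E.thE,
    Cfsg.Agent.HH.M23E.thE_surj, Cfsg.Agent.HH.M23E.thE_zero_iff, ?_, ?_⟩
  · intro g w
    exact Cfsg.Agent.HH.M23E.thE_equivariant g w
  · intro H h1 h2
    exact no_complement H h1 h2

end Cfsg.Agent.S2650
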