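import Cfsg.Statements.S2756
import Cfsg.Agent.QdInv.RealMain

set_option autoImplicit false
open Cfsg

namespace Cfsg.Agent.S2756

theorem odd_of_mem {q : ℕ} [hq : Fact q.Prime] (hq2 : q ≠ 2) {G : Type*} [Group G] {T : Subgroup G}
    (hT : IsPGroup q T) {x : G} (hx : x ∈ T) : Odd (orderOf x) := by
  obtain ⟨k, hk⟩ := hT ⟨x, hx⟩
  have h5 : x ^ q ^ k = 1 := congrArg Subtype.val hk
  exact ((hq.out.odd_of_ne_two hq2).pow).of_dvd_nat (orderOf_dvd_of_pow_eq_one h5)

theorem closed_sub {G : Type*} [Group G] [Finite G] (h : ∀ P : Sylow 2 G, (P : Subgroup G).Normal)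
    (H : Subgroup G) (P : Sylow 2 ↥H) : (P : Subgroup ↥H).Normal := by
  obtain ⟨Q⟩ : Nonempty (Sylow 2 G) := inferInstance
  haveI := h Q
  have h1 : (P : Subgroup ↥H) ≤ (Q : Subgroup G).subgroupOf H := by
    have h2 : IsPGroup 2 ↥((P : Subgroup ↥H).map H.subtype) := P.2.map _
    obtain ⟨R, hR⟩ := h2.exists_le_sylow
    have h3 : R = Q := by
      have := Sylow.unique_of_normal Q this
      exact Subsingleton.elim _ _
    rw [h3] at hR
    rw [Subgroup.subgroupOf, ← Subgroup.map_le_iff_le_comap]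
    exact hR
  have h2 : IsPGroup 2 ↥((Q : Subgroup G).subgroupOf H) := Q.2.comap_of_injective _ H.subtype_injective
  have h3 := P.3 h2 h1
  rw [← h3]
  infer_instance


/-- For a finite group G the following are equivalent: (a) G has a normal Sylow 2-subgroup; (b) for every odd prime q dividing the order of G and every Sylow q-subgroup T, the normalizer of Z(J(T)) has a normal Sylow 2-subgroup; (c) for every odd prime q and every Sylow q-subgroup T, no nonidentity element of T is inverted by an element of the normalizer of Z(J(T)). Here J(T) is the Thompson subgroup generated by the abelian subgroups of T of largest order. Stated as the two equivalences (a) ⇔ (b) and (a) ⇔ (c). -/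
theorem result {G : Type*} [Group G] [Finite G] : ((∀ P : Sylow 2 G, (P : Subgroup G).Normal) ↔ ∀ (q : ℕ) [Fact q.Prime], q ≠ 2 → q ∣ Nat.card G → ∀ T : Sylow q G, ∀ P : Sylow 2 ↥(Subgroup.normalizer (Cfsg.centerThompsonAOf (T : Subgroup G) : Set G)), (P : Subgroup ↥(Subgroup.normalizer (Cfsg.centerThompsonAOf (T : Subgroup G) : Set G))).Normal) ∧ ((∀ P : Sylow 2 G, (P : Subgroup G).Normal) ↔ ∀ (q : ℕ) [Fact q.Prime], q ≠ 2 → ∀ T : Sylow q G, ∀ x ∈ (T : Subgroup G), x ≠ 1 → ∀ g ∈ Subgroup.normalizer (Cfsg.centerThompsonAOf (T : Subgroup G) : Set G), g * x * g⁻¹ ≠ x⁻¹) := by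
  have hac : (∀ P : Sylow 2 G, (P : Subgroup G).Normal) → ∀ (x g : G), Odd (orderOf x) → x ≠ 1 →
      g * x * g⁻¹ ≠ x⁻¹ := by
    intro h x g hx hx1
    obtain ⟨Q⟩ : Nonempty (Sylow 2 G) := inferInstance
    haveI := h Q
    exact Cfsg.Agent.QdInv.not_real_of_closed Q.2 Q.not_dvd_index hx hx1
  have hca : (∀ (q : ℕ) [Fact q.Prime], q ≠ 2 → ∀ T : Sylow q G, ∀ x ∈ (T : Subgroup G), x ≠ 1 →
      ∀ g ∈ Subgroup.normalizer (Cfsg.centerThompsonAOf (T : Subgroup G) : Set G), g * x * g⁻¹ ≠ x⁻¹) →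
      (∀ P : Sylow 2 G, (P : Subgroup G).Normal) := by
    intro h
    apply Cfsg.Agent.QdInv.closed_of_not_real
    intro q _ hq2 hreal
    obtain ⟨T⟩ : Nonempty (Sylow q G) := inferInstance
    obtain ⟨x, g, ⟨k, hk⟩, hx1, hgx⟩ := Cfsg.Agent.QdInv.real_main hq2 hreal T
    have hTN : (T : Subgroup G) ≤ Subgroup.normalizer (Cfsg.centerThompsonAOf (T : Subgroup G) : Set G) := by
      rw [← Cfsg.Agent.QdInv.induced_zja]
      exact Cfsg.Agent.H33.cf_norm_le (Cfsg.Agent.H33.induced_conj Cfsg.Agent.QdInv.charP_zja) T.2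
    have hxp : IsPGroup q (Subgroup.zpowers (x : G)) := by
      rintro ⟨_, i, rfl⟩
      refine ⟨k, Subtype.ext ?_⟩
      show ((x : G) ^ i) ^ q ^ k = 1
      have hk' : (x : G) ^ q ^ k = 1 := congrArg Subtype.val hk
      rw [← zpow_natCast, ← zpow_mul, mul_comm, zpow_mul, zpow_natCast, hk', one_zpow]
    obtain ⟨c, hc, hcx⟩ := ((Cfsg.Agent.H33.isSyl_top T).mono hTN le_top).conj_le
      (R := Subgroup.zpowers (x : G)) (Subgroup.zpowers_le.2 x.2) hxp
    have hcx' : c * (x : G) * c⁻¹ ∈ (T : Subgroup G) :=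
      hcx (Cfsg.Agent.H33.conj_mem_cj (Subgroup.mem_zpowers (x : G)))
    have hgx' : (g : G) * x * (g : G)⁻¹ = (x : G)⁻¹ := congrArg Subtype.val hgx
    refine h q hq2 T _ hcx' ?_ (c * g * c⁻¹) (mul_mem (mul_mem hc g.2) (inv_mem hc)) ?_
    · intro h3
      apply hx1
      rw [mul_inv_eq_one] at h3
      exact Subtype.ext (mul_eq_left.1 h3)
    · calc (c * (g : G) * c⁻¹) * (c * (x : G) * c⁻¹) * (c * (g : G) * c⁻¹)⁻¹ =
            c * ((g : G) * x * (g : G)⁻¹) * c⁻¹ := by group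
        _ = _ := by rw [hgx']; group
  refine ⟨⟨fun h q _ _ _ T P => closed_sub h _ P, fun h => hca ?_⟩, fun h q _ hq2 T x hx hx1 g _ =>
    hac h x g (odd_of_mem hq2 T.2 hx) hx1, hca⟩
  intro q _ hq2 T x hx hx1 g hg
  have hTN : (T : Subgroup G) ≤ Subgroup.normalizer (Cfsg.centerThompsonAOf (T : Subgroup G) : Set G) := by
    rw [← Cfsg.Agent.QdInv.induced_zja]
    exact Cfsg.Agent.H33.cf_norm_le (Cfsg.Agent.H33.induced_conj Cfsg.Agent.QdInv.charP_zja) T.2
  have hqd : q ∣ Nat.card G := by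
    by_contra hnd
    apply hx1
    have h1 : Nat.card (T : Subgroup G) = 1 := by
      obtain ⟨n, hn⟩ := T.2.exists_card_eq
      rcases Nat.eq_zero_or_pos n with h2 | h2
      · rw [hn, h2, pow_zero]
      · exact absurd ((dvd_pow_self q h2.ne').trans (hn ▸ Subgroup.card_subgroup_dvd_card (T : Subgroup G))) hnd
    have h2 := Subgroup.card_eq_one.1 h1
    rw [h2] at hx
    exact hx
  intro hinv
  have h1 := h q hq2 hqd T
  obtain ⟨Q⟩ : Nonempty (Sylow 2 ↥(Subgroup.normalizer (Cfsg.centerThompsonAOf (T : Subgroup G) : Set G))) :=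
    inferInstance
  haveI := h1 Q
  refine Cfsg.Agent.QdInv.not_real_of_closed Q.2 Q.not_dvd_index (x := ⟨x, hTN hx⟩) (g := ⟨g, hg⟩) ?_ ?_ ?_
  · rw [Subgroup.orderOf_mk]
    exact odd_of_mem hq2 T.2 hx
  · intro h3
    exact hx1 (congrArg Subtype.val h3)
  · exact Subtype.ext hinv

end Cfsg.Agent.S2756
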