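import Cfsg.Statements.S2794
import Cfsg.Agent.QdInv.Main
import Cfsg.Agent.S0664
import Cfsg.Agent.S1969

set_option autoImplicit false
open Cfsg

namespace Cfsg.Agent.S2794

/-- For an odd prime p and a finite group G, the group Qd(p) is not involved in G if and only if in every section K/R of G, for every Sylow p-subgroup S* of K/R, the centre of J(S*) (J generated by the abelian subgroups of largest order) controls strong fusion in K/R. -/
theorem result {G : Type*} [Group G] [Finite G] {p : ℕ} [Fact p.Prime] (hp : p ≠ 2) : ¬ Cfsg.Involves ↥(Cfsg.qd p) G ↔ ∀ (K R : Subgroup G) [hR : (R.subgroupOf K).Normal], ∀ T : Sylow p (K ⧸ R.subgroupOf K), Cfsg.ControlsStrongFusion p (Cfsg.centerThompsonAOf (T : Subgroup (K ⧸ R.subgroupOf K))) := by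
  have hind : ∀ {X : Type _} [Group X] (P : Subgroup X),
      Cfsg.inducedFunctor (fun Q _ => Cfsg.Agent.ZJ.zja Q) P = Cfsg.centerThompsonAOf P := fun P =>
    Cfsg.Agent.ZJ.rel_zja P
  constructor
  · intro hfree K R hR T
    have h1 := Cfsg.Agent.S1969.result (G := G) (p := p) (fun Q _ => Cfsg.Agent.ZJ.zja Q)
      Cfsg.Agent.QdInv.charP_zja (by
        intro K R hR hc T
        rw [hind]
        exact Cfsg.Agent.S0664.result hp (Cfsg.Agent.QdInv.free_section hfree K R) hc T) K R T
    rwa [hind] at h1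
  · intro h
    apply Cfsg.Agent.QdInv.free_of_controls
    intro K R hR T hnt
    refine ⟨Cfsg.Agent.ZJ.zja ↥(T : Subgroup (↥K ⧸ R.subgroupOf K)),
      Cfsg.Agent.QdInv.charP_zja.1 _ T.2 hnt,
      Cfsg.Agent.QdInv.characteristic_of_charP Cfsg.Agent.QdInv.charP_zja _ T.2, ?_⟩
    have h1 := h K R T
    rw [← hind] at h1
    exact h1

end Cfsg.Agent.S2794
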