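import Cfsg.Statements.S2803
import Cfsg.Agent.H47.PRed2

set_option autoImplicit false
open Cfsg

namespace Cfsg.Agent.S2803

/-- Let L be a finite group and p a prime with C_L(O_p(L)) ≤ O_p(L), T a Sylow p-subgroup, and Y the largest p-reduced normal subgroup of L. Put T_L = C_T(Y) and L_T = N_L(T_L). Then L = L_T · C_L(Y) (elementwise), T_L = O_p(L_T), and Y = Ω₁(Z(T_L)). -/
theorem result {L : Type*} [Group L] [Finite L] {p : ℕ} [Fact p.Prime] (hchar : Subgroup.centralizer (Cfsg.pCore p L : Set L) ≤ Cfsg.pCore p L) (T : Sylow p L) (Y : Subgroup L) (hY : (Cfsg.IsPReducedNormal p Y ∧ ∀ V : Subgroup L, Cfsg.IsPReducedNormal p V → V ≤ Y)) (TL : Subgroup L) (hTL : TL = (T : Subgroup L) ⊓ Subgroup.centralizer (Y : Set L)) : (∀ g : L, ∃ a ∈ Subgroup.normalizer (TL : Set L), ∃ c ∈ Subgroup.centralizer (Y : Set L), g = a * c) ∧ (Cfsg.pCore p ↥(Subgroup.normalizer (TL : Set L))).map (Subgroup.normalizer (TL : Set L)).subtype = TL ∧ Y = Cfsg.omegaOne p (TL ⊓ Subgroup.centralizer (TL : Set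 L)) := by
  have hT := H47.sylIn_top T
  have hL := H47.charP'_top_iff.1 hchar
  have hYr : H47.PRed p Y ⊤ := H47.isPReducedNormal_iff_top.1 hY.1
  have hYe : Cfsg.largestPReducedOf p (⊤ : Subgroup L) = Y := by
    apply le_antisymm
    · exact hY.2 _ (H47.isPReducedNormal_iff_top.2 (H47.pRed_largestPReducedOf p ⊤))
    · exact hYr.le_largest
  subst hTL
  refine ⟨?_, ?_, ?_⟩
  · intro g
    obtain ⟨a, _, ha, c, hc, h⟩ := H47.frattini_pRed hT hYr (Subgroup.mem_top g)
    exact ⟨a, ha, c, hc.2, h⟩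
  · have hTR : (T : Subgroup L) ≤ Subgroup.normalizer
        (((T : Subgroup L) ⊓ Subgroup.centralizer (Y : Set L) : Subgroup L) : Set L) :=
      H47.le_normalizer_inf Subgroup.le_normalizer
        ((le_top.trans hYr.norm).trans (H47.normalizer_le_normalizer_centralizer Y))
    have := H47.pCoreOf_eq_of_sup_eq (R := Subgroup.normalizer
        (((T : Subgroup L) ⊓ Subgroup.centralizer (Y : Set L) : Subgroup L) : Set L))
        hT hYr hTR (hT.of_le hTR le_top) le_rfl (by
          have := H47.sup_centralizer_eq hT hYr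
          rwa [top_inf_eq] at this)
    exact this
  · have := H47.largest_eq_Z1 hT hL
    rw [hYe] at this
    exact this

end Cfsg.Agent.S2803
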