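import Cfsg.Statements.S2810
import Cfsg.Agent.H47.Cop

set_option autoImplicit false
open Cfsg

namespace Cfsg.Agent.S2810

/-- Let H be a finite group of characteristic p and L a subgroup of H centralizing every factor of some H-invariant chain 1 = A₀ ≤ A₁ ≤ … ≤ Aₙ = O_p(H) of normal subgroups (that is, [A_{i+1}, L] ≤ Aᵢ for each i). Then L ≤ O_p(H). -/
theorem result {H : Type*} [Group H] [Finite H] {p : ℕ} [Fact p.Prime] (hchar : Subgroup.centralizer (Cfsg.pCore p H : Set H) ≤ Cfsg.pCore p H) (L : Subgroup H) (n : ℕ) (A : Fin (n + 1) → Subgroup H) (h0 : A 0 = ⊥) (hn : A (Fin.last n) = Cfsg.pCore p H) (hmono : Monotone A) (hnorm : ∀ i, (A i).Normal) (hcent : ∀ i : Fin n, ⁅A i.succ, L⁆ ≤ A i.castSucc) : L ≤ Cfsg.pCore p H := by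
  -- the normal subgroup of all elements centralizing the chain
  let C : Subgroup H := ⨅ i : Fin n, H47.cmod (A i.succ) (A i.castSucc)
  have hCn : C.Normal := by
    rw [← Subgroup.normalizer_eq_top_iff, eq_top_iff]
    intro g _
    rw [H47.mem_normalizer_iff_map_conj]
    have key : ∀ g : H, C.map (MulAut.conj g).toMonoidHom ≤ C := by
      intro g
      apply le_iInf
      intro i
      rintro _ ⟨c, hc, rfl⟩
      have h1 := (Subgroup.mem_iInf.1 hc) i
      refine ⟨by rw [Subgroup.normalizer_eq_top_iff.2 (hnorm _)]; trivial, ?_⟩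
      intro v hv
      have h2 := h1.2 (g⁻¹ * v * g) (by
        have := (hnorm i.succ).conj_mem v hv g⁻¹
        simpa using this)
      have h3 := (hnorm i.castSucc).conj_mem _ h2 g
      rw [conjugate_commutatorElement] at h3
      have h4 : g * (g⁻¹ * v * g) * g⁻¹ = v := by group
      rw [h4] at h3
      exact h3
    apply le_antisymm (key g)
    have := H47.map_conj_mono (g := g) (key g⁻¹)
    rwa [← H47.map_conj_mul, mul_inv_cancel, H47.map_conj_one] at this
  have hLC : L ≤ C := by
    apply le_iInf
    intro i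
    rw [H47.le_cmod_iff]
    refine ⟨?_, hcent i⟩
    rw [Subgroup.normalizer_eq_top_iff.2 (hnorm _)]; exact le_top
  -- it acts nilpotently
  have hiter : ∀ i : ℕ, ∀ hi : i ≤ n,
      Cfsg.iterCommutator (Cfsg.pCore p H) C i ≤ A ⟨n - i, by omega⟩ := by
    intro i
    induction i with
    | zero =>
      intro _
      change Cfsg.pCore p H ≤ _
      rw [← hn]
      exact le_of_eq (congrArg A (Fin.ext (by simp)))
    | succ i ih =>
      intro hi
      have h1 := ih (by omega)
      have h2 : C ≤ H47.cmod (A (⟨n - (i + 1), by omega⟩ : Fin n).succ)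
          (A (⟨n - (i + 1), by omega⟩ : Fin n).castSucc) := iInf_le _ _
      have h3 := H47.commutator_le_of_le_cmod h2
      refine le_trans (Subgroup.commutator_mono (h1.trans (le_of_eq (congrArg A ?_))) le_rfl) h3
      exact Fin.ext (by simp; omega)
  have hnil : Cfsg.iterCommutator (Cfsg.pCore p H) C n = ⊥ := by
    rw [eq_bot_iff]
    refine (hiter n le_rfl).trans (le_of_eq ?_)
    rw [← h0]
    exact congrArg A (Fin.ext (by simp))
  have hcore := H47.pCore_normal p H
  have h1 := H47.pRes_centralizes_of_iterCommutator (H47.pCore_isPGroup p H)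
    (X := C) Subgroup.le_normalizer_of_normal hnil
  have h2 : IsPGroup p C := H47.isPGroup_of_pRes_isPGroup
    ((H47.pCore_isPGroup p H).to_le (h1.trans hchar))
  exact hLC.trans (H47.le_pCore hCn h2)

end Cfsg.Agent.S2810
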