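import Cfsg.Statements.S2813
import Cfsg.Agent.H47.Cop

set_option autoImplicit false
open Cfsg

namespace Cfsg.Agent.S2813

open scoped commutatorElement in
theorem aux {H : Type*} [Group H] [Finite H] {p : ℕ} [Fact p.Prime] (K : Subgroup H) (hO : Cfsg.pCore p ↥K = ⊥) (Y : Subgroup H) (hY : IsPGroup p ↥Y) (hYK : Y ≤ Subgroup.normalizer (K : Set H)) (hq : ⁅⁅K, Y⁆, Y⁆ = ⊥) : ⁅K, Y⁆ = ⊥ := by
  have hKY : ⁅K, Y⁆ ≤ K := Subgroup.le_normalizer_iff_commutator_le_left.1 hYK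
  have hKn : K ≤ Subgroup.normalizer ((⁅K, Y⁆ : Subgroup H) : Set H) :=
    Subgroup.normalizer_commutator_ge_left _ _
  -- `[K, Y]` is abelian
  have h1 : ⁅⁅K, Y⁆, ⁅K, Y⁆⁆ = ⊥ := by
    have h2 : ⁅⁅K, ⁅K, Y⁆⁆, Y⁆ = ⊥ := by
      rw [eq_bot_iff, ← hq]
      exact Subgroup.commutator_mono (Subgroup.le_normalizer_iff_commutator_le_right.1 hKn) le_rfl
    have h3 : ⁅⁅⁅K, Y⁆, Y⁆, K⁆ = ⊥ := by rw [hq, Subgroup.commutator_bot_left]
    have h4 : ⁅⁅Y, ⁅K, Y⁆⁆, K⁆ = ⊥ := by rwa [Subgroup.commutator_comm Y]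
    have h5 : ⁅⁅⁅K, Y⁆, K⁆, Y⁆ = ⊥ := by rwa [Subgroup.commutator_comm ⁅K, Y⁆]
    have h6 := Subgroup.commutator_commutator_eq_bot_of_rotate h4 h5
    exact h6
  have hab : ∀ x ∈ ⁅K, Y⁆, ∀ y ∈ ⁅K, Y⁆, x * y = y * x := by
    intro x hx y hy
    have := Subgroup.commutator_eq_bot_iff_le_centralizer.1 h1
    exact ((Subgroup.mem_centralizer_iff.1 (this hx)) y hy).symm
  -- it is generated by `p`-elements
  have hpow : ∀ x ∈ ⁅K, Y⁆, ∃ k : ℕ, x ^ (p ^ k) = 1 := by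
    intro x hx
    rw [Subgroup.commutator_def] at hx
    induction hx using Subgroup.closure_induction with
    | mem x hx =>
      obtain ⟨k, hk, y, hy, rfl⟩ := hx
      -- y commutes with c = [k, y]
      have hc : ⁅⁅k, y⁆, y⁆ = 1 := by
        have : ⁅⁅k, y⁆, y⁆ ∈ ⁅⁅K, Y⁆, Y⁆ :=
          Subgroup.commutator_mem_commutator (Subgroup.commutator_mem_commutator hk hy) hy
        rwa [hq, Subgroup.mem_bot] at this
      obtain ⟨n, hn⟩ := hY ⟨y, hy⟩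
      have hn' : y ^ (p ^ n) = 1 := congrArg Subtype.val hn
      refine ⟨n, ?_⟩
      have hcy : Commute ⁅k, y⁆ y := commutatorElement_eq_one_iff_commute.1 hc
      have h7 : k * y * k⁻¹ = ⁅k, y⁆ * y := by rw [commutatorElement_def]; group
      have h8 : (k * y * k⁻¹) ^ (p ^ n) = ⁅k, y⁆ ^ (p ^ n) * y ^ (p ^ n) := by
        rw [h7, hcy.mul_pow]
      rw [conj_pow, hn', mul_one, mul_one, mul_inv_cancel] at h8
      exact h8.symm
    | one => exact ⟨0, by simp⟩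
    | mul a b ha hb iha ihb =>
      obtain ⟨m, hm⟩ := iha
      obtain ⟨n, hn⟩ := ihb
      refine ⟨m + n, ?_⟩
      have hcomm : Commute a b := hab a (by rwa [Subgroup.commutator_def]) b
        (by rwa [Subgroup.commutator_def])
      rw [hcomm.mul_pow, pow_add, pow_mul, hm, one_pow, one_mul, mul_comm, pow_mul, hn, one_pow]
    | inv a ha iha =>
      obtain ⟨m, hm⟩ := iha
      exact ⟨m, by rw [inv_pow, hm, inv_one]⟩
  have hp : IsPGroup p ↥⁅K, Y⁆ := by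
    rintro ⟨x, hx⟩
    obtain ⟨k, hk⟩ := hpow x hx
    exact ⟨k, Subtype.ext (by simpa using hk)⟩
  rw [H47.pCore_eq_bot_iff] at hO
  rw [eq_bot_iff, ← hO]
  exact H47.le_pCoreOf hKY hKn hp

/-- Let K be a subgroup of the finite group H with O_p(K) = 1 and Y a p-subgroup of N_H(K) with [K, Y, Y] = 1. Then [K, Y] = 1. -/
theorem result {H : Type*} [Group H] [Finite H] {p : ℕ} [Fact p.Prime] (K : Subgroup H) (hO : Cfsg.pCore p ↥K = ⊥) (Y : Subgroup H) (hY : IsPGroup p ↥Y) (hYK : Y ≤ Subgroup.normalizer (K : Set H)) (hq : ⁅⁅K, Y⁆, Y⁆ = ⊥) : ⁅K, Y⁆ = ⊥ := by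
  exact aux K hO Y hY hYK hq

end Cfsg.Agent.S2813
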