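import Cfsg.Statements.S2815
import Cfsg.Agent.H47.QSRes

set_option autoImplicit false
open Cfsg

namespace Cfsg.Agent.S2815

open Subgroup in
open scoped commutatorElement in
theorem aux {H : Type*} [Group H] (K Y : Subgroup H) (h : ⁅K, Y⁆ = K) :
    K ≤ ⨆ k : ↥K, Y.map (MulAut.conj (k : H)).toMonoidHom := by
  rw [← h]
  rw [commutator_le]
  intro k hk y hy
  rw [h]
  rw [commutatorElement_def]
  refine mul_mem ?_ ?_
  · apply mem_iSup_of_mem (⟨k, hk⟩ : K)
    exact ⟨y, hy, rfl⟩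
  · apply mem_iSup_of_mem (1 : K)
    refine ⟨y⁻¹, inv_mem hy, ?_⟩
    simp


/-- Let H be a finite group and p a prime dividing its order with O_p(H) = 1, and suppose K = O^p(H) (generated by the elements of order prime to p) is quasisimple. Then K = F*(H); for every nontrivial p-subgroup Y of H, K = [K, Y] and K lies in the subgroup generated by the K-conjugates of Y; every normal subgroup of H not containing K has order prime to p; and H is p-irreducible. -/
theorem result {H : Type*} [Group H] [Finite H] {p : ℕ} [Fact p.Prime] (hp : p ∣ Nat.card H) (hO : Cfsg.pCore p H = ⊥) (hq : Cfsg.IsQuasisimple ↥(Cfsg.pResidual p H)) : Cfsg.pResidual p H = Cfsg.generalizedFittingSubgroup H ∧ (∀ Y : Subgroup H, IsPGroup p ↥Y → Y ≠ ⊥ → ⁅Cfsg.pResidual p H, Y⁆ = Cfsg.pResidual p H ∧ Cfsg.pResidual p H ≤ ⨆ k : ↥(Cfsg.pResidual p H), Y.map (MulAut.conj (k : H)).toMonoidHom) ∧ (∀ C : Subgroup H, C.Normal → ¬ Cfsg.pResidual p H ≤ C → (Nat.card ↥C).Coprime p) ∧ Cfsg.IsPIrreducible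 p H := by
  rw [← H47.pRes_top] at hq ⊢
  obtain ⟨h1, h2, h3, h4⟩ := H47.quasisimple_residual hp hO hq
  exact ⟨h1, fun Y hY hY1 => ⟨h2 Y hY hY1, aux _ _ (h2 Y hY hY1)⟩, h3, h4⟩

end Cfsg.Agent.S2815
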