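import Cfsg.Statements.S2821
import Cfsg.Agent.H47.PRed2

set_option autoImplicit false
open Cfsg

namespace Cfsg.Agent.S2821

/-- Let H be a finite group, p a prime, T a Sylow p-subgroup and L a subgroup of characteristic p containing T; let Y_L be the largest p-reduced normal subgroup of L (the join of the normal elementary abelian p-subgroups V of L with O_p(L/C_L(V)) = 1). Then T₀ := C_T(Y_L) is a Sylow p-subgroup of C_H(Y_L); moreover O_p(L) ≤ T₀ ≤ C_L(Y_L) and Ω₁(Z(T)) ≤ Z_L ≤ Y_L ≤ Ω₁(Z(O_p(L))), where Z_L is generated by the Ω₁(Z(S)) over the Sylow p-subgroups S of L. -/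
theorem result {H : Type*} [Group H] [Finite H] {p : ℕ} [Fact p.Prime] (T : Sylow p H) (L : Subgroup H) (hTL : (T : Subgroup H) ≤ L) (hL : Subgroup.centralizer (Cfsg.pCore p ↥L : Set ↥L) ≤ Cfsg.pCore p ↥L) (T₀ : Subgroup H) (hT₀ : T₀ = (T : Subgroup H) ⊓ Subgroup.centralizer (((Cfsg.largestPReducedOf p L) : Subgroup H) : Set H)) : (∃ P : Sylow p ↥(Subgroup.centralizer (((Cfsg.largestPReducedOf p L) : Subgroup H) : Set H)), (P : Subgroup ↥(Subgroup.centralizer (((Cfsg.largestPReducedOf p L) : Subgroup H) : Set H))) = T₀.subgroupOf (Subgroup.centralizer (((Cfsg.largestPReducedOf p L) : Subgroup H) : Set H))) ∧ (Cfsg.pCoreOf p L) ≤ T₀ ∧ T₀ ≤ L ⊓ Subgroup.centralizer (((Cfsg.largestPReducedOf p L) : Subgroup H) : Set H) ∧ (Cfsg.omegaOne p ((T : Subgroup H) ⊓ Subgroup.centralizer (((T : Subgroup H) : Subgroup H) : Set H))) ≤ Cfsg.sylowCenterClosure p L ∧ Cfsg.sylowCenterClosure p L ≤ (Cfsg.largestPReducedOf p L) ∧ (Cfsg.largestPReducedOf p L) ≤ (Cfsg.omegaOne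 p ((Cfsg.pCoreOf p L) ⊓ Subgroup.centralizer (((Cfsg.pCoreOf p L) : Subgroup H) : Set H))) := by
  have hT := H47.sylIn_of_sylow T hTL
  have hL' : H47.CharP' p L := H47.charP'_iff.1 hL
  have hY := H47.pRed_largestPReducedOf (G := H) p L
  set Y := Cfsg.largestPReducedOf p L with hYdef
  subst hT₀
  refine ⟨?_, ?_, ?_, ?_, ?_, ?_⟩
  · -- T ≤ N_H(Y), C_H(Y) normal in N_H(Y)
    have h1 : (T : Subgroup H) ≤ Subgroup.normalizer (Y : Set H) := hTL.trans hY.norm
    have h2 := (H47.sylIn_of_sylow T h1).inf_normal (H47.centralizer_le_normalizer Y)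
      (H47.normalizer_le_normalizer_centralizer Y)
    exact h2.subgroupOf
  · exact le_inf (H47.pCoreOf_le_sylIn hT) hY.pCoreOf_le_centralizer
  · exact inf_le_inf_right _ hTL
  · have h1 : H47.SylIn p (T : Subgroup H) L := hT
    obtain ⟨P, hP⟩ := h1
    unfold Cfsg.sylowCenterClosure
    refine le_trans ?_ (le_iSup _ P)
    rw [hP]
  · unfold Cfsg.sylowCenterClosure
    apply iSup_le
    intro P
    have h1 : H47.SylIn p ((P : Subgroup L).map L.subtype) L := ⟨P, rfl⟩
    exact (H47.pRed_Z1 (p := p) ((P : Subgroup L).map L.subtype)).ncl_le_largest h1 le_rfl h1.le hL'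
  · exact H47.le_Z1 hY.le_pCoreOf hY.le_centralizer_pCoreOf hY.el

end Cfsg.Agent.S2821
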