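import Cfsg.Statements.S2824
import Cfsg.Agent.H47.PRed2

set_option autoImplicit false
open Cfsg

namespace Cfsg.Agent.S2824

/-- Let H be a finite group, p a prime, T a Sylow p-subgroup, L and M subgroups of characteristic p containing T, Y_L the largest p-reduced normal subgroup of L and T₀ = C_T(Y_L). If M·C_H(Y_L) = L·C_H(Y_L), then L* := N_M(T₀) has Y_{L*} = Y_L and L·C_H(Y_L) = L*·C_H(Y_L). -/
theorem result {H : Type*} [Group H] [Finite H] {p : ℕ} [Fact p.Prime] (T : Sylow p H) (L M : Subgroup H) (hTL : (T : Subgroup H) ≤ L) (hTM : (T : Subgroup H) ≤ M) (hL : Subgroup.centralizer (Cfsg.pCore p ↥L : Set ↥L) ≤ Cfsg.pCore p ↥L) (hM : Subgroup.centralizer (Cfsg.pCore p ↥M : Set ↥M) ≤ Cfsg.pCore p ↥M) (T₀ : Subgroup H) (hT₀ : T₀ = (T : Subgroup H) ⊓ Subgroup.centralizer (((Cfsg.largestPReducedOf p L) : Subgroup H) : Set H)) (hfac : M ⊔ Subgroup.centralizer (((Cfsg.largestPReducedOf p L) : Subgroup H) : Set H) = L ⊔ Subgroup.centralizer (((Cfsg.largestPReducedOf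 p L) : Subgroup H) : Set H)) (Ls : Subgroup H) (hLs : Ls = M ⊓ Subgroup.normalizer ((T₀ : Subgroup H) : Set H)) : (Cfsg.largestPReducedOf p Ls) = (Cfsg.largestPReducedOf p L) ∧ L ⊔ Subgroup.centralizer (((Cfsg.largestPReducedOf p L) : Subgroup H) : Set H) = Ls ⊔ Subgroup.centralizer (((Cfsg.largestPReducedOf p L) : Subgroup H) : Set H) := by
  have hY := H47.pRed_largestPReducedOf (G := H) p L
  have hYZ := H47.largest_eq_Z1 (H47.sylIn_of_sylow T hTL) (H47.charP'_iff.1 hL)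
  set Y := Cfsg.largestPReducedOf p L with hYdef
  subst hT₀
  set T₀ := (T : Subgroup H) ⊓ Subgroup.centralizer (Y : Set H) with hT0
  have hTM' := H47.sylIn_of_sylow T hTM
  have hYT : Y ≤ (T : Subgroup H) := hY.le_pCoreOf.trans (H47.pCoreOf_le_sylIn (H47.sylIn_of_sylow T hTL))
  -- `Y` is `p`-reduced for `M`
  have hYM : H47.PRed p Y M := hY.of_sup_eq (hYT.trans hTM) hfac
  have hs : Ls ⊔ Subgroup.centralizer (Y : Set H) = M ⊔ Subgroup.centralizer (Y : Set H) := by
    rw [hLs]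
    exact H47.sup_centralizer_eq hTM' hYM
  have hTLs : (T : Subgroup H) ≤ Ls := by
    rw [hLs]
    exact le_inf hTM (H47.le_normalizer_inf Subgroup.le_normalizer
      ((hTM.trans hYM.norm).trans (H47.normalizer_le_normalizer_centralizer Y)))
  have hs2 : Ls ⊔ Subgroup.centralizer (Y : Set H) = L ⊔ Subgroup.centralizer (Y : Set H) :=
    hs.trans hfac
  refine ⟨?_, hs2.symm⟩
  have hcore : Cfsg.pCoreOf p Ls = T₀ :=
    H47.pCoreOf_eq_of_sup_eq (H47.sylIn_of_sylow T hTL) hY hTLs (H47.sylIn_of_sylow T hTLs)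
      (by rw [hLs]; exact inf_le_right) hs2
  apply le_antisymm
  · have hY2 := H47.pRed_largestPReducedOf (G := H) p Ls
    have h1 := hY2.le_pCoreOf
    have h2 := hY2.le_centralizer_pCoreOf
    rw [hcore] at h1 h2
    rw [hYZ]
    exact H47.le_Z1 h1 h2 hY2.el
  · exact (hY.of_sup_eq (hYT.trans hTLs) hs2).le_largest

end Cfsg.Agent.S2824
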