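import Cfsg.Statements.S2825
import Cfsg.Agent.H47.Red3

set_option autoImplicit false
open Cfsg

namespace Cfsg.Agent.S2825

/-- Let L be a subnormal subgroup of the finite group H, p a prime, Y_H and Y_L the largest p-reduced normal subgroups. Then Y_H ∩ L = Y_H ∩ Y_L and this subgroup is a p-reduced normal subgroup of L; C_L(Y_L) = C_L(Y_H) = C_L(Y_H ∩ L); and if O^p(H) ≤ L, then [Y_L, L] = 1 if and only if [Y_H, H] = 1. -/
theorem result {H : Type*} [Group H] [Finite H] {p : ℕ} [Fact p.Prime] (L : Subgroup H) (hL : L.IsSubnormal) : Cfsg.largestPReduced p H ⊓ L = Cfsg.largestPReduced p H ⊓ (Cfsg.largestPReducedOf p L) ∧ Cfsg.IsPReducedNormal p ((Cfsg.largestPReduced p H ⊓ L).subgroupOf L) ∧ L ⊓ Subgroup.centralizer ((Cfsg.largestPReducedOf p L : Subgroup H) : Set H) = L ⊓ Subgroup.centralizer (Cfsg.largestPReduced p H : Set H) ∧ L ⊓ Subgroup.centralizer (Cfsg.largestPReduced p H : Set H) = L ⊓ Subgroup.centralizer ((Cfsg.largestPReduced p H ⊓ L : Subgroup H) : Set H) ∧ (Cfsg.pResidual p H ≤ L → (⁅(Cfsg.largestPReducedOf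 p L), L⁆ = ⊥ ↔ ⁅Cfsg.largestPReduced p H, (⊤ : Subgroup H)⁆ = ⊥)) := by
  have hY : H47.PRed p (Cfsg.largestPReduced p H) ⊤ := by
    rw [← H47.largestPReducedOf_top]; exact H47.pRed_largestPReducedOf p ⊤
  have hYn : (⊤ : Subgroup H) ≤ Subgroup.normalizer (Cfsg.largestPReduced p H : Set H) := hY.norm
  have hYX : ⁅Cfsg.largestPReduced p H, H47.pRes p L⁆ ≤ Cfsg.largestPReduced p H ⊓ L := by
    refine le_inf ?_ (hY.commutator_pRes hL).1
    exact Subgroup.le_normalizer_iff_commutator_le_left.1 (le_top.trans hYn)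
  have hf := hY.sub_facts hL (inf_le_left : Cfsg.largestPReduced p H ⊓ L ≤ _) inf_le_right
    (H47.le_normalizer_inf (le_top.trans hYn) Subgroup.le_normalizer) hYX
  have h3 : L ⊓ Subgroup.centralizer ((Cfsg.largestPReducedOf p L : Subgroup H) : Set H) =
      L ⊓ Subgroup.centralizer (Cfsg.largestPReduced p H : Set H) := by
    apply le_antisymm
    · rw [← hf.2]
      exact inf_le_inf_left _ (H47.centralizer_anti hf.1.le_largest)
    · exact le_inf inf_le_left (H47.inf_centralizer_largest_le hL)
  refine ⟨?_, (H47.isPReducedNormal_subgroupOf_iff inf_le_right).2 hf.1, h3, hf.2.symm, ?_⟩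
  · apply le_antisymm
    · exact le_inf inf_le_left hf.1.le_largest
    · exact le_inf inf_le_left (inf_le_right.trans (H47.pRed_largestPReducedOf p L).le)
  · intro hO
    rw [← H47.pRes_top] at hO
    rw [Subgroup.commutator_comm, Subgroup.commutator_eq_bot_iff_le_centralizer,
      Subgroup.commutator_comm, Subgroup.commutator_eq_bot_iff_le_centralizer]
    constructor
    · intro h
      have h4 : L ≤ Subgroup.centralizer (Cfsg.largestPReduced p H : Set H) := by
        have : L ≤ L ⊓ Subgroup.centralizer ((Cfsg.largestPReducedOf p L : Subgroup H) : Set H) :=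
          le_inf le_rfl h
        rw [h3] at this
        exact this.trans inf_le_right
      apply hY.2.2.2 ⊤ le_rfl Subgroup.le_normalizer
      intro x hx
      obtain ⟨k, hk⟩ := H47.pow_mem_pRes (p := p) hx
      exact ⟨k, h4 (hO hk)⟩
    · intro h
      have : L ≤ L ⊓ Subgroup.centralizer (Cfsg.largestPReduced p H : Set H) :=
        le_inf le_rfl (le_top.trans h)
      rw [← h3] at this
      exact this.trans inf_le_right

end Cfsg.Agent.S2825
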