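import Cfsg.Statements.S2828
import Cfsg.Agent.H47.PCl

set_option autoImplicit false
open Cfsg

namespace Cfsg.Agent.S2828

/-- Let H be a finite group, p a prime and D a normal p-subgroup of H. Then H is p-irreducible if and only if H/D is p-irreducible, and H is strongly p-irreducible if and only if H/D is strongly p-irreducible. -/
theorem result {H : Type*} [Group H] [Finite H] {p : ℕ} [Fact p.Prime] (D : Subgroup H) [D.Normal] (hD : IsPGroup p ↥D) : (Cfsg.IsPIrreducible p H ↔ Cfsg.IsPIrreducible p (H ⧸ D)) ∧ (Cfsg.IsStronglyPIrreducible p H ↔ Cfsg.IsStronglyPIrreducible p (H ⧸ D)) := by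
  have hsurj := QuotientGroup.mk'_surjective D
  set f := QuotientGroup.mk' D with hf
  have hker : IsPGroup p f.ker := by rw [hf, QuotientGroup.ker_mk']; exact hD
  have hmapcomap : ∀ N : Subgroup (H ⧸ D), (N.comap f).map f = N := fun N =>
    Subgroup.map_comap_eq_self_of_surjective hsurj N
  have hcl : Cfsg.IsPClosed p H ↔ Cfsg.IsPClosed p (H ⧸ D) := by
    rw [← H47.isPClosed_top_iff, ← H47.isPClosed_top_iff (G := H ⧸ D)]
    have := H47.isPClosed_map_iff hker (L := (⊤ : Subgroup H))
    rw [Subgroup.map_top_of_surjective f hsurj] at this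
    exact this.symm
  have hres : (Cfsg.pResidual p H).map f = Cfsg.pResidual p (H ⧸ D) := by
    rw [← H47.pRes_top, ← H47.pRes_top (G := H ⧸ D), H47.pRes_map,
      Subgroup.map_top_of_surjective f hsurj]
  -- from the quotient back to `H`
  have hback : ∀ N : Subgroup H, N.Normal → Cfsg.pResidual p (H ⧸ D) ≤ N.map f →
      Cfsg.pResidual p H ≤ N := by
    intro N hN h
    rw [← hres, Subgroup.map_le_iff_le_comap, Subgroup.comap_map_eq, hf,
      QuotientGroup.ker_mk', ← H47.pRes_top, sup_comm] at h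
    have h2 := H47.pRes_sup_of_isPGroup (Q := D) (B := N) hD Subgroup.le_normalizer_of_normal
    rw [← H47.pRes_top]
    exact (H47.pRes_le_of_le h).trans (h2.le.trans (H47.pRes_le p N))
  have hcomm : ∀ N : Subgroup H, (⁅N.map f, (⊤ : Subgroup (H ⧸ D))⁆ ≤ Cfsg.pCore p (H ⧸ D)) ↔
      ⁅N, (⊤ : Subgroup H)⁆ ≤ Cfsg.pCore p H := by
    intro N
    rw [← H47.comap_pCore_eq hsurj hker, ← Subgroup.map_le_iff_le_comap, Subgroup.map_commutator,
      Subgroup.map_top_of_surjective f hsurj]
  refine ⟨and_congr (not_congr hcl) ⟨?_, ?_⟩, and_congr (not_congr hcl) ⟨?_, ?_⟩⟩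
  · intro h N hN hNc
    have h1 := h (N.comap f) (hN.comap f) (by
      rw [← H47.isPClosed_map_iff hker, hmapcomap]; exact hNc)
    rw [← hres, ← hmapcomap N]
    exact Subgroup.map_mono h1
  · intro h N hN hNc
    exact hback N hN (h (N.map f) (hN.map f hsurj) (by rwa [H47.isPClosed_map_iff hker]))
  · intro h N hN hNc
    have h1 := h (N.comap f) (hN.comap f) (by
      rw [← hcomm, hmapcomap]; exact hNc)
    rw [← hres, ← hmapcomap N]
    exact Subgroup.map_mono h1
  · intro h N hN hNc
    exact hback N hN (h (N.map f) (hN.map f hsurj) (by rwa [hcomm]))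

end Cfsg.Agent.S2828
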