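import Cfsg.Statements.S2829
import Cfsg.Agent.H47.PCl

set_option autoImplicit false
open Cfsg

namespace Cfsg.Agent.S2829

/-- Every strongly p-irreducible finite group is p-irreducible. -/
theorem result {H : Type*} [Group H] [Finite H] {p : ℕ} [Fact p.Prime] (hH : Cfsg.IsStronglyPIrreducible p H) : Cfsg.IsPIrreducible p H := by
  refine ⟨hH.1, fun N hN hNc => hH.2 N hN ?_⟩
  intro hcomm
  apply hNc
  rw [H47.isPClosed_coe_iff]
  -- `N O_p(H) / O_p(H)` is central
  have hO := H47.pCore_normal p H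
  set f := QuotientGroup.mk' (Cfsg.pCore p H) with hf
  have hker : IsPGroup p f.ker := by rw [hf, QuotientGroup.ker_mk']; exact H47.pCore_isPGroup p H
  intro x hx y hy hpx hpy
  have hc : Commute (f x) (f y) := by
    rw [← commutatorElement_eq_one_iff_commute, ← map_commutatorElement, ← MonoidHom.mem_ker, hf,
      QuotientGroup.ker_mk']
    exact hcomm (Subgroup.commutator_mem_commutator hx (Subgroup.mem_top y))
  rw [← H47.pEl_map_iff hker, map_mul]
  obtain ⟨m, hm⟩ := (H47.pEl_map_iff hker).2 hpx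
  obtain ⟨n, hn⟩ := (H47.pEl_map_iff hker).2 hpy
  refine ⟨m + n, ?_⟩
  rw [hc.mul_pow, pow_add, pow_mul, hm, one_pow, one_mul, mul_comm, pow_mul, hn, one_pow]

end Cfsg.Agent.S2829
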