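import Cfsg.Statements.S2830
import Cfsg.Agent.H47.PCl

set_option autoImplicit false
open Cfsg

namespace Cfsg.Agent.S2830

/-- Let H act by conjugation on the elementary abelian p-subgroup V of a finite group G (H ≤ N(V)), with H p-irreducible and O^p(H) not centralizing V. Then C_H(V) is p-closed and C_T(V) ≤ O_p(H) for every p-subgroup T of H. If in addition O_p(H) centralizes V, then C_T(V) = T ∩ O_p(H) for every p-subgroup T of H, and V is p-reduced for H: O_p(H/C_H(V)) = 1. -/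
theorem result {G : Type*} [Group G] [Finite G] {p : ℕ} [Fact p.Prime] (V H : Subgroup G) (hV : Cfsg.IsElementaryAbelian p V) (hHV : H ≤ Subgroup.normalizer (V : Set G)) (hH : Cfsg.IsPIrreducible p ↥H) (hnc : ¬ (Cfsg.pResidual p ↥H).map H.subtype ≤ Subgroup.centralizer (V : Set G)) [hn : ((Subgroup.centralizer (V : Set G)).subgroupOf H).Normal] : Cfsg.IsPClosed p ↥(H ⊓ Subgroup.centralizer (V : Set G)) ∧ (∀ T : Subgroup G, T ≤ H → IsPGroup p ↥T → T ⊓ Subgroup.centralizer (V : Set G) ≤ Cfsg.pCoreOf p H) ∧ (Cfsg.pCoreOf p H ≤ Subgroup.centralizer (V : Set G) → (∀ T : Subgroup G, T ≤ H → IsPGroup p ↥T → T ⊓ Subgroup.centralizer (V : Set G) = T ⊓ Cfsg.pCoreOf p H) ∧ Cfsg.pCore p (↥H ⧸ (Subgroup.centralizer (V : Set G)).subgroupOf H) = ⊥) := by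
  rw [H47.isPIrreducible_iff] at hH
  set C := Subgroup.centralizer (V : Set G) with hC
  have hHC : H ≤ Subgroup.normalizer ((H ⊓ C : Subgroup G) : Set G) :=
    H47.le_normalizer_inf Subgroup.le_normalizer
      (hHV.trans (H47.normalizer_le_normalizer_centralizer V))
  have h1 : Cfsg.IsPClosed p ↥(H ⊓ C) := by
    by_contra h
    exact hnc ((hH.2 _ inf_le_left hHC h).trans inf_le_right)
  have h2 : ∀ T : Subgroup G, T ≤ H → IsPGroup p ↥T → T ⊓ C ≤ Cfsg.pCoreOf p H := by
    intro T hT hTp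
    exact H47.le_pCoreOf_of_isPClosed h1 inf_le_left hHC (inf_le_inf_right C hT)
      (hTp.to_le inf_le_left)
  refine ⟨h1, h2, fun hO => ⟨?_, ?_⟩⟩
  · intro T hT hTp
    exact le_antisymm (le_inf inf_le_left (h2 T hT hTp)) (inf_le_inf_left T hO)
  · -- the preimage of the `p`-core
    rw [eq_bot_iff]
    have hcore := H47.pCore_normal p (↥H ⧸ C.subgroupOf H)
    set f := QuotientGroup.mk' (C.subgroupOf H) with hf
    set E := ((Cfsg.pCore p (↥H ⧸ C.subgroupOf H)).comap f).map H.subtype with hE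
    have hEH : E ≤ H := by rintro _ ⟨y, _, rfl⟩; exact y.2
    have hEn : H ≤ Subgroup.normalizer (E : Set G) := by
      rw [Subgroup.le_normalizer_iff]
      rintro g hg _ ⟨y, hy, rfl⟩
      exact ⟨⟨g, hg⟩ * y * ⟨g, hg⟩⁻¹, (hcore.comap f).conj_mem y hy _, rfl⟩
    have hEp : ∀ x ∈ E, ∃ k : ℕ, x ^ (p ^ k) ∈ H ⊓ C := by
      rintro _ ⟨y, hy, rfl⟩
      obtain ⟨k, hk⟩ := H47.isPGroup_iff_mem.1 (H47.pCore_isPGroup p (↥H ⧸ C.subgroupOf H)) _ hy
      refine ⟨k, ?_⟩
      rw [← map_pow, hf, QuotientGroup.mk'_apply, QuotientGroup.eq_one_iff] at hk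
      exact ⟨pow_mem y.2 _, hk⟩
    have hEC : E ≤ C := by
      obtain ⟨T, hT⟩ := H47.SylIn.exists p H
      have hTE := hT.inf_normal hEH hEn
      by_cases hEc : Cfsg.IsPClosed p ↥E
      · have h3 := H47.le_pCoreOf_of_isPClosed hEc hEH hEn inf_le_right (hTE.isPGroup)
        rw [← hTE.pRes_sup]
        exact sup_le ((H47.pRes_le_of hEp).trans inf_le_right) (h3.trans hO)
      · exfalso
        apply hnc
        have h3 : H47.pRes p H ≤ E := hH.2 E hEH hEn hEc
        refine le_trans (H47.pRes_le_of_le h3) ?_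
        exact (H47.pRes_le_of hEp).trans inf_le_right
    intro x hx
    obtain ⟨y, rfl⟩ := QuotientGroup.mk'_surjective _ x
    rw [Subgroup.mem_bot, QuotientGroup.mk'_apply, QuotientGroup.eq_one_iff]
    exact hEC ⟨y, hx, rfl⟩

end Cfsg.Agent.S2830
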