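import Cfsg.Statements.S2832
import Cfsg.Agent.H47.Mini

set_option autoImplicit false
open Cfsg

namespace Cfsg.Agent.S2832

/-- Let H be a finite group with Sylow p-subgroup T such that H is T-minimal (generated by the conjugates of T, with T in exactly one maximal subgroup), and let N be a normal subgroup of H. Then either H/N is a p-group or H/N is minimal over the image of T in the same sense. -/
theorem result {H : Type*} [Group H] [Finite H] {p : ℕ} [Fact p.Prime] (T : Sylow p H) (hmin : Cfsg.IsMinimalOver (T : Subgroup H)) (N : Subgroup H) [N.Normal] : IsPGroup p (H ⧸ N) ∨ Cfsg.IsMinimalOver ((T : Subgroup H).map (QuotientGroup.mk' N)) := by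
  have hsurj := QuotientGroup.mk'_surjective N
  set f := QuotientGroup.mk' N with hf
  obtain ⟨M, hM, hTM, hmax⟩ := H47.IsMinimalOver.exists_max hmin
  have hmapcomap : ∀ K : Subgroup (H ⧸ N), (K.comap f).map f = K := fun K =>
    Subgroup.map_comap_eq_self_of_surjective hsurj K
  by_cases hNT : (T : Subgroup H) ⊔ N = ⊤
  · left
    intro x
    obtain ⟨y, rfl⟩ := hsurj x
    have hy : y ∈ (T : Subgroup H) ⊔ N := hNT ▸ Subgroup.mem_top y
    obtain ⟨k, hk⟩ := H47.pow_mem_of_sup T.2 Subgroup.le_normalizer_of_normal hy
    refine ⟨k, ?_⟩
    rw [← map_pow, hf, QuotientGroup.mk'_apply, QuotientGroup.eq_one_iff]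
    exact hk
  · right
    have hNM : N ≤ M := le_sup_right.trans (hmax _ le_sup_left hNT)
    have hcm : (M.map f).comap f = M := by
      rw [Subgroup.comap_map_eq, hf, QuotientGroup.ker_mk', sup_eq_left.2 hNM]
    refine ⟨?_, M.map f, ⟨?_, Subgroup.map_mono hTM⟩, ?_⟩
    · rw [eq_top_iff, ← Subgroup.map_top_of_surjective f hsurj, ← hmin.1,
        Subgroup.map_le_iff_le_comap]
      have : (Subgroup.normalClosure (((T : Subgroup H).map f : Subgroup (H ⧸ N)) :
        Set (H ⧸ N))).Normal := Subgroup.normalClosure_normal
      apply Subgroup.normalClosure_le_normal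
      intro x hx
      exact Subgroup.subset_normalClosure ⟨x, hx, rfl⟩
    · constructor
      · intro h
        apply hM.1
        rw [← hcm, h, Subgroup.comap_top]
      · intro K hK
        have h1 : M < K.comap f := by
          rw [lt_iff_le_and_ne]
          constructor
          · rw [← Subgroup.map_le_iff_le_comap]; exact hK.le
          · intro h
            apply hK.ne
            rw [h, hmapcomap]
        rw [← hmapcomap K, hM.2 _ h1]
        exact Subgroup.map_top_of_surjective f hsurj
    · rintro K ⟨hK, hTK⟩
      have h1 : K.comap f ≤ M := by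
        apply hmax
        · rw [← Subgroup.map_le_iff_le_comap]; exact hTK
        · intro h
          apply hK.1
          rw [← hmapcomap K, h, Subgroup.map_top_of_surjective f hsurj]
      have h2 : K ≤ M.map f := by
        rw [← hmapcomap K]; exact Subgroup.map_mono h1
      rcases eq_or_lt_of_le h2 with h | h
      · exact h
      · exfalso
        have := hK.2 _ h
        apply hM.1
        rw [← hcm, this, Subgroup.comap_top]

end Cfsg.Agent.S2832
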