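import Cfsg.Statements.S2833
import Cfsg.Agent.H47.Cop

set_option autoImplicit false
open Cfsg

namespace Cfsg.Agent.S2833

/-- Let V be a subgroup of a finite group G normalized by the subgroup L, let X ≤ L and g ∈ L with [V, X, X] = 1 and L generated by X and gXg⁻¹. Put W = [V, L]. Then W = [V, X]·[V, gXg⁻¹], C_W(X) = [V, X], and C_W(L) = [V, X] ∩ [V, gXg⁻¹]. -/
theorem result {G : Type*} [Group G] [Finite G] (V L : Subgroup G) (hLV : L ≤ Subgroup.normalizer (V : Set G)) (X : Subgroup G) (hX : X ≤ L) (g : G) (hg : g ∈ L) (hq : ⁅⁅V, X⁆, X⁆ = ⊥) (hgen : X ⊔ X.map (MulAut.conj g).toMonoidHom = L) (W : Subgroup G) (hW : W = ⁅V, L⁆) : ⁅V, X⁆ ⊔ ⁅V, X.map (MulAut.conj g).toMonoidHom⁆ = W ∧ W ⊓ Subgroup.centralizer (X : Set G) = ⁅V, X⁆ ∧ W ⊓ Subgroup.centralizer (L : Set G) = ⁅V, X⁆ ⊓ ⁅V, X.map (MulAut.conj g).toMonoidHom⁆ := by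
  subst hW
  set Xg := X.map (MulAut.conj g).toMonoidHom with hXg
  have hXgL : Xg ≤ L := hgen ▸ le_sup_right
  have hVX : ⁅V, X⁆ ≤ V := Subgroup.le_normalizer_iff_commutator_le_left.1 (hX.trans hLV)
  have hVXg : ⁅V, Xg⁆ ≤ V := Subgroup.le_normalizer_iff_commutator_le_left.1 (hXgL.trans hLV)
  have hVn1 : V ≤ Subgroup.normalizer ((⁅V, X⁆ : Subgroup G) : Set G) :=
    Subgroup.normalizer_commutator_ge_left _ _
  have hVn2 : V ≤ Subgroup.normalizer ((⁅V, Xg⁆ : Subgroup G) : Set G) :=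
    Subgroup.normalizer_commutator_ge_left _ _
  set W0 := ⁅V, X⁆ ⊔ ⁅V, Xg⁆ with hW0
  have hW0V : W0 ≤ V := sup_le hVX hVXg
  have hX0 : X ≤ Subgroup.normalizer (W0 : Set G) :=
    Subgroup.le_normalizer_iff_commutator_le_left.2
      ((Subgroup.commutator_mono hW0V le_rfl).trans le_sup_left)
  have hXg0 : Xg ≤ Subgroup.normalizer (W0 : Set G) :=
    Subgroup.le_normalizer_iff_commutator_le_left.2
      ((Subgroup.commutator_mono hW0V le_rfl).trans le_sup_right)
  have hW : W0 = ⁅V, L⁆ := by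
    apply le_antisymm
    · exact sup_le (Subgroup.commutator_mono le_rfl hX) (Subgroup.commutator_mono le_rfl hXgL)
    · apply H47.commutator_le_of_le_cmod
      rw [← hgen]
      exact sup_le (H47.le_cmod_iff.2 ⟨hX0, le_sup_left⟩) (H47.le_cmod_iff.2 ⟨hXg0, le_sup_right⟩)
  have hgV : g ∈ Subgroup.normalizer (V : Set G) := hLV hg
  have hconj : (⁅V, X⁆).map (MulAut.conj g).toMonoidHom = ⁅V, Xg⁆ := by
    rw [Subgroup.map_commutator, H47.norm_map_conj hgV]
  have hXc : ⁅V, X⁆ ≤ Subgroup.centralizer (X : Set G) :=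
    Subgroup.commutator_eq_bot_iff_le_centralizer.1 hq
  have hXgc : ⁅V, Xg⁆ ≤ Subgroup.centralizer (Xg : Set G) := by
    rw [← hconj, hXg, H47.centralizer_map_conj]
    exact Subgroup.map_mono hXc
  have hnorm : ⁅V, X⁆ ≤ Subgroup.normalizer ((⁅V, Xg⁆ : Subgroup G) : Set G) := hVX.trans hVn2
  -- if `b ∈ [V, Xg]` is centralized by `X` then it is centralized by `L` and lies in `[V, X]`
  have hb : ∀ b ∈ ⁅V, Xg⁆, b ∈ Subgroup.centralizer (X : Set G) →
      b ∈ Subgroup.centralizer (L : Set G) ∧ b ∈ ⁅V, X⁆ := by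
    intro b hb hbX
    have h1 : b ∈ Subgroup.centralizer (L : Set G) := by
      have h2 : L ≤ Subgroup.centralizer ({b} : Set G) := by
        rw [← hgen]
        apply sup_le
        · intro x hx
          rw [Subgroup.mem_centralizer_singleton_iff]
          exact (Subgroup.mem_centralizer_iff.1 hbX) x hx
        · intro x hx
          rw [Subgroup.mem_centralizer_singleton_iff]
          exact (Subgroup.mem_centralizer_iff.1 (hXgc hb)) x hx
      rw [Subgroup.mem_centralizer_iff]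
      intro x hx
      exact Subgroup.mem_centralizer_singleton_iff.1 (h2 hx)
    refine ⟨h1, ?_⟩
    rw [← hconj, H47.mem_map_conj] at hb
    have h3 : g⁻¹ * b * g = b := by
      rw [mul_assoc, ← (Subgroup.mem_centralizer_iff.1 h1) g hg]; group
    rwa [h3] at hb
  refine ⟨hW, ?_, ?_⟩
  · rw [← hW]
    apply le_antisymm
    · intro w hw
      obtain ⟨hw1, hw2⟩ := Subgroup.mem_inf.1 hw
      obtain ⟨a, ha, b, hbb, rfl⟩ := (H47.mem_sup_of_le_normalizer hnorm).1 hw1
      have h1 : b ∈ Subgroup.centralizer (X : Set G) := by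
        have := mul_mem (inv_mem (hXc ha)) hw2
        simpa using this
      exact mul_mem ha (hb b hbb h1).2
    · exact le_inf le_sup_left hXc
  · rw [← hW]
    apply le_antisymm
    · intro w hw
      obtain ⟨hw1, hw2⟩ := Subgroup.mem_inf.1 hw
      obtain ⟨a, ha, b, hbb, rfl⟩ := (H47.mem_sup_of_le_normalizer hnorm).1 hw1
      have h1 : b ∈ Subgroup.centralizer (X : Set G) := by
        have := mul_mem (inv_mem (hXc ha)) ((Subgroup.centralizer_le hX) hw2)
        simpa using this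
      obtain ⟨h2, h3⟩ := hb b hbb h1
      have h4 : a ∈ Subgroup.centralizer (L : Set G) := by
        have := mul_mem hw2 (inv_mem h2)
        simpa using this
      refine Subgroup.mem_inf.2 ⟨mul_mem ha h3, mul_mem ?_ hbb⟩
      rw [← hconj, H47.mem_map_conj]
      have h5 : g⁻¹ * a * g = a := by
        rw [mul_assoc, ← (Subgroup.mem_centralizer_iff.1 h4) g hg]; group
      rw [h5]; exact ha
    · intro w hw
      obtain ⟨hw1, hw2⟩ := Subgroup.mem_inf.1 hw
      exact Subgroup.mem_inf.2 ⟨Subgroup.mem_sup_left hw1, (hb w hw2 (hXc hw1)).1⟩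

end Cfsg.Agent.S2833
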