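import Cfsg.Statements.S2835
import Cfsg.Agent.H47.Mini

set_option autoImplicit false
open Cfsg

namespace Cfsg.Agent.S2835

/-- Let L be a finite group, L₀ a maximal subgroup, T a Sylow p-subgroup of L₀ and Y ≤ T, and suppose L is Y-minimal (generated by the conjugates of Y, with Y in exactly one maximal subgroup, necessarily L₀). Then N_L(T) ≤ L₀, O_p(L) ≤ L₀ and T is a Sylow p-subgroup of L; N_L(L₀) = L₀; L = ⟨Y, gYg⁻¹⟩ for each g ∈ L outside L₀; and if Y is abelian then Y ∩ gYg⁻¹ = C_Y(L) for each such g. -/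
theorem result {L : Type*} [Group L] [Finite L] {p : ℕ} [Fact p.Prime] (L₀ : Subgroup L) (hL₀ : IsCoatom L₀) (T : Sylow p ↥L₀) (Y : Subgroup L) (hYT : Y ≤ (T : Subgroup ↥L₀).map L₀.subtype) (hmin : Cfsg.IsMinimalOver Y) : Subgroup.normalizer (((T : Subgroup ↥L₀).map L₀.subtype : Subgroup L) : Set L) ≤ L₀ ∧ Cfsg.pCore p L ≤ L₀ ∧ (∃ P : Sylow p L, (P : Subgroup L) = (T : Subgroup ↥L₀).map L₀.subtype) ∧ Subgroup.normalizer (L₀ : Set L) = L₀ ∧ (∀ g : L, g ∉ L₀ → Y ⊔ Y.map (MulAut.conj g).toMonoidHom = ⊤) ∧ (IsMulCommutative ↥Y → ∀ g : L, g ∉ L₀ → Y ⊓ Y.map (MulAut.conj g).toMonoidHom = Y ⊓ Subgroup.center L) := by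
  have hT : H47.SylIn p ((T : Subgroup ↥L₀).map L₀.subtype) L₀ := ⟨T, rfl⟩
  obtain ⟨hmax, h1, h2, h3, h4, h5⟩ := H47.min_facts hL₀ hT hYT hmin
  refine ⟨h1, h2, ?_, h4, h5, ?_⟩
  · exact h3.sylow_of_top
  · intro hY g hg
    apply le_antisymm
    · refine le_inf inf_le_left ?_
      intro x hx
      have hcY : Y ≤ Subgroup.centralizer ({x} : Set L) := by
        intro y hy
        rw [Subgroup.mem_centralizer_singleton_iff]
        exact congrArg Subtype.val (hY.is_comm.comm ⟨y, hy⟩ ⟨x, hx.1⟩)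
      have hcY' : Y.map (MulAut.conj g).toMonoidHom ≤ Subgroup.centralizer ({x} : Set L) := by
        have hxg := (Subgroup.mem_inf.1 hx).2
        obtain ⟨x', hx', hxx⟩ := hxg
        rintro _ ⟨y, hy, rfl⟩
        rw [Subgroup.mem_centralizer_singleton_iff]
        simp only [MulEquiv.coe_toMonoidHom] at hxx ⊢
        rw [← hxx, ← map_mul, ← map_mul]
        congr 1
        exact congrArg Subtype.val (hY.is_comm.comm ⟨y, hy⟩ ⟨x', hx'⟩)
      have hc : (⊤ : Subgroup L) ≤ Subgroup.centralizer ({x} : Set L) := by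
        rw [← h5 g hg]; exact sup_le hcY hcY'
      rw [Subgroup.mem_center_iff]
      intro y
      exact Subgroup.mem_centralizer_singleton_iff.1 (hc (Subgroup.mem_top y))
    · rintro x ⟨hxY, hxc⟩
      refine Subgroup.mem_inf.2 ⟨hxY, ?_⟩
      rw [H47.mem_map_conj]
      have : g⁻¹ * x * g = x := by
        rw [mul_assoc, ← (Subgroup.mem_center_iff.1 hxc) g]; group
      rw [this]; exact hxY

end Cfsg.Agent.S2835
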