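import Cfsg.Statements.S2839
import Cfsg.Agent.H47.WC

set_option autoImplicit false
open Cfsg

namespace Cfsg.Agent.S2839

/-- Let Q be a nontrivial p-subgroup of the finite group H that is a weakly closed subgroup, K a subgroup containing Q and N a normal subgroup of H. Then Q is a weakly closed subgroup of K; every H-conjugate of Q contained in K is a K-conjugate of Q; N_K(Q) contains a Sylow p-subgroup of K; N = N_N(Q)·O^p(N); and QN/N is a weakly closed subgroup of H/N. -/
theorem result {H : Type*} [Group H] [Finite H] {p : ℕ} [Fact p.Prime] (Q : Subgroup H) (hQp : IsPGroup p ↥Q) (hQ1 : Q ≠ ⊥) (hwc : Cfsg.IsWeaklyClosedSubgroup p Q) (K : Subgroup H) (hQK : Q ≤ K) (N' : Subgroup H) [N'.Normal] : Cfsg.IsWeaklyClosedSubgroup p (Q.subgroupOf K) ∧ (∀ g : H, ((Q : Subgroup H).map (MulAut.conj (g : H)).toMonoidHom) ≤ K → ∃ k ∈ K, ((Q : Subgroup H).map (MulAut.conj (g : H)).toMonoidHom) = ((Q : Subgroup H).map (MulAut.conj (k : H)).toMonoidHom)) ∧ Cfsg.IsParabolic p ((Subgroup.normalizer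 ((Q : Subgroup H) : Set H)).subgroupOf K) ∧ (N' ⊓ Subgroup.normalizer ((Q : Subgroup H) : Set H)) ⊔ (Cfsg.pResidual p ↥N').map N'.subtype = N' ∧ Cfsg.IsWeaklyClosedSubgroup p (Q.map (QuotientGroup.mk' N')) := by
  rw [H47.isWeaklyClosedSubgroup_iff] at hwc
  refine ⟨?_, ?_, ?_, ?_, ?_⟩
  · rw [H47.isWeaklyClosedSubgroup_iff]
    refine ⟨hwc.1.comap_of_injective _ Subtype.coe_injective, ?_⟩
    intro R hR hQR g hg
    have hQm : (Q.subgroupOf K).map K.subtype = Q := Subgroup.map_subgroupOf_eq_of_le hQK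
    have hconj : ∀ A : Subgroup K, (A.map (MulAut.conj g).toMonoidHom).map K.subtype =
        (A.map K.subtype).map (MulAut.conj (g : H)).toMonoidHom := by
      intro A
      rw [Subgroup.map_map, Subgroup.map_map]
      rfl
    have h1 := hwc.2 (R.map K.subtype) (hR.map _) (by
      rw [← hQm]; exact Subgroup.map_mono hQR) (g : H) (by
      rw [← hQm, ← hconj]; exact Subgroup.map_mono hg)
    apply Subgroup.map_injective (f := K.subtype) Subtype.coe_injective
    rw [hconj, hQm, h1]
  · intro g hg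
    obtain ⟨k, hk, hk'⟩ := hwc.conj_in hQK hg
    exact ⟨k, hk, hk'⟩
  · obtain ⟨T, hT, hQT⟩ := H47.SylIn.exists_of_le hQK hwc.1
    obtain ⟨P, hP⟩ := hT.subgroupOf
    refine ⟨P, ?_⟩
    rw [hP]
    intro x hx
    exact hwc.le_normalizer hT.isPGroup hQT hx
  · have hN : Q ⊔ N' ≤ Subgroup.normalizer (N' : Set H) := Subgroup.le_normalizer_of_normal
    obtain ⟨T, hT, hQT⟩ := H47.SylIn.exists_of_le (le_sup_left : Q ≤ Q ⊔ N') hwc.1
    have hTN := hT.inf_normal le_sup_right hN
    apply le_antisymm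
    · apply sup_le inf_le_left
      exact H47.pRes_le p N'
    · have h1 := hTN.pRes_sup
      conv_lhs => rw [← h1]
      apply sup_le le_sup_right
      exact le_trans (le_inf inf_le_right
        (inf_le_left.trans (hwc.le_normalizer hT.isPGroup hQT))) le_sup_left
  · rw [H47.isWeaklyClosedSubgroup_iff]
    refine ⟨hwc.1.map _, ?_⟩
    intro R hR hQR g hg
    have hsurj := QuotientGroup.mk'_surjective N'
    set f := QuotientGroup.mk' N' with hf
    obtain ⟨g, rfl⟩ := hsurj g
    have hconj : ∀ (x : H) (A : Subgroup H), (A.map f).map (MulAut.conj (f x)).toMonoidHom =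
        (A.map (MulAut.conj x).toMonoidHom).map f := by
      intro x A
      rw [Subgroup.map_map, Subgroup.map_map]
      congr 1
    rw [hconj, Subgroup.map_le_iff_le_comap] at hg
    have hQK' : Q ≤ R.comap f := by rw [← Subgroup.map_le_iff_le_comap]; exact hQR
    obtain ⟨k, hk, hk'⟩ := hwc.conj_in hQK' hg
    -- `R.comap f / N'` is a `p`-group
    obtain ⟨T, hT, hQT⟩ := H47.SylIn.exists_of_le hQK' hwc.1
    have h1 : H47.pRes p (R.comap f) ≤ N' := by
      apply H47.pRes_le_of
      intro x hx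
      obtain ⟨m, hm⟩ := H47.isPGroup_iff_mem.1 hR _ hx
      refine ⟨m, ?_⟩
      rw [← map_pow, hf, QuotientGroup.mk'_apply, QuotientGroup.eq_one_iff] at hm
      exact hm
    obtain ⟨n, hn, t, ht, rfl⟩ := H47.mem_pRes_sup hT hk
    have ht' := hwc.le_normalizer hT.isPGroup hQT ht
    rw [H47.map_conj_mul, H47.norm_map_conj ht'] at hk'
    rw [hconj, hk', ← hconj]
    have : f n = 1 := by
      rw [hf, QuotientGroup.mk'_apply, QuotientGroup.eq_one_iff]; exact h1 hn
    rw [this, H47.map_conj_one]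

end Cfsg.Agent.S2839
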