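import Cfsg.Statements.S2840
import Cfsg.Agent.H47.WC

set_option autoImplicit false
open Cfsg

namespace Cfsg.Agent.S2840

/-- Let Q be a nontrivial p-subgroup of the finite group H that is a weakly closed subgroup and K a subgroup containing Q; let K° be the weak closure of Q in K (generated by the H-conjugates of Q inside K). Then K° is generated by the K-conjugates of Q, and K° is the subnormal closure of Q in K. -/
theorem result {H : Type*} [Group H] [Finite H] {p : ℕ} [Fact p.Prime] (Q : Subgroup H) (hQp : IsPGroup p ↥Q) (hQ1 : Q ≠ ⊥) (hwc : Cfsg.IsWeaklyClosedSubgroup p Q) (K : Subgroup H) (hQK : Q ≤ K) (Kc : Subgroup H) (hKc : Kc = Cfsg.weakClosure Q K) : Kc = ⨆ k : ↥K, ((Q : Subgroup H).map (MulAut.conj ((k : H) : H)).toMonoidHom) ∧ Kc = (Cfsg.subnormalClosure (Q.subgroupOf K)).map K.subtype := by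
  rw [H47.isWeaklyClosedSubgroup_iff] at hwc
  subst hKc
  refine ⟨?_, ?_⟩
  · apply le_antisymm
    · rw [H47.weakClosure_le_iff]
      intro g hg
      obtain ⟨k, hk, hk'⟩ := hwc.conj_in hQK hg
      rw [hk']
      exact le_iSup (fun k : K => Q.map (MulAut.conj (k : H)).toMonoidHom) ⟨k, hk⟩
    · apply iSup_le
      intro k
      apply H47.le_weakClosure
      calc Q.map (MulAut.conj (k : H)).toMonoidHom ≤ K.map (MulAut.conj (k : H)).toMonoidHom :=
            Subgroup.map_mono hQK
        _ = K := H47.norm_map_conj (Subgroup.le_normalizer k.2)
  · have hwK : Cfsg.weakClosure Q K ≤ K := H47.weakClosure_le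
    apply le_antisymm
    · -- every subnormal subgroup of `K` above `Q` contains the weak closure
      have key : ∀ X : Subgroup K, X.IsSubnormal → Q.subgroupOf K ≤ X →
          Cfsg.weakClosure Q K ≤ X.map K.subtype := by
        intro X hX
        induction hX with
        | top =>
          intro _
          refine hwK.trans (le_of_eq ?_)
          rw [← MonoidHom.range_eq_map, Subgroup.range_subtype]
        | step X Z hXZ hZ hN ih =>
          intro hQX
          have h1 := ih (hQX.trans hXZ)
          have h2 : Z.map K.subtype ≤ Subgroup.normalizer ((X.map K.subtype : Subgroup H) : Set H) :=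
            (Subgroup.map_mono (H47.step_le_normalizer hXZ hN)).trans (Subgroup.le_normalizer_map _)
          have hQX' : Q ≤ X.map K.subtype := by
            rw [← Subgroup.map_subgroupOf_eq_of_le hQK]; exact Subgroup.map_mono hQX
          have hQZ : Q ≤ Z.map K.subtype := hQX'.trans (Subgroup.map_mono hXZ)
          rw [H47.weakClosure_le_iff]
          intro g hg
          obtain ⟨z, hz, hz'⟩ := hwc.conj_in hQZ ((H47.le_weakClosure hg).trans h1)
          rw [hz', ← H47.norm_map_conj (h2 hz)]
          exact Subgroup.map_mono hQX'
      -- the subnormal closure is subnormal (finite intersection)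
      have hfin : (Cfsg.subnormalClosure (Q.subgroupOf K)).IsSubnormal := by
        have key2 : ∀ S : Set (Subgroup K), (∀ X ∈ S, X.IsSubnormal) → (sInf S).IsSubnormal := by
          intro S hS
          have hSf : S.Finite := Set.toFinite S
          induction S, hSf using Set.Finite.induction_on with
          | empty => simp
          | insert _ _ ih =>
            rw [sInf_insert]
            exact (hS _ (Set.mem_insert _ _)).inf (ih (fun X hX => hS X (Set.mem_insert_of_mem _ hX)))
        exact key2 _ fun X hX => hX.2
      exact key _ hfin (le_sInf fun X hX => hX.1)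
    · have h1 : (Cfsg.subnormalClosure (Q.subgroupOf K)) ≤ (Cfsg.weakClosure Q K).subgroupOf K := by
        apply sInf_le
        refine ⟨?_, ?_⟩
        · intro x hx
          exact H47.self_le_weakClosure hQK hx
        · apply Subgroup.Normal.isSubnormal
          exact H47.normal_subgroupOf_of_le
            (Subgroup.le_normalizer.trans H47.le_normalizer_weakClosure)
      calc _ ≤ ((Cfsg.weakClosure Q K).subgroupOf K).map K.subtype := Subgroup.map_mono h1
        _ = Cfsg.weakClosure Q K := Subgroup.map_subgroupOf_eq_of_le hwK

end Cfsg.Agent.S2840
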