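import Cfsg.Statements.S2844
import Cfsg.Agent.H47.WC

set_option autoImplicit false
open Cfsg

namespace Cfsg.Agent.S2844

/-- Let Q be a nontrivial large p-subgroup of the finite group H and Q• = O_p(N_H(Q)). Then for every g ∈ H outside N_H(Q): C_H(Q) ∩ C_H(gQg⁻¹) = 1, C_H(Q•) ∩ C_H(gQ•g⁻¹) = 1, Z(Q) ∩ Z(gQg⁻¹) = 1 and Z(Q•) ∩ Z(gQ•g⁻¹) = 1; moreover N_H(Q) = N_H(Q•) and Q• is large in H. -/
theorem result {H : Type*} [Group H] [Finite H] {p : ℕ} [Fact p.Prime] (Q : Subgroup H) (hQp : IsPGroup p ↥Q) (hQ1 : Q ≠ ⊥) (hL : Cfsg.IsLarge Q) (Qb : Subgroup H) (hQb : Qb = Cfsg.largeBullet p Q) : (∀ g : H, g ∉ Subgroup.normalizer ((Q : Subgroup H) : Set H) → Subgroup.centralizer ((Q : Subgroup H) : Set H) ⊓ Subgroup.centralizer ((((Q : Subgroup H).map (MulAut.conj (g : H)).toMonoidHom) : Subgroup H) : Set H) = ⊥ ∧ Subgroup.centralizer ((Qb : Subgroup H) : Set H) ⊓ Subgroup.centralizer ((((Qb : Subgroup H).map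 (MulAut.conj (g : H)).toMonoidHom) : Subgroup H) : Set H) = ⊥ ∧ (Q ⊓ Subgroup.centralizer ((Q : Subgroup H) : Set H)) ⊓ (((Q : Subgroup H).map (MulAut.conj (g : H)).toMonoidHom) ⊓ Subgroup.centralizer ((((Q : Subgroup H).map (MulAut.conj (g : H)).toMonoidHom) : Subgroup H) : Set H)) = ⊥ ∧ (Qb ⊓ Subgroup.centralizer ((Qb : Subgroup H) : Set H)) ⊓ (((Qb : Subgroup H).map (MulAut.conj (g : H)).toMonoidHom) ⊓ Subgroup.centralizer ((((Qb : Subgroup H).map (MulAut.conj (g : H)).toMonoidHom) : Subgroup H) : Set H)) = ⊥) ∧ Subgroup.normalizer ((Q : Subgroup H) : Set H) = Subgroup.normalizer ((Qb : Subgroup H) : Set H) ∧ Cfsg.IsLarge Qb := by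
  subst hQb
  have hw := H47.IsLarge.wcl hQp hQ1 hL
  set N := Subgroup.normalizer (Q : Set H) with hN
  have hQN : Q ≤ N := Subgroup.le_normalizer
  have hbp : IsPGroup p (Cfsg.largeBullet p Q) := H47.pCoreOf_isPGroup p N
  have hQb : Q ≤ Cfsg.largeBullet p Q := H47.le_pCoreOf hQN le_rfl hQp
  have hb1 : Cfsg.largeBullet p Q ≠ ⊥ := fun h => hQ1 (eq_bot_iff.2 (h ▸ hQb))
  have hNb : N = Subgroup.normalizer (Cfsg.largeBullet p Q : Set H) := by
    apply le_antisymm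
    · exact H47.le_normalizer_pCoreOf p N
    · exact hw.normalizer_le hbp hQb
  have hLb : Cfsg.IsLarge (Cfsg.largeBullet p Q) := by
    refine ⟨(H47.centralizer_anti hQb).trans (hL.1.trans hQb), ?_⟩
    intro U hU hU1
    rw [← hNb]
    exact hL.2 U (hU.trans (H47.centralizer_anti hQb)) hU1
  refine ⟨?_, hNb, hLb⟩
  intro g hg
  have h1 := H47.IsLarge.disjoint hQp hQ1 hL hg
  have h2 := H47.IsLarge.disjoint hbp hb1 hLb (g := g) (by rw [← hNb]; exact hg)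
  refine ⟨h1, h2, ?_, ?_⟩
  · rw [eq_bot_iff, ← h1]
    exact inf_le_inf inf_le_right inf_le_right
  · rw [eq_bot_iff, ← h2]
    exact inf_le_inf inf_le_right inf_le_right

end Cfsg.Agent.S2844
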