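import Cfsg.Statements.S2845
import Cfsg.Agent.H47.WC2

set_option autoImplicit false
open Cfsg

namespace Cfsg.Agent.S2845

/-- Let Q be a nontrivial large p-subgroup of the finite group H. Then for every subgroup L ≥ Q with O_p(L) ≠ 1, C_H(O_p(L)) is a p-group and L has characteristic p, and either the weak closure L° of Q in L equals Q or C_H(L°) = 1; for every subgroup R of H containing a Sylow p-subgroup of H with O_p(R) ≠ 1, C_H(O_p(R)) ≤ O_p(R); and H has parabolic characteristic p. -/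
theorem result {H : Type*} [Group H] [Finite H] {p : ℕ} [Fact p.Prime] (Q : Subgroup H) (hQp : IsPGroup p ↥Q) (hQ1 : Q ≠ ⊥) (hL : Cfsg.IsLarge Q) : (∀ L : Subgroup H, Q ≤ L → Cfsg.pCore p ↥L ≠ ⊥ → IsPGroup p ↥(Subgroup.centralizer (((Cfsg.pCoreOf p L) : Subgroup H) : Set H)) ∧ Subgroup.centralizer (Cfsg.pCore p ↥L : Set ↥L) ≤ Cfsg.pCore p ↥L ∧ (Cfsg.weakClosure Q L = Q ∨ Subgroup.centralizer (((Cfsg.weakClosure Q L) : Subgroup H) : Set H) = ⊥)) ∧ (∀ R : Subgroup H, Cfsg.IsParabolic p R → Cfsg.pCore p ↥R ≠ ⊥ → Subgroup.centralizer (((Cfsg.pCoreOf p R) : Subgroup H) : Set H) ≤ (Cfsg.pCoreOf p R)) ∧ Cfsg.IsOfParabolicCharacteristic p H := by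
  refine ⟨?_, ?_, ?_⟩
  · intro L hQL hO
    rw [Ne, H47.pCore_eq_bot_iff] at hO
    have h1 := H47.large_overgroup_facts hQp hL hQL hO
    refine ⟨h1.1, H47.charP'_iff.2 h1.2, ?_⟩
    by_cases h : Cfsg.weakClosure Q L = Q
    · exact Or.inl h
    · right
      have h2 : ¬ Cfsg.weakClosure Q L ≤ Q := fun h3 =>
        h (le_antisymm h3 (H47.self_le_weakClosure hQL))
      rw [H47.weakClosure_le_iff] at h2
      push Not at h2
      obtain ⟨g, hg, hgQ⟩ := h2
      have h3 : g ∉ Subgroup.normalizer (Q : Set H) := fun h4 =>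
        hgQ (H47.norm_map_conj h4).le
      rw [eq_bot_iff, ← H47.IsLarge.disjoint hQp hQ1 hL h3]
      exact le_inf (H47.centralizer_anti (H47.self_le_weakClosure hQL))
        (H47.centralizer_anti (H47.le_weakClosure hg))
  · rintro R ⟨T, hT⟩ hO
    rw [Ne, H47.pCore_eq_bot_iff] at hO
    exact H47.large_parabolic_facts hQp hL hT hO
  · rintro R hR hR1 ⟨T, hT⟩
    rw [H47.charP'_iff]
    have hO : Cfsg.pCoreOf p (Subgroup.normalizer (R : Set H)) ≠ ⊥ := by
      intro h
      apply hR1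
      rw [eq_bot_iff, ← h]
      exact H47.le_pCoreOf Subgroup.le_normalizer le_rfl hR
    exact inf_le_right.trans (H47.large_parabolic_facts hQp hL hT hO)

end Cfsg.Agent.S2845
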