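import Cfsg.Statements.S2846
import Cfsg.Agent.H47.Basic2

set_option autoImplicit false
open Cfsg

namespace Cfsg.Agent.S2846

/-- Let Q be a nontrivial large p-subgroup of the finite group H, S a Sylow p-subgroup containing Q, and L a subgroup containing S with O_p(L) ≠ 1 and C_H(O_p(L)) ≤ O_p(L). Then there are a subgroup M containing S having the basic property (M ∈ 𝔐_H, writing Y_X for the largest p-reduced normal subgroup of X and 𝓛_H for the set of subgroups X with O_p(X) ≠ 1 and C_H(O_p(X)) ≤ O_p(X): M ∈ 𝓛_H, M·C_H(Y_M) is the only maximal member of 𝓛_H containing M and its largest p-reduced normal subgroup is again Y_M, C_M(Y_M) is p-closed, and the image of C_M(Y_M) in M/O_p(M) lies in the Frattini subgroup of M/O_p(M)) and a subgroup L* with S ≤ L* ≤ M, O_p(L*) ≠ 1, C_H(O_p(L*)) ≤ O_p(L*), such that L·C_H(Y_L) = L*·C_H(Y_L), the weak closures of Q in L and in L* agree and lie in that of M, and Y_L = Y_{L*} ≤ Y_M. If moreover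 Q is not normal in L, then Q is normal in neither L* nor M. -/
theorem result {H : Type*} [Group H] [Finite H] {p : ℕ} [Fact p.Prime] (Q : Subgroup H) (hQp : IsPGroup p ↥Q) (hQ1 : Q ≠ ⊥) (hLg : Cfsg.IsLarge Q) (S : Sylow p H) (hQS : Q ≤ (S : Subgroup H)) (L : Subgroup H) (hSL : (S : Subgroup H) ≤ L) (hL : L ∈ Cfsg.charPSubgroups p H) : ∃ M Ls : Subgroup H, (S : Subgroup H) ≤ M ∧ Cfsg.IsInFrakM p M ∧ (S : Subgroup H) ≤ Ls ∧ Ls ≤ M ∧ Ls ∈ Cfsg.charPSubgroups p H ∧ L ⊔ Subgroup.centralizer (((Cfsg.largestPReducedOf p L) : Subgroup H) : Set H) = Ls ⊔ Subgroup.centralizer (((Cfsg.largestPReducedOf p L) : Subgroup H) : Set H) ∧ Cfsg.weakClosure Q L = Cfsg.weakClosure Q Ls ∧ Cfsg.weakClosure Q Ls ≤ Cfsg.weakClosure Q M ∧ (Cfsg.largestPReducedOf p L) = (Cfsg.largestPReducedOf p Ls) ∧ (Cfsg.largestPReducedOf p Ls) ≤ (Cfsg.largestPReducedOf p M) ∧ (¬ L ≤ Subgroup.normalizer ((Q : Subgroup H) : Set H) → ¬ Ls ≤ Subgroup.normalizer ((Q : Subgroup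 H) : Set H) ∧ ¬ M ≤ Subgroup.normalizer ((Q : Subgroup H) : Set H)) := by
  have hpar : Cfsg.IsOfParabolicCharacteristic p H := by
    rintro R hR hR1 ⟨T, hT⟩
    rw [H47.charP'_iff]
    have hO : Cfsg.pCoreOf p (Subgroup.normalizer (R : Set H)) ≠ ⊥ := by
      intro h
      apply hR1
      rw [eq_bot_iff, ← h]
      exact H47.le_pCoreOf Subgroup.le_normalizer le_rfl hR
    exact inf_le_right.trans (H47.large_parabolic_facts hQp hLg hT hO)
  obtain ⟨M, Ls, h1, h2, h3, h4, h5, h6, h7, h8⟩ := H47.exists_basic hpar S L hSL hL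
  have hS1 : (S : Subgroup H) ≠ ⊥ := fun h => hQ1 (le_bot_iff.1 (h ▸ hQS))
  have hYr := H47.pRed_largestPReducedOf p L
  have hY1 : Cfsg.largestPReducedOf p L ≠ ⊥ := by
    intro h
    have h1 := (H47.pRed_Z1 (p := p) (S : Subgroup H)).ncl_le_largest
      (H47.sylIn_of_sylow S hSL) le_rfl hSL (H47.charP'_of_mem hL)
    have h2 : H47.Z1 p (S : Subgroup H) ≤ ⊥ := h ▸ h1
    exact H47.Z1_ne_bot S.2 hS1 (le_bot_iff.1 h2)
  have hC : Subgroup.centralizer (Cfsg.largestPReducedOf p L : Set H) ≤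
      Subgroup.normalizer (Q : Set H) :=
    H47.IsLarge.centralizer_le hQp hLg hYr.isPGroup hY1 ((hQS.trans hSL).trans hYr.norm)
  have f1 := (H47.large_closure_facts hQp hQ1 hLg (hQS.trans hSL) hYr.isPGroup hY1 hYr.norm).1
  have f2 := (H47.large_closure_facts hQp hQ1 hLg (hQS.trans h3) hYr.isPGroup hY1
    (h6 ▸ (H47.pRed_largestPReducedOf p Ls).norm)).1
  refine ⟨M, Ls, h1, h2, h3, h4, h5, h8, ?_, ?_, h6, h6 ▸ h7, ?_⟩
  · rw [f1, f2, h8]
  · rw [H47.weakClosure_le_iff]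
    intro g hg
    exact H47.le_weakClosure (hg.trans h4)
  · intro hn
    have hn' : ¬ Ls ≤ Subgroup.normalizer (Q : Set H) := by
      intro h
      apply hn
      calc L ≤ L ⊔ Subgroup.centralizer (Cfsg.largestPReducedOf p L : Set H) := le_sup_left
        _ = Ls ⊔ Subgroup.centralizer (Cfsg.largestPReducedOf p L : Set H) := h8
        _ ≤ _ := sup_le h hC
    exact ⟨hn', fun h => hn' (h4.trans h)⟩

end Cfsg.Agent.S2846
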