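import Cfsg.Statements.S2848
import Cfsg.Agent.H47.WC2

set_option autoImplicit false
open Cfsg

namespace Cfsg.Agent.S2848

/-- Standing hypotheses: G a finite group, S a Sylow p-subgroup, Q a nontrivial large p-subgroup of G contained in S (C_G(Q) ≤ Q and N_G(U) ≤ N_G(Q) for all nontrivial U ≤ C_G(Q)), and M a subgroup containing S with the basic property (M ∈ 𝔐_G(S)); Y_M denotes the largest p-reduced normal subgroup of M and M† = M·C_G(Y_M). Then O_p(M) is a weakly closed subgroup of M† (for p): it is the only M†-conjugate of itself inside some Sylow p-subgroup of M† containing it. -/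
theorem result {G : Type*} [Group G] [Finite G] {p : ℕ} [Fact p.Prime] (S : Sylow p G) (Q : Subgroup G) (hQp : IsPGroup p ↥Q) (hQ1 : Q ≠ ⊥) (hQS : Q ≤ (S : Subgroup G)) (hQ : Cfsg.IsLarge Q) (M : Subgroup G) (hSM : (S : Subgroup G) ≤ M) (hM : Cfsg.IsInFrakM p M) : Cfsg.IsWeaklyClosedSubgroup p (((Cfsg.pCoreOf p M)).subgroupOf (M ⊔ Subgroup.centralizer (((Cfsg.largestPReducedOf p M) : Subgroup G) : Set G))) := by
  obtain ⟨hM1, hM2, hM3, hM4, hM5, hM6⟩ := hM
  have hY := H47.pRed_largestPReducedOf (G := G) p M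
  set Y := Cfsg.largestPReducedOf p M with hYdef
  set C := Subgroup.centralizer (Y : Set G) with hC
  set Md := M ⊔ C with hMd
  have hMdY : Md ≤ Subgroup.normalizer (Y : Set G) := sup_le hY.norm (H47.centralizer_le_normalizer Y)
  have hMdC : Md ≤ Subgroup.normalizer (C : Set G) :=
    hMdY.trans (H47.normalizer_le_normalizer_centralizer Y)
  have hSM' := H47.sylIn_of_sylow S (hSM.trans le_sup_left : (S : Subgroup G) ≤ Md)
  have hSC : H47.SylIn p ((S : Subgroup G) ⊓ C) C := hSM'.inf_normal le_sup_right hMdC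
  -- `O_p(M) = S ∩ C`
  have hcore : Cfsg.pCoreOf p M = (S : Subgroup G) ⊓ C := by
    apply le_antisymm
    · exact le_inf (H47.pCoreOf_le_sylIn (H47.sylIn_of_sylow S hSM)) hY.pCoreOf_le_centralizer
    · exact H47.le_pCoreOf_of_isPClosed hM5 inf_le_left
        (H47.le_normalizer_inf Subgroup.le_normalizer (le_sup_left.trans hMdC))
        (inf_le_inf_right _ hSM) (S.2.to_le inf_le_left)
  rw [hcore]
  -- go into the group `Md`
  obtain ⟨P, hP⟩ := hSM'.subgroupOf
  refine ⟨P, ?_, ?_⟩
  · rw [hP]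
    exact Subgroup.comap_mono inf_le_left
  · intro g hg
    rw [hP] at hg
    have h1 : ((((S : Subgroup G) ⊓ C).subgroupOf Md).map (MulAut.conj g).toMonoidHom) ≤
        ((S : Subgroup G) ⊓ C).subgroupOf Md := by
      rintro _ ⟨x, hx, rfl⟩
      refine ⟨hg ⟨x, hx, rfl⟩, ?_⟩
      exact (Subgroup.mem_normalizer_iff.1 (hMdC g.2) _).1 hx.2
    apply Subgroup.eq_of_le_of_card_ge h1
    rw [H47.card_map_conj]

end Cfsg.Agent.S2848
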