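import Cfsg.Statements.S2849
import Cfsg.Agent.H47.WC2

set_option autoImplicit false
open Cfsg

namespace Cfsg.Agent.S2849

/-- Standing hypotheses: G a finite group, S a Sylow p-subgroup, Q a nontrivial large p-subgroup of G contained in S (C_G(Q) ≤ Q and N_G(U) ≤ N_G(Q) for all nontrivial U ≤ C_G(Q)), and M a subgroup containing S with the basic property (M ∈ 𝔐_G(S)); Y_M denotes the largest p-reduced normal subgroup of M and M† = M·C_G(Y_M). Suppose Y_M is asymmetric in G. Then for every subgroup R with Y_M ≤ R ≤ M†, the normal closure of Y_M in N_G(R) is elementary abelian. -/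
theorem result {G : Type*} [Group G] [Finite G] {p : ℕ} [Fact p.Prime] (S : Sylow p G) (Q : Subgroup G) (hQp : IsPGroup p ↥Q) (hQ1 : Q ≠ ⊥) (hQS : Q ≤ (S : Subgroup G)) (hQ : Cfsg.IsLarge Q) (M : Subgroup G) (hSM : (S : Subgroup G) ≤ M) (hM : Cfsg.IsInFrakM p M) (hasym : ¬ Cfsg.IsSymmetricIn (Cfsg.largestPReducedOf p M)) (R : Subgroup G) (hYR : (Cfsg.largestPReducedOf p M) ≤ R) (hRM : R ≤ (M ⊔ Subgroup.centralizer (((Cfsg.largestPReducedOf p M) : Subgroup G) : Set G))) : Cfsg.IsElementaryAbelian p ((Subgroup.normalClosure ((((Cfsg.largestPReducedOf p M)).subgroupOf (Subgroup.normalizer ((R : Subgroup G) : Set G)) : Subgroup ↥(Subgroup.normalizer ((R : Subgroup G) : Set G))) : Set ↥(Subgroup.normalizer ((R : Subgroup G) : Set G)))).map (Subgroup.normalizer ((R : Subgroup G) : Set G)).subtype) := by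
  have hY := H47.pRed_largestPReducedOf (G := G) p M
  set Y := Cfsg.largestPReducedOf p M with hYdef
  set N := Subgroup.normalizer (R : Set G) with hN
  have hRY : R ≤ Subgroup.normalizer (Y : Set G) :=
    hRM.trans (sup_le hY.norm (H47.centralizer_le_normalizer Y))
  have hYN : Y ≤ N := hYR.trans Subgroup.le_normalizer
  rw [H47.ncl_eq_map_normalClosure Y N hYN]
  -- conjugates of `Y` under `N`
  have h1 : ∀ g ∈ N, Y.map (MulAut.conj g).toMonoidHom ≤ R ∧
      R ≤ Subgroup.normalizer ((Y.map (MulAut.conj g).toMonoidHom : Subgroup G) : Set G) := by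
    intro g hg
    refine ⟨?_, ?_⟩
    · rw [← H47.norm_map_conj hg]; exact H47.map_conj_mono hYR
    · rw [H47.normalizer_map_conj]
      conv_lhs => rw [← H47.norm_map_conj hg]
      exact H47.map_conj_mono hRY
  have h2 : ∀ g ∈ N, ⁅Y, Y.map (MulAut.conj g).toMonoidHom⁆ = ⊥ := by
    intro g hg
    by_contra hne
    apply hasym
    refine ⟨g, hne, le_inf ?_ ?_⟩
    · exact Subgroup.le_normalizer_iff_commutator_le_left.1 ((h1 g hg).1.trans hRY)
    · exact Subgroup.le_normalizer_iff_commutator_le_right.1 (hYR.trans (h1 g hg).2)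
  have h3 : ∀ g ∈ N, ∀ x ∈ Y, ∀ h ∈ N, ∀ y ∈ Y,
      (g * x * g⁻¹) * (h * y * h⁻¹) = (h * y * h⁻¹) * (g * x * g⁻¹) := by
    intro g hg x hx h hh y hy
    have h4 := Subgroup.commutator_eq_bot_iff_le_centralizer.1 (h2 (g⁻¹ * h) (mul_mem (inv_mem hg) hh))
    have h5 := (Subgroup.mem_centralizer_iff.1 (h4 hx)) (g⁻¹ * h * y * (g⁻¹ * h)⁻¹) ⟨y, hy, rfl⟩
    have h6 := congrArg (fun z => g * z * g⁻¹) h5
    simp only [mul_assoc, mul_inv_rev, inv_inv, mul_inv_cancel_left, mul_inv_cancel, mul_one] at h6 ⊢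
    exact h6.symm
  set V := H47.ncl Y N with hV
  have hcomm : V ≤ Subgroup.centralizer (V : Set G) := by
    have h4 : V ≤ Subgroup.centralizer {z : G | ∃ g ∈ N, ∃ x ∈ Y, z = g * x * g⁻¹} := by
      rw [hV]; unfold H47.ncl
      rw [Subgroup.closure_le]
      rintro _ ⟨g, hg, x, hx, rfl⟩
      rw [SetLike.mem_coe, Subgroup.mem_centralizer_iff]
      rintro _ ⟨h, hh, y, hy, rfl⟩
      exact h3 h hh y hy g hg x hx
    rw [hV] at h4 ⊢
    unfold H47.ncl at h4 ⊢
    rwa [Subgroup.centralizer_closure]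
  rw [H47.isElementaryAbelian_iff]
  refine ⟨fun a ha b hb => ((Subgroup.mem_centralizer_iff.1 (hcomm ha)) b hb).symm, ?_⟩
  have hVc : ∀ a ∈ V, ∀ b ∈ V, a * b = b * a := fun a ha b hb =>
    ((Subgroup.mem_centralizer_iff.1 (hcomm ha)) b hb).symm
  intro a ha
  have ha' := ha
  rw [hV] at ha
  unfold H47.ncl at ha
  induction ha using Subgroup.closure_induction with
  | mem z hz =>
    obtain ⟨g, hg, x, hx, rfl⟩ := hz
    rw [conj_pow, hY.el.2 x hx, mul_one, mul_inv_cancel]
  | one => simp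
  | mul a b ha hb iha ihb =>
    have hc : Commute a b := hVc a ha b hb
    rw [hc.mul_pow, iha ha, ihb hb, one_mul]
  | inv a ha iha => rw [inv_pow, iha ha, inv_one]

end Cfsg.Agent.S2849
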