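import Cfsg.Statements.S2850
import Cfsg.Agent.H47.Asym

set_option autoImplicit false
open Cfsg

namespace Cfsg.Agent.S2850

open Subgroup in
open scoped commutatorElement in
theorem aux4 {G : Type*} [Group G] [Finite G] {p : ℕ} [Fact p.Prime] {P Y M : Subgroup G}
    (hw : H47.WCl p P) (hPY : P ≤ centralizer (Y : Set G))
    (hNP : normalizer (P : Set G) ≤ M ⊔ centralizer (Y : Set G))
    (hMY : M ≤ normalizer (Y : Set G))
    (x : G) (hx : x ∈ Y) (g : G) (hg : g * x * g⁻¹ ∈ Y) : ∃ m ∈ M, m * x * m⁻¹ = g * x * g⁻¹ := by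
  set y := g * x * g⁻¹ with hy
  have h1 : P ≤ centralizer ({y} : Set G) := by
    intro a ha
    rw [mem_centralizer_singleton_iff]
    exact (((mem_centralizer_iff.1 (hPY ha)) y hg)).symm
  have h2 : P.map (MulAut.conj g).toMonoidHom ≤ centralizer ({y} : Set G) := by
    rintro _ ⟨a, ha, rfl⟩
    have h3 := (mem_centralizer_iff.1 (hPY ha)) x hx
    rw [mem_centralizer_singleton_iff]
    simp only [MulEquiv.coe_toMonoidHom, MulAut.conj_apply]
    calc g * a * g⁻¹ * y = g * (a * x) * g⁻¹ := by rw [hy]; group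
      _ = g * (x * a) * g⁻¹ := by rw [h3]
      _ = y * (g * a * g⁻¹) := by rw [hy]; group
  obtain ⟨c, hc, hcP⟩ := hw.conj_in h1 h2
  rw [H47.map_conj_eq_map_conj_iff] at hcP
  obtain ⟨m, hm, d, hd, hmd⟩ := (H47.mem_sup_of_le_normalizer
    (hMY.trans (H47.normalizer_le_normalizer_centralizer Y))).1 (hNP hcP)
  refine ⟨m, hm, ?_⟩
  have h3 : c * y = y * c := mem_centralizer_singleton_iff.1 hc
  have h4 : x * d = d * x := (mem_centralizer_iff.1 hd) x hx
  have h5 : m = c⁻¹ * g * d⁻¹ := by rw [← hmd]; group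
  calc m * x * m⁻¹ = c⁻¹ * g * (d⁻¹ * (x * d)) * g⁻¹ * c := by rw [h5]; group
    _ = c⁻¹ * y * c := by rw [h4, hy]; group
    _ = c⁻¹ * (y * c) := by group
    _ = y := by rw [← h3]; group


/-- Standing hypotheses: G a finite group, S a Sylow p-subgroup, Q a nontrivial large p-subgroup of G contained in S (C_G(Q) ≤ Q and N_G(U) ≤ N_G(Q) for all nontrivial U ≤ C_G(Q)), and M a subgroup containing S with the basic property (M ∈ 𝔐_G(S)); Y_M denotes the largest p-reduced normal subgroup of M and M† = M·C_G(Y_M). Suppose Y_M is asymmetric in G. Then N_G(L) ≤ N_G(O_p(M)) ≤ M† for every p-subgroup L containing O_p(M); O_p(M) is a weakly closed subgroup of G; for every subgroup L containing O_p(M), L ∩ M† contains a Sylow p-subgroup of L; and two elements of Y_M conjugate in G are conjugate in M. -/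
theorem result {G : Type*} [Group G] [Finite G] {p : ℕ} [Fact p.Prime] (S : Sylow p G) (Q : Subgroup G) (hQp : IsPGroup p ↥Q) (hQ1 : Q ≠ ⊥) (hQS : Q ≤ (S : Subgroup G)) (hQ : Cfsg.IsLarge Q) (M : Subgroup G) (hSM : (S : Subgroup G) ≤ M) (hM : Cfsg.IsInFrakM p M) (hasym : ¬ Cfsg.IsSymmetricIn (Cfsg.largestPReducedOf p M)) : (∀ L : Subgroup G, IsPGroup p ↥L → (Cfsg.pCoreOf p M) ≤ L → Subgroup.normalizer ((L : Subgroup G) : Set G) ≤ Subgroup.normalizer (((Cfsg.pCoreOf p M) : Subgroup G) : Set G) ∧ Subgroup.normalizer (((Cfsg.pCoreOf p M) : Subgroup G) : Set G) ≤ (M ⊔ Subgroup.centralizer (((Cfsg.largestPReducedOf p M) : Subgroup G) : Set G))) ∧ Cfsg.IsWeaklyClosedSubgroup p (Cfsg.pCoreOf p M) ∧ (∀ L : Subgroup G, (Cfsg.pCoreOf p M) ≤ L → Cfsg.IsParabolic p ((L ⊓ (M ⊔ Subgroup.centralizer (((Cfsg.largestPReducedOf p M) : Subgroup G) : Set G))).subgroupOf L)) ∧ (∀ x ∈ (Cfsg.largestPReducedOf p M), ∀ g : G, g * x * g⁻¹ ∈ (Cfsg.largestPReducedOf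 p M) → ∃ m ∈ M, m * x * m⁻¹ = g * x * g⁻¹) := by
  obtain ⟨h1, h2⟩ := H47.asym_facts hQp hQ hSM hM hasym
  have hPp : IsPGroup p ↥(Cfsg.pCoreOf p M) := H47.pCoreOf_isPGroup p M
  have hw : H47.WCl p (Cfsg.pCoreOf p M) := H47.WCl.of_normalizer_le hPp h1
  have hred := H47.pRed_largestPReducedOf p M
  refine ⟨fun L hL hPL => ⟨h1 L hL hPL, h2⟩, H47.isWeaklyClosedSubgroup_iff.2 hw, ?_, ?_⟩
  · intro L hPL
    obtain ⟨T, hT, hPT⟩ := H47.SylIn.exists_of_le hPL hPp
    have h3 : T ≤ M ⊔ Subgroup.centralizer ((Cfsg.largestPReducedOf p M : Subgroup G) : Set G) :=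
      (Subgroup.le_normalizer.trans (h1 T hT.isPGroup hPT)).trans h2
    obtain ⟨R, rfl⟩ := hT
    refine ⟨R, ?_⟩
    intro x hx
    have h4 : (x : G) ∈ (R : Subgroup ↥L).map L.subtype := ⟨x, hx, rfl⟩
    exact Subgroup.mem_inf.2 ⟨x.2, h3 h4⟩
  · intro x hx g hg
    exact aux4 hw hred.pCoreOf_le_centralizer h2 hred.norm x hx g hg

end Cfsg.Agent.S2850
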