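import Cfsg.Statements.S2851
import Cfsg.Agent.H48.Asym2
import Cfsg.Agent.H48.Bar
import Cfsg.Agent.FStar.Layer

set_option autoImplicit false
open Cfsg Subgroup Cfsg.Agent.H47 Cfsg.Agent.H48

namespace Cfsg.Agent.S2851

/-- Standing hypotheses: G a finite group, S a Sylow p-subgroup, Q a nontrivial large p-subgroup of G contained in S, M a subgroup containing S with the basic property (M ∈ 𝔐_G(S)); Y_M the largest p-reduced normal subgroup of M and M† = M·C_G(Y_M). Let F be the preimage in M† of the generalized Fitting subgroup of M†/C_{M†}(Y_M). If Y_M is asymmetric in G and H is a subgroup of characteristic p containing F, then Y_M ≤ Y_H. -/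
theorem result {G : Type*} [Group G] [Finite G] {p : ℕ} [Fact p.Prime] (S : Sylow p G) (Q : Subgroup G) (hQp : IsPGroup p ↥Q) (hQ1 : Q ≠ ⊥) (hQS : Q ≤ (S : Subgroup G)) (hQ : Cfsg.IsLarge Q) (M : Subgroup G) (hSM : (S : Subgroup G) ≤ M) (hM : Cfsg.IsInFrakM p M) (hasym : ¬ Cfsg.IsSymmetricIn (Cfsg.largestPReducedOf p M)) [hn : ((Subgroup.centralizer (((Cfsg.largestPReducedOf p M) : Subgroup G) : Set G)).subgroupOf (M ⊔ Subgroup.centralizer (((Cfsg.largestPReducedOf p M) : Subgroup G) : Set G))).Normal] (F : Subgroup G) (hF : F = ((Cfsg.generalizedFittingSubgroup (↥(M ⊔ Subgroup.centralizer (((Cfsg.largestPReducedOf p M) : Subgroup G) : Set G)) ⧸ (Subgroup.centralizer (((Cfsg.largestPReducedOf p M) : Subgroup G) : Set G)).subgroupOf (M ⊔ Subgroup.centralizer (((Cfsg.largestPReducedOf p M) : Subgroup G) : Set G)))).comap (QuotientGroup.mk' ((Subgroup.centralizer (((Cfsg.largestPReducedOf p M) : Subgroup G) : Set G)).subgroupOf (M ⊔ Subgroup.centralizer (((Cfsg.largestPReducedOf p M) : Subgroup G) : Set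 G))))).map ((M ⊔ Subgroup.centralizer (((Cfsg.largestPReducedOf p M) : Subgroup G) : Set G))).subtype) (H : Subgroup G) (hFH : F ≤ H) (hH : Subgroup.centralizer (Cfsg.pCore p ↥H : Set ↥H) ≤ Cfsg.pCore p ↥H) : (Cfsg.largestPReducedOf p M) ≤ Cfsg.largestPReducedOf p H := by
  have h := ASetup.of hQp hQ hSM hM hasym
  have hH' : CharP' p H := charP'_iff.1 hH
  set Y := Cfsg.largestPReducedOf p M with hY
  set P := pCoreOf p M with hP
  set C := Subgroup.centralizer (Y : Set G) with hC
  set M' := M ⊔ C with hM'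
  have hred' : PRed p Y M' := by
    have h1 := pRed_largestPReducedOf p M'
    rwa [← hM.2.2.2.1] at h1
  have hCM' : C ≤ M' := le_sup_right
  have hNmap : (C.subgroupOf M').map M'.subtype = C := map_subgroupOf_eq_of_le hCM'
  set Fb := Cfsg.generalizedFittingSubgroup (↥M' ⧸ C.subgroupOf M') with hFb
  have hFM' : F ≤ M' := by rw [hF]; exact Subgroup.map_subtype_le _
  have hFsub : F.subgroupOf M' = Fb.comap (QuotientGroup.mk' (C.subgroupOf M')) := by
    apply Subgroup.map_injective M'.subtype_injective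
    rw [map_subgroupOf_eq_of_le hFM', hF]
  have hbF : bar M' (C.subgroupOf M') F = Fb := by
    unfold bar
    rw [hFsub, Subgroup.map_comap_eq_self_of_surjective (QuotientGroup.mk'_surjective _)]
  have hCF : C ≤ F := by
    intro c hc
    have h1 : (⟨c, hCM' hc⟩ : M') ∈ F.subgroupOf M' := by
      rw [hFsub, mem_comap]
      have : QuotientGroup.mk' (C.subgroupOf M') (⟨c, hCM' hc⟩ : M') = 1 :=
        (QuotientGroup.eq_one_iff _).2 hc
      rw [this]
      exact one_mem _
    exact h1
  have hYF : Y ≤ F := (h.le.trans h.cen).trans hCF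
  have hM'Y : M' ≤ normalizer (Y : Set G) := dagger_le_normalizer M
  -- no normal p-subgroups in the quotient
  have hbot : pCoreOf p Fb = ⊥ := by
    set D := pCoreOf p Fb with hD
    set K := (D.comap (QuotientGroup.mk' (C.subgroupOf M'))).map M'.subtype with hK
    have hKM : K ≤ M' := Subgroup.map_subtype_le _
    have hKsub : K.subgroupOf M' = D.comap (QuotientGroup.mk' (C.subgroupOf M')) := by
      apply Subgroup.map_injective M'.subtype_injective
      rw [map_subgroupOf_eq_of_le hKM]
    have hbK : bar M' (C.subgroupOf M') K = D := by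
      unfold bar
      rw [hKsub, Subgroup.map_comap_eq_self_of_surjective (QuotientGroup.mk'_surjective _)]
    have hFbn : Fb.Normal := inferInstance
    have hDn : D.Normal := by
      rw [← normalizer_eq_top_iff, eq_top_iff]
      exact le_normalizer_pCoreOf_of_le (by rw [normalizer_eq_top_iff.2 hFbn])
    have hKn : M' ≤ normalizer (K : Set G) := by
      have h1 : (K.subgroupOf M').Normal := by rw [hKsub]; exact hDn.comap _
      exact (normal_subgroupOf_iff_le_normalizer hKM).1 h1
    have hDp : IsPGroup p D := pCoreOf_isPGroup p Fb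
    have h2 : K ≤ C := by
      apply hred'.2.2.2 K hKM hKn
      intro x hx
      have hx' : (QuotientGroup.mk' (C.subgroupOf M')) ⟨x, hKM hx⟩ ∈ D := by
        have : (⟨x, hKM hx⟩ : M') ∈ K.subgroupOf M' := hx
        rw [hKsub] at this
        exact this
      obtain ⟨k, hk⟩ := isPGroup_iff_mem.1 hDp _ hx'
      refine ⟨k, ?_⟩
      rw [← map_pow] at hk
      have h3 : (⟨x, hKM hx⟩ ^ p ^ k : M') ∈ C.subgroupOf M' := (QuotientGroup.eq_one_iff _).1 hk
      exact h3
    rw [← hbK, bar_eq_bot_iff hKM, hNmap]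
    exact h2
  have hredL : PRed p Y (H ⊓ M') := by
    refine ⟨le_inf (hYF.trans hFH) (hYF.trans hFM'), inf_le_right.trans hM'Y, h.el, ?_⟩
    intro N hN hNn hNp
    have hNM : N ≤ M' := hN.trans inf_le_right
    set Nb := bar M' (C.subgroupOf M') N with hNb
    have hFbn : Fb.Normal := inferInstance
    have hNbp : IsPGroup p Nb := by
      rw [isPGroup_iff_mem]
      rintro _ ⟨n, hn, rfl⟩
      obtain ⟨k, hk⟩ := hNp n hn
      refine ⟨k, ?_⟩
      rw [← map_pow]
      exact (QuotientGroup.eq_one_iff _).2 hk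
    have h1 : Fb ≤ normalizer (Nb : Set (M' ⧸ C.subgroupOf M')) := by
      rw [le_normalizer_iff_commutator_le_right, ← hbF, hNb, ← bar_commutator hFM' hNM]
      apply bar_mono
      rw [← le_normalizer_iff_commutator_le_right]
      exact (le_inf hFH hFM').trans hNn
    have h2 : Nb ⊓ Fb ≤ ⊥ := by
      rw [← hbot]
      exact le_pCoreOf inf_le_right (le_normalizer_inf h1 Subgroup.le_normalizer)
        (hNbp.to_le inf_le_left)
    have h3 : ⁅Nb, Fb⁆ = ⊥ := by
      rw [eq_bot_iff]
      refine le_trans (le_inf ?_ (commutator_le_right _ _)) h2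
      exact le_normalizer_iff_commutator_le_left.1 h1
    rw [commutator_eq_bot_iff_le_centralizer] at h3
    have h4 : Nb ≤ Fb := h3.trans FStar.centralizer_generalizedFitting_le
    have h5 : Nb = ⊥ := le_bot_iff.1 ((le_inf le_rfl h4).trans h2)
    rw [hNb, bar_eq_bot_iff hNM, hNmap] at h5
    exact h5
  obtain ⟨T, hT, hPT⟩ := SylIn.exists_of_le (((h.cen).trans hCF).trans hFH) h.pg
  obtain ⟨-, h2⟩ := asym_facts hQp hQ hSM hM hasym
  have hTR : T ≤ H ⊓ M' := le_inf hT.le ((h.syl_le hT.isPGroup hPT).trans h2)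
  exact hredL.ncl_le_largest hT hTR inf_le_left hH'

end Cfsg.Agent.S2851
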