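import Cfsg.Statements.S2852
import Cfsg.Agent.H48.Asym2
import Cfsg.Agent.H48.Parab

set_option autoImplicit false
open Cfsg Subgroup Cfsg.Agent.H47 Cfsg.Agent.H48

namespace Cfsg.Agent.S2852

/-- Standing hypotheses: G a finite group, S a Sylow p-subgroup, Q a nontrivial large p-subgroup of G contained in S, M a subgroup containing S with the basic property (M ∈ 𝔐_G(S)); Y_M the largest p-reduced normal subgroup of M. If Y_M is char-p-tall and asymmetric in G, then some subgroup H of G lies in ℌ_G(O_p(M)): H has characteristic p, O_p(M) ≤ H, Y_M ≰ O_p(H), and Y_M ≤ O_p(P) for every proper subgroup P of H containing O_p(M). -/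
theorem result {G : Type*} [Group G] [Finite G] {p : ℕ} [Fact p.Prime] (S : Sylow p G) (Q : Subgroup G) (hQp : IsPGroup p ↥Q) (hQ1 : Q ≠ ⊥) (hQS : Q ≤ (S : Subgroup G)) (hQ : Cfsg.IsLarge Q) (M : Subgroup G) (hSM : (S : Subgroup G) ≤ M) (hM : Cfsg.IsInFrakM p M) (htall : Cfsg.IsCharPTall p (Cfsg.largestPReducedOf p M)) (hasym : ¬ Cfsg.IsSymmetricIn (Cfsg.largestPReducedOf p M)) : ∃ H : Subgroup G, Cfsg.IsInFrakH p M H := by
  have h := ASetup.of hQp hQ hSM hM hasym
  set Y := Cfsg.largestPReducedOf p M with hY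
  set P := pCoreOf p M with hP
  obtain ⟨T, L, hTL, hLc, hYL⟩ := htall
  have hT : SylIn p ((T : Subgroup ↥(Subgroup.centralizer (Y : Set G))).map
    (Subgroup.centralizer (Y : Set G)).subtype) (centralizer (Y : Set G)) := ⟨T, rfl⟩
  obtain ⟨c, hc, hcP⟩ := hT.conj h.syl
  have hcY : Y.map (MulAut.conj c).toMonoidHom = Y := norm_map_conj (centralizer_le_normalizer Y hc)
  obtain ⟨H, -, hH⟩ := h.exists_hSet (L := L.map (MulAut.conj c).toMonoidHom)
    (CharP'.map_conj (charP'_iff.1 hLc) c) (by rw [← hcP]; exact map_conj_mono hTL) (by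
      intro h1
      apply hYL
      rw [pCoreOf_map_conj, ← hcY] at h1
      exact (Subgroup.map_le_map_iff_of_injective (MulAut.conj c).injective).1 h1)
  exact ⟨H, isInFrakH_iff.2 hH⟩

end Cfsg.Agent.S2852
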