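import Cfsg.Statements.S2853
import Cfsg.Agent.H48.Asym2

set_option autoImplicit false
open Cfsg Subgroup Cfsg.Agent.H47 Cfsg.Agent.H48

namespace Cfsg.Agent.S2853

/-- Standing hypotheses: G a finite group, S a Sylow p-subgroup, Q a nontrivial large p-subgroup of G contained in S, M a subgroup containing S with the basic property (M ∈ 𝔐_G(S)); Y_M the largest p-reduced normal subgroup of M and M† = M·C_G(Y_M). Suppose Y_M is char-p-tall and asymmetric in G and H ∈ ℌ_G(O_p(M)). Then every Sylow p-subgroup of H ∩ M† is a Sylow p-subgroup of H; O_p(H) normalizes O_p(M) and Y_M; O^p(H) = [O^p(H), Y_M] and H = O^p(H)·O_p(M); O^p(H)·Y_M is the normal closure of Y_M in H; and H is the normal closure of O_p(M) in H. Here O^p(H) is the subgroup generated by the elements of H of order prime to p. -/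
theorem result {G : Type*} [Group G] [Finite G] {p : ℕ} [Fact p.Prime] (S : Sylow p G) (Q : Subgroup G) (hQp : IsPGroup p ↥Q) (hQ1 : Q ≠ ⊥) (hQS : Q ≤ (S : Subgroup G)) (hQ : Cfsg.IsLarge Q) (M : Subgroup G) (hSM : (S : Subgroup G) ≤ M) (hM : Cfsg.IsInFrakM p M) (htall : Cfsg.IsCharPTall p (Cfsg.largestPReducedOf p M)) (hasym : ¬ Cfsg.IsSymmetricIn (Cfsg.largestPReducedOf p M)) (H : Subgroup G) (hH : Cfsg.IsInFrakH p M H) (R : Subgroup G) (hR : R = (Cfsg.pResidual p ↥H).map H.subtype) : (∀ T : Sylow p ↥(H ⊓ (M ⊔ Subgroup.centralizer (((Cfsg.largestPReducedOf p M) : Subgroup G) : Set G))), ∃ P : Sylow p ↥H, ((P : Subgroup ↥H).map H.subtype) = (T : Subgroup ↥(H ⊓ (M ⊔ Subgroup.centralizer (((Cfsg.largestPReducedOf p M) : Subgroup G) : Set G)))).map (H ⊓ (M ⊔ Subgroup.centralizer (((Cfsg.largestPReducedOf p M) : Subgroup G) : Set G))).subtype) ∧ Cfsg.pCoreOf p H ≤ Subgroup.normalizer (((Cfsg.pCoreOf p M) : Subgroup G) : Set G) ⊓ Subgroup.normalizer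 (((Cfsg.largestPReducedOf p M) : Subgroup G) : Set G) ∧ ⁅R, (Cfsg.largestPReducedOf p M)⁆ = R ∧ R ⊔ (Cfsg.pCoreOf p M) = H ∧ R ⊔ (Cfsg.largestPReducedOf p M) = (Subgroup.normalClosure ((((Cfsg.largestPReducedOf p M)).subgroupOf H : Subgroup ↥H) : Set ↥H)).map H.subtype ∧ (Subgroup.normalClosure ((((Cfsg.pCoreOf p M)).subgroupOf H : Subgroup ↥H) : Set ↥H)).map H.subtype = H := by
  have h := ASetup.of hQp hQ hSM hM hasym
  obtain ⟨-, h2⟩ := asym_facts hQp hQ hSM hM hasym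
  have hH' := isInFrakH_iff.1 hH
  set Y := Cfsg.largestPReducedOf p M with hY
  set P := pCoreOf p M with hP
  obtain ⟨h3, h4, h5⟩ := h.facts hH'
  have hR' : R = pRes p H := hR
  refine ⟨?_, le_inf (h.core_le hH'.le) ((h.core_le hH'.le).trans h.norm'), ?_, ?_, ?_, ?_⟩
  · intro T
    have hT : SylIn p ((T : Subgroup ↥(H ⊓ (M ⊔ Subgroup.centralizer (Y : Set G)))).map
      (H ⊓ (M ⊔ Subgroup.centralizer (Y : Set G))).subtype) (H ⊓ (M ⊔ Subgroup.centralizer (Y : Set G))) :=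
      ⟨T, rfl⟩
    obtain ⟨P', hP'⟩ := h.sylIn_of_inf hH'.le h2 hT
    exact ⟨P', hP'⟩
  · rw [hR']; exact h3
  · rw [hR']; exact h4
  · rw [hR', h5]
    exact (ncl_eq_map_normalClosure Y H (h.le.trans hH'.le)).symm
  · rw [ncl_eq_map_normalClosure P H hH'.le]
    exact hH'.ncl_eq

end Cfsg.Agent.S2853
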