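import Cfsg.Statements.S2859
import Cfsg.Agent.H48.WClo

set_option autoImplicit false
open Cfsg Subgroup Cfsg.Agent.H47 Cfsg.Agent.H48

namespace Cfsg.Agent.S2859

section
variable {G : Type*} [Group G] [Finite G] {p : ℕ} [Fact p.Prime]

theorem commutator_sup_le' {A B X : Subgroup G} (h : B ≤ cmod A X) : ⁅A, B⁆ ≤ X :=
  commutator_le_of_le_cmod h

/-- the basic configuration -/
theorem side (Q : Subgroup G) (hQp : IsPGroup p ↥Q) (hw : WCl p Q) (Hc : Subgroup G)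
    (hQH : Q ≤ Hc) (H₁ H₂ : Subgroup G) (hn₁ : H₁ ≤ Hc) (hn₁' : Hc ≤ normalizer (H₁ : Set G))
    (hn₂ : H₂ ≤ Hc) (hn₂' : Hc ≤ normalizer (H₂ : Set G)) (hprod : H₁ ⊔ H₂ = Hc)
    (hD : ⁅⁅H₁, H₂⁆, Hc⁆ ≤ pCoreOf p Hc) (K₁ : Subgroup G)
    (hK₁ : K₁ = pRes p (weakClosure Q (H₁ ⊔ Q))) :
    ⁅K₁, Q⁆ = K₁ ∧ ⁅K₁, H₁⁆ = K₁ ∧ K₁ ≤ ⁅H₁, H₁⁆ ∧ Hc ≤ normalizer (K₁ : Set G) ∧
      ⁅K₁, H₂⁆ ≤ pCoreOf p Hc ∧ Q ⊔ K₁ = weakClosure Q (H₁ ⊔ Q) := by
  set O := pCoreOf p Hc with hO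
  set W := weakClosure Q (H₁ ⊔ Q) with hW
  set D := ⁅H₁, H₂⁆ with hDdef
  have hHO : Hc ≤ normalizer (O : Set G) := le_normalizer_pCoreOf p Hc
  have hQW : Q ≤ W := self_le_weakClosure le_sup_right
  have hncl : ncl Q W = W := ncl_weakClosure hw le_sup_right
  have h1 : ⁅K₁, Q⁆ = K₁ := by rw [hK₁]; exact commutator_pRes_of_ncl hQp hQW hncl
  have h2 : Q ⊔ K₁ = W := by rw [hK₁]; exact sup_pRes_of_ncl hQW hncl
  have hQn₁ : Q ≤ normalizer (H₁ : Set G) := hQH.trans hn₁'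
  have hQne : Q ≤ normalizer ((⁅H₁, Q⁆ : Subgroup G) : Set G) := normalizer_commutator_ge_right _ _
  have hHne : H₁ ≤ normalizer ((⁅H₁, Q⁆ : Subgroup G) : Set G) := normalizer_commutator_ge_left _ _
  have hWle : W ≤ Q ⊔ ⁅H₁, Q⁆ := by
    rw [hW, hw.weakClosure_eq_ncl le_sup_right]
    apply ncl_le le_sup_left
    apply sup_le _ (le_sup_left.trans le_normalizer)
    rw [le_normalizer_iff_commutator_le_right]
    refine (commutator_sup_le' (sup_le ?_ ?_)).trans le_sup_right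
    · exact le_cmod_iff.2 ⟨hQne, le_rfl⟩
    · exact le_cmod_iff.2 ⟨le_normalizer, le_normalizer_iff_commutator_le_right.1 hHne⟩
  have hK₁c : K₁ ≤ ⁅H₁, Q⁆ := by
    rw [hK₁]
    refine (pRes_mono hWle).trans ?_
    rw [pRes_sup_of_isPGroup hQp hQne]
    exact pRes_le _ _
  have hK₁H₁ : K₁ ≤ H₁ := hK₁c.trans (le_normalizer_iff_commutator_le_left.1 hQn₁)
  have hcW : ⁅H₁, Q⁆ ≤ W := by
    rw [commutator_le]
    intro h hh q hq
    rw [commutatorElement_def]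
    have hHW : H₁ ⊔ Q ≤ normalizer (W : Set G) := Subgroup.le_normalizer.trans le_normalizer_weakClosure
    exact mul_mem ((mem_normalizer_iff.1 (hHW (mem_sup_left hh)) q).1 (hQW hq)) (inv_mem (hQW hq))
  have hHK : H₁ ≤ normalizer (K₁ : Set G) := by
    rw [hK₁]
    exact normalizer_le_normalizer_pRes
      (le_sup_left.trans (Subgroup.le_normalizer.trans le_normalizer_weakClosure))
  have hDn : Hc ≤ normalizer (D : Set G) := le_normalizer_commutator hn₁' hn₂'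
  have hDH : D ≤ Hc := (le_normalizer_iff_commutator_le_left.1 (hn₂.trans hn₁')).trans hn₁
  have hDle₁ : D ≤ H₁ := le_normalizer_iff_commutator_le_left.1 (hn₂.trans hn₁')
  -- K₁ ≤ H₁' D
  have h3 : K₁ ≤ ⁅H₁, H₁⁆ ⊔ D := by
    rw [← h1]
    refine (commutator_mono hK₁H₁ (hQH.trans hprod.ge)).trans ?_
    apply commutator_sup_le'
    have hn : Hc ≤ normalizer ((⁅H₁, H₁⁆ ⊔ D : Subgroup G) : Set G) :=
      le_normalizer_sup (le_normalizer_commutator hn₁' hn₁') hDn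
    exact sup_le (le_cmod_iff.2 ⟨hn₁.trans hn, le_sup_left⟩) (le_cmod_iff.2 ⟨hn₂.trans hn, le_sup_right⟩)
  have h4 : ⁅⁅H₁, H₁⁆, H₂⁆ ≤ O := by
    apply three_subgroups_rel (hn₁.trans hHO) (hn₁.trans hHO) (hn₂.trans hHO)
    · exact (commutator_mono le_rfl hn₁).trans hD
    · rw [commutator_comm H₂]
      exact (commutator_mono le_rfl hn₁).trans hD
  have h5 : ⁅K₁, H₂⁆ ≤ O := by
    rw [commutator_comm]
    refine (commutator_mono le_rfl h3).trans (commutator_sup_le' (sup_le ?_ ?_))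
    · refine le_cmod_iff.2 ⟨?_, by rwa [commutator_comm]⟩
      exact (((commutator_mono le_rfl le_rfl).trans (le_normalizer_iff_commutator_le_left.1
        le_normalizer)).trans hn₁).trans hHO
    · refine le_cmod_iff.2 ⟨hDH.trans hHO, ?_⟩
      rw [commutator_comm]
      exact (commutator_mono le_rfl hn₂).trans hD
  have hOp : IsPGroup p O := pCoreOf_isPGroup p Hc
  have hOH : O ≤ Hc := pCoreOf_le p Hc
  have hOQ : O ≤ normalizer (Q : Set G) := by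
    have h6 : IsPGroup p ↥(Q ⊔ O) := hQp.to_sup_of_normal_right' hOp (hQH.trans hHO)
    exact le_sup_right.trans (hw.le_normalizer h6 le_sup_left)
  have hOK : O ≤ normalizer (K₁ : Set G) := by
    rw [hK₁]
    apply normalizer_le_normalizer_pRes
    refine le_trans ?_ le_normalizer_weakClosure
    exact le_normalizer_sup (hOH.trans hn₁') hOQ
  have h7 : pRes p (O ⊔ K₁) = K₁ := by
    rw [pRes_sup_of_isPGroup hOp hOK, hK₁, pRes_pRes]
  have h8 : H₂ ≤ normalizer (K₁ : Set G) := by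
    have h9 : H₂ ≤ normalizer ((O ⊔ K₁ : Subgroup G) : Set G) := by
      rw [le_normalizer_iff_commutator_le_right, commutator_comm]
      refine (commutator_le_of_le_cmod (W := O) ?_).trans le_sup_left
      refine le_cmod_sup (le_cmod_self (hn₂.trans hHO)) (le_cmod_iff.2 ⟨hn₂.trans hHO, h5⟩) hOK
        Subgroup.le_normalizer
    have h10 := normalizer_le_normalizer_pRes (p := p) h9
    rwa [h7] at h10
  have h11 : Hc ≤ normalizer (K₁ : Set G) := by rw [← hprod]; exact sup_le hHK h8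
  have h12 : ⁅K₁, H₁⁆ ≤ K₁ := le_normalizer_iff_commutator_le_left.1 hHK
  have hOn : O ≤ normalizer ((⁅K₁, H₁⁆ : Subgroup G) : Set G) :=
    le_normalizer_commutator hOK (hOH.trans hn₁')
  have h13 : K₁ ≤ O ⊔ ⁅K₁, H₁⁆ := by
    conv_lhs => rw [← h1]
    refine (commutator_mono le_rfl (hQH.trans hprod.ge)).trans ?_
    apply commutator_sup_le'
    have hn : Hc ≤ normalizer ((O ⊔ ⁅K₁, H₁⁆ : Subgroup G) : Set G) :=
      le_normalizer_sup hHO (le_normalizer_commutator h11 hn₁')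
    exact sup_le (le_cmod_iff.2 ⟨hn₁.trans hn, le_sup_right⟩)
      (le_cmod_iff.2 ⟨hn₂.trans hn, h5.trans le_sup_left⟩)
  have h14 : ⁅K₁, H₁⁆ = K₁ := by
    apply le_antisymm h12
    have h15 : pRes p K₁ = K₁ := by rw [hK₁, pRes_pRes]
    rw [← h15]
    conv_rhs => rw [h15]
    refine (pRes_mono h13).trans ?_
    rw [pRes_sup_of_isPGroup hOp hOn]
    exact pRes_le _ _
  refine ⟨h1, h14, ?_, h11, h5, h2⟩
  conv_lhs => rw [← h14]
  exact commutator_mono hK₁H₁ le_rfl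
end

/-- Let Q be a nontrivial p-subgroup of the finite group H that is a weakly closed subgroup, H° the weak closure of Q in H (generated by the conjugates of Q) and H_∘ = O^p(H°). Suppose H₁, H₂ are normal subgroups of H° with H° = H₁H₂ and [H₁, H₂] ≤ N_H(Q), and put Kᵢ = O^p of the weak closure of Q in HᵢQ. Then for i = 1, 2: Kᵢ = [Kᵢ, Q] = [Kᵢ, Hᵢ] ≤ Hᵢ′ and Kᵢ is normal in H°; H_∘ = K₁K₂; and [K₁, K₂] ≤ O_p(H°). -/
theorem result {G : Type*} [Group G] [Finite G] {p : ℕ} [Fact p.Prime] (Q : Subgroup G) (hQp : IsPGroup p ↥Q) (hQ1 : Q ≠ ⊥) (hwc : Cfsg.IsWeaklyClosedSubgroup p Q) (Hc : Subgroup G) (hHc : Hc = Cfsg.weakClosure Q ⊤) (H₁ H₂ : Subgroup G) (hn₁ : H₁ ≤ Hc ∧ Hc ≤ Subgroup.normalizer ((H₁ : Subgroup G) : Set G)) (hn₂ : H₂ ≤ Hc ∧ Hc ≤ Subgroup.normalizer ((H₂ : Subgroup G) : Set G)) (hprod : H₁ ⊔ H₂ = Hc) (hcomm : ⁅H₁, H₂⁆ ≤ Subgroup.normalizer ((Q : Subgroup G) : Set G)) (K₁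 K₂ : Subgroup G) (hK₁ : K₁ = ((Cfsg.pResidual p ↥(Cfsg.weakClosure Q (H₁ ⊔ Q))).map ((Cfsg.weakClosure Q (H₁ ⊔ Q))).subtype)) (hK₂ : K₂ = ((Cfsg.pResidual p ↥(Cfsg.weakClosure Q (H₂ ⊔ Q))).map ((Cfsg.weakClosure Q (H₂ ⊔ Q))).subtype)) : (⁅K₁, Q⁆ = K₁ ∧ ⁅K₁, H₁⁆ = K₁ ∧ K₁ ≤ ⁅H₁, H₁⁆ ∧ Hc ≤ Subgroup.normalizer ((K₁ : Subgroup G) : Set G)) ∧ (⁅K₂, Q⁆ = K₂ ∧ ⁅K₂, H₂⁆ = K₂ ∧ K₂ ≤ ⁅H₂, H₂⁆ ∧ Hc ≤ Subgroup.normalizer ((K₂ : Subgroup G) : Set G)) ∧ K₁ ⊔ K₂ = ((Cfsg.pResidual p ↥Hc).map (Hc).subtype) ∧ ⁅K₁, K₂⁆ ≤ (Cfsg.pCoreOf p Hc) := by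
  have hw : WCl p Q := isWeaklyClosedSubgroup_iff.1 hwc
  have hQH : Q ≤ Hc := by rw [hHc]; exact self_le_weakClosure le_top
  have hHO : Hc ≤ normalizer (pCoreOf p Hc : Set G) := le_normalizer_pCoreOf p Hc
  have hDn : Hc ≤ normalizer ((⁅H₁, H₂⁆ : Subgroup G) : Set G) :=
    le_normalizer_commutator hn₁.2 hn₂.2
  have hDH : ⁅H₁, H₂⁆ ≤ Hc :=
    (le_normalizer_iff_commutator_le_left.1 (hn₂.1.trans hn₁.2)).trans hn₁.1
  have hD : ⁅⁅H₁, H₂⁆, Hc⁆ ≤ pCoreOf p Hc := by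
    apply commutator_le_of_le_cmod
    conv_lhs => rw [hHc]
    rw [weakClosure_le_iff]
    intro g hg
    have hg' : Q.map (MulAut.conj g).toMonoidHom ≤ Hc := by rw [hHc]; exact le_weakClosure hg
    obtain ⟨k, hk, hk'⟩ := hw.conj_in hQH hg'
    rw [hk'] at hg' ⊢
    have h1 : ⁅H₁, H₂⁆ ≤ normalizer ((Q.map (MulAut.conj k).toMonoidHom : Subgroup G) : Set G) := by
      rw [normalizer_map_conj, ← norm_map_conj (hDn hk)]
      exact map_conj_mono hcomm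
    rw [le_cmod_iff]
    refine ⟨hg'.trans hHO, ?_⟩
    refine le_trans ?_ (pCoreOf_le_pCoreOf_of_normal hDH hDn)
    refine le_trans (le_inf (le_normalizer_iff_commutator_le_left.1 (hg'.trans hDn))
      (le_normalizer_iff_commutator_le_right.1 h1)) ?_
    exact le_pCoreOf inf_le_left (le_normalizer_inf Subgroup.le_normalizer h1)
      ((hQp.map _).to_le inf_le_right)
  have hD' : ⁅⁅H₂, H₁⁆, Hc⁆ ≤ pCoreOf p Hc := by rw [commutator_comm H₂]; exact hD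
  obtain ⟨a1, a2, a3, a4, a5, a6⟩ := side Q hQp hw Hc hQH H₁ H₂ hn₁.1 hn₁.2 hn₂.1 hn₂.2 hprod hD K₁ hK₁
  obtain ⟨b1, b2, b3, b4, b5, b6⟩ := side Q hQp hw Hc hQH H₂ H₁ hn₂.1 hn₂.2 hn₁.1 hn₁.2
    (by rw [sup_comm]; exact hprod) hD' K₂ hK₂
  have hK₂H₂ : K₂ ≤ H₂ := b3.trans (le_normalizer_iff_commutator_le_left.1 Subgroup.le_normalizer)
  have hK₁H₁ : K₁ ≤ H₁ := a3.trans (le_normalizer_iff_commutator_le_left.1 Subgroup.le_normalizer)
  refine ⟨⟨a1, a2, a3, a4⟩, ⟨b1, b2, b3, b4⟩, ?_, (commutator_mono le_rfl hK₂H₂).trans a5⟩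
  change K₁ ⊔ K₂ = pRes p Hc
  have hW1 : weakClosure Q (H₁ ⊔ Q) ≤ Hc := weakClosure_le.trans (sup_le hn₁.1 hQH)
  have hW2 : weakClosure Q (H₂ ⊔ Q) ≤ Hc := weakClosure_le.trans (sup_le hn₂.1 hQH)
  apply le_antisymm
  · apply sup_le
    · rw [hK₁]; exact pRes_mono hW1
    · rw [hK₂]; exact pRes_mono hW2
  · set X := K₁ ⊔ K₂ with hX
    have hXn : Hc ≤ normalizer (X : Set G) := le_normalizer_sup a4 b4
    have key : ∀ H K : Subgroup G, H ≤ normalizer (H ⊔ Q : Subgroup G) →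
        H ≤ normalizer (X : Set G) → K ≤ X → Q ⊔ K = weakClosure Q (H ⊔ Q) →
        H ≤ normalizer ((Q ⊔ X : Subgroup G) : Set G) := by
      intro H K hHn hHX hKX hQK
      intro h hh
      have h1 : h ∈ normalizer (weakClosure Q (H ⊔ Q) : Set G) := le_normalizer_weakClosure (hHn hh)
      apply mem_normalizer_of_map_conj_le
      rw [Subgroup.map_sup]
      refine sup_le ?_ ?_
      · have h2 : Q.map (MulAut.conj h).toMonoidHom ≤ weakClosure Q (H ⊔ Q) := by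
          rw [← norm_map_conj h1]
          exact map_conj_mono (self_le_weakClosure le_sup_right)
        exact h2.trans (hQK.ge.trans (sup_le_sup_left hKX Q))
      · rw [norm_map_conj (hHX hh)]; exact le_sup_right
    have hk1 := key H₁ K₁ (le_sup_left.trans Subgroup.le_normalizer) (hn₁.1.trans hXn) le_sup_left a6
    have hk2 := key H₂ K₂ (le_sup_left.trans Subgroup.le_normalizer) (hn₂.1.trans hXn) le_sup_right b6
    have hHn : Hc ≤ normalizer ((Q ⊔ X : Subgroup G) : Set G) := by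
      conv_lhs => rw [← hprod]
      exact sup_le hk1 hk2
    have hHQ : Hc = ncl Q Hc := by
      rw [← hw.weakClosure_eq_ncl hQH]
      apply le_antisymm _ weakClosure_le
      conv_lhs => rw [hHc]
      rw [weakClosure_le_iff]
      intro g hg
      apply le_weakClosure
      rw [hHc]; exact le_weakClosure hg
    have hle : Hc ≤ Q ⊔ X := by
      rw [hHQ]
      exact ncl_le le_sup_left hHn
    refine (pRes_mono hle).trans ?_
    rw [pRes_sup_of_isPGroup hQp (hQH.trans hXn)]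
    exact pRes_le _ _

end Cfsg.Agent.S2859
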