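import Cfsg.Statements.S2860
import Cfsg.Agent.H48.WClo
import Cfsg.Agent.H48.Bar
import Cfsg.Agent.H47.QSRes

set_option autoImplicit false
open Cfsg Subgroup Cfsg.Agent.H47 Cfsg.Agent.H48

namespace Cfsg.Agent.S2860

section
variable {G : Type*} [Group G] [Finite G] {p : ℕ} [Fact p.Prime]

omit [Finite G] [Fact p.Prime] in
theorem map_centralizer_subgroupOf (E U : Subgroup G) :
    ((centralizer (U : Set G)).subgroupOf E).map E.subtype = E ⊓ centralizer (U : Set G) := by
  rw [Subgroup.subgroupOf_map_subtype, inf_comm]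

/-- the key cancellation -/
theorem cancel {X N Z P : Subgroup G} (hXX : ⁅X, X⁆ = X) (hX : pRes p X = X) (hN : N ≤ X)
    (hXN : X ≤ normalizer (N : Set G)) (hZX : Z ≤ X) (hle : X ≤ N ⊔ Z) (hP : IsPGroup p P)
    (hPX : P ≤ X) (hXP : X ≤ normalizer (P : Set G)) (hZ : ⁅X, Z⁆ ≤ P) : N = X := by
  have hPN : X ≤ normalizer ((P ⊔ N : Subgroup G) : Set G) := le_normalizer_sup hXP hXN
  have h1 : X ≤ P ⊔ N := by
    conv_lhs => rw [← hXX]
    refine (commutator_mono (le_refl X) hle).trans (commutator_le_of_le_cmod (sup_le ?_ ?_))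
    · exact le_cmod_iff.2 ⟨hN.trans hPN, (le_normalizer_iff_commutator_le_right.1 hXN).trans le_sup_right⟩
    · exact le_cmod_iff.2 ⟨hZX.trans hPN, hZ.trans le_sup_left⟩
  apply le_antisymm hN
  conv_lhs => rw [← hX]
  refine (pRes_mono h1).trans ?_
  rw [pRes_sup_of_isPGroup hP (hPX.trans hXN)]
  exact pRes_le _ _
end

/-- Let Q be a nontrivial large p-subgroup of the finite group H, U a nontrivial elementary abelian p-subgroup of H, and Q ≤ E ≤ N_H(U) with Q not normal in E. Suppose O_p(E/C_E(U)) = 1 and O^p(E)·C_E(U)/C_E(U) is quasisimple. Let E° be the weak closure of Q in E (generated by the conjugates of Q inside E) and E_∘ = O^p(E°). Then O^p(E)·C_E(U) = E_∘·C_E(U); E_∘ is perfect and equals O^p(E_∘); E_∘/C_{E_∘}(U) and E_∘/O_p(E_∘) are quasisimple; and E_∘ = [E_∘, Y] for every p-subgroup Y of E not centralizing U. -/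
theorem result {G : Type*} [Group G] [Finite G] {p : ℕ} [Fact p.Prime] (Q : Subgroup G) (hQp : IsPGroup p ↥Q) (hQ1 : Q ≠ ⊥) (hQ : Cfsg.IsLarge Q) (U : Subgroup G) (hU : Cfsg.IsElementaryAbelian p U) (hU1 : U ≠ ⊥) (E : Subgroup G) (hQE : Q ≤ E) (hEU : E ≤ Subgroup.normalizer ((U : Subgroup G) : Set G)) (hQn : ¬ E ≤ Subgroup.normalizer ((Q : Subgroup G) : Set G)) [hn : ((Subgroup.centralizer ((U : Subgroup G) : Set G)).subgroupOf E).Normal] (hred : Cfsg.pCore p (↥E ⧸ (Subgroup.centralizer ((U : Subgroup G) : Set G)).subgroupOf E) = ⊥) (hqs : Cfsg.IsQuasisimple ↥(((Cfsg.pResidual p ↥E) ⊔ (Subgroup.centralizer ((U : Subgroup G) : Set G)).subgroupOf E).map (QuotientGroup.mk' ((Subgroup.centralizer ((U : Subgroup G) : Set G)).subgroupOf E)))) (Er : Subgroup G) (hEr : Er = ((Cfsg.pResidual p ↥(Cfsg.weakClosure Q E)).map ((Cfsg.weakClosure Q E)).subtype)) [hn2 : ((Subgroup.centralizer ((U : Subgroup G) : Set G)).subgroupOf Er).Normal] : ((Cfsg.pResidual p ↥E).map (E).subtype) ⊔ (E ⊓ Subgroup.centralizer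 ((U : Subgroup G) : Set G)) = Er ⊔ (E ⊓ Subgroup.centralizer ((U : Subgroup G) : Set G)) ∧ ⁅Er, Er⁆ = Er ∧ ((Cfsg.pResidual p ↥Er).map (Er).subtype) = Er ∧ Cfsg.IsQuasisimple (↥Er ⧸ (Subgroup.centralizer ((U : Subgroup G) : Set G)).subgroupOf Er) ∧ Cfsg.IsQuasisimple (↥Er ⧸ Cfsg.pCore p ↥Er) ∧ ∀ Y : Subgroup G, Y ≤ E → IsPGroup p ↥Y → ¬ Y ≤ Subgroup.centralizer ((U : Subgroup G) : Set G) → ⁅Er, Y⁆ = Er := by
  have hw : WCl p Q := IsLarge.wcl hQp hQ1 hQ
  set C := Subgroup.centralizer (U : Set G) with hC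
  set N := C.subgroupOf E with hN
  have hNmap : N.map E.subtype = E ⊓ C := map_centralizer_subgroupOf E U
  have hQC : ¬ Q ≤ C := by
    intro h
    have h1 := hQ.2 U (le_centralizer_symm h) hU1
    exact hQn (hEU.trans h1)
  set Eo := weakClosure Q E with hEo
  have hEoE : Eo ≤ E := weakClosure_le
  have hEEo : E ≤ normalizer (Eo : Set G) := Subgroup.le_normalizer.trans le_normalizer_weakClosure
  have hErE : Er ≤ E := by rw [hEr]; exact (pRes_le p Eo).trans hEoE
  change Er = pRes p Eo at hEr
  have hEEr : E ≤ normalizer (Er : Set G) := by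
    rw [hEr]; exact normalizer_le_normalizer_pRes hEEo
  have hQEo : Q ≤ Eo := self_le_weakClosure hQE
  have hncl : ncl Q Eo = Eo := ncl_weakClosure hw hQE
  have hcQ : ⁅Er, Q⁆ = Er := by rw [hEr]; exact commutator_pRes_of_ncl hQp hQEo hncl
  have hpEr : pRes p Er = Er := by rw [hEr, pRes_pRes]
  have hEE : E ≤ normalizer (U : Set G) := hEU
  have hUp : IsPGroup p U := IsElementaryAbelian.isPGroup' hU
  obtain ⟨-, hfac, -⟩ := large_closure_facts hQp hQ1 hQ hQE hUp hU1 hEU
  -- the quotient
  set B := bar E N with hB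
  have hBK : B (pRes p E) = pRes p (⊤ : Subgroup (E ⧸ N)) := by
    rw [hB, bar_pRes le_rfl, bar_self]
  have hqK : IsQuasisimple (pRes p (⊤ : Subgroup (E ⧸ N))) := by
    rw [← hBK]
    have h1 : B (pRes p E) = (Cfsg.pResidual p ↥E ⊔ N).map (QuotientGroup.mk' N) := by
      rw [Subgroup.map_sup, QuotientGroup.map_mk'_self, sup_bot_eq]
      rw [hB]
      unfold bar pRes
      congr 1
      apply Subgroup.map_injective E.subtype_injective
      rw [map_subgroupOf_eq_of_le (Subgroup.map_subtype_le _)]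
    rw [h1]
    exact hqs
  have hQb : B Q ≠ ⊥ := by
    intro h
    rw [hB, bar_eq_bot_iff hQE, hNmap] at h
    exact hQC (h.trans inf_le_right)
  have hQbp : IsPGroup p (B Q) := bar_isPGroup hQp
  have hQdvd : p ∣ Nat.card (B Q) := by
    have : Nontrivial (B Q) := (Subgroup.nontrivial_iff_ne_bot _).2 hQb
    rcases hQbp.card_eq_or_dvd with h | h
    · exact absurd h (Finite.one_lt_card).ne'
    · exact h
  obtain ⟨-, hYc, hCc, -⟩ := quasisimple_residual (hQdvd.trans (card_subgroup_dvd_card _)) hred hqK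
  have hBEr : B Er = pRes p (⊤ : Subgroup (E ⧸ N)) := by
    apply le_antisymm
    · rw [← hBK]
      apply bar_mono
      rw [hEr]
      exact pRes_mono hEoE
    · have h1 : pRes p (⊤ : Subgroup (E ⧸ N)) ≤ B Eo := by
        by_contra h2
        have h3 := hCc (B Eo) (bar_normal hEEo) h2
        rw [Nat.coprime_comm, Nat.Prime.coprime_iff_not_dvd Fact.out] at h3
        exact h3 (hQdvd.trans (card_dvd_of_le (bar_mono hQEo)))
      rw [← pRes_pRes, hEr, hB, bar_pRes hEoE]
      exact pRes_mono h1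
  have hKK : ⁅B Er, B Er⁆ = B Er := by rw [hBEr]; exact FStar.commutator_self hqK
  have hECn : E ≤ normalizer ((E ⊓ C : Subgroup G) : Set G) :=
    le_normalizer_inf Subgroup.le_normalizer (hEU.trans (normalizer_le_normalizer_centralizer U))
  have hEEn : ∀ X : Subgroup G, X ≤ Er → B Er ≤ B X → Er ≤ X ⊔ (Er ⊓ C) := by
    intro X hXE h
    rw [hB, bar_le_iff hErE (hXE.trans hErE), hNmap] at h
    have h1 := le_sup_inf_of_le hXE ((hXE.trans hErE).trans hECn) h
    rwa [← inf_assoc, inf_eq_left.2 hErE] at h1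
  set O := pCoreOf p Eo with hO
  set P := pCoreOf p Er with hP
  have hErEo : Er ≤ Eo := by rw [hEr]; exact pRes_le _ _
  have hErO : Er ≤ normalizer (O : Set G) := hErEo.trans (le_normalizer_pCoreOf p Eo)
  have hZ : ⁅Er, Er ⊓ C⁆ ≤ P := by
    have h1 : ⁅Er, Er ⊓ C⁆ ≤ Er ⊓ O := le_inf
      (le_normalizer_iff_commutator_le_left.1 (inf_le_left.trans Subgroup.le_normalizer))
      ((commutator_mono hErEo inf_le_right).trans hfac)
    exact h1.trans (le_pCoreOf inf_le_left (le_normalizer_inf Subgroup.le_normalizer hErO)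
      ((pCoreOf_isPGroup p Eo).to_le inf_le_right))
  have hPp : IsPGroup p P := pCoreOf_isPGroup p Er
  have hPE : P ≤ Er := pCoreOf_le p Er
  have hEP : Er ≤ normalizer (P : Set G) := le_normalizer_pCoreOf p Er
  have hdn : E ≤ normalizer ((⁅Er, Er⁆ : Subgroup G) : Set G) := le_normalizer_commutator hEEr hEEr
  have hdle : ⁅Er, Er⁆ ≤ Er := commutator_le_self Er
  have hperf : ⁅Er, Er⁆ = Er := by
    apply le_antisymm hdle
    have h1 : Er ≤ ⁅Er, Er⁆ ⊔ (Er ⊓ C) := by
      apply hEEn _ hdle
      rw [hB, bar_commutator hErE hErE]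
      exact hKK.ge
    have hOE : O ≤ E := (pCoreOf_le p Eo).trans hEoE
    have hOn : Eo ≤ normalizer ((O ⊔ ⁅Er, Er⁆ : Subgroup G) : Set G) :=
      le_normalizer_sup (le_normalizer_pCoreOf p Eo) (hEoE.trans hdn)
    have h2 : Er ≤ O ⊔ ⁅Er, Er⁆ := by
      conv_lhs => rw [← hcQ, commutator_comm]
      refine (commutator_mono le_rfl h1).trans (commutator_le_of_le_cmod (sup_le ?_ ?_))
      · exact le_cmod_iff.2 ⟨(hdle.trans hErEo).trans hOn,
          (le_normalizer_iff_commutator_le_right.1 (hQE.trans hdn)).trans le_sup_right⟩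
      · exact le_cmod_iff.2 ⟨(inf_le_left.trans hErEo).trans hOn,
          ((commutator_mono hQEo inf_le_right).trans hfac).trans le_sup_left⟩
    conv_lhs => rw [← hpEr]
    refine (pRes_mono h2).trans ?_
    rw [pRes_sup_of_isPGroup (pCoreOf_isPGroup p Eo) (hOE.trans hdn)]
    exact pRes_le _ _
  refine ⟨?_, hperf, hpEr, ?_, ?_, ?_⟩
  · rw [← hNmap]
    change pRes p E ⊔ _ = _
    apply le_antisymm
    · apply sup_le _ le_sup_right
      rw [← bar_le_iff ((pRes_le p E)) hErE]
      exact (hBK.trans hBEr.symm).le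
    · apply sup_le _ le_sup_right
      rw [← bar_le_iff hErE (pRes_le p E)]
      exact (hBK.trans hBEr.symm).ge
  · obtain ⟨e⟩ := nonempty_bar_equiv (N := N) hErE ((Subgroup.centralizer (U : Set G)).subgroupOf Er) (by
      rw [hNmap]
      ext x
      simp only [mem_subgroupOf, mem_inf]
      exact ⟨fun h => ⟨hErE x.2, h⟩, fun h => h.2⟩)
    apply FStar.isQuasisimple_of_equiv e.symm
    have : IsQuasisimple (B Er) := by rw [hBEr]; exact hqK
    exact this
  · have hBne : Nontrivial (B Er) := by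
      rw [hBEr]
      exact FStar.nontrivial_of_isQuasisimple hqK
    have hbotne : Er ≠ P := by
      intro h
      apply FStar.not_isSolvable_of_isQuasisimple hqK
      rw [← hBEr]
      have h1 : IsPGroup p (B Er) := bar_isPGroup (h ▸ hPp)
      have := h1.isNilpotent
      infer_instance
    have hPP : (P.subgroupOf Er) = Cfsg.pCore p Er := by
      apply Subgroup.map_injective Er.subtype_injective
      rw [map_subgroupOf_eq_of_le hPE]
      rfl
    have hPn : (Cfsg.pCore p Er).Normal := pCore_normal p Er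
    have hnt : Nontrivial (Er ⧸ Cfsg.pCore p Er) := by
      rw [QuotientGroup.nontrivial_iff]
      intro h
      apply hbotne
      rw [hP]
      unfold pCoreOf
      rw [h, ← MonoidHom.range_eq_map, Subgroup.range_subtype]
    apply FStar.isQuasisimple_of_forall
    · rw [← bar_self (E := Er) (N := Cfsg.pCore p Er), ← bar_commutator le_rfl le_rfl, hperf]
    · intro Nb hNb hNbt
      set M := (Nb.comap (QuotientGroup.mk' (Cfsg.pCore p Er))).map Er.subtype with hM
      have hME : M ≤ Er := Subgroup.map_subtype_le _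
      have hMsub : M.subgroupOf Er = Nb.comap (QuotientGroup.mk' (Cfsg.pCore p Er)) := by
        apply Subgroup.map_injective Er.subtype_injective
        rw [map_subgroupOf_eq_of_le hME]
      have hbM : bar Er (Cfsg.pCore p Er) M = Nb := by
        unfold bar
        rw [hMsub, Subgroup.map_comap_eq_self_of_surjective (QuotientGroup.mk'_surjective _)]
      have hMn : Er ≤ normalizer (M : Set G) := by
        have h1 : (M.subgroupOf Er).Normal := by rw [hMsub]; exact hNb.comap _
        exact (normal_subgroupOf_iff_le_normalizer hME).1 h1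
      have hMne : M ≠ Er := by
        intro h
        apply hNbt
        rw [← hbM, h, bar_self]
      have hBn : B Er ≤ normalizer (B M : Set (E ⧸ N)) := by
        rw [le_normalizer_iff_commutator_le_right, hB, ← bar_commutator hErE (hME.trans hErE)]
        exact bar_mono (le_normalizer_iff_commutator_le_right.1 hMn)
      have hqB : IsQuasisimple (B Er) := by rw [hBEr]; exact hqK
      rcases FStar.eq_or_commutator_eq_bot hqB (bar_mono hME) (Normal.isSubnormal
        (normal_subgroupOf_of_le hBn)) with h | h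
      · exact absurd (cancel hperf hpEr hME hMn inf_le_left (hEEn M hME h.ge) hPp hPE hEP hZ) hMne
      · rw [hB, ← bar_commutator (hME.trans hErE) hErE, bar_eq_bot_iff, hNmap] at h
        · have h1 : ⁅M, Er⁆ ≤ Er ⊓ C := le_inf
            (le_normalizer_iff_commutator_le_right.1 (hME.trans Subgroup.le_normalizer))
            (h.trans inf_le_right)
          have h2 : ⁅⁅M, Er⁆, Er⁆ ≤ P := by
            rw [commutator_comm]
            exact (commutator_mono le_rfl h1).trans hZ
          have h3 : ⁅⁅Er, Er⁆, M⁆ ≤ P := by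
            apply three_subgroups_rel hEP hEP (hME.trans hEP) _ h2
            rw [commutator_comm Er M]
            exact h2
          rw [hperf] at h3
          have h4 : ⁅Nb, (⊤ : Subgroup (Er ⧸ Cfsg.pCore p Er))⁆ = ⊥ := by
            rw [← hbM, ← bar_self (E := Er) (N := Cfsg.pCore p Er), ← bar_commutator hME le_rfl,
              commutator_comm]
            rw [bar_eq_bot_iff]
            · exact h3
            · exact (h3.trans hPE)
          rw [Subgroup.commutator_top_right_eq_bot_iff_le_center] at h4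
          exact h4
        · exact ((commutator_mono hME le_rfl).trans (commutator_le_self Er)).trans hErE
  · intro Y hYE hYp hYC
    have hYb : B Y ≠ ⊥ := by
      intro h
      rw [hB, bar_eq_bot_iff hYE, hNmap] at h
      exact hYC (h.trans inf_le_right)
    have h1 := hYc (B Y) (bar_isPGroup hYp) hYb
    rw [← hBEr] at h1
    have hle : ⁅Er, Y⁆ ≤ Er := le_normalizer_iff_commutator_le_left.1 (hYE.trans hEEr)
    have hn1 : Er ≤ normalizer ((⁅Er, Y⁆ : Subgroup G) : Set G) := normalizer_commutator_ge_left _ _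
    apply cancel hperf hpEr hle hn1 inf_le_left (hEEn _ hle _) hPp hPE hEP hZ
    rw [hB, bar_commutator hErE hYE]
    exact h1.ge

end Cfsg.Agent.S2860
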