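import Cfsg.Statements.S2861
import Cfsg.Agent.H48.FLof

set_option autoImplicit false
open Cfsg Subgroup Cfsg.Agent.H47 Cfsg.Agent.H48

namespace Cfsg.Agent.S2861

/-- Standing hypotheses: G a finite group, S a Sylow p-subgroup, Q a nontrivial large p-subgroup of G contained in S, M a subgroup containing S with the basic property (M ∈ 𝔐_G(S)); Y_M the largest p-reduced normal subgroup of M and M† = M·C_G(Y_M). Let L ∈ 𝔏_G(Y_M) (L ∈ 𝔏_G(Y_M): Y_M ≤ L; O_p(L) is the normal closure in L of Y_M ∩ O_p(L) and normalizes Y_M; L is Y_M-minimal of characteristic p with N_L(Y_M) its unique maximal subgroup over Y_M; and L/O_p(L) ≅ SL₂(q) with q = |Y_M : Y_M ∩ O_p(L)|, or p = 2 and L/O_p(L) is a Suzuki group Sz(q) or dihedral of order 2r, r an odd prime) and A = O_p(L). Then Y_M·A/A is the unique nontrivial elementary abelian normal p-subgroup of N_L(Y_M)/A. -/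
theorem result {G : Type*} [Group G] [Finite G] {p : ℕ} [Fact p.Prime] (S : Sylow p G) (Q : Subgroup G) (hQp : IsPGroup p ↥Q) (hQ1 : Q ≠ ⊥) (hQS : Q ≤ (S : Subgroup G)) (hQ : Cfsg.IsLarge Q) (M : Subgroup G) (hSM : (S : Subgroup G) ≤ M) (hM : Cfsg.IsInFrakM p M) (L : Subgroup G) (hL : Cfsg.IsInFrakL p M L) (NL : Subgroup G) (hNL : NL = L ⊓ Subgroup.normalizer (((Cfsg.largestPReducedOf p M) : Subgroup G) : Set G)) [hn : (((Cfsg.pCoreOf p L)).subgroupOf NL).Normal] : let Ybar : Subgroup (↥NL ⧸ ((Cfsg.pCoreOf p L)).subgroupOf NL) := (((Cfsg.largestPReducedOf p M)).subgroupOf NL).map (QuotientGroup.mk' (((Cfsg.pCoreOf p L)).subgroupOf NL)); Ybar ≠ ⊥ ∧ Ybar.Normal ∧ Cfsg.IsElementaryAbelian p Ybar ∧ ∀ (V : Subgroup (↥NL ⧸ ((Cfsg.pCoreOf p L)).subgroupOf NL)), V.Normal → Cfsg.IsElementaryAbelian p V → V ≠ ⊥ → V = Ybar := by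
  intro Ybar
  obtain ⟨f, hcard⟩ := FL.of_isInFrakL hL
  have hYL := hL.1
  have hst := hL.2.2.2.2.2.2
  rw [← hcard] at hst
  obtain ⟨X, _, π, hπ, hker, m⟩ := f.exists_model hst
  have hNLL : NL ≤ L := by rw [hNL]; exact inf_le_left
  have hYNL : largestPReducedOf p M ≤ NL := by rw [hNL]; exact le_inf hYL Subgroup.le_normalizer
  have hinj : Function.Injective L.subtype := Subtype.coe_injective
  have hO : (pCoreOf p L).subgroupOf L = pCore p ↥L := comap_map_eq_self_of_injective hinj _
  have hNn : ∀ x : ↥L, x ∈ normalizer (((largestPReducedOf p M).subgroupOf L : Subgroup ↥L) : Set ↥L) ↔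
      (x : G) ∈ NL := by
    intro x
    rw [← Subgroup.subgroupOf_normalizer_eq hYL, Subgroup.mem_subgroupOf, hNL, Subgroup.mem_inf]
    exact ⟨fun h => ⟨x.2, h⟩, fun h => h.2⟩
  -- the map
  let ψ : ↥NL →* X := π.comp (Subgroup.inclusion hNLL)
  have hψker : ∀ x : ↥NL, ψ x = 1 ↔ x ∈ (pCoreOf p L).subgroupOf NL := by
    intro x
    show π (Subgroup.inclusion hNLL x) = 1 ↔ _
    rw [← MonoidHom.mem_ker, hker, ← hO]
    exact Iff.rfl
  let ψb : (↥NL ⧸ (pCoreOf p L).subgroupOf NL) →* X :=
    QuotientGroup.lift _ ψ (fun x hx => (hψker x).2 hx)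
  have hψb : Function.Injective ψb := by
    rw [injective_iff_map_eq_one]
    intro y hy
    obtain ⟨x, rfl⟩ := QuotientGroup.mk'_surjective _ y
    exact (QuotientGroup.eq_one_iff x).2 ((hψker x).1 hy)
  -- the normalizer of the image
  have hN : ∀ x : ↥L, π x ∈ normalizer ((((largestPReducedOf p M).subgroupOf L).map π : Subgroup X) : Set X) →
      (x : G) ∈ NL := by
    intro x hx
    rw [← hNn]
    have hW := f.max ((normalizer ((((largestPReducedOf p M).subgroupOf L).map π : Subgroup X) : Set X)).comap π)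
      (fun y hy => Subgroup.le_normalizer (Subgroup.mem_map_of_mem π hy)) (by
        intro h1
        have h2 : (((largestPReducedOf p M).subgroupOf L).map π).Normal := by
          rw [← normalizer_eq_top_iff, eq_top_iff]
          intro z _
          obtain ⟨w, rfl⟩ := hπ z
          have : w ∈ (normalizer ((((largestPReducedOf p M).subgroupOf L).map π : Subgroup X) : Set X)).comap π := by
            rw [h1]; trivial
          exact this
        -- its preimage is a normal `p`-subgroup
        have h3 : (((largestPReducedOf p M).subgroupOf L).map π).comap π ≤ pCore p ↥L := by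
          apply le_pCore (h2.comap π)
          have h4 : IsPGroup p ↥(π.ker) := by rw [hker]; exact pCore_isPGroup p _
          exact (f.pg.map π).comap_of_ker_isPGroup π h4
        apply f.map_ne_bot π hker
        rw [Subgroup.map_eq_bot_iff, hker]
        exact (Subgroup.le_comap_map π _).trans h3)
    exact hW hx
  have hYb : Ybar.map ψb = ((largestPReducedOf p M).subgroupOf L).map π := by
    ext z
    constructor
    · rintro ⟨_, ⟨x, hx, rfl⟩, rfl⟩
      exact ⟨Subgroup.inclusion hNLL x, hx, rfl⟩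
    · rintro ⟨x, hx, rfl⟩
      exact ⟨_, ⟨⟨x, hYNL hx⟩, hx, rfl⟩, rfl⟩
  have hel : IsElementaryAbelian p (largestPReducedOf p M) := (pRed_largestPReducedOf p M).el
  have helN : IsElementaryAbelian p ((largestPReducedOf p M).subgroupOf NL) := by
    have h8 := isElementaryAbelian_iff.1 hel
    rw [isElementaryAbelian_iff]
    exact ⟨fun x hx y hy => Subtype.ext (h8.1 x hx y hy), fun x hx => Subtype.ext (h8.2 x hx)⟩
  refine ⟨?_, ?_, isElementaryAbelian_map _ helN, ?_⟩
  · intro h1
    apply f.map_ne_bot π hker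
    rw [← hYb, h1, Subgroup.map_bot]
  · have h1 : ((largestPReducedOf p M).subgroupOf NL).Normal :=
      Subgroup.normal_subgroupOf_of_le_normalizer (by rw [hNL]; exact inf_le_right)
    exact h1.map _ (QuotientGroup.mk'_surjective _)
  · intro V hVn hVel hVne
    apply Subgroup.map_injective hψb
    rw [hYb]
    apply m.uniq
    · rintro _ ⟨y, hy, rfl⟩
      obtain ⟨x, rfl⟩ := QuotientGroup.mk'_surjective _ y
      have h1 := (hNn (Subgroup.inclusion hNLL x)).2 x.2
      exact Subgroup.le_normalizer_map π (Subgroup.mem_map_of_mem π h1)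
    · intro k hk
      obtain ⟨x, rfl⟩ := hπ k
      have hx := hN x hk
      have h1 : π x = ψb (QuotientGroup.mk' _ ⟨x, hx⟩) := rfl
      rw [h1, mem_normalizer_iff_map_conj, ← map_map_conj]
      congr 1
      rw [← mem_normalizer_iff_map_conj, normalizer_eq_top]
      trivial
    · exact isElementaryAbelian_map _ hVel
    · intro h1
      apply hVne
      exact (Subgroup.map_eq_bot_iff_of_injective _ hψb).1 h1

end Cfsg.Agent.S2861
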