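import Cfsg.Statements.S2864
import Cfsg.Agent.H48.MSS

set_option autoImplicit false
open Cfsg Subgroup Cfsg.Agent.H47 Cfsg.Agent.H48

namespace Cfsg.Agent.S2864

/-- Standing hypotheses: G a finite group, S a Sylow p-subgroup, Q a nontrivial large p-subgroup of G contained in S, M a subgroup containing S with the basic property (M ∈ 𝔐_G(S)); Y_M the largest p-reduced normal subgroup of M and M† = M·C_G(Y_M). Let I be a nontrivial normal p-subgroup of M and Y ≤ O_p(M†); let L be a subgroup of G containing Y and A a normal p-subgroup of L with I ≤ A ≤ M. If [Y, A] ≤ [I, A], then Y ≤ O_p(L). -/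
theorem result {G : Type*} [Group G] [Finite G] {p : ℕ} [Fact p.Prime] (S : Sylow p G) (Q : Subgroup G) (hQp : IsPGroup p ↥Q) (hQ1 : Q ≠ ⊥) (hQS : Q ≤ (S : Subgroup G)) (hQ : Cfsg.IsLarge Q) (M : Subgroup G) (hSM : (S : Subgroup G) ≤ M) (hM : Cfsg.IsInFrakM p M) (I : Subgroup G) (hI1 : I ≠ ⊥) (hIp : IsPGroup p ↥I) (hIM : I ≤ M ∧ M ≤ Subgroup.normalizer ((I : Subgroup G) : Set G)) (Y : Subgroup G) (hY : Y ≤ (Cfsg.pCoreOf p (M ⊔ Subgroup.centralizer (((Cfsg.largestPReducedOf p M) : Subgroup G) : Set G)))) (L : Subgroup G) (hYL : Y ≤ L) (A : Subgroup G) (hAp : IsPGroup p ↥A) (hAL : A ≤ L ∧ L ≤ Subgroup.normalizer ((A : Subgroup G) : Set G)) (hIA : I ≤ A) (hAM : A ≤ M) (hc : ⁅Y, A⁆ ≤ ⁅I, A⁆) : Y ≤ (Cfsg.pCoreOf p L) := by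
  have hIc : (S : Subgroup G) ≤ normalizer (I : Set G) := hSM.trans hIM.2
  set R := normalizer (I : Set G) with hR
  have hIR : I ≤ pCoreOf p R := le_pCoreOf le_normalizer le_rfl hIp
  have hO1 : pCoreOf p R ≠ ⊥ := fun h => hI1 (le_bot_iff.1 (hIR.trans h.le))
  have hRc : R ∈ charPSubgroups p G :=
    mem_charP_iff.2 ⟨hO1, large_parabolic_facts hQp hQ (T := S) hIc hO1⟩
  set M' := M ⊔ Subgroup.centralizer (((Cfsg.largestPReducedOf p M) : Subgroup G) : Set G) with hM'
  have hRM : R ≤ M' := by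
    obtain ⟨X, hX1, hX2⟩ := (Set.toFinite (charPSubgroups p G)).exists_le_maximal hRc
    have hXmax : X ∈ maxCharPSubgroups p G :=
      ⟨hX2.prop, fun K hK hXK => (hX2.eq_of_le hK hXK).symm⟩
    have hXM : X = M' := hM.2.2.1 X hXmax (hIM.2.trans hX1)
    exact hX1.trans hXM.le
  have hAn := hAL.2
  have hAAn : L ≤ normalizer ((⁅A, A⁆ : Subgroup G) : Set G) := le_normalizer_commutator hAn hAn
  set N := ncl Y L with hN
  have hNL : N ≤ L := ncl_le hYL le_normalizer
  have hLN : L ≤ normalizer (N : Set G) := le_normalizer_ncl Y L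
  have hYN : Y ≤ N := le_ncl Y L
  have h1 : N ≤ cmod A ⁅A, A⁆ := by
    apply ncl_le _ (le_normalizer_cmod hAn hAAn)
    rw [le_cmod_iff]
    refine ⟨hYL.trans hAAn, ?_⟩
    rw [Subgroup.commutator_comm]
    exact hc.trans (Subgroup.commutator_mono hIA le_rfl)
  have h2 : pRes p N ≤ centralizer (A : Set G) :=
    pRes_le_centralizer_of_cmod_commutator hAp (hNL.trans hAn) (commutator_le_of_le_cmod h1)
  have h3 : pRes p N ≤ M' :=
    ((h2.trans (centralizer_anti hIA)).trans (centralizer_le_normalizer I)).trans hRM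
  have hYp : IsPGroup p Y := (pCoreOf_isPGroup p M').to_le hY
  have hRL : pRes p N ≤ L := (pRes_le p N).trans hNL
  have hLR : L ≤ normalizer (pRes p N : Set G) := normalizer_le_normalizer_pRes hLN
  have h4 : pRes p N ⊓ pCoreOf p M' ≤ pCoreOf p L := by
    refine le_trans ?_ (pCoreOf_le_pCoreOf_of_normal hRL hLR)
    exact le_pCoreOf inf_le_left (le_normalizer_inf le_normalizer
      (h3.trans (le_normalizer_pCoreOf p M'))) ((pCoreOf_isPGroup p M').to_le inf_le_right)
  have h5 : ⁅pRes p N, Y⁆ ≤ pCoreOf p L := by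
    refine le_trans (le_inf ?_ ?_) h4
    · exact le_normalizer_iff_commutator_le_left.1 (hYL.trans hLR)
    · exact (Subgroup.commutator_mono le_rfl hY).trans
        (le_normalizer_iff_commutator_le_right.1 (h3.trans (le_normalizer_pCoreOf p M')))
  have h6 : N ≤ cmod (pRes p N) (pCoreOf p L) := by
    apply ncl_le _ (le_normalizer_cmod hLR (le_normalizer_pCoreOf p L))
    exact le_cmod_iff.2 ⟨hYL.trans (le_normalizer_pCoreOf p L), h5⟩
  obtain ⟨T, hT, hYT⟩ := SylIn.exists_of_le hYN hYp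
  refine hYT.trans (sylIn_le_pCoreOf hNL hLN hT le_rfl (hNL.trans (le_normalizer_pCoreOf p L)) ?_)
  exact commutator_le_of_le_cmod (hT.le.trans h6)

end Cfsg.Agent.S2864
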