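import Cfsg.Statements.S2872
import Cfsg.Agent.H48.Transfer2

set_option autoImplicit false
open Cfsg

namespace Cfsg.Agent.S2872

open Cfsg.Agent.H48 MulAction

/-- The transfer computation. -/
theorem transfer_eq_neg_one {G : Type*} [Group G] [Finite G] (S : Sylow 2 G) (χ : (S : Subgroup G) →* ℤˣ) (z : G)
    (hz : z * z = 1) (hzS : z ∈ (S : Subgroup G)) (hχ : χ ⟨z, hzS⟩ = -1)
    (hcen : ∀ s ∈ (S : Subgroup G), s * z = z * s)
    (hN : ∀ g ∈ Subgroup.normalizer ((S : Subgroup G) : Set G), g * z * g⁻¹ = z) :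
    MonoidHom.transfer χ z = -1 := by
  classical
  rw [transfer_involution (S : Subgroup G) χ z hz]
  set α := {q : G ⧸ (S : Subgroup G) // q.out⁻¹ * z * q.out ∈ negSet χ} with hα
  suffices hodd : Odd (Nat.card α) from hodd.neg_one_pow
  -- S acts on α
  have hact : ∀ (s : (S : Subgroup G)) (q : G ⧸ (S : Subgroup G)), q.out⁻¹ * z * q.out ∈ negSet χ →
      ((s : G) • q).out⁻¹ * z * ((s : G) • q).out ∈ negSet χ := by
    intro s q hq
    have h1 : (((s : G) • q).out : G ⧸ (S : Subgroup G)) = (((s : G) * q.out : G) : G ⧸ (S : Subgroup G)) := by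
      have e1 : (((s : G) • q).out : G ⧸ (S : Subgroup G)) = (s : G) • q := QuotientGroup.out_eq' _
      have e2 : (q.out : G ⧸ (S : Subgroup G)) = q := QuotientGroup.out_eq' _
      rw [e1]
      calc (s : G) • q = (s : G) • ((q.out : G) : G ⧸ (S : Subgroup G)) := by rw [e2]
        _ = _ := rfl
    rw [negSet_of_mk_eq χ h1]
    have h2 : ((s : G) * q.out)⁻¹ * z * ((s : G) * q.out) = q.out⁻¹ * z * q.out := by
      have := hcen s s.2
      calc ((s : G) * q.out)⁻¹ * z * ((s : G) * q.out) = q.out⁻¹ * ((s : G)⁻¹ * (z * s)) * q.out := by group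
        _ = q.out⁻¹ * ((s : G)⁻¹ * (s * z)) * q.out := by rw [this]
        _ = _ := by group
    rw [h2]; exact hq
  let act : MulAction (S : Subgroup G) α :=
    { smul := fun s q => ⟨(s : G) • q.1, hact s q.1 q.2⟩
      one_smul := fun q => Subtype.ext (one_smul G q.1)
      mul_smul := fun a b q => Subtype.ext (mul_smul (a : G) (b : G) q.1) }
  have hmod := S.2.card_modEq_card_fixedPoints α
  have hmod2 := S.2.card_modEq_card_fixedPoints (G ⧸ (S : Subgroup G))
  -- the fixed points agree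
  have hfixN : ∀ q ∈ fixedPoints (S : Subgroup G) (G ⧸ (S : Subgroup G)),
      q.out⁻¹ ∈ Subgroup.normalizer ((S : Subgroup G) : Set G) := by
    intro q hq
    have hmem : ∀ s ∈ (S : Subgroup G), q.out⁻¹ * s * q.out ∈ (S : Subgroup G) := by
      intro s hs
      have h1 : (s : G) • q = q := hq ⟨s, hs⟩
      have e2 : (q.out : G ⧸ (S : Subgroup G)) = q := QuotientGroup.out_eq' _
      have h2 : ((s * q.out : G) : G ⧸ (S : Subgroup G)) = (q.out : G ⧸ (S : Subgroup G)) := by
        calc ((s * q.out : G) : G ⧸ (S : Subgroup G)) = s • ((q.out : G) : G ⧸ (S : Subgroup G)) := rfl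
          _ = s • q := by rw [e2]
          _ = q := h1
          _ = _ := e2.symm
      have h3 := QuotientGroup.eq.mp h2.symm
      simpa [mul_assoc] using h3
    rw [Subgroup.mem_normalizer_iff]
    intro s
    rw [inv_inv]
    refine ⟨hmem s, fun h => ?_⟩
    -- finiteness
    have h4 : (S : Subgroup G).map (MulAut.conj q.out⁻¹).toMonoidHom = (S : Subgroup G) := by
      apply Subgroup.eq_of_le_of_card_ge
      · rintro _ ⟨t, ht, rfl⟩
        have := hmem t ht
        simpa using this
      · rw [Subgroup.card_map_of_injective (MulAut.conj q.out⁻¹).injective]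
    have h5 : q.out⁻¹ * s * q.out ∈ (S : Subgroup G).map (MulAut.conj q.out⁻¹).toMonoidHom := by
      rw [h4]; exact h
    obtain ⟨t, ht, ht2⟩ := h5
    have h6 : q.out⁻¹ * t * q.out = q.out⁻¹ * s * q.out := by simpa using ht2
    have h7 : t = s := by
      have := mul_right_cancel h6
      exact mul_left_cancel this
    rw [← h7]; exact ht
  have hcard : Nat.card (fixedPoints (S : Subgroup G) α) = Nat.card (fixedPoints (S : Subgroup G) (G ⧸ (S : Subgroup G))) := by
    apply Nat.card_congr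
    exact {
      toFun := fun q => ⟨q.1.1, fun s => congrArg Subtype.val (q.2 s)⟩
      invFun := fun q => ⟨⟨q.1, by
        have h1 := hN _ (hfixN q.1 q.2)
        rw [inv_inv] at h1
        rw [h1]
        exact ⟨hzS, hχ⟩⟩, fun s => Subtype.ext (q.2 s)⟩
      left_inv := fun _ => rfl
      right_inv := fun _ => rfl }
  rw [hcard] at hmod
  have hmod3 := hmod.trans hmod2.symm
  have hidx : ¬ 2 ∣ Nat.card (G ⧸ (S : Subgroup G)) := S.not_dvd_index
  rw [Nat.odd_iff]
  unfold Nat.ModEq at hmod3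
  omega

/-- Let S be a Sylow 2-subgroup of the finite group G. Then G has a proper normal subgroup of 2-power index (O²(G) ≠ G), or Ω₁(Z(S)) is contained in the Frattini subgroup of S, or N_G(S) acts nontrivially on Ω₁(Z(S)) by conjugation. -/
theorem result {G : Type*} [Group G] [Finite G] (S : Sylow 2 G) : Cfsg.pResidual 2 G ≠ ⊤ ∨ Cfsg.omegaOne 2 ((S : Subgroup G) ⊓ Subgroup.centralizer ((S : Subgroup G) : Set G)) ≤ (frattini ↥(S : Subgroup G)).map (S : Subgroup G).subtype ∨ ∃ g ∈ Subgroup.normalizer ((S : Subgroup G) : Set G), ∃ z ∈ Cfsg.omegaOne 2 ((S : Subgroup G) ⊓ Subgroup.centralizer ((S : Subgroup G) : Set G)), g * z * g⁻¹ ≠ z := by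
  by_contra hcon
  push Not at hcon
  obtain ⟨hres, hfr, hN⟩ := hcon
  have hex : ∃ z : G, z ∈ (S : Subgroup G) ⊓ Subgroup.centralizer ((S : Subgroup G) : Set G) ∧ z ^ 2 = 1 ∧
      z ∉ (frattini ↥(S : Subgroup G)).map (S : Subgroup G).subtype := by
    by_contra h
    push Not at h
    apply hfr
    unfold Cfsg.omegaOne
    rw [Subgroup.closure_le]
    rintro z ⟨hz1, hz2⟩
    exact h z hz1 hz2
  obtain ⟨z, hzmem, hz2, hzfr⟩ := hex
  have hzom : z ∈ Cfsg.omegaOne 2 ((S : Subgroup G) ⊓ Subgroup.centralizer ((S : Subgroup G) : Set G)) :=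
    Subgroup.subset_closure ⟨hzmem, hz2⟩
  obtain ⟨hzS, hzC⟩ := Subgroup.mem_inf.mp hzmem
  have hzfr' : (⟨z, hzS⟩ : (S : Subgroup G)) ∉ frattini ↥(S : Subgroup G) := fun h => hzfr ⟨_, h, rfl⟩
  have hM : ∃ M : Subgroup (S : Subgroup G), IsCoatom M ∧ (⟨z, hzS⟩ : (S : Subgroup G)) ∉ M := by
    by_contra h
    push Not at h
    apply hzfr'
    unfold frattini Order.radical
    simp only [Subgroup.mem_iInf]
    intro M hM
    exact h M hM
  obtain ⟨M, hMc, hzM⟩ := hM
  have hidx := index_eq_of_isCoatom S.2 hMc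
  have hV := transfer_eq_neg_one S (signHom M hidx) z (by rw [← pow_two]; exact hz2) hzS
    ((signHom_apply M hidx _).mpr hzM) (fun s hs => Subgroup.mem_centralizer_iff.mp hzC s hs)
    (fun g hg => hN g hg z hzom)
  apply absurd hres
  intro htop
  have hle : Cfsg.pResidual 2 G ≤ (MonoidHom.transfer (signHom M hidx)).ker := by
    unfold Cfsg.pResidual
    rw [Subgroup.closure_le]
    intro g hg
    have hg' : Nat.Coprime (orderOf g) 2 := hg
    rw [SetLike.mem_coe, MonoidHom.mem_ker]
    have h1 : orderOf (MonoidHom.transfer (signHom M hidx) g) ∣ orderOf g := orderOf_map_dvd _ g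
    have h2 : orderOf (MonoidHom.transfer (signHom M hidx) g) ∣ 2 := by
      apply orderOf_dvd_of_pow_eq_one
      exact Int.units_sq _
    have h3 := Nat.dvd_gcd h1 h2
    rw [hg'] at h3
    exact orderOf_eq_one_iff.mp (Nat.dvd_one.mp h3)
  rw [htop] at hle
  have h4 : MonoidHom.transfer (signHom M hidx) z = 1 := hle (Subgroup.mem_top z)
  rw [hV] at h4
  exact absurd h4 (by decide)

end Cfsg.Agent.S2872
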