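import Cfsg.Statements.S2873
import Cfsg.Agent.H48.DTC
import Cfsg.Agent.Solv.Core
import Cfsg.Agent.H11.Act
import Cfsg.Agent.H25.SylTwo

set_option autoImplicit false
open Cfsg

namespace Cfsg.Agent.S2873

/-- Let G be a finite group and r an odd prime such that G ⧸ O₂(G) is dihedral of order 2r, and let R be a Sylow r-subgroup of G with C_{O₂(G)}(R) = 1. Then N_G(R) is dihedral of order 2r; for any involution a of N_G(R), every involution of G outside O₂(G) is conjugate to a; and |C_{O₂(G)}(a)|² = |O₂(G)|. -/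
theorem result {G : Type*} [Group G] [Finite G] {r : ℕ} [Fact r.Prime] (hr : r ≠ 2) [hN : (Cfsg.pCore 2 G).Normal] (hquot : Nonempty (G ⧸ Cfsg.pCore 2 G ≃* DihedralGroup r)) (R : Sylow r G) (hC : Cfsg.pCore 2 G ⊓ Subgroup.centralizer ((R : Subgroup G) : Set G) = ⊥) : Nonempty (↥(Subgroup.normalizer ((R : Subgroup G) : Set G)) ≃* DihedralGroup r) ∧ ∀ a : G, a ∈ Subgroup.normalizer ((R : Subgroup G) : Set G) → orderOf a = 2 → (∀ b : G, orderOf b = 2 → b ∉ Cfsg.pCore 2 G → ∃ g : G, g * a * g⁻¹ = b) ∧ Nat.card ↥(Cfsg.pCore 2 G ⊓ Subgroup.centralizer ({a} : Set G)) ^ 2 = Nat.card ↥(Cfsg.pCore 2 G) := by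
  classical
  obtain ⟨e⟩ := hquot
  have hrp : r.Prime := Fact.out
  have hr3 : 3 ≤ r := by
    have := hrp.two_le
    omega
  haveI : NeZero r := ⟨hrp.ne_zero⟩
  haveI : Fact (Nat.Prime 2) := ⟨Nat.prime_two⟩
  have hrodd : Odd r := hrp.odd_of_ne_two hr
  set Q := Cfsg.pCore 2 G with hQ
  have hQp : IsPGroup 2 Q := Cfsg.Agent.Solv.pCore_isPGroup 2
  obtain ⟨m, hm⟩ := (IsPGroup.iff_card).1 hQp
  have hcG : Nat.card G = 2 * r * 2 ^ m := by
    rw [Subgroup.card_eq_card_quotient_mul_card_subgroup Q, hm, Nat.card_congr e.toEquiv,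
      DihedralGroup.nat_card]
  have hcop : Nat.Coprime r (2 ^ m) :=
    Nat.Coprime.pow_right m ((Nat.coprime_primes hrp Nat.prime_two).2 hr)
  have hcR : Nat.card (R : Subgroup G) = r := by
    rw [R.card_eq_multiplicity, hcG]
    have h1 : (2 * r * 2 ^ m).factorization r = 1 := by
      rw [show 2 * r * 2 ^ m = r * 2 ^ (m + 1) by ring,
        Nat.factorization_mul hrp.ne_zero (by positivity), Nat.factorization_pow]
      simp [hrp.factorization, Nat.prime_two.factorization, hr.symm, Finsupp.single_apply, hr]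
    rw [h1, pow_one]
  have hRQ : (R : Subgroup G) ⊓ Q = ⊥ := by
    apply Subgroup.card_eq_one.1
    have h1 : Nat.card ↥((R : Subgroup G) ⊓ Q) ∣ Nat.card ↥(R : Subgroup G) :=
      Subgroup.card_dvd_of_le inf_le_left
    have h2 : Nat.card ↥((R : Subgroup G) ⊓ Q) ∣ Nat.card ↥Q :=
      Subgroup.card_dvd_of_le inf_le_right
    rw [hcR] at h1
    rw [hm] at h2
    exact Nat.eq_one_of_dvd_coprimes hcop h1 h2
  set N := Subgroup.normalizer ((R : Subgroup G) : Set G) with hN'
  have hRN : (R : Subgroup G) ≤ N := Subgroup.le_normalizer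
  -- the Frattini argument
  have hfr : N ⊔ Q = ⊤ := by
    have h1 : ((R : Subgroup G) ⊔ Q).index = 2 := by
      have h2 : Nat.card ↥((R : Subgroup G) ⊔ Q) = r * 2 ^ m := by
        rw [Cfsg.Agent.H11.card_sup_of_disjoint
        (by rw [Subgroup.normalizer_eq_top_iff.2 hN]; exact le_top) hRQ, hcR, hm]
      have h3 := Subgroup.card_mul_index ((R : Subgroup G) ⊔ Q)
      rw [h2, hcG] at h3
      have h4 : 0 < r * 2 ^ m := by positivity
      have : r * 2 ^ m * ((R : Subgroup G) ⊔ Q).index = r * 2 ^ m * 2 := by rw [h3]; ring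
      exact Nat.eq_of_mul_eq_mul_left h4 this
    haveI : ((R : Subgroup G) ⊔ Q).Normal := Subgroup.normal_of_index_eq_two h1
    have h2 := R.normalizer_sup_eq_top' (N := (R : Subgroup G) ⊔ Q) le_sup_left
    rw [eq_top_iff, ← h2]
    exact sup_le le_sup_left (sup_le (hRN.trans le_sup_left) le_sup_right)
  have hNQ : N ⊓ Q = ⊥ := by
    rw [eq_bot_iff, ← hC]
    rintro q ⟨hqN, hqQ⟩
    refine ⟨hqQ, ?_⟩
    change q ∈ Subgroup.centralizer ((R : Subgroup G) : Set G)
    rw [Subgroup.mem_centralizer_iff]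
    intro x hx
    have h1 : x * q * x⁻¹ * q⁻¹ ∈ (R : Subgroup G) ⊓ Q := by
      refine ⟨?_, Q.mul_mem (hN.conj_mem q hqQ x) (Q.inv_mem hqQ)⟩
      have h2 : q * x⁻¹ * q⁻¹ ∈ (R : Subgroup G) :=
        (Subgroup.mem_normalizer_iff.1 hqN x⁻¹).1 (Subgroup.inv_mem _ hx)
      have : x * q * x⁻¹ * q⁻¹ = x * (q * x⁻¹ * q⁻¹) := by group
      rw [this]
      exact Subgroup.mul_mem _ hx h2
    rw [hRQ, Subgroup.mem_bot] at h1
    calc x * q = (x * q * x⁻¹ * q⁻¹) * (q * x) := by group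
      _ = q * x := by rw [h1, one_mul]
  -- `N` is isomorphic to the quotient
  let π : N →* G ⧸ Q := (QuotientGroup.mk' Q).comp N.subtype
  have hπi : Function.Injective π := by
    rw [injective_iff_map_eq_one]
    rintro ⟨x, hx⟩ h
    have h1 : x ∈ Q := (QuotientGroup.eq_one_iff x).1 h
    have h2 : x ∈ N ⊓ Q := ⟨hx, h1⟩
    rw [hNQ, Subgroup.mem_bot] at h2
    exact Subtype.ext h2
  have hπs : Function.Surjective π := by
    intro y
    obtain ⟨g, rfl⟩ := QuotientGroup.mk_surjective y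
    have hg : g ∈ N ⊔ Q := by rw [hfr]; exact Subgroup.mem_top g
    obtain ⟨n, hn, q, hq, rfl⟩ := Subgroup.mem_sup_of_normal_right.1 hg
    refine ⟨⟨n, hn⟩, ?_⟩
    change (n : G ⧸ Q) = ((n * q : G) : G ⧸ Q)
    rw [QuotientGroup.eq]
    simpa using hq
  let E : N ≃* DihedralGroup r := (MulEquiv.ofBijective π ⟨hπi, hπs⟩).trans e
  refine ⟨⟨E⟩, ?_⟩
  intro a haN hao
  have ha2 : a * a = 1 := by rw [← pow_two, ← hao, pow_orderOf_eq_one]
  have ha1 : a ≠ 1 := by
    rintro rfl
    rw [orderOf_one] at hao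
    omega
  -- involutions of `N`
  have hsr : ∀ y : N, y * y = 1 → y ≠ 1 → ∃ i, E y = DihedralGroup.sr i := by
    intro y hy hy1
    rcases hE : E y with i | i
    · exfalso
      apply hy1
      apply E.injective
      rw [map_one, hE]
      have h1 : E y * E y = 1 := by rw [← map_mul, hy, map_one]
      rw [hE, DihedralGroup.r_mul_r, DihedralGroup.one_def, DihedralGroup.r.injEq] at h1
      have h2 : (2 : ZMod r) * i = 0 := by rw [two_mul]; exact h1
      have h3 : i = 0 := by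
        rcases mul_eq_zero.1 h2 with h4 | h4
        · exfalso
          have h5 : ((2 : ℕ) : ZMod r) = 0 := by exact_mod_cast h4
          rw [ZMod.natCast_eq_zero_iff] at h5
          have := Nat.le_of_dvd (by norm_num) h5
          omega
        · exact h4
      rw [h3]
      rfl
    · exact ⟨i, rfl⟩
  have hconjN : ∀ y z : N, y * y = 1 → y ≠ 1 → z * z = 1 → z ≠ 1 → ∃ n : N, n * y * n⁻¹ = z := by
    intro y z hy hy1 hz hz1
    obtain ⟨i, hi⟩ := hsr y hy hy1
    obtain ⟨j, hj⟩ := hsr z hz hz1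
    have h2 : (2 : ZMod r) ≠ 0 := by
      intro h4
      have h5 : ((2 : ℕ) : ZMod r) = 0 := by exact_mod_cast h4
      rw [ZMod.natCast_eq_zero_iff] at h5
      have := Nat.le_of_dvd (by norm_num) h5
      omega
    refine ⟨E.symm (DihedralGroup.r ((i - j) / 2)), ?_⟩
    apply E.injective
    rw [map_mul, map_mul, map_inv, MulEquiv.apply_symm_apply, hi, hj]
    rw [DihedralGroup.inv_r, DihedralGroup.r_mul_sr, DihedralGroup.sr_mul_r]
    congr 1
    field_simp
    ring
  obtain ⟨i, hi⟩ := hsr ⟨a, haN⟩ (Subtype.ext ha2) (fun h => ha1 (congrArg Subtype.val h))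
  set b : N := E.symm (DihedralGroup.sr (i + 1)) with hb
  have hb2 : b * b = 1 := by
    apply E.injective
    rw [map_mul, map_one, hb, MulEquiv.apply_symm_apply, DihedralGroup.sr_mul_self]
  have hb1 : b ≠ 1 := by
    intro h
    have h1 : E b = 1 := by rw [h, map_one]
    rw [hb, MulEquiv.apply_symm_apply, DihedralGroup.one_def] at h1
    cases h1
  obtain ⟨g, hg⟩ := hconjN ⟨a, haN⟩ b (Subtype.ext ha2) (fun h => ha1 (congrArg Subtype.val h)) hb2 hb1
  have hab : E (⟨a, haN⟩ * b) = DihedralGroup.r 1 := by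
    rw [map_mul, hi, hb, MulEquiv.apply_symm_apply, DihedralGroup.sr_mul_sr]
    congr 1
    ring
  have habo : orderOf (a * (b : G)) = r := by
    have h1 : orderOf (⟨a, haN⟩ * b) = r := by
      rw [← MulEquiv.orderOf_eq E, hab, DihedralGroup.orderOf_r_one]
    rw [← Subgroup.orderOf_coe] at h1
    exact h1
  have habR : Subgroup.zpowers (a * (b : G)) = (R : Subgroup G) := by
    have h1 : IsPGroup r (Subgroup.zpowers (a * (b : G))) :=
      IsPGroup.of_card (n := 1) (by rw [Nat.card_zpowers, habo, pow_one])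
    have h2 : Subgroup.zpowers (a * (b : G)) ≤ N := by
      rw [Subgroup.zpowers_le]
      exact mul_mem haN b.2
    have h3 : Subgroup.zpowers (a * (b : G)) ≤ (R : Subgroup G) := by
      have h4 := h1.inf_normalizer_sylow R
      have h5 : Subgroup.zpowers (a * (b : G)) ⊓ Subgroup.normalizer (R : Set G) =
        Subgroup.zpowers (a * (b : G)) := inf_eq_left.2 h2
      rw [h5] at h4
      rw [h4]
      exact inf_le_right
    exact Subgroup.eq_of_le_of_card_ge h3 (by rw [Nat.card_zpowers, habo, hcR])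
  have hfp : ∀ q ∈ Q, q * (a * (b : G)) = (a * (b : G)) * q → q = 1 := by
    intro q hq h
    have h3 : q ∈ Q ⊓ Subgroup.centralizer ((R : Subgroup G) : Set G) := by
      refine ⟨hq, ?_⟩
      change q ∈ Subgroup.centralizer ((R : Subgroup G) : Set G)
      rw [Subgroup.mem_centralizer_iff]
      intro x hx
      have hx' : x ∈ (R : Subgroup G) := hx
      rw [← habR] at hx'
      obtain ⟨n, rfl⟩ := Subgroup.mem_zpowers_iff.1 hx'
      exact ((show Commute (a * (b : G)) q from h.symm).zpow_left n).eq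
    rw [hC, Subgroup.mem_bot] at h3
    exact h3
  have hiv : ∀ t, t * t = 1 → a⁻¹ * t ∈ Q → t * (a * (b : G)) * t⁻¹ = (a * (b : G))⁻¹ → t = a := by
    intro t ht ht' hinv
    have htN : t ∈ N := by
      rw [hN', ← habR]
      apply Cfsg.Agent.H25.mem_normalizer_zpowers
      rw [hinv]
      exact inv_mem (Subgroup.mem_zpowers _)
    have h3 : a⁻¹ * t ∈ N ⊓ Q := ⟨N.mul_mem (N.inv_mem haN) htN, ht'⟩
    rw [hNQ, Subgroup.mem_bot, inv_mul_eq_one] at h3
    exact h3.symm
  obtain ⟨h1, h2⟩ := Cfsg.Agent.H48.DTC.main Q (a := a) (b := (b : G)) (g := (g : G)) ha2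
    (congrArg Subtype.val hb2) (congrArg Subtype.val hg) hfp hiv
  · refine ⟨?_, h2⟩
    intro c hc hcQ
    have hc2 : c * c = 1 := by rw [← pow_two, ← hc, pow_orderOf_eq_one]
    have hcg : c ∈ N ⊔ Q := by rw [hfr]; exact Subgroup.mem_top c
    obtain ⟨n, hn, q, hq, rfl⟩ := Subgroup.mem_sup_of_normal_right.1 hcg
    have hn2 : n * n = 1 := by
      have h3 : n * n ∈ N ⊓ Q := by
        refine ⟨mul_mem hn hn, ?_⟩
        have h4 : n * n = (n * q) * (n * q) * (q⁻¹ * (n⁻¹ * q⁻¹ * n)) := by group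
        rw [h4, hc2, one_mul]
        refine Q.mul_mem (Q.inv_mem hq) ?_
        have := hN.conj_mem q⁻¹ (Q.inv_mem hq) n⁻¹
        rwa [inv_inv] at this
      rw [hNQ, Subgroup.mem_bot] at h3
      exact h3
    have hn1 : n ≠ 1 := by
      rintro rfl
      rw [one_mul] at hcQ
      exact hcQ hq
    obtain ⟨k, hk⟩ := hconjN ⟨a, haN⟩ ⟨n, hn⟩ (Subtype.ext ha2)
      (fun h => ha1 (congrArg Subtype.val h)) (Subtype.ext hn2) (fun h => hn1 (congrArg Subtype.val h))
    have hk' : (k : G) * a * (k : G)⁻¹ = n := congrArg Subtype.val hk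
    obtain ⟨p, hp, hpt⟩ := h1 ((k : G)⁻¹ * (n * q) * k) (by
      calc (k : G)⁻¹ * (n * q) * k * ((k : G)⁻¹ * (n * q) * k)
          = (k : G)⁻¹ * ((n * q) * (n * q)) * k := by group
        _ = 1 := by rw [hc2]; group) (by
      have h5 : a⁻¹ * ((k : G)⁻¹ * (n * q) * k) = (k : G)⁻¹ * q * (k : G)⁻¹⁻¹ := by
        rw [← hk']
        group
      rw [h5]
      exact hN.conj_mem q hq _)
    refine ⟨k * p, ?_⟩
    calc (k : G) * p * a * ((k : G) * p)⁻¹ = k * (p * a * p⁻¹) * (k : G)⁻¹ := by group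
      _ = n * q := by rw [hpt]; group

end Cfsg.Agent.S2873
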