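import Cfsg.Statements.S2874
import Mathlib

set_option autoImplicit false
open Cfsg

namespace Cfsg.Agent.S2874

section
open Matrix

variable {R : Type*} [CommRing R]

def rho (R : Type*) [CommRing R] : Matrix (Fin 2) (Fin 2) R := !![0, -1; 1, -1]
def rhoi (R : Type*) [CommRing R] : Matrix (Fin 2) (Fin 2) R := !![-1, 1; -1, 0]

theorem key (u3 : R) (hu : 3 * u3 = 1) (v : Matrix (Fin 2) (Fin 2) R) (h1 : v * v = 1)
    (h2 : v * (rho R * v * rhoi R) = (rho R * v * rhoi R) * v)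
    (h3 : v * (rho R * v * rhoi R) = rho R * (rho R * v * rhoi R) * rhoi R) :
    ∃ b0 b1 : R, 2 * b0 = 0 ∧ 2 * b1 = 0 ∧ v = !![1 + b0, -b0 + b1; b1, 1 - b0] := by
  obtain ⟨a0, a1, b0, b1, hv⟩ : ∃ a0 a1 b0 b1 : R, v = !![a0 + b0, -a1 - b0 + b1; a1 + b1, a0 - a1 - b0] := by
    refine ⟨u3 * (v 0 0 + 2 * v 1 1 - v 0 1 + v 1 0), u3 * (- v 0 0 + v 1 1 - 2 * v 0 1 + 2 * v 1 0),
      u3 * (2 * v 0 0 - 2 * v 1 1 + v 0 1 - v 1 0), u3 * (v 0 0 - v 1 1 + 2 * v 0 1 + v 1 0), ?_⟩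
    ext i j
    fin_cases i <;> fin_cases j <;> simp
    · linear_combination (- v 0 0) * hu
    · linear_combination (- v 0 1) * hu
    · linear_combination (- v 1 0) * hu
    · linear_combination (- v 1 1) * hu
  subst hv
  have e1 := fun i j => congrFun (congrFun h1 i) j
  have e2 := fun i j => congrFun (congrFun h2 i) j
  have e3 := fun i j => congrFun (congrFun h3 i) j
  simp only [Fin.forall_fin_two, rho, rhoi, Matrix.mul_apply, Fin.sum_univ_two, Matrix.of_apply, Matrix.cons_val', Matrix.cons_val_zero, Matrix.cons_val_one, Matrix.cons_val_fin_one, Matrix.one_apply] at e1 e2 e3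
  obtain ⟨⟨p1, q1⟩, ⟨r1, s1⟩⟩ := e1
  obtain ⟨⟨p2, q2⟩, ⟨r2, s2⟩⟩ := e2
  obtain ⟨⟨p3, q3⟩, ⟨r3, s3⟩⟩ := e3
  have z01 : ((0 : Fin 2) = 1) ↔ False := by decide
  have z10 : ((1 : Fin 2) = 0) ↔ False := by decide
  simp only [z01, z10, if_true, if_false] at p1 q1 r1 s1
  -- N(b) = 0
  have hN : b0 ^ 2 - b0 * b1 + b1 ^ 2 = 0 := by
    linear_combination u3 * (p2 + 2 * s2 - q2 + r2) - (b0 ^ 2 - b0 * b1 + b1 ^ 2) * hu
  have hA0 : a0 ^ 2 - a1 ^ 2 + (b0 ^ 2 - b0 * b1 + b1 ^ 2) - 1 = 0 := by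
    linear_combination u3 * (p1 + 2 * s1 - q1 + r1) - (a0 ^ 2 - a1 ^ 2 + (b0 ^ 2 - b0 * b1 + b1 ^ 2) - 1) * hu
  have hA1 : 2 * a0 * a1 - a1 ^ 2 = 0 := by
    linear_combination u3 * (- p1 + s1 - 2 * q1 + 2 * r1) - (2 * a0 * a1 - a1 ^ 2) * hu
  have hB0 : b0 * (2 * a0 - a1) = 0 := by
    linear_combination u3 * (2 * p1 - 2 * s1 + q1 - r1) - (b0 * (2 * a0 - a1)) * hu
  have hB1 : b1 * (2 * a0 - a1) = 0 := by
    linear_combination u3 * (p1 - s1 + 2 * q1 + r1) - (b1 * (2 * a0 - a1)) * hu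
  have hA0' : a0 ^ 2 - a1 ^ 2 - a0 = 0 := by
    linear_combination u3 * (p3 + 2 * s3 - q3 + r3) - (a0 ^ 2 - a1 ^ 2 - a0) * hu
  have hA1' : 2 * a0 * a1 - a1 ^ 2 - a1 + (b0 ^ 2 - b0 * b1 + b1 ^ 2) = 0 := by
    linear_combination u3 * (- p3 + s3 - 2 * q3 + 2 * r3) - (2 * a0 * a1 - a1 ^ 2 - a1 + (b0 ^ 2 - b0 * b1 + b1 ^ 2)) * hu
  have ha1 : a1 = 0 := by linear_combination hA1 - hA1' + hN
  have ha0 : a0 = 1 := by linear_combination hA0 - hA0' - hN
  subst ha1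
  subst ha0
  refine ⟨b0, b1, by linear_combination hB0, by linear_combination hB1, ?_⟩
  ext i j
  fin_cases i <;> fin_cases j <;> simp

/-- `E b0 b1 = 1 + (b0 + b1 ω) σ`. -/
def EE {R : Type*} [CommRing R] (b0 b1 : R) : Matrix (Fin 2) (Fin 2) R := !![1 + b0, -b0 + b1; b1, 1 - b0]

theorem rho_EE {R : Type*} [CommRing R] (b0 b1 : R) : rho R * EE b0 b1 * rhoi R = EE (b1 - b0) (-b0) := by
  ext i j
  fin_cases i <;> fin_cases j <;> simp [rho, rhoi, EE, Matrix.mul_apply, Fin.sum_univ_two] <;> ring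

/-- `ρ` as a unit. -/
def rhoU (R : Type*) [CommRing R] : GL (Fin 2) R where
  val := rho R
  inv := rhoi R
  val_inv := by
    ext i j
    fin_cases i <;> fin_cases j <;> simp [rho, rhoi, Matrix.mul_apply, Fin.sum_univ_two]
  inv_val := by
    ext i j
    fin_cases i <;> fin_cases j <;> simp [rho, rhoi, Matrix.mul_apply, Fin.sum_univ_two]

theorem dec2 : ∀ a b c d : ZMod 2, (!![a, b; c, d] * !![a, b; c, d] * !![a, b; c, d] : Matrix (Fin 2) (Fin 2) (ZMod 2)) = 1 →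
    (!![a, b; c, d] : Matrix (Fin 2) (Fin 2) (ZMod 2)) ≠ 1 → c = 1 ∧ a + d = 1 ∧ a * d - b * c = 1 := by decide

variable {k : ℕ}

theorem two_pow_eq_zero (k : ℕ) : (2 : ZMod (2 ^ k)) ^ k = 0 := by
  have := ZMod.natCast_self (2 ^ k)
  push_cast at this
  exact this

/-- reduction mod 2 -/
def red (hk : k ≠ 0) : ZMod (2 ^ k) →+* ZMod 2 := ZMod.castHom (dvd_pow_self 2 hk) (ZMod 2)

theorem red_eq_zero (hk : k ≠ 0) {x : ZMod (2 ^ k)} (hx : red hk x = 0) : ∃ y, x = 2 * y := by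
  have h1 : ((x.val : ℕ) : ZMod 2) = 0 := by
    rw [← hx]
    conv_rhs => rw [← ZMod.natCast_zmod_val x]
    rw [map_natCast]
  rw [ZMod.natCast_eq_zero_iff] at h1
  obtain ⟨m, hm⟩ := h1
  refine ⟨(m : ZMod (2 ^ k)), ?_⟩
  rw [← ZMod.natCast_zmod_val x, hm]
  push_cast; rfl

theorem isUnit_of_red (hk : k ≠ 0) {x : ZMod (2 ^ k)} (hx : red hk x = 1) : IsUnit x := by
  obtain ⟨y, hy⟩ := red_eq_zero hk (x := x - 1) (by rw [map_sub, hx, map_one, sub_self])
  have h1 : IsNilpotent (2 * y) := ⟨k, by rw [mul_pow, two_pow_eq_zero, zero_mul]⟩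
  have h2 : x = 1 + 2 * y := by rw [← hy]; ring
  rw [h2]
  exact h1.isUnit_one_add

theorem pow_two_pow_eq (m : Matrix (Fin 2) (Fin 2) (ZMod (2 ^ k))) (j : ℕ) :
    ∃ y : Matrix (Fin 2) (Fin 2) (ZMod (2 ^ k)), (1 + (2 : ZMod (2 ^ k)) • m) ^ (2 ^ j) = 1 + ((2 : ZMod (2 ^ k)) ^ (j + 1)) • y := by
  induction j with
  | zero => exact ⟨m, by simp⟩
  | succ j ih =>
    obtain ⟨y, hy⟩ := ih
    refine ⟨y + (2 : ZMod (2 ^ k)) ^ j • (y * y), ?_⟩
    rw [pow_succ, pow_mul, hy, pow_two, add_mul, mul_add, mul_add, one_mul, mul_one, one_mul, smul_mul_smul_comm,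
      smul_add, smul_smul]
    have e1 : (2 : ZMod (2 ^ k)) ^ (j + 1 + 1) * 2 ^ j = 2 ^ (j + 1) * 2 ^ (j + 1) := by ring
    rw [e1, pow_succ (2 : ZMod (2 ^ k)) (j + 1), mul_two, add_smul]
    abel

theorem conj_rho (hk : k ≠ 0) (h : GL (Fin 2) (ZMod (2 ^ k))) (h3 : h ^ 3 = 1) (h1 : h ≠ 1) :
    ∃ P : GL (Fin 2) (ZMod (2 ^ k)), P⁻¹ * h * P = rhoU (ZMod (2 ^ k)) := by
  set M : Matrix (Fin 2) (Fin 2) (ZMod (2 ^ k)) := (h : Matrix (Fin 2) (Fin 2) (ZMod (2 ^ k))) with hM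
  have hM3 : M * M * M = 1 := by
    have := congrArg (fun x : GL (Fin 2) (ZMod (2 ^ k)) => (x : Matrix (Fin 2) (Fin 2) (ZMod (2 ^ k)))) h3
    simp only [pow_succ, pow_zero, one_mul, Units.val_mul, Units.val_one] at this
    exact this
  -- reduction
  have hMr : M.map (red hk) ≠ 1 := by
    intro hr
    have hex : ∃ m : Matrix (Fin 2) (Fin 2) (ZMod (2 ^ k)), M = 1 + (2 : ZMod (2 ^ k)) • m := by
      have : ∀ i j, ∃ y, M i j - (1 : Matrix (Fin 2) (Fin 2) (ZMod (2 ^ k))) i j = 2 * y := by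
        intro i j
        apply red_eq_zero hk
        rw [map_sub]
        have h5 := congrFun (congrFun hr i) j
        rw [Matrix.map_apply] at h5
        rw [h5, sub_eq_zero]
        rw [Matrix.one_apply, Matrix.one_apply]
        split_ifs <;> simp
      choose m hm using this
      refine ⟨Matrix.of m, ?_⟩
      ext i j
      rw [Matrix.add_apply, Matrix.smul_apply, Matrix.of_apply, smul_eq_mul, ← hm]
      ring
    obtain ⟨m, hm⟩ := hex
    obtain ⟨y, hy⟩ := pow_two_pow_eq m k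
    rw [← hm, pow_succ, two_pow_eq_zero, zero_mul, zero_smul, add_zero] at hy
    have hp : h ^ (2 ^ k) = 1 := by
      apply Units.ext
      rw [Units.val_pow_eq_pow_val, Units.val_one]
      exact hy
    have h6 : orderOf h ∣ 2 ^ k := orderOf_dvd_of_pow_eq_one hp
    have h7 : orderOf h ∣ 3 := orderOf_dvd_of_pow_eq_one h3
    have h8 : orderOf h ∣ 1 := by
      have h9 : Nat.Coprime (2 ^ k) 3 := Nat.Coprime.pow_left _ (by norm_num)
      rw [← Nat.Coprime.gcd_eq_one h9]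
      exact Nat.dvd_gcd h6 h7
    exact h1 (orderOf_eq_one_iff.mp (Nat.dvd_one.mp h8))
  obtain ⟨a, b, c, d, hMe⟩ : ∃ a b c d, M = !![a, b; c, d] := ⟨M 0 0, M 0 1, M 1 0, M 1 1, Matrix.eta_fin_two M⟩
  have hmap : M.map (red hk) = !![red hk a, red hk b; red hk c, red hk d] := by
    rw [hMe]
    ext i j
    fin_cases i <;> fin_cases j <;> rfl
  have hr3 : M.map (red hk) * M.map (red hk) * M.map (red hk) = 1 := by
    have := congrArg (fun x : Matrix (Fin 2) (Fin 2) (ZMod (2 ^ k)) => (red hk).mapMatrix x) hM3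
    simp only [map_mul, map_one, RingHom.mapMatrix_apply] at this
    exact this
  rw [hmap] at hr3 hMr
  obtain ⟨hc, htr, hdet⟩ := dec2 _ _ _ _ hr3 hMr
  have hcu : IsUnit c := isUnit_of_red hk hc
  have hdu : IsUnit (1 - (a + d) + (a * d - b * c)) := by
    apply isUnit_of_red hk
    rw [map_add, map_sub, map_add, map_sub, map_mul, map_mul, map_one, htr, hdet]
    rfl
  -- M² + M + 1 = 0
  have hq : M * M + M + 1 = 0 := by
    have e1 : (M - 1) * (M * M + M + 1) = 0 := by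
      have : (M - 1) * (M * M + M + 1) = M * M * M - 1 := by noncomm_ring
      rw [this, hM3, sub_self]
    have e2 : (M - 1).det = 1 - (a + d) + (a * d - b * c) := by
      rw [hMe, Matrix.det_fin_two]
      simp
      ring
    have e3 := congrArg (fun x => (M - 1).adjugate * x) e1
    simp only [mul_zero] at e3
    rw [← mul_assoc, Matrix.adjugate_mul, smul_mul_assoc, one_mul, e2] at e3
    exact (hdu.smul_eq_zero).mp e3
  rw [hMe] at hq
  have q00 := congrFun (congrFun hq 0) 0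
  have q10 := congrFun (congrFun hq 1) 0
  simp [Matrix.mul_apply, Fin.sum_univ_two] at q00 q10
  have hPdet : IsUnit (!![1, a; 0, c] : Matrix (Fin 2) (Fin 2) (ZMod (2 ^ k))).det := by
    rw [Matrix.det_fin_two]
    simpa using hcu
  refine ⟨Matrix.nonsingInvUnit _ hPdet, ?_⟩
  rw [mul_assoc, inv_mul_eq_iff_eq_mul]
  apply Units.ext
  rw [Units.val_mul, Units.val_mul, ← hM, hMe]
  change !![a, b; c, d] * !![1, a; 0, c] = !![1, a; 0, c] * rho _
  ext i j
  fin_cases i <;> fin_cases j <;> simp [rho, Matrix.mul_apply, Fin.sum_univ_two]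
  · linear_combination q00
  · linear_combination q10

theorem two_mul_eq_zero {x : ZMod (2 ^ k)} (hx : 2 * x = 0) : x = 0 ∨ x = 2 ^ (k - 1) := by
  rcases Nat.eq_zero_or_pos k with rfl | hk
  · left; exact Subsingleton.elim (α := ZMod 1) _ _
  · have h1 : ((2 * x.val : ℕ) : ZMod (2 ^ k)) = 0 := by
      push_cast
      rw [ZMod.natCast_zmod_val]; exact hx
    rw [ZMod.natCast_eq_zero_iff] at h1
    obtain ⟨m, hm⟩ := h1
    have h2 : 2 ^ k = 2 * 2 ^ (k - 1) := by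
      rw [← pow_succ']; congr 1; omega
    have h4 := ZMod.val_lt x
    obtain ⟨n, hn⟩ : ∃ n, n = x.val := ⟨_, rfl⟩
    rw [← hn] at hm h4
    rw [h2, mul_assoc] at hm
    have h3' : n = 2 ^ (k - 1) * m := Nat.eq_of_mul_eq_mul_left (by norm_num) hm
    have h3 : x.val = 2 ^ (k - 1) * m := hn.symm.trans h3'
    rw [h2, h3'] at h4
    have h5 : m < 2 := by
      by_contra hm2
      have : 2 ^ (k - 1) * 2 ≤ 2 ^ (k - 1) * m := Nat.mul_le_mul_left _ (by omega)
      omega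
    interval_cases m
    · left
      rw [← ZMod.natCast_zmod_val x, h3]; simp
    · right
      rw [← ZMod.natCast_zmod_val x, h3]; push_cast; ring

/-- The involution data. -/
theorem three_cases (hk : 2 ≤ k) (v : Matrix (Fin 2) (Fin 2) (ZMod (2 ^ k))) (h0 : v ≠ 1) (h1 : v * v = 1)
    (h2 : v * (rho _ * v * rhoi _) = (rho _ * v * rhoi _) * v)
    (h3 : v * (rho _ * v * rhoi _) = rho _ * (rho _ * v * rhoi _) * rhoi _) :
    v = EE (2 ^ (k - 1)) 0 ∨ v = rho _ * EE (2 ^ (k - 1)) 0 * rhoi _ ∨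
      v = rho _ * (rho _ * EE (2 ^ (k - 1)) 0 * rhoi _) * rhoi _ := by
  have h3u : IsUnit (3 : ZMod (2 ^ k)) := by
    apply isUnit_of_red (k := k) (by omega)
    rw [map_ofNat]; rfl
  obtain ⟨u, hu⟩ := h3u
  have hu3 : (3 : ZMod (2 ^ k)) * ((u⁻¹ : (ZMod (2 ^ k))ˣ) : ZMod (2 ^ k)) = 1 := by
    rw [← hu]; exact Units.mul_inv u
  obtain ⟨b0, b1, hb0, hb1, hv⟩ := key _ hu3 v h1 h2 h3
  set z : ZMod (2 ^ k) := 2 ^ (k - 1) with hz
  have h2z : 2 * z = 0 := by
    rw [hz, ← pow_succ', show k - 1 + 1 = k by omega, two_pow_eq_zero]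
  have hzn : -z = z := by linear_combination - h2z
  have hv' : v = EE b0 b1 := hv
  rw [rho_EE, rho_EE]
  rcases two_mul_eq_zero hb0 with e0 | e0 <;> rcases two_mul_eq_zero hb1 with e1 | e1
  · exfalso
    apply h0
    rw [hv', e0, e1]
    ext i j
    fin_cases i <;> fin_cases j <;> simp [EE]
  · right; right
    rw [hv', e0, e1, ← hz]
    congr 1
    · ring
    · ring
  · left
    rw [hv', e0, e1]
  · right; left
    rw [hv', e0, e1, ← hz]
    congr 1
    · linear_combination - hzn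
    · linear_combination - hzn

end

section
open Equiv

/-- a 3-cycle -/
def cc : alternatingGroup (Fin 4) := ⟨swap 0 1 * swap 1 2, by rw [Equiv.Perm.mem_alternatingGroup]; decide⟩
/-- a double transposition -/
def vv : alternatingGroup (Fin 4) := ⟨swap 0 1 * swap 2 3, by rw [Equiv.Perm.mem_alternatingGroup]; decide⟩

theorem cc3 : cc ^ 3 = 1 := by decide
theorem cc1 : cc ≠ 1 := by decide
theorem vv1 : vv ≠ 1 := by decide
theorem vv2 : vv * vv = 1 := by decide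
theorem vvc : vv * (cc * vv * cc⁻¹) = (cc * vv * cc⁻¹) * vv := by decide
theorem vvp : vv * (cc * vv * cc⁻¹) = cc * (cc * vv * cc⁻¹) * cc⁻¹ := by decide
theorem gen : ∀ x : alternatingGroup (Fin 4), ∃ i : Fin 3, x = cc ^ (i : ℕ) ∨ x = cc ^ (i : ℕ) * vv ∨
    x = cc ^ (i : ℕ) * (cc * vv * cc⁻¹) ∨ x = cc ^ (i : ℕ) * (cc * (cc * vv * cc⁻¹) * cc⁻¹) := by decide +kernel

theorem gen_top : Subgroup.closure ({cc, vv} : Set (alternatingGroup (Fin 4))) = ⊤ := by
  rw [eq_top_iff]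
  intro x _
  have hc : cc ∈ Subgroup.closure ({cc, vv} : Set (alternatingGroup (Fin 4))) := Subgroup.subset_closure (by simp)
  have hv : vv ∈ Subgroup.closure ({cc, vv} : Set (alternatingGroup (Fin 4))) := Subgroup.subset_closure (by simp)
  have h1 := mul_mem (mul_mem hc hv) (inv_mem hc)
  have h2 := mul_mem (mul_mem hc h1) (inv_mem hc)
  obtain ⟨i, h | h | h | h⟩ := gen x
  · rw [h]; exact pow_mem hc _
  · rw [h]; exact mul_mem (pow_mem hc _) hv
  · rw [h]; exact mul_mem (pow_mem hc _) h1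
  · rw [h]; exact mul_mem (pow_mem hc _) h2
end

/-- Every `A₄` in `GL₂(ℤ/2ᵏ)` is conjugate to the standard one. -/
theorem exists_conj (k : ℕ) (hk : 2 ≤ k) (H : Subgroup (GL (Fin 2) (ZMod (2 ^ k))))
    (e : ↥H ≃* ↥(alternatingGroup (Fin 4))) (E0 : GL (Fin 2) (ZMod (2 ^ k)))
    (hE0 : (E0 : Matrix (Fin 2) (Fin 2) (ZMod (2 ^ k))) = EE (2 ^ (k - 1)) 0) :
    ∃ P : GL (Fin 2) (ZMod (2 ^ k)), H = (Subgroup.closure {rhoU (ZMod (2 ^ k)), E0}).map (MulAut.conj P).toMonoidHom := by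
  set f : alternatingGroup (Fin 4) →* GL (Fin 2) (ZMod (2 ^ k)) := H.subtype.comp e.symm.toMonoidHom with hf
  have hfinj : Function.Injective f := H.subtype_injective.comp e.symm.injective
  have hrange : f.range = H := by
    ext x
    constructor
    · rintro ⟨y, rfl⟩; exact (e.symm y).2
    · intro hx
      exact ⟨e ⟨x, hx⟩, by simp [hf]⟩
  have hH : H = Subgroup.closure {f cc, f vv} := by
    rw [← hrange, MonoidHom.range_eq_map, ← gen_top, MonoidHom.map_closure, Set.image_pair]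
  obtain ⟨P, hP⟩ := conj_rho (by omega) (f cc) (by rw [← map_pow, cc3, map_one]) (by
    intro h; exact cc1 (hfinj (by rw [h, map_one])))
  set ρ := rhoU (ZMod (2 ^ k)) with hρ
  set v := P⁻¹ * f vv * P with hv
  have hcP : f cc = P * ρ * P⁻¹ := by rw [← hP]; group
  have hvP : f vv = P * v * P⁻¹ := by rw [hv]; group
  have hfρ : f cc = MulAut.conj P ρ := hcP
  have hfv : f vv = MulAut.conj P v := hvP
  have t1 : v * v = 1 := by
    apply (MulAut.conj P).injective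
    rw [map_mul, ← hfv, ← map_mul, vv2, map_one, map_one]
  have t2 : v * (ρ * v * ρ⁻¹) = (ρ * v * ρ⁻¹) * v := by
    apply (MulAut.conj P).injective
    simp only [map_mul, map_inv, ← hfv, ← hfρ]
    simp only [← map_mul, ← map_inv, vvc]
  have t3 : v * (ρ * v * ρ⁻¹) = ρ * (ρ * v * ρ⁻¹) * ρ⁻¹ := by
    apply (MulAut.conj P).injective
    simp only [map_mul, map_inv, ← hfv, ← hfρ]
    simp only [← map_mul, ← map_inv, vvp]
  have t0 : v ≠ 1 := by
    intro h
    apply vv1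
    apply hfinj
    rw [hfv, h, map_one, map_one]
  have hcases := three_cases hk (v : Matrix (Fin 2) (Fin 2) (ZMod (2 ^ k)))
    (fun h => t0 (Units.ext h))
    (by have := congrArg (fun x : GL (Fin 2) (ZMod (2 ^ k)) => (x : Matrix (Fin 2) (Fin 2) (ZMod (2 ^ k)))) t1
        exact this)
    (by have := congrArg (fun x : GL (Fin 2) (ZMod (2 ^ k)) => (x : Matrix (Fin 2) (Fin 2) (ZMod (2 ^ k)))) t2
        exact this)
    (by have := congrArg (fun x : GL (Fin 2) (ZMod (2 ^ k)) => (x : Matrix (Fin 2) (Fin 2) (ZMod (2 ^ k)))) t3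
        exact this)
  have hv3 : v = E0 ∨ v = ρ * E0 * ρ⁻¹ ∨ v = ρ * (ρ * E0 * ρ⁻¹) * ρ⁻¹ := by
    rcases hcases with h | h | h
    · left; apply Units.ext; rw [h, hE0]
    · right; left; apply Units.ext; rw [h, ← hE0]; rfl
    · right; right; apply Units.ext; rw [h, ← hE0]; rfl
  have hcl : Subgroup.closure ({ρ, v} : Set (GL (Fin 2) (ZMod (2 ^ k)))) = Subgroup.closure {ρ, E0} := by
    have a1 : ρ ∈ Subgroup.closure ({ρ, v} : Set (GL (Fin 2) (ZMod (2 ^ k)))) := Subgroup.subset_closure (by simp)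
    have a2 : v ∈ Subgroup.closure ({ρ, v} : Set (GL (Fin 2) (ZMod (2 ^ k)))) := Subgroup.subset_closure (by simp)
    have b1 : ρ ∈ Subgroup.closure ({ρ, E0} : Set (GL (Fin 2) (ZMod (2 ^ k)))) := Subgroup.subset_closure (by simp)
    have b2 : E0 ∈ Subgroup.closure ({ρ, E0} : Set (GL (Fin 2) (ZMod (2 ^ k)))) := Subgroup.subset_closure (by simp)
    apply le_antisymm
    · rw [Subgroup.closure_le]
      rintro x (rfl | rfl)
      · exact b1
      · rcases hv3 with h | h | h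
        · rw [h]; exact b2
        · rw [h]; exact mul_mem (mul_mem b1 b2) (inv_mem b1)
        · rw [h]; exact mul_mem (mul_mem b1 (mul_mem (mul_mem b1 b2) (inv_mem b1))) (inv_mem b1)
    · rw [Subgroup.closure_le]
      rintro x (rfl | rfl)
      · exact a1
      · rcases hv3 with h | h | h
        · rw [← h]; exact a2
        · have : x = ρ⁻¹ * v * ρ := by rw [h]; group
          rw [this]; exact mul_mem (mul_mem (inv_mem a1) a2) a1
        · have : x = ρ⁻¹ * (ρ⁻¹ * v * ρ) * ρ := by rw [h]; group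
          rw [this]; exact mul_mem (mul_mem (inv_mem a1) (mul_mem (mul_mem (inv_mem a1) a2) a1)) a1
  refine ⟨P, ?_⟩
  rw [← hcl, MonoidHom.map_closure, Set.image_pair, hH]
  rw [hfρ, hfv]
  rfl

/-- For k ≥ 2, any two subgroups of GL₂(ℤ/2ᵏℤ) (the automorphism group of the homocyclic group ℤ/2ᵏ × ℤ/2ᵏ) that are isomorphic to the alternating group of degree 4 are conjugate. -/
theorem result (k : ℕ) (hk : 2 ≤ k) (H₁ H₂ : Subgroup (GL (Fin 2) (ZMod (2 ^ k)))) (h₁ : Nonempty (↥H₁ ≃* ↥(alternatingGroup (Fin 4)))) (h₂ : Nonempty (↥H₂ ≃* ↥(alternatingGroup (Fin 4)))) : ∃ g : GL (Fin 2) (ZMod (2 ^ k)), H₂ = H₁.map (MulAut.conj g).toMonoidHom := by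
  obtain ⟨e₁⟩ := h₁
  obtain ⟨e₂⟩ := h₂
  -- the standard involution
  have hz : (2 : ZMod (2 ^ k)) * 2 ^ (k - 1) = 0 := by
    rw [← pow_succ', show k - 1 + 1 = k by omega, two_pow_eq_zero]
  have hzz : (2 : ZMod (2 ^ k)) ^ (k - 1) * 2 ^ (k - 1) = 0 := by
    rw [← pow_add, show k - 1 + (k - 1) = k + (k - 2) by omega, pow_add, two_pow_eq_zero, zero_mul]
  have hEE : EE ((2 : ZMod (2 ^ k)) ^ (k - 1)) 0 * EE (2 ^ (k - 1)) 0 = 1 := by
    ext i j
    fin_cases i <;> fin_cases j <;> simp [EE, Matrix.mul_apply, Fin.sum_univ_two]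
    · linear_combination hz + hzz
    · linear_combination - hz
    · linear_combination - hz + hzz
  let E0 : GL (Fin 2) (ZMod (2 ^ k)) := ⟨_, _, hEE, hEE⟩
  obtain ⟨P₁, h₁⟩ := exists_conj k hk H₁ e₁ E0 rfl
  obtain ⟨P₂, h₂⟩ := exists_conj k hk H₂ e₂ E0 rfl
  refine ⟨P₂ * P₁⁻¹, ?_⟩
  rw [h₁, h₂, Subgroup.map_map]
  congr 1
  ext1 x
  change P₂ * x * P₂⁻¹ = (P₂ * P₁⁻¹) * (P₁ * x * P₁⁻¹) * (P₂ * P₁⁻¹)⁻¹
  group

end Cfsg.Agent.S2874
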