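import Cfsg.Statements.S2880
import Cfsg.Agent.H48.Extraspecial

set_option autoImplicit false
open Cfsg

namespace Cfsg.Agent.S2880

open Cfsg.Agent.H48

/-- Let E be an extraspecial 2-group of order 2^(2m+1) of plus type, that is, containing an elementary abelian subgroup of order 2^(m+1) (equivalently, a central product of m dihedral groups of order 8). Then E has exactly 2^(2m) − 2^m elements of order 4. -/
theorem result {E : Type*} [Group E] [Finite E] (m : ℕ) (hm : 1 ≤ m) (hE : Cfsg.IsExtraspecial 2 E) (hcard : Nat.card E = 2 ^ (2 * m + 1)) (hplus : ∃ A : Subgroup E, Cfsg.IsElementaryAbelian 2 A ∧ Nat.card A = 2 ^ (m + 1)) : Nat.card {x : E // orderOf x = 4} = 2 ^ (2 * m) - 2 ^ m := by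
  classical
  have hc := comm_mem_center_of_isExtraspecial hE
  have hZ : Nat.card (Subgroup.center E) = 2 := hE.2
  obtain ⟨A, ⟨hAc, hA2⟩, hAcard⟩ := hplus
  have hcomm : ∀ a ∈ A, ∀ b ∈ A, a * b = b * a := fun a ha b hb =>
    congrArg Subtype.val (hAc.is_comm.comm (⟨a, ha⟩ : A) ⟨b, hb⟩)
  have hACle : A ≤ Subgroup.centralizer (A : Set E) := by
    intro a ha
    rw [Subgroup.mem_centralizer_iff]
    intro b hb
    exact hcomm b hb a ha
  -- C_E(A) = A
  have hCA : Subgroup.centralizer (A : Set E) = A := by
    have h1 := card_mul_card_centralizer hZ hc A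
    have h2 : Nat.card ↥(A ⊓ Subgroup.center E) ≤ 2 := by
      rw [← hZ]; exact Nat.le_of_dvd Nat.card_pos (Subgroup.card_dvd_of_le inf_le_right)
    have h3 : Nat.card (Subgroup.centralizer (A : Set E)) ≤ Nat.card A := by
      have h4 : Nat.card A * Nat.card (Subgroup.centralizer (A : Set E)) ≤ Nat.card A * Nat.card A := by
        rw [h1, hcard, hAcard]
        calc 2 ^ (2 * m + 1) * Nat.card ↥(A ⊓ Subgroup.center E) ≤ 2 ^ (2 * m + 1) * 2 := by gcongr
          _ = 2 ^ (m + 1) * 2 ^ (m + 1) := by ring
      exact Nat.le_of_mul_le_mul_left h4 Nat.card_pos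
    exact (Subgroup.eq_of_le_of_card_ge hACle h3).symm
  -- the central involution
  obtain ⟨z, hz1, hzall⟩ : ∃ z : E, z ≠ 1 ∧ ∀ w ∈ Subgroup.center E, w ≠ 1 → w = z := by
    obtain ⟨w, hw, hw2⟩ := (Nat.card_eq_two_iff' (1 : Subgroup.center E)).mp hZ
    refine ⟨w, fun h => hw (by ext; exact h), fun v hv hv1 => ?_⟩
    exact congrArg Subtype.val (hw2 ⟨v, hv⟩ (fun h => hv1 (congrArg Subtype.val h)))
  have hsq : ∀ w ∈ Subgroup.center E, w * w = 1 := by
    intro w hw
    have h2 : (⟨w, hw⟩ : Subgroup.center E) ^ 2 = 1 := by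
      rw [← hZ]; exact pow_card_eq_one'
    have h3 := congrArg Subtype.val h2
    rw [pow_two] at h3
    exact h3
  have hpc : ∀ x : E, x * x ∈ Subgroup.center E := by
    intro x
    have := pow_mem_center hZ hc x
    rwa [pow_two] at this
  -- choice of a noncommuting element depending only on the coset
  have hex : ∀ x : E, x ∉ A → ∃ a ∈ A, x * a ≠ a * x := by
    intro x hx
    by_contra hcon
    push Not at hcon
    apply hx
    rw [← hCA, Subgroup.mem_centralizer_iff]
    intro a ha
    exact (hcon a ha).symm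
  let g : E ⧸ A → E := fun q => if h : q.out ∉ A then (hex q.out h).choose else 1
  have hg : ∀ x : E, x ∉ A → g (x : E ⧸ A) ∈ A ∧ x * g (x : E ⧸ A) ≠ g (x : E ⧸ A) * x := by
    intro x hx
    have hout : (x : E ⧸ A).out⁻¹ * x ∈ A := by
      rw [← QuotientGroup.eq]
      exact QuotientGroup.out_eq' _
    have hnot : (x : E ⧸ A).out ∉ A := by
      intro h
      apply hx
      have := A.mul_mem h hout
      simpa using this
    have hgq : g (x : E ⧸ A) = (hex _ hnot).choose := by
      simp only [g]
      rw [dif_pos hnot]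
    have hspec := (hex _ hnot).choose_spec
    rw [hgq]
    refine ⟨hspec.1, fun h => hspec.2 ?_⟩
    set a := (hex _ hnot).choose
    set r := (x : E ⧸ A).out
    have hb := hcomm _ hout a hspec.1
    have hx2 : x = r * (r⁻¹ * x) := by group
    have h2 : (r * a) * (r⁻¹ * x) = (a * r) * (r⁻¹ * x) := by
      calc (r * a) * (r⁻¹ * x) = r * (a * (r⁻¹ * x)) := by group
        _ = r * ((r⁻¹ * x) * a) := by rw [hb]
        _ = x * a := by group
        _ = a * x := h
        _ = _ := by group
    exact mul_right_cancel h2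
  have hflip : ∀ x : E, x ∉ A → (x * g (x : E ⧸ A)) * (x * g (x : E ⧸ A)) = z * (x * x) := by
    intro x hx
    obtain ⟨h1, h2⟩ := hg x hx
    set a := g (x : E ⧸ A)
    have h3 : a * x * a⁻¹ * x⁻¹ = z := by
      apply hzall _ (hc a x)
      intro h4
      apply h2
      have := (commHom_eq_one_iff hc x a).mp h4
      exact this.symm
    have h5 : a * x = z * (x * a) := by rw [← h3]; group
    have haa : a * a = 1 := by have := hA2 a h1; rwa [pow_two] at this
    have hzc : z ∈ Subgroup.center E := by rw [← h3]; exact hc a x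
    have hzx := Subgroup.mem_center_iff.mp hzc x
    calc x * a * (x * a) = x * (a * x) * a := by group
      _ = x * (z * (x * a)) * a := by rw [h5]
      _ = (x * z) * x * (a * a) := by group
      _ = (z * x) * x * 1 := by rw [hzx, haa]
      _ = z * (x * x) := by group
  have := Fintype.ofFinite E
  have hmk : ∀ x : E, x ∉ A → ((x * g (x : E ⧸ A) : E) : E ⧸ A) = (x : E ⧸ A) := by
    intro x hx
    exact QuotientGroup.mk_mul_of_mem x (hg x hx).1
  have hzc : z ∈ Subgroup.center E := by
    by_contra hcon
    have h1 : Nat.card (Subgroup.center E) = 1 := by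
      rw [Subgroup.card_eq_one, eq_bot_iff]
      intro w hw
      rw [Subgroup.mem_bot]
      by_contra hw1
      exact hcon (hzall w hw hw1 ▸ hw)
    omega
  have hnA : ∀ x : E, x ∉ A → x * g (x : E ⧸ A) ∉ A := by
    intro x hx h
    exact hx ((Subgroup.mul_mem_cancel_right A (hg x hx).1).mp h)
  have hinv : ∀ x : E, x ∉ A → (x * g (x : E ⧸ A)) * g ((x * g (x : E ⧸ A) : E) : E ⧸ A) = x := by
    intro x hx
    rw [hmk x hx]
    have h1 : g (x : E ⧸ A) * g (x : E ⧸ A) = 1 := by
      have := hA2 _ (hg x hx).1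
      rwa [pow_two] at this
    rw [mul_assoc, h1, mul_one]
  have hbij : (Finset.univ.filter (fun x : E => x ∉ A ∧ x * x ≠ 1)).card =
      (Finset.univ.filter (fun x : E => x ∉ A ∧ x * x = 1)).card := by
    apply Finset.card_nbij' (fun x : E => x * g (x : E ⧸ A)) (fun x : E => x * g (x : E ⧸ A))
    · intro x hx
      simp only [Finset.coe_filter, Finset.mem_univ, true_and, Set.mem_ofPred_eq] at hx ⊢
      refine ⟨hnA x hx.1, ?_⟩
      rw [hflip x hx.1, hzall _ (hpc x) hx.2]
      exact hsq z hzc
    · intro x hx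
      simp only [Finset.coe_filter, Finset.mem_univ, true_and, Set.mem_ofPred_eq] at hx ⊢
      refine ⟨hnA x hx.1, ?_⟩
      rw [hflip x hx.1, hx.2, mul_one]
      exact hz1
    · intro x hx
      simp only [Finset.coe_filter, Finset.mem_univ, true_and, Set.mem_ofPred_eq] at hx
      exact hinv x hx.1
    · intro x hx
      simp only [Finset.coe_filter, Finset.mem_univ, true_and, Set.mem_ofPred_eq] at hx
      exact hinv x hx.1
  have hsum : (Finset.univ.filter (fun x : E => x ∉ A ∧ x * x ≠ 1)).card +
      (Finset.univ.filter (fun x : E => x ∉ A ∧ x * x = 1)).card + Nat.card A = Nat.card E := by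
    have h1 : Nat.card A = (Finset.univ.filter (fun x : E => x ∈ A)).card := by
      rw [Nat.card_eq_fintype_card, ← Fintype.card_subtype]
    have h2 := Finset.card_filter_add_card_filter_not (s := (Finset.univ : Finset E)) (fun x => x ∈ A)
    have h3 := Finset.card_filter_add_card_filter_not (s := (Finset.univ.filter (fun x : E => x ∉ A))) (fun x => x * x = 1)
    rw [Finset.filter_filter, Finset.filter_filter] at h3
    rw [h1, Nat.card_eq_fintype_card, ← Finset.card_univ, ← h2, ← h3]
    ring
  have hS : Nat.card {x : E // orderOf x = 4} = (Finset.univ.filter (fun x : E => x ∉ A ∧ x * x ≠ 1)).card := by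
    rw [Nat.card_eq_fintype_card, Fintype.card_subtype]
    congr 1
    ext x
    simp only [Finset.mem_filter, Finset.mem_univ, true_and]
    constructor
    · intro h
      have h1 : x * x ≠ 1 := by
        intro h2
        rw [← pow_two] at h2
        have := orderOf_dvd_of_pow_eq_one h2
        rw [h] at this
        omega
      refine ⟨fun hxA => h1 ?_, h1⟩
      have := hA2 x hxA
      rwa [pow_two] at this
    · rintro ⟨_, h1⟩
      have h4 : x ^ (2 ^ (1 + 1)) = 1 := by
        have := hsq _ (hpc x)
        calc x ^ (2 ^ (1 + 1)) = (x * x) * (x * x) := by simp [pow_succ, mul_assoc]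
          _ = 1 := this
      have := orderOf_eq_prime_pow (p := 2) (n := 1) (x := x) (by rw [pow_one, pow_two]; exact h1) h4
      rw [this]; norm_num
  rw [hS]
  rw [hcard, hAcard] at hsum
  have e1 : 2 ^ (2 * m + 1) = 2 * 2 ^ (2 * m) := by ring
  have e2 : 2 ^ (m + 1) = 2 * 2 ^ m := by ring
  omega

end Cfsg.Agent.S2880
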