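import Cfsg.Statements.S2881
import Cfsg.Agent.S2880

set_option autoImplicit false
open Cfsg

namespace Cfsg.Agent.S2881

/-- Let E be an extraspecial 2-group of order 2^(2m+1) of plus type (containing an elementary abelian subgroup of order 2^(m+1)), and let ω be an automorphism of E of order 5 whose fixed points are exactly the centre of E. Then m is divisible by 4. -/
theorem result {E : Type*} [Group E] [Finite E] (m : ℕ) (hm : 1 ≤ m) (hE : Cfsg.IsExtraspecial 2 E) (hcard : Nat.card E = 2 ^ (2 * m + 1)) (hplus : ∃ A : Subgroup E, Cfsg.IsElementaryAbelian 2 A ∧ Nat.card A = 2 ^ (m + 1)) (ω : E ≃* E) (hω : orderOf ω = 5) (hfix : ∀ x : E, ω x = x ↔ x ∈ Subgroup.center E) : 4 ∣ m := by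
  have h4 := Cfsg.Agent.S2880.result m hm hE hcard hplus
  let K : Subgroup (MulAut E) := Subgroup.zpowers (ω : MulAut E)
  have hK : IsPGroup 5 K := by
    apply IsPGroup.of_card (n := 1)
    rw [Nat.card_zpowers, pow_one]
    exact hω
  let act : MulAction K {x : E // orderOf x = 4} :=
    { smul := fun k x => ⟨(k : MulAut E) x.1, 
        (orderOf_injective (k : MulAut E).toMonoidHom (k : MulAut E).injective x.1).trans x.2⟩
      one_smul := fun x => rfl
      mul_smul := fun a b x => rfl }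
  have h5 : Fact (Nat.Prime 5) := ⟨by norm_num⟩
  have hmod := hK.card_modEq_card_fixedPoints {x : E // orderOf x = 4}
  have hfp : Nat.card (MulAction.fixedPoints K {x : E // orderOf x = 4}) = 0 := by
    rw [Nat.card_eq_zero]
    left
    refine ⟨fun x => ?_⟩
    obtain ⟨⟨x, hx⟩, hfix'⟩ := x
    have h1 := hfix' ⟨ω, Subgroup.mem_zpowers _⟩
    have h2 : ω x = x := congrArg Subtype.val h1
    have h3 := (hfix x).mp h2
    have h6 : (⟨x, h3⟩ : Subgroup.center E) ^ 2 = 1 := by
      rw [← hE.2]; exact pow_card_eq_one'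
    have h7 : x ^ 2 = 1 := congrArg Subtype.val h6
    have h8 := orderOf_dvd_of_pow_eq_one h7
    rw [hx] at h8
    omega
  rw [hfp, h4, Nat.modEq_zero_iff_dvd] at hmod
  have h9 : 2 ^ (2 * m) - 2 ^ m = 2 ^ m * (2 ^ m - 1) := by
    rw [Nat.mul_sub, mul_one, ← pow_add, two_mul]
  rw [h9] at hmod
  have h10 : 5 ∣ 2 ^ m - 1 := by
    rcases (Nat.Prime.dvd_mul (by norm_num)).mp hmod with h | h
    · exfalso
      have := Nat.Prime.dvd_of_dvd_pow (by norm_num : Nat.Prime 5) h
      omega
    · exact h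
  have h11 : 2 ^ m ≡ 1 [MOD 5] := by
    have h12 : 1 ≤ 2 ^ m := Nat.one_le_two_pow
    exact ((Nat.modEq_iff_dvd' h12).mpr h10).symm
  -- m mod 4
  have h13 : m = 4 * (m / 4) + m % 4 := by omega
  have h14 : 2 ^ m ≡ 2 ^ (m % 4) [MOD 5] := by
    conv_lhs => rw [h13, pow_add, pow_mul]
    have h15 : (2 ^ 4) ^ (m / 4) ≡ 1 ^ (m / 4) [MOD 5] := Nat.ModEq.pow _ (by decide)
    rw [one_pow] at h15
    calc (2 ^ 4) ^ (m / 4) * 2 ^ (m % 4) ≡ 1 * 2 ^ (m % 4) [MOD 5] := Nat.ModEq.mul_right _ h15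
      _ = 2 ^ (m % 4) := one_mul _
  have h16 := h14.symm.trans h11
  have h17 : m % 4 < 4 := Nat.mod_lt _ (by norm_num)
  have h18 : m % 4 = 0 := by
    interval_cases h : m % 4
    · rfl
    · exfalso; revert h16; decide
    · exfalso; revert h16; decide
    · exfalso; revert h16; decide
  omega

end Cfsg.Agent.S2881
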