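import Cfsg.Statements.S2882
import Cfsg.Agent.Fus.MatM24

set_option autoImplicit false
open Cfsg

namespace Cfsg.Agent.S2882

open Cfsg.Agent.Fus.Mat

/-- In the Mathieu group of degree 24 (realised as the automorphism group of the extended binary Golay code) every Sylow 2-subgroup is self-normalizing. -/
theorem result (S : Sylow 2 ↥Cfsg.M24) : Subgroup.normalizer ((S : Subgroup ↥Cfsg.M24) : Set ↥Cfsg.M24) = (S : Subgroup ↥Cfsg.M24) := by
  have hL : validL LM24 = true := allL_iff.mpr fun n hn => (validM24_spec n (allL_iff.mp inG_M24 n hn)).1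
  have hUG : UL LM24 ≤ M24 := by
    unfold UL
    rw [Subgroup.closure_le]
    rintro _ ⟨n, hn, rfl⟩
    exact (validM24_spec n (allL_iff.mp inG_M24 n hn)).2
  have hN : ∀ n, n ∈ Subgroup.normalizer ((UL LM24 : Subgroup (Equiv.Perm Cfsg.GolayPt)) : Set (Equiv.Perm Cfsg.GolayPt)) →
      ∃ k : ℕ, n ^ 2 ^ k = 1 := fun n hn =>
    pow_eq_one_of_check hL labCheck_M24 szCheck_M24 (P := 0) (ks := ksM24) (by decide) chainCheck_M24 hn
      (fun x => by simp)
  have hord : 2 ^ 10 ≤ Nat.card (UL LM24) := (Nat.le_of_ble_eq_true ord_M24).trans (ordLB_le' hL lvCheck_M24)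
  have : Fact (Nat.Prime 2) := ⟨Nat.prime_two⟩
  have hUp : IsPGroup 2 (UL LM24) := by
    rintro ⟨n, hn⟩
    obtain ⟨j, hj⟩ := hN n (Subgroup.le_normalizer hn)
    exact ⟨j, Subtype.ext hj⟩
  let U' : Subgroup Cfsg.M24 := (UL LM24).subgroupOf Cfsg.M24
  have hU'p : IsPGroup 2 U' := hUp.of_injective (Subgroup.inclusion (le_refl _) |>.comp
    ((Subgroup.subgroupOfEquivOfLe hUG).toMonoidHom)) (by
      intro a b hab
      exact (Subgroup.subgroupOfEquivOfLe hUG).injective hab)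
  have hU'c : Nat.card U' = Nat.card (UL LM24) := Nat.card_congr (Subgroup.subgroupOfEquivOfLe hUG).toEquiv
  obtain ⟨P, hP⟩ := hU'p.exists_le_sylow
  have hPU : (P : Subgroup Cfsg.M24) = U' := by
    symm
    apply Subgroup.eq_of_le_of_card_ge hP
    rw [hU'c]
    refine le_trans ?_ hord
    rw [Sylow.card_eq_multiplicity, Cfsg.Agent.Golay.card_M24]
    have : (244823040 : ℕ) = 2 ^ 10 * 239085 := by norm_num
    rw [this, Nat.factorization_mul (by norm_num) (by norm_num), Nat.Prime.factorization_pow Nat.prime_two]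
    have h0 : Nat.factorization 239085 2 = 0 := Nat.factorization_eq_zero_of_not_dvd (by norm_num)
    simp [h0]
  obtain ⟨g, hg⟩ := MulAction.exists_smul_eq Cfsg.M24 S P
  have hNS : IsPGroup 2 (Subgroup.normalizer ((S : Subgroup ↥Cfsg.M24) : Set ↥Cfsg.M24)) := by
    rintro ⟨n, hn⟩
    have h1 : g * n * g⁻¹ ∈ Subgroup.normalizer ((U' : Subgroup ↥Cfsg.M24) : Set ↥Cfsg.M24) := by
      rw [← hPU, ← hg]
      rw [Subgroup.mem_normalizer_iff] at hn ⊢
      intro x
      have key : ∀ y, y ∈ ((g • S : Sylow 2 Cfsg.M24) : Subgroup Cfsg.M24) ↔ g⁻¹ * y * g ∈ (S : Subgroup Cfsg.M24) := by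
        intro y
        rw [Sylow.coe_subgroup_smul, Subgroup.mem_pointwise_smul_iff_inv_smul_mem]
        change (MulAut.conj g)⁻¹ y ∈ _ ↔ _
        rw [← map_inv, MulAut.conj_apply, inv_inv]
      have h2 : g⁻¹ * (g * n * g⁻¹ * x * (g * n * g⁻¹)⁻¹) * g = n * (g⁻¹ * x * g) * n⁻¹ := by group
      constructor
      · intro hx
        rw [key] at hx ⊢
        rw [h2]; exact (hn _).1 hx
      · intro hx
        rw [key] at hx ⊢
        rw [h2] at hx; exact (hn _).2 hx
    have h2 : ((g * n * g⁻¹ : Cfsg.M24) : Equiv.Perm Cfsg.GolayPt) ∈ Subgroup.normalizer ((UL LM24 : Subgroup (Equiv.Perm Cfsg.GolayPt)) : Set (Equiv.Perm Cfsg.GolayPt)) := by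
      rw [Subgroup.mem_normalizer_iff] at h1 ⊢
      intro x
      constructor
      · intro hx
        exact (h1 ⟨x, hUG hx⟩).1 hx
      · intro hx
        have hx' := hUG hx
        have e : x = ((g * n * g⁻¹ : Cfsg.M24) : Equiv.Perm Cfsg.GolayPt)⁻¹ * (((g * n * g⁻¹ : Cfsg.M24) : Equiv.Perm Cfsg.GolayPt) * x * ((g * n * g⁻¹ : Cfsg.M24) : Equiv.Perm Cfsg.GolayPt)⁻¹) * ((g * n * g⁻¹ : Cfsg.M24) : Equiv.Perm Cfsg.GolayPt) := by group
        have hxM : x ∈ Cfsg.M24 := by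
          rw [e]
          exact mul_mem (mul_mem (inv_mem (g * n * g⁻¹ : Cfsg.M24).2) hx') (g * n * g⁻¹ : Cfsg.M24).2
        exact (h1 ⟨x, hxM⟩).2 hx
    obtain ⟨k, hk⟩ := hN _ h2
    refine ⟨k, ?_⟩
    have h3 : (g * n * g⁻¹) ^ 2 ^ k = 1 := Subtype.ext (by rw [Subgroup.coe_pow]; exact hk)
    rw [conj_pow] at h3
    have h4 : n ^ 2 ^ k = 1 := by
      have := congrArg (fun y => g⁻¹ * y * g) h3
      simpa [mul_assoc] using this
    exact Subtype.ext h4
  exact S.is_maximal' hNS Subgroup.le_normalizer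

end Cfsg.Agent.S2882
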