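import Cfsg.Statements.S2911
import Cfsg.Agent.S2872
import Cfsg.Agent.H48.PResidual

set_option autoImplicit false
open Cfsg

namespace Cfsg.Agent.S2911

open Cfsg.Agent.H48

/-- The group `C₂ × D₈`. -/
abbrev D := Multiplicative (ZMod 2) × DihedralGroup 4

/-- The nontrivial commutator. -/
def z0 : D := (1, DihedralGroup.r 2)

/-- A central involution outside the derived subgroup. -/
def t0 : D := (Multiplicative.ofAdd 1, 1)

theorem center_cases : ∀ w : D, (∀ x, x * w = w * x) → (w = 1 ∨ w = z0 ∨ w = t0 ∨ w = t0 * z0) := by decide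

theorem comm_cases : ∀ a b : D, a * b * a⁻¹ * b⁻¹ = 1 ∨ a * b * a⁻¹ * b⁻¹ = z0 := by decide

theorem t0_comm : ∀ x : D, x * t0 = t0 * x := by decide

theorem z0_comm : ∀ x : D, x * z0 = z0 * x := by decide

theorem aut_fix_z0 (φ : D ≃* D) : φ z0 = z0 := by
  have h1 : z0 = (1, DihedralGroup.r 1) * (1, DihedralGroup.sr 0) * ((1, DihedralGroup.r 1) : D)⁻¹ * ((1, DihedralGroup.sr 0) : D)⁻¹ := by
    decide
  have h2 : φ z0 = 1 ∨ φ z0 = z0 := by
    rw [h1, map_mul, map_mul, map_mul, map_inv, map_inv]
    rw [← h1]
    exact comm_cases _ _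
  rcases h2 with h | h
  · exfalso
    have : z0 = 1 := by
      apply φ.injective
      rw [h, map_one]
    exact absurd this (by decide)
  · exact h

theorem aut_sq_center (φ : D ≃* D) (w : D) (hw : ∀ x, x * w = w * x) : φ (φ w) = w := by
  have hφc : ∀ v : D, (∀ x, x * v = v * x) → ∀ x, x * φ v = φ v * x := by
    intro v hv x
    have := congrArg φ (hv (φ.symm x))
    simpa using this
  have hz := aut_fix_z0 φ
  have ht : φ (φ t0) = t0 := by
    rcases center_cases (φ t0) (hφc t0 t0_comm) with h | h | h | h
    · exfalso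
      have : t0 = 1 := by apply φ.injective; rw [h, map_one]
      exact absurd this (by decide)
    · exfalso
      have : t0 = z0 := by apply φ.injective; rw [h, hz]
      exact absurd this (by decide)
    · rw [h, h]
    · rw [h, map_mul, h, hz]
      decide
  rcases center_cases w hw with h | h | h | h
  · rw [h, map_one, map_one]
  · rw [h, hz, hz]
  · rw [h, ht]
  · rw [h, map_mul, map_mul, ht, hz, hz]

theorem card_D : Nat.card D = 16 := by
  rw [Nat.card_eq_fintype_card]; decide

theorem t0_not_mem_frattini : t0 ∉ frattini D := by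
  intro h
  let f : D →* Multiplicative (ZMod 2) := MonoidHom.fst _ _
  have hf : Function.Surjective f := Prod.fst_surjective
  have hidx : f.ker.index = 2 := by
    rw [Subgroup.index_ker, MonoidHom.range_eq_top.mpr hf, Subgroup.card_top, Nat.card_eq_fintype_card]
    decide
  have hco : IsCoatom f.ker := by
    constructor
    · intro h0
      rw [h0, Subgroup.index_top] at hidx
      omega
    · intro K hK
      have h1 := Subgroup.relIndex_mul_index hK.le
      rw [hidx] at h1
      have h2 : K.index ∣ 2 := Dvd.intro_left _ h1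
      rcases (Nat.dvd_prime Nat.prime_two).mp h2 with h3 | h3
      · exact Subgroup.index_eq_one.mp h3
      · exfalso
        rw [h3] at h1
        have h4 : f.ker.relIndex K = 1 := by omega
        rw [Subgroup.relIndex_eq_one] at h4
        exact absurd (lt_of_lt_of_le hK h4) (lt_irrefl _)
  have h5 := frattini_le_coatom hco h
  rw [MonoidHom.mem_ker] at h5
  exact absurd h5 (by decide)

/-- A finite group whose Sylow 2-subgroups are isomorphic to the direct product of a group of order 2 and a dihedral group of order 8 has a subgroup of index two. -/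
theorem result {G : Type*} [Group G] [Finite G] (S : Sylow 2 G) (hS : Nonempty (↥(S : Subgroup G) ≃* Multiplicative (ZMod 2) × DihedralGroup 4)) : ∃ H : Subgroup G, H.index = 2 := by
  obtain ⟨e⟩ := hS
  have hcase := Cfsg.Agent.S2872.result S
  rcases hcase with h | h | h
  · obtain ⟨H, _, hH⟩ := exists_normal_index_eq_of_pResidual_ne_top h
    exact ⟨H, hH⟩
  · exfalso
    have hc : ∀ y : (S : Subgroup G), y * e.symm t0 = e.symm t0 * y := by
      intro y
      apply e.injective
      rw [map_mul, map_mul, e.apply_symm_apply]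
      exact t0_comm _
    have hmem : ((e.symm t0 : (S : Subgroup G)) : G) ∈ Cfsg.omegaOne 2 ((S : Subgroup G) ⊓ Subgroup.centralizer ((S : Subgroup G) : Set G)) := by
      apply Subgroup.subset_closure
      refine ⟨Subgroup.mem_inf.mpr ⟨(e.symm t0).2, ?_⟩, ?_⟩
      · rw [Subgroup.mem_centralizer_iff]
        intro y hy
        exact congrArg Subtype.val (hc ⟨y, hy⟩)
      · have h1 : (e.symm t0) ^ 2 = 1 := by
          rw [← map_pow]
          have : t0 ^ 2 = 1 := by decide
          rw [this, map_one]
        have := congrArg Subtype.val h1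
        simpa using this
    obtain ⟨y, hy, hy2⟩ := h hmem
    have h3 : y = e.symm t0 := Subtype.ext hy2
    rw [h3] at hy
    apply t0_not_mem_frattini
    have h4 := frattini_le_comap_frattini_of_surjective (φ := e.toMonoidHom) e.surjective hy
    rw [Subgroup.mem_comap] at h4
    simpa using h4
  · exfalso
    obtain ⟨g, hg, z, hz, hgz⟩ := h
    have hzmem : z ∈ (S : Subgroup G) ⊓ Subgroup.centralizer ((S : Subgroup G) : Set G) := by
      have : Cfsg.omegaOne 2 ((S : Subgroup G) ⊓ Subgroup.centralizer ((S : Subgroup G) : Set G)) ≤ (S : Subgroup G) ⊓ Subgroup.centralizer ((S : Subgroup G) : Set G) := by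
        unfold Cfsg.omegaOne
        rw [Subgroup.closure_le]
        rintro x ⟨hx, _⟩
        exact hx
      exact this hz
    obtain ⟨hzS, hzC⟩ := Subgroup.mem_inf.mp hzmem
    -- the automorphism induced by g
    set N := Subgroup.normalizer ((S : Subgroup G) : Set G)
    -- odd part acts like g
    have hsq : ∀ n : N, ∀ w : (S : Subgroup G), (∀ y : (S : Subgroup G), y * w = w * y) →
        ((S : Subgroup G).normalizerMonoidHom (n ^ 2)) w = w := by
      intro n w hw
      let φ : D ≃* D := (e.symm.trans ((S : Subgroup G).normalizerMonoidHom n)).trans e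
      have h1 := aut_sq_center φ (e w) (by
        intro x
        have := congrArg e (hw (e.symm x))
        simpa using this)
      have h2 : φ (φ (e w)) = e (((S : Subgroup G).normalizerMonoidHom n) (((S : Subgroup G).normalizerMonoidHom n) w)) := by
        simp [φ]
      rw [h2] at h1
      have h3 := e.injective h1
      rw [pow_two, map_mul]
      exact h3
    -- order of g in N
    obtain ⟨k, m, hm, hk⟩ := Nat.exists_eq_pow_mul_and_not_dvd (n := orderOf (⟨g, hg⟩ : N)) (orderOf_pos _).ne' 2
      (by norm_num)
    obtain ⟨j, hj⟩ : ∃ j, m = 2 * j + 1 := by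
      have : m % 2 = 1 := by omega
      exact ⟨m / 2, by omega⟩
    have hgm : ((⟨g, hg⟩ : N) ^ m : N).1 ∈ (S : Subgroup G) := by
      have hp : IsPGroup 2 (Subgroup.zpowers (((⟨g, hg⟩ : N) ^ m : N) : G)) := by
        apply IsPGroup.of_card (n := k)
        rw [Nat.card_zpowers, Subgroup.orderOf_coe]
        have hmpos : m ≠ 0 := by omega
        rw [orderOf_pow' _ hmpos, hk, Nat.gcd_eq_right (Dvd.intro_left _ rfl)]
        exact Nat.mul_div_cancel _ (Nat.pos_of_ne_zero hmpos)
      have h1 := hp.inf_normalizer_sylow S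
      exact (h1.le ⟨Subgroup.mem_zpowers _, ((⟨g, hg⟩ : N) ^ m).2⟩).2
    set w : (S : Subgroup G) := ⟨z, hzS⟩
    have hw : ∀ y : (S : Subgroup G), y * w = w * y := by
      intro y
      ext
      exact Subgroup.mem_centralizer_iff.mp hzC y y.2
    have hiter : ∀ i : ℕ, ((S : Subgroup G).normalizerMonoidHom ((⟨g, hg⟩ : N) ^ (2 * i))) w = w := by
      intro i
      rw [mul_comm, pow_mul]
      exact hsq _ w hw
    have h5 : ((S : Subgroup G).normalizerMonoidHom ((⟨g, hg⟩ : N) ^ m)) w = ((S : Subgroup G).normalizerMonoidHom (⟨g, hg⟩ : N)) w := by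
      rw [hj, pow_succ', map_mul, MulAut.mul_apply, hiter]
    have h6 : ((S : Subgroup G).normalizerMonoidHom ((⟨g, hg⟩ : N) ^ m)) w = w := by
      ext
      change (((⟨g, hg⟩ : N) ^ m : N) : G) * z * (((⟨g, hg⟩ : N) ^ m : N) : G)⁻¹ = z
      have := congrArg Subtype.val (hw ⟨_, hgm⟩)
      rw [mul_inv_eq_iff_eq_mul]
      exact this
    rw [h6] at h5
    apply hgz
    exact (congrArg Subtype.val h5).symm

end Cfsg.Agent.S2911
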