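import Cfsg.Statements.S4231
import Cfsg.Agent.AutAlt.Basic

set_option autoImplicit false
open Cfsg

namespace Cfsg.Agent.S4231

open Equiv

/-- Elements of order 3 of `A₆`. -/
theorem cycleType_of_order_three {x : Perm (Fin 6)} (hx : orderOf x = 3) :
    x.IsThreeCycle ∨ x.cycleType = {3, 3} := by
  obtain ⟨n, hn⟩ := Perm.cycleType_prime_order (σ := x) (by rw [hx]; norm_num)
  rw [hx] at hn
  have h1 := Perm.sum_cycleType_le x
  rw [hn, Multiset.sum_replicate, Fintype.card_fin, smul_eq_mul] at h1
  have h2 : n = 0 ∨ n = 1 := by omega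
  rcases h2 with rfl | rfl
  · left
    show x.cycleType = {3}
    rw [hn]; rfl
  · right
    rw [hn]; rfl

def x0 : Perm (Fin 6) := (swap 0 1 * swap 1 2) * (swap 3 4 * swap 4 5)
def z0 : Perm (Fin 6) := swap 0 3 * swap 1 4 * swap 2 5

theorem x0_type : x0.cycleType = {3, 3} := by decide +kernel
theorem z0_x0 : z0 * x0 = x0 * z0 := by decide +kernel
theorem z0_sign : Perm.sign z0 = -1 := by decide +kernel

theorem isConj_of_double {x y : alternatingGroup (Fin 6)} (hx : (x : Perm (Fin 6)).cycleType = {3, 3})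
    (hy : (y : Perm (Fin 6)).cycleType = {3, 3}) : IsConj x y := by
  obtain ⟨g, hg⟩ := isConj_iff.1 (Equiv.Perm.isConj_iff_cycleType_eq.2 (hx.trans hy.symm))
  obtain ⟨k, hk⟩ := isConj_iff.1 (Equiv.Perm.isConj_iff_cycleType_eq.2 (x0_type.trans hx.symm))
  rcases Int.units_eq_one_or (Perm.sign g) with h1 | h1
  · exact isConj_iff.2 ⟨⟨g, Perm.mem_alternatingGroup.2 h1⟩, Subtype.ext hg⟩
  · set z := k * z0 * k⁻¹ with hz
    have hzx : z * (x : Perm (Fin 6)) * z⁻¹ = x := by
      rw [← hk, hz]
      calc k * z0 * k⁻¹ * (k * x0 * k⁻¹) * (k * z0 * k⁻¹)⁻¹ = k * (z0 * x0 * z0⁻¹) * k⁻¹ := by group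
        _ = k * x0 * k⁻¹ := by rw [z0_x0, mul_inv_cancel_right]
    have hzs : Perm.sign z = -1 := by
      rw [hz, Perm.sign_mul, Perm.sign_mul, Perm.sign_inv, z0_sign]
      rcases Int.units_eq_one_or (Perm.sign k) with h2 | h2 <;> simp [h2]
    have hgz : Perm.sign (g * z) = 1 := by
      rw [Perm.sign_mul, h1, hzs]; simp
    refine isConj_iff.2 ⟨⟨g * z, Perm.mem_alternatingGroup.2 hgz⟩, Subtype.ext ?_⟩
    show g * z * x * (g * z)⁻¹ = y
    have : g * z * x * (g * z)⁻¹ = g * (z * x * z⁻¹) * g⁻¹ := by group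
    rw [this, hzx, hg]

/-- even permutations of order `p q` -/
theorem exists_even_order {n p q : ℕ} (hp : p.Prime) (hq : q.Prime) (hqp : q < p) (hn : 2 * p ≤ n)
    (h6 : n ≠ 6) : ∃ σ : Perm (Fin n), Perm.sign σ = 1 ∧ orderOf σ = p * q := by
  have hcop : Nat.Coprime p q := (Nat.coprime_primes hp hq).2 hqp.ne'
  have hp2 : p ≠ 2 := by have := hq.two_le; omega
  have hpo : Odd p := hp.odd_of_ne_two hp2
  rcases eq_or_ne q 2 with rfl | hq2
  · obtain ⟨σ, hσ⟩ := (Perm.exists_with_cycleType_iff (α := Fin n) (m := {p, 2, 2})).2 (by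
      constructor
      · rw [Fintype.card_fin]
        simp only [Multiset.insert_eq_cons, Multiset.sum_cons, Multiset.sum_singleton]
        obtain ⟨k, hk⟩ := hpo
        by_cases h3 : p = 3
        · omega
        · omega
      · intro a ha
        simp only [Multiset.insert_eq_cons, Multiset.mem_cons, Multiset.mem_singleton] at ha
        rcases ha with rfl | rfl | rfl <;> omega)
    refine ⟨σ, ?_, ?_⟩
    · rw [Perm.sign_of_cycleType, hσ]
      simp only [Multiset.insert_eq_cons, Multiset.sum_cons, Multiset.sum_singleton, Multiset.card_cons,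
        Multiset.card_singleton]
      obtain ⟨k, hk⟩ := hpo
      have : Even (p + (2 + 2) + (0 + 1 + 1 + 1)) := ⟨k + 4, by omega⟩
      exact this.neg_one_pow
    · rw [← Perm.lcm_cycleType, hσ]
      simp only [Multiset.insert_eq_cons, Multiset.lcm_cons, Multiset.lcm_singleton, normalize_eq]
      rw [show lcm 2 2 = 2 from by decide]
      exact hcop.lcm_eq_mul
  · have hqo : Odd q := hq.odd_of_ne_two hq2
    obtain ⟨σ, hσ⟩ := (Perm.exists_with_cycleType_iff (α := Fin n) (m := {p, q})).2 (by
      constructor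
      · rw [Fintype.card_fin]
        simp only [Multiset.insert_eq_cons, Multiset.sum_cons, Multiset.sum_singleton]
        omega
      · intro a ha
        simp only [Multiset.insert_eq_cons, Multiset.mem_cons, Multiset.mem_singleton] at ha
        rcases ha with rfl | rfl
        · exact hp.two_le
        · exact hq.two_le)
    refine ⟨σ, ?_, ?_⟩
    · rw [Perm.sign_of_cycleType, hσ]
      simp only [Multiset.insert_eq_cons, Multiset.sum_cons, Multiset.sum_singleton, Multiset.card_cons,
        Multiset.card_singleton]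
      obtain ⟨k, hk⟩ := hpo
      obtain ⟨l, hl⟩ := hqo
      have : Even (p + q + (0 + 1 + 1)) := ⟨k + l + 2, by omega⟩
      exact this.neg_one_pow
    · rw [← Perm.lcm_cycleType, hσ]
      simp only [Multiset.insert_eq_cons, Multiset.lcm_cons, Multiset.lcm_singleton, normalize_eq]
      exact hcop.lcm_eq_mul

/-- a `p`-group of order dividing `n!` with `n < 2 p` -/
theorem comm_of_card_dvd {H : Type*} [Group H] [Finite H] {p : ℕ} [Fact p.Prime] (hH : IsPGroup p H)
    {m : ℕ} (hd : Nat.card H ∣ m) (h3 : ¬ p ^ 3 ∣ m) : IsMulCommutative H := by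
  obtain ⟨k, hk⟩ := hH.exists_card_eq
  have hk2 : k < 3 := by
    by_contra hc
    push Not at hc
    exact h3 (((pow_dvd_pow p hc).trans (by rw [hk])).trans hd)
  interval_cases k
  · haveI : Subsingleton H := (Nat.card_eq_one_iff_unique.1 (by rw [hk, pow_zero])).1
    exact ⟨⟨fun a b => Subsingleton.elim _ _⟩⟩
  · rw [pow_one] at hk
    haveI := isCyclic_of_prime_card hk
    exact ⟨⟨fun a b => (IsCyclic.commGroup (α := H)).mul_comm a b⟩⟩
  · exact ⟨⟨fun a b => (IsPGroup.commGroupOfCardEqPrimeSq hk).mul_comm a b⟩⟩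

theorem sq_preserves (f : MulAut (alternatingGroup (Fin 6))) (a : alternatingGroup (Fin 6))
    (ha : (a : Perm (Fin 6)).IsThreeCycle) : ((f * f) a : Perm (Fin 6)).IsThreeCycle := by
  have key : ∀ {x y : alternatingGroup (Fin 6)}, IsConj x y →
      (x : Perm (Fin 6)).cycleType = (y : Perm (Fin 6)).cycleType := by
    intro x y hxy
    obtain ⟨g, rfl⟩ := isConj_iff.1 hxy
    symm
    exact Perm.cycleType_conj
  have hcj : ∀ {x y : alternatingGroup (Fin 6)}, IsConj x y → IsConj (f x) (f y) := by
    intro x y hxy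
    obtain ⟨g, rfl⟩ := isConj_iff.1 hxy
    exact isConj_iff.2 ⟨f g, by simp⟩
  have hcj' : ∀ {x y : alternatingGroup (Fin 6)}, IsConj (f x) (f y) → IsConj x y := by
    intro x y hxy
    obtain ⟨g, hg⟩ := isConj_iff.1 hxy
    refine isConj_iff.2 ⟨f.symm g, ?_⟩
    apply f.injective
    rw [map_mul, map_mul, map_inv, MulEquiv.apply_symm_apply]
    exact hg
  have ho : ∀ b : alternatingGroup (Fin 6), orderOf (b : Perm (Fin 6)) = 3 → orderOf ((f b : alternatingGroup (Fin 6)) : Perm (Fin 6)) = 3 := by
    intro b hb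
    rw [Subgroup.orderOf_coe, MulEquiv.orderOf_eq, ← Subgroup.orderOf_coe]
    exact hb
  rcases cycleType_of_order_three (ho a ha.orderOf) with h1 | h1
  · -- f a is a three-cycle
    have h2 : IsConj a (f a) := alternatingGroup.isThreeCycle_isConj (by simp) ha h1
    have h3 := key (hcj h2)
    show ((f (f a) : alternatingGroup (Fin 6)) : Perm (Fin 6)).cycleType = {3}
    rw [← h3]; exact h1
  · rcases cycleType_of_order_three (ho (f a) (ho a ha.orderOf)) with h2 | h2
    · exact h2
    · exfalso
      have h3 : IsConj (f a) (f (f a)) := isConj_of_double h1 h2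
      have h4 := key (hcj' h3)
      rw [h1, show (a : Perm (Fin 6)).cycleType = {3} from ha] at h4
      exact absurd h4 (by decide)

theorem core (n : ℕ) (hn : 5 ≤ n) (G : Subgroup (MulAut (alternatingGroup (Fin n))))
    (hG : (MulAut.conj : alternatingGroup (Fin n) →* MulAut (alternatingGroup (Fin n))).range ≤ G)
    (p q : ℕ) [Fact p.Prime] [Fact q.Prime] (hpq : q < p) (h : ∀ g : G, orderOf g ≠ p * q) 
    (P : Sylow p G) : IsMulCommutative (P : Subgroup G) := by
  have hp : p.Prime := Fact.out
  have hq : q.Prime := Fact.out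
  have hp3 : 3 ≤ p := by have := hq.two_le; omega
  set c : Perm (Fin n) →* MulAut (alternatingGroup (Fin n)) := MulAut.conjNormal with hc
  have hcinj : Function.Injective c := AutAlt.conjNormal_injective (by rw [Fintype.card_fin]; omega)
  have hcard2 : Nat.card c.range = n.factorial := by
    rw [← Nat.card_congr (MonoidHom.ofInjective hcinj).toEquiv, Nat.card_perm, Nat.card_fin]
  by_cases h6 : n = 6
  · subst h6
    have hle : (P : Subgroup G).map G.subtype ≤ c.range := by
      rintro _ ⟨x, hx, rfl⟩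
      obtain ⟨k, hk⟩ := P.isPGroup' ⟨x, hx⟩
      have hk' : x ^ p ^ k = 1 := congrArg Subtype.val hk
      have hpo : Odd (p ^ k) := (hp.odd_of_ne_two (by omega)).pow
      obtain ⟨m, hm⟩ := hpo
      have h1 : (x : MulAut (alternatingGroup (Fin 6))) ^ (m + 1) * (x : MulAut (alternatingGroup (Fin 6))) ^ (m + 1) = x := by
        rw [← pow_add, show m + 1 + (m + 1) = p ^ k + 1 from by omega, pow_succ]
        have : ((x : G) : MulAut (alternatingGroup (Fin 6))) ^ p ^ k = 1 := congrArg Subtype.val hk'
        rw [this, one_mul]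
      obtain ⟨τ, hτ⟩ := AutAlt.exists_conj (by decide) _
        (sq_preserves ((x : MulAut (alternatingGroup (Fin 6))) ^ (m + 1)))
      refine ⟨τ, ?_⟩
      rw [Subgroup.coe_subtype, ← h1]
      ext g : 2
      rw [hc, MulAut.conjNormal_apply, hτ g]
    have hd : Nat.card (P : Subgroup G) ∣ 720 := by
      have h1 := Subgroup.card_dvd_of_le hle
      rw [hcard2, Subgroup.card_map_of_injective G.subtype_injective] at h1
      exact h1
    refine comm_of_card_dvd P.isPGroup' hd ?_
    intro h3
    have h4 : p ∣ 720 := (dvd_pow_self p (by norm_num)).trans h3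
    have h5 : p ^ 3 ≤ 720 := Nat.le_of_dvd (by norm_num) h3
    have h7 : p < 9 := by
      by_contra hc
      push Not at hc
      have := Nat.pow_le_pow_left hc 3
      omega
    interval_cases p <;> revert h3 <;> first | decide | (exfalso; revert hp; decide)
  · have hcs : Function.Surjective c := (AutAlt.conjNormal_bijective (by rw [Fintype.card_fin]; omega)
      (by rw [Fintype.card_fin]; exact h6)).2
    have hn2 : n < 2 * p := by
      by_contra hc'
      push Not at hc'
      obtain ⟨σ, hs, ho⟩ := exists_even_order hp hq hpq hc' h6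
      have h1 : c σ ∈ G := by
        apply hG
        refine ⟨⟨σ, Perm.mem_alternatingGroup.2 hs⟩, ?_⟩
        ext g : 2
        rw [hc, MulAut.conjNormal_apply]
        rfl
      apply h ⟨c σ, h1⟩
      rw [← Subgroup.orderOf_coe]
      show orderOf (c σ) = p * q
      rw [orderOf_injective c hcinj, ho]
    have hd : Nat.card (P : Subgroup G) ∣ n.factorial := by
      have h1 : (P : Subgroup G).map G.subtype ≤ c.range := by
        intro x _
        exact hcs x
      have h1 := Subgroup.card_dvd_of_le h1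
      rw [hcard2, Subgroup.card_map_of_injective G.subtype_injective] at h1
      exact h1
    refine comm_of_card_dvd P.isPGroup' hd ?_
    intro h3
    have h4 : p ^ 2 ∣ n.factorial := (pow_dvd_pow p (by norm_num)).trans h3
    have h5 := (hp.pow_dvd_factorial_iff (n := n) (r := 2) (b := n + 1) (by
      exact Nat.lt_of_le_of_lt (Nat.log_le_self _ _) (by omega))).1 h4
    have h6 : ∑ i ∈ Finset.Ico 1 (n + 1), n / p ^ i ≤ n / p := by
      rw [Finset.sum_eq_single_of_mem 1 (by rw [Finset.mem_Ico]; omega), pow_one]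
      intro i hi hi1
      rw [Finset.mem_Ico] at hi
      apply Nat.div_eq_of_lt
      calc n < 2 * p := hn2
        _ ≤ p * p := Nat.mul_le_mul_right p (by omega)
        _ = p ^ 2 := by ring
        _ ≤ p ^ i := Nat.pow_le_pow_right (by omega) (by omega)
    have h7 : n / p < 2 := (Nat.div_lt_iff_lt_mul (by omega)).2 hn2
    omega

theorem result (n : ℕ) (hn : 5 ≤ n) (G : Subgroup (MulAut (alternatingGroup (Fin n))))
    (hG : (MulAut.conj : alternatingGroup (Fin n) →* MulAut (alternatingGroup (Fin n))).range ≤ G)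
    (p q : ℕ) [Fact p.Prime] [Fact q.Prime] (hpq : p ≠ q) (h : ∀ g : G, orderOf g ≠ p * q) :
    (∀ P : Sylow p G, IsMulCommutative (P : Subgroup G)) ∨ (∀ Q : Sylow q G, IsMulCommutative (Q : Subgroup G)) := by
  rcases lt_or_gt_of_ne hpq with h1 | h1
  · exact Or.inr (core n hn G hG q p h1 (fun g => by rw [mul_comm]; exact h g))
  · exact Or.inl (core n hn G hG p q h1 h)

end Cfsg.Agent.S4231
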