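import Cfsg.Statements.S2930
import Cfsg.Agent.H21.Alt3c
import Cfsg.Agent.S4231
import Cfsg.Agent.AutAlt.Basic
import Cfsg.Agent.FStar.Layer

set_option autoImplicit false
open Cfsg

namespace Cfsg.Agent.S2930

open Equiv

/-- the square of an automorphism of the alternating group is a conjugation -/
theorem out_sq (n : ℕ) (hn : 5 ≤ n) (ψ : MulAut (alternatingGroup (Fin n))) :
    ∃ τ : Perm (Fin n), ∀ g : alternatingGroup (Fin n), ((ψ * ψ) g : Perm (Fin n)) = τ * g * τ⁻¹ := by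
  by_cases h6 : n = 6
  · subst h6
    exact Cfsg.Agent.AutAlt.exists_conj (by simp) (ψ * ψ) (fun t ht => Cfsg.Agent.S4231.sq_preserves ψ t ht)
  · obtain ⟨τ, hτ⟩ := (Cfsg.Agent.AutAlt.conjNormal_bijective (α := Fin n) (by simp; omega) (by simpa using h6)).2 ψ
    refine ⟨τ * τ, fun g => ?_⟩
    rw [← hτ, ← map_mul]
    rfl

theorem pow_four_mem {X : Type*} [Group X] [Finite X] (n : ℕ) (hn : 5 ≤ n) (F : Subgroup X) [hFn : F.Normal]
    (hC : Subgroup.centralizer (F : Set X) ≤ F) (e : F ≃* alternatingGroup (Fin n)) (x : X) : x ^ 4 ∈ F := by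
  set φ : MulAut F := MulAut.conjNormal x with hφ
  let ψ : MulAut (alternatingGroup (Fin n)) := MulAut.congr e φ
  have hψ : ∀ y : F, ψ (e y) = e (φ y) := by
    intro y
    show e (φ (e.symm (e y))) = _
    rw [e.symm_apply_apply]
  obtain ⟨τ, hτ⟩ := out_sq n hn ψ
  have hτ2 : τ * τ ∈ alternatingGroup (Fin n) := by
    rw [Perm.mem_alternatingGroup, map_mul]
    exact Int.units_mul_self _
  let a : alternatingGroup (Fin n) := ⟨τ * τ, hτ2⟩
  have h4 : ∀ g : alternatingGroup (Fin n), ψ (ψ (ψ (ψ g))) = a * g * a⁻¹ := by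
    intro g
    apply Subtype.ext
    have h1 := hτ (ψ (ψ g))
    have h2 := hτ g
    have h3 : ((ψ (ψ (ψ (ψ g)))) : Perm (Fin n)) = τ * ((ψ (ψ g)) : alternatingGroup (Fin n)) * τ⁻¹ := h1
    rw [h3]
    have h5 : ((ψ (ψ g) : alternatingGroup (Fin n)) : Perm (Fin n)) = τ * g * τ⁻¹ := h2
    rw [h5]
    show τ * (τ * (g : Perm (Fin n)) * τ⁻¹) * τ⁻¹ = (τ * τ) * (g : Perm (Fin n)) * (τ * τ)⁻¹
    group
  have h5 : ∀ y : F, (x ^ 4) * (y : X) * (x ^ 4)⁻¹ = (e.symm a : F) * y * ((e.symm a : F) : X)⁻¹ := by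
    intro y
    have h6 : e (φ (φ (φ (φ y)))) = a * e y * a⁻¹ := by
      rw [← hψ, ← hψ, ← hψ, ← hψ, h4]
    have h7 : φ (φ (φ (φ y))) = e.symm a * y * (e.symm a)⁻¹ := by
      apply e.injective
      rw [h6, map_mul, map_mul, map_inv, e.apply_symm_apply]
    have h8 := congrArg (fun u : F => (u : X)) h7
    have h9 : ((φ (φ (φ (φ y))) : F) : X) = x * (x * (x * (x * (y : X) * x⁻¹) * x⁻¹) * x⁻¹) * x⁻¹ := rfl
    have h10 : ((e.symm a * y * (e.symm a)⁻¹ : F) : X) = (e.symm a : F) * y * ((e.symm a : F) : X)⁻¹ := rfl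
    rw [← h10, ← h8]
    show _ = ((φ (φ (φ (φ y))) : F) : X)
    have h11 : x ^ 4 = x * x * x * x := by rw [pow_succ, pow_succ, pow_two]
    rw [h9, h11]
    simp only [mul_inv_rev, mul_assoc]
  have h6 : ((e.symm a : F) : X)⁻¹ * x ^ 4 ∈ Subgroup.centralizer (F : Set X) := by
    rw [Subgroup.mem_centralizer_iff]
    intro y hy
    have h7 := h5 ⟨y, hy⟩
    have h8 : (x ^ 4) * y * (x ^ 4)⁻¹ = ((e.symm a : F) : X) * y * ((e.symm a : F) : X)⁻¹ := h7
    calc y * (((e.symm a : F) : X)⁻¹ * x ^ 4)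
        = ((e.symm a : F) : X)⁻¹ * (((e.symm a : F) : X) * y * ((e.symm a : F) : X)⁻¹) * x ^ 4 := by group
      _ = ((e.symm a : F) : X)⁻¹ * ((x ^ 4) * y * (x ^ 4)⁻¹) * x ^ 4 := by rw [h8]
      _ = ((e.symm a : F) : X)⁻¹ * x ^ 4 * y := by group
  have h7 := F.mul_mem (e.symm a).2 (hC h6)
  rwa [mul_inv_cancel_left] at h7


/-- Let X be a finite 3-minimal group (a Sylow 3-subgroup is not normal and lies in a unique maximal subgroup) whose generalized Fitting subgroup is isomorphic to an alternating group of degree n ≥ 5. Then X = F*(X), and n = 6, n = 9, or n = 3ᵃ + 1 for some a ≥ 2. -/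
theorem result {X : Type*} [Group X] [Finite X] (hX : Cfsg.IsPMinimal 3 X) (n : ℕ) (hn : 5 ≤ n) (hF : Nonempty (↥(Cfsg.generalizedFittingSubgroup X) ≃* ↥(alternatingGroup (Fin n)))) : Cfsg.generalizedFittingSubgroup X = ⊤ ∧ (n = 6 ∨ n = 9 ∨ ∃ a : ℕ, 2 ≤ a ∧ n = 3 ^ a + 1) := by
  classical
  obtain ⟨e⟩ := hF
  haveI : Fact (Nat.Prime 3) := ⟨Nat.prime_three⟩
  set F := Cfsg.generalizedFittingSubgroup X with hFdef
  have hFn : F.Normal := inferInstance
  have hC : Subgroup.centralizer (F : Set X) ≤ F := Cfsg.Agent.FStar.centralizer_generalizedFitting_le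
  obtain ⟨S⟩ : Nonempty (Sylow 3 X) := inferInstance
  obtain ⟨hSn, M, ⟨hMc, hSM⟩, hMu⟩ := hX S
  have hSF : (S : Subgroup X) ≤ F := by
    intro s hs
    obtain ⟨k, hk⟩ := S.2 ⟨s, hs⟩
    have hk' : s ^ 3 ^ k = 1 := congrArg Subtype.val hk
    have h4 := pow_four_mem n hn F hC e s
    rw [← QuotientGroup.eq_one_iff]
    have h5 : (QuotientGroup.mk s : X ⧸ F) ^ 4 = 1 := by
      rw [← QuotientGroup.mk_pow, QuotientGroup.eq_one_iff]; exact h4
    have h6 : (QuotientGroup.mk s : X ⧸ F) ^ 3 ^ k = 1 := by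
      rw [← QuotientGroup.mk_pow, hk', QuotientGroup.mk_one]
    have h7 : Nat.Coprime 4 (3 ^ k) := Nat.Coprime.pow_right k (by norm_num)
    rw [← orderOf_eq_one_iff]
    exact Nat.dvd_one.1 (h7 ▸ Nat.dvd_gcd (orderOf_dvd_of_pow_eq_one h5) (orderOf_dvd_of_pow_eq_one h6))
  have hU : ∀ K : Subgroup X, (S : Subgroup X) ≤ K → K ≠ ⊤ → K ≤ M := by
    intro K hSK hK
    rcases eq_top_or_exists_le_coatom K with h | ⟨M₁, hM₁, hKM⟩
    · exact absurd h hK
    · have := hMu M₁ ⟨hM₁, hSK.trans hKM⟩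
      rw [← this]; exact hKM
  have hFtop : F = ⊤ := by
    by_contra hne
    have h1 := hU F hSF hne
    have h2 : Subgroup.normalizer ((S : Subgroup X) : Set X) ≠ ⊤ := by
      intro h
      exact hSn (Subgroup.normalizer_eq_top_iff.1 h)
    have h3 := hU _ Subgroup.le_normalizer h2
    have h4 := Sylow.normalizer_sup_eq_top (S.subtype hSF)
    have h5 : ((S.subtype hSF : Sylow 3 F) : Subgroup F).map F.subtype = (S : Subgroup X) := by
      rw [Sylow.coe_subtype, Subgroup.map_subgroupOf_eq_of_le hSF]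
    rw [h5] at h4
    apply hMc.1
    rw [eq_top_iff, ← h4]
    exact sup_le h3 h1
  refine ⟨hFtop, ?_⟩
  let e' : X ≃* alternatingGroup (Fin n) := (Subgroup.topEquiv.symm.trans (MulEquiv.subgroupCongr hFtop.symm)).trans e
  let ι : X →* Equiv.Perm (Fin n) := (alternatingGroup (Fin n)).subtype.comp e'.toMonoidHom
  have hιi : Function.Injective ι := fun x y h => e'.injective (Subtype.ext h)
  have hιs : ∀ g ∈ alternatingGroup (Fin n), ∃ x, ι x = g := fun g hg => ⟨e'.symm ⟨g, hg⟩, by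
    show ((e' (e'.symm ⟨g, hg⟩) : alternatingGroup (Fin n)) : Equiv.Perm (Fin n)) = g
    rw [e'.apply_symm_apply]⟩
  have hιA : ∀ x, ι x ∈ alternatingGroup (Fin n) := fun x => (e' x).2
  apply Cfsg.Agent.H21.Alt3.core hn (T := (S : Subgroup X).map ι) (M := M.map ι) (S.2.map ι)
  refine ⟨?_, ?_⟩
  · intro hle
    apply hMc.1
    rw [eq_top_iff]
    intro x _
    obtain ⟨m, hm, hmx⟩ := hle (hιA x)
    rw [← hιi hmx]; exact hm
  · intro K hTK hK g hgK hgA
    have h1 : K.comap ι ≤ M := by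
      apply hU
      · intro s hs
        exact hTK ⟨s, hs, rfl⟩
      · intro htop
        apply hK
        intro g hg
        obtain ⟨x, rfl⟩ := hιs g hg
        have : x ∈ K.comap ι := by rw [htop]; trivial
        exact this
    obtain ⟨x, rfl⟩ := hιs g hgA
    exact ⟨x, h1 hgK, rfl⟩

end Cfsg.Agent.S2930
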