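import Cfsg.Statements.S2933
import Cfsg.Agent.H21.SI8

set_option autoImplicit false
open Cfsg

namespace Cfsg.Agent.S2933

/-- Let T be a 2-subgroup of a finite group G, V ≤ Z(T) a four-group, and t, ρ ∈ N_G(V) ∩ N_G(T) elements of order 2 and 3 with t commuting with ρ and with V. If [V, ρ] = V and C_T(t) = V, then T is elementary abelian of order 16, or homocyclic of rank 2 (ℤ/2ⁿ × ℤ/2ⁿ for some n ≥ 1), or isomorphic to a Sylow 2-subgroup of PSL₃(4) or of PSU₃(4). -/
theorem result {G : Type*} [Group G] [Finite G] (T V : Subgroup G) (hT : IsPGroup 2 ↥T) (hVT : V ≤ T ⊓ Subgroup.centralizer (T : Set G)) (hV : Nat.card ↥V = 4 ∧ ∀ v ∈ V, v ^ 2 = 1) (t ρ : G) (ht : orderOf t = 2) (hρ : orderOf ρ = 3) (htn : t ∈ Subgroup.normalizer (V : Set G) ⊓ Subgroup.normalizer (T : Set G)) (hρn : ρ ∈ Subgroup.normalizer (V : Set G) ⊓ Subgroup.normalizer (T : Set G)) (htρ : t * ρ = ρ * t) (htV : t ∈ Subgroup.centralizer (V : Set G)) (hVρ : ⁅V, Subgroup.zpowers ρ⁆ = V) (hCt : T ⊓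 Subgroup.centralizer ({t} : Set G) = V) : (Nat.card ↥T = 16 ∧ ∀ x ∈ T, x ^ 2 = 1) ∨ (∃ n : ℕ, 1 ≤ n ∧ Nonempty (↥T ≃* Multiplicative (ZMod (2 ^ n)) × Multiplicative (ZMod (2 ^ n)))) ∨ (∃ (F : Type) (_ : Field F) (_ : Fintype F), Fintype.card F = 4 ∧ ∀ P : Sylow 2 (Matrix.ProjectiveSpecialLinearGroup (Fin 3) F), Nonempty (↥T ≃* ↥(P : Subgroup (Matrix.ProjectiveSpecialLinearGroup (Fin 3) F)))) ∨ (∃ (F : Type) (_ : Field F) (_ : Fintype F), Fintype.card F = 16 ∧ ∀ P : Sylow 2 (Cfsg.PSU 3 F 4), Nonempty (↥T ≃* ↥(P : Subgroup (Cfsg.PSU 3 F 4)))) := by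
  classical
  obtain ⟨hV4, hV2⟩ := hV
  -- conjugation automorphisms
  have mk : ∀ g ∈ Subgroup.normalizer (T : Set G), ∃ φ : MulAut T, ∀ x : T, ((φ x : T) : G) = g * x * g⁻¹ := by
    intro g hg
    refine ⟨T.normalizerMonoidHom ⟨g, hg⟩, fun x => rfl⟩
  obtain ⟨α, hα⟩ := mk t htn.2
  obtain ⟨r, hr⟩ := mk ρ hρn.2
  have ht2 : t * t = 1 := by rw [← pow_two, ← ht, pow_orderOf_eq_one]
  have hti : t⁻¹ = t := inv_eq_of_mul_eq_one_right ht2
  have hαα : ∀ x, α (α x) = x := by
    intro x
    apply Subtype.ext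
    rw [hα, hα, hti]
    calc t * (t * (x : G) * t) * t = (t * t) * x * (t * t) := by group
      _ = x := by rw [ht2]; group
  have hρ3 : ρ ^ 3 = 1 := by rw [← hρ, pow_orderOf_eq_one]
  have hVT' : V ≤ T := fun v hv => (hVT hv).1
  have hrV : ∀ x : T, (x : G) ∈ V → ((r x : T) : G) ∈ V := by
    intro x hx
    rw [hr]
    exact (Subgroup.mem_normalizer_iff.1 hρn.1 _).1 hx
  have hfree : ∀ x : T, (x : G) ∈ V → r x = x → x = 1 := by
    intro x hx hrx
    by_contra hx1
    -- `ρ` centralises `V`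
    have hx1' : (x : G) ≠ 1 := fun h => hx1 (Subtype.ext h)
    have hrx' : ρ * (x : G) * ρ⁻¹ = x := by rw [← hr, hrx]
    have hcent : ∀ v ∈ V, ρ * v * ρ⁻¹ = v := by
      intro v hv
      by_contra hne
      have hv1 : v ≠ 1 := by
        rintro rfl
        apply hne
        group
      have hvx : v ≠ x := by
        rintro rfl
        exact hne hrx'
      -- `v`, `ρ v`, `x`, `1` are the elements of `V`
      have hρv : ρ * v * ρ⁻¹ ∈ V := (Subgroup.mem_normalizer_iff.1 hρn.1 _).1 hv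
      have hρρv : ρ * (ρ * v * ρ⁻¹) * ρ⁻¹ ∈ V := (Subgroup.mem_normalizer_iff.1 hρn.1 _).1 hρv
      have hcard : ∀ a b c d e : G, a ∈ V → b ∈ V → c ∈ V → d ∈ V → e ∈ V → a ≠ b → a ≠ c → a ≠ d → a ≠ e → b ≠ c → b ≠ d →
          b ≠ e → c ≠ d → c ≠ e → d ≠ e → False := by
        intro a b c d e ha hb hc hd he n1 n2 n3 n4 n5 n6 n7 n8 n9 n10
        let s : Finset G := {a, b, c, d, e}
        have hs : s.card = 5 := by
          show ({a, b, c, d, e} : Finset G).card = 5
          rw [Finset.card_insert_of_notMem, Finset.card_insert_of_notMem, Finset.card_insert_of_notMem,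
            Finset.card_insert_of_notMem, Finset.card_singleton]
          · simp [n10]
          · simp [n8, n9]
          · simp [n5, n6, n7]
          · simp [n1, n2, n3, n4]
        have hsV : ∀ z ∈ s, z ∈ V := by
          intro z hz
          simp only [s, Finset.mem_insert, Finset.mem_singleton] at hz
          rcases hz with rfl | rfl | rfl | rfl | rfl <;> assumption
        have h1 : s.card ≤ Nat.card V := by
          rw [← Nat.card_eq_fintype_card.trans (Fintype.card_coe s)]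
          exact Nat.card_le_card_of_injective (fun z : s => (⟨z.1, hsV z.1 z.2⟩ : V))
            (fun a b hab => Subtype.ext (congrArg (fun w : V => (w : G)) hab))
        rw [hs, hV4] at h1
        omega
      have cj_inj : ∀ a b : G, ρ * a * ρ⁻¹ = ρ * b * ρ⁻¹ → a = b := by
        intro a b h
        exact mul_left_cancel (mul_right_cancel h)
      have e3 : ρ * (ρ * (ρ * v * ρ⁻¹) * ρ⁻¹) * ρ⁻¹ = v := by
        have : ρ * (ρ * (ρ * v * ρ⁻¹) * ρ⁻¹) * ρ⁻¹ = ρ ^ 3 * v * (ρ ^ 3)⁻¹ := by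
          rw [pow_succ, pow_two, mul_inv_rev, mul_inv_rev]; simp only [mul_assoc]
        rw [this, hρ3]; group
      have c1 : ρ * v * ρ⁻¹ ≠ 1 := by
        intro h
        apply hv1
        apply cj_inj
        rw [h]; group
      have c2 : ρ * (ρ * v * ρ⁻¹) * ρ⁻¹ ≠ 1 := by
        intro h
        apply c1
        apply cj_inj
        rw [h]; group
      have d1 : ρ * v * ρ⁻¹ ≠ x := by
        intro h
        apply hvx
        apply cj_inj
        rw [h, hrx']
      have d2 : ρ * (ρ * v * ρ⁻¹) * ρ⁻¹ ≠ x := by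
        intro h
        apply d1
        apply cj_inj
        rw [h, hrx']
      have f1 : ρ * (ρ * v * ρ⁻¹) * ρ⁻¹ ≠ ρ * v * ρ⁻¹ := fun h => hne (cj_inj _ _ h)
      have f2 : ρ * (ρ * v * ρ⁻¹) * ρ⁻¹ ≠ v := by
        intro h
        apply hne
        have h1 := congrArg (fun z => ρ * z * ρ⁻¹) h
        rw [e3] at h1
        exact h1.symm
      exact hcard 1 x v (ρ * v * ρ⁻¹) (ρ * (ρ * v * ρ⁻¹) * ρ⁻¹) V.one_mem hx hv hρv hρρv hx1'.symm hv1.symm c1.symm c2.symm
        hvx.symm d1.symm d2.symm (Ne.symm hne) f2.symm f1.symm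
    have hbot : ⁅V, Subgroup.zpowers ρ⁆ = ⊥ := by
      rw [Subgroup.commutator_eq_bot_iff_le_centralizer]
      intro v hv
      rw [Subgroup.mem_centralizer_iff]
      rintro _ ⟨k, rfl⟩
      have h1 : Commute ρ v := by
        have := hcent v hv
        exact mul_inv_eq_iff_eq_mul.1 this
      exact (h1.zpow_left k).eq
    rw [hVρ] at hbot
    rw [hbot, Subgroup.card_bot] at hV4
    omega
  have hr3 : orderOf r = 3 := by
    apply orderOf_eq_prime
    · ext x
      have e : ∀ k : ℕ, (((r ^ k) x : T) : G) = ρ ^ k * x * (ρ ^ k)⁻¹ := by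
        intro k
        induction k with
        | zero => simp
        | succ k ih =>
          rw [pow_succ']
          show ((r ((r ^ k) x) : T) : G) = _
          rw [hr, ih, pow_succ']; group
      rw [e 3, hρ3]; simp
    · intro h1
      have : V = ⊥ := by
        rw [Subgroup.eq_bot_iff_forall]
        intro v hv
        have := hfree ⟨v, hVT' hv⟩ hv (by rw [h1]; rfl)
        exact congrArg Subtype.val this
      rw [this, Subgroup.card_bot] at hV4
      omega
  have hcm : Commute α r := by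
    show α * r = r * α
    ext x
    show ((α (r x) : T) : G) = (r (α x) : T)
    rw [hα, hr, hr, hα]
    have : t * (ρ * (x : G) * ρ⁻¹) * t⁻¹ = (t * ρ) * x * (t * ρ)⁻¹ := by group
    rw [this, htρ]; group
  have hfix : ∀ x : T, x ∈ V.subgroupOf T ↔ α x = x := by
    intro x
    rw [Subgroup.mem_subgroupOf, ← hCt]
    constructor
    · rintro ⟨-, h⟩
      have h1 := Subgroup.mem_centralizer_iff.1 h t (Set.mem_singleton _)
      apply Subtype.ext
      rw [hα, h1]; group
    · intro h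
      refine ⟨x.2, Subgroup.mem_centralizer_iff.2 ?_⟩
      rintro _ rfl
      have h1 := congrArg Subtype.val h
      rw [hα] at h1
      exact mul_inv_eq_iff_eq_mul.1 h1
  have hcardC : Nat.card (V.subgroupOf T) = 4 := by
    rw [← hV4]
    exact Nat.card_congr (Subgroup.subgroupOfEquivOfLe hVT').toEquiv
  rcases Agent.H21.SI.four_case hT α r hαα hr3 hcm (V.subgroupOf T) hfix
    (fun x hx => Subtype.ext (by
      have := hV2 x hx
      rw [pow_two] at this
      exact this)) hcardC (fun x hx h => hfree x hx h) with ⟨h1, h2⟩ | ⟨n, hn, ⟨e⟩⟩ | h | h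
  · left
    refine ⟨h1, fun x hx => ?_⟩
    have := congrArg Subtype.val (h2 ⟨x, hx⟩)
    rw [pow_two]; exact this
  · right; left
    exact ⟨n, hn, ⟨e.trans (MulEquiv.prodMultiplicative _ _)⟩⟩
  · right; right; left; exact h
  · right; right; right; exact h

end Cfsg.Agent.S2933
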