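import Cfsg.Statements.S2934
import Cfsg.Agent.H20.QAct
import Cfsg.Agent.Extra.Basic
import Cfsg.Agent.H11.Act
import Cfsg.Agent.H25.PGroupCenter

set_option autoImplicit false
open Cfsg

namespace Cfsg.Agent.S2934

open scoped commutatorElement
open Cfsg.Agent Cfsg.Agent.Cop Cfsg.Agent.H20.QAct

/-- Let p be an odd prime, W a finite 2-group and E a non-cyclic abelian p-subgroup of Aut(W) such that, for every nontrivial e ∈ E, the fixed points of e in W contain at most one involution. Then E has order 9, W is extraspecial of order 2⁵, 2⁷ or 2⁹, and the common fixed points of E in W form exactly the centre Z(W). -/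
theorem result {W : Type*} [Group W] [Finite W] (hW : IsPGroup 2 W) {p : ℕ} [Fact p.Prime] (hp : p ≠ 2) (E : Subgroup (MulAut W)) (hE : IsPGroup p ↥E) (hab : IsMulCommutative ↥E) (hnc : ¬ IsCyclic ↥E) (hfix : ∀ e ∈ E, e ≠ 1 → ∀ x y : W, orderOf x = 2 → orderOf y = 2 → e x = x → e y = y → x = y) : Nat.card ↥E = 9 ∧ Cfsg.IsExtraspecial 2 W ∧ (Nat.card W = 2 ^ 5 ∨ Nat.card W = 2 ^ 7 ∨ Nat.card W = 2 ^ 9) ∧ {x : W | ∀ e ∈ E, e x = x} = (Subgroup.center W : Set W) := by
  classical
  haveI : Fact (Nat.Prime 2) := ⟨Nat.prime_two⟩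
  have hcomE : ∀ e ∈ E, ∀ f ∈ E, ∀ x : W, e (f x) = f (e x) := by
    intro e he f hf x
    have h1 : (⟨e, he⟩ : E) * ⟨f, hf⟩ = ⟨f, hf⟩ * ⟨e, he⟩ := hab.1.1 _ _
    have h2 : e * f = f * e := congrArg Subtype.val h1
    exact congrArg (fun g : MulAut W => g x) h2
  have hcop : (Nat.card E).Coprime (Nat.card W) := by
    obtain ⟨m, hm⟩ := IsPGroup.iff_card.1 hE
    obtain ⟨n, hn⟩ := IsPGroup.iff_card.1 hW
    rw [hm, hn]
    exact Nat.Coprime.pow _ _ ((Nat.coprime_primes Fact.out Nat.prime_two).2 hp)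
  have hinvF : ∀ e ∈ E, ∀ f ∈ E, ∀ x ∈ fixSub e, f x ∈ fixSub e := by
    intro e he f hf x hx
    change e (f x) = f x
    rw [hcomE e he f hf]
    exact congrArg f hx
  set IsQ : Subgroup W → Prop := fun Q => (∃ e ∈ E, e ≠ 1 ∧ Q = fixSub e) ∧
    (∃ f ∈ E, ∃ x ∈ Q, f x ≠ x) with hIsQ
  have hinvQ : ∀ Q, IsQ Q → ∀ f ∈ E, ∀ x ∈ Q, f x ∈ Q := by
    rintro Q ⟨⟨e, he, -, rfl⟩, -⟩
    exact hinvF e he
  have hQD : ∀ Q, IsQ Q → p = 3 ∧ ∃ z, QD E Q z := by
    intro Q hQ
    refine qd_of hW hp E hE Q (hinvQ Q hQ) ?_ hQ.2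
    obtain ⟨⟨e, he, he1, rfl⟩, -⟩ := hQ
    intro x hx y hy ox oy
    exact hfix e he he1 x y ox oy hx hy
  have hA : ∀ k ∈ E, k ≠ 1 → ∃ Q, IsQ Q ∧ ∃ x ∈ Q, k x ≠ x := by
    intro k hk hk1
    by_contra hcon
    push Not at hcon
    apply hk1
    have h1 : (⊤ : Subgroup W) ≤ fixSub k := by
      apply gen_inv E hab hnc hcop ⊤ (fun _ _ _ _ => Subgroup.mem_top _)
      intro f hf hf1
      rw [top_inf_eq]
      intro x hx
      by_cases hQ : IsQ (fixSub f)
      · exact hcon _ hQ x hx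
      · have h2 : ¬ ∃ g ∈ E, ∃ x ∈ fixSub f, g x ≠ x := fun h => hQ ⟨⟨f, hf, hf1, rfl⟩, h⟩
        push Not at h2
        exact h2 k hk x hx
    ext x
    exact h1 (Subgroup.mem_top x)
  have hex1 : ∃ k ∈ E, k ≠ 1 := by
    by_contra hcon
    push Not at hcon
    apply hnc
    have : E = ⊥ := (Subgroup.eq_bot_iff_forall E).2 hcon
    rw [this]
    infer_instance
  obtain ⟨k, hk, hk1⟩ := hex1
  obtain ⟨Q₁, hQ₁, -⟩ := hA k hk hk1
  obtain ⟨rfl, z, d₁⟩ := hQD Q₁ hQ₁
  have hfixE : ∀ x : W, (∀ e ∈ E, e x = x) → x = 1 ∨ x = z := by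
    intro x hx
    obtain ⟨⟨e, he, he1, rfl⟩, ⟨f, hf, hf'⟩⟩ := hQ₁
    exact d₁.fix f hf hf' x (hx e he) (hx f hf)
  have hz2 : orderOf z = 2 := orderOf_eq_prime (by rw [pow_two, d₁.zsq]) d₁.zne
  have hd : ∀ Q, IsQ Q → QD E Q z := by
    intro Q hQ
    obtain ⟨-, z', d⟩ := hQD Q hQ
    have h1 : z ∈ Q := by
      obtain ⟨⟨e, he, he1, rfl⟩, -⟩ := hQ
      exact d₁.fixz e he
    have h2 := d.uniq z h1 hz2
    rw [h2]; exact d
  have hker : ∀ Q Q', IsQ Q → IsQ Q' → Q ≠ Q' → ∀ f, f ∈ ker E Q → f ∈ ker E Q' → f = 1 := by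
    intro Q Q' hQ hQ' hne f hf hf'
    by_contra hf1
    apply hne
    have h1 : Q ≤ fixSub f := fun x hx => hf.2 x hx
    have h2 : Q' ≤ fixSub f := fun x hx => hf'.2 x hx
    have h3 : IsQ (fixSub f) := by
      refine ⟨⟨f, hf.1, hf1, rfl⟩, ?_⟩
      obtain ⟨-, g, hg, x, hx, hgx⟩ := hQ
      exact ⟨g, hg, x, h1 hx, hgx⟩
    have h4 := (hd _ h3).card
    have e1 : Q = fixSub f := Subgroup.eq_of_le_of_card_ge h1 (by rw [h4, (hd _ hQ).card])
    have e2 : Q' = fixSub f := Subgroup.eq_of_le_of_card_ge h2 (by rw [h4, (hd _ hQ').card])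
    rw [e1, e2]
  have hex2 : ∃ k₁ ∈ ker E Q₁, k₁ ≠ 1 := by
    by_contra hcon
    push Not at hcon
    apply hnc
    have h1 : ker E Q₁ = ⊥ := (Subgroup.eq_bot_iff_forall _).2 hcon
    have h2 := d₁.idx
    rw [h1, Subgroup.card_bot, mul_one] at h2
    haveI : Fact (Nat.Prime 3) := ⟨Nat.prime_three⟩
    exact isCyclic_of_prime_card h2
  obtain ⟨k₁, hk₁, hk₁1⟩ := hex2
  obtain ⟨Q₂, hQ₂, x₂, hx₂, hkx₂⟩ := hA k₁ hk₁.1 hk₁1
  have hQne : Q₁ ≠ Q₂ := by
    rintro rfl
    exact hkx₂ (hk₁.2 x₂ hx₂)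
  have d₂ := hd Q₂ hQ₂
  -- |E| = 9
  have hE9 : Nat.card E = 9 := by
    have h1 : Nat.card (ker E Q₁) * Nat.card (ker E Q₂) ≤ Nat.card E := by
      rw [← Nat.card_prod]
      apply Nat.card_le_card_of_injective (fun ab : ker E Q₁ × ker E Q₂ =>
        (⟨ab.1.1 * ab.2.1, E.mul_mem ab.1.2.1 ab.2.2.1⟩ : E))
      rintro ⟨a, b⟩ ⟨a', b'⟩ hab'
      have h2 : (a : MulAut W) * b = a' * b' := congrArg Subtype.val hab'
      have h3 : (a' : MulAut W)⁻¹ * a = b' * (b : MulAut W)⁻¹ := by
        rw [eq_mul_inv_iff_mul_eq, mul_assoc, h2]; group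
      have h4 : (a' : MulAut W)⁻¹ * a = 1 := by
        apply hker Q₁ Q₂ hQ₁ hQ₂ hQne
        · exact mul_mem (inv_mem a'.2) a.2
        · rw [h3]; exact mul_mem b'.2 (inv_mem b.2)
      have h5 : a = a' := Subtype.ext (inv_mul_eq_one.1 h4).symm
      have h6 : (b' : MulAut W) * (b : MulAut W)⁻¹ = 1 := by rw [← h3]; exact h4
      have h7 : b = b' := Subtype.ext (mul_inv_eq_one.1 h6).symm
      rw [h5, h7]
    have h2 := d₁.idx
    have h3 := d₂.idx
    have h4 : Nat.card (ker E Q₁) = Nat.card (ker E Q₂) := by omega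
    rw [← h4] at h1
    have h5 : Nat.card (ker E Q₁) ≤ 3 := by
      by_contra hcon
      push Not at hcon
      rw [h2] at h1
      have := Nat.mul_lt_mul_of_pos_right hcon (Nat.card_pos (α := ker E Q₁))
      omega
    haveI : Fact (Nat.Prime 3) := ⟨Nat.prime_three⟩
    obtain ⟨m, hm⟩ := IsPGroup.iff_card.1 hE
    have hm3 : m < 3 := by
      by_contra hcon
      have : 3 ^ 3 ≤ 3 ^ m := Nat.pow_le_pow_right (by norm_num) (by omega)
      omega
    interval_cases m
    · exfalso; omega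
    · exfalso; exact hnc (isCyclic_of_prime_card (p := 3) (by rw [hm, pow_one]))
    · rw [hm]; norm_num
  have hker3 : ∀ Q, IsQ Q → Nat.card (ker E Q) = 3 := by
    intro Q hQ
    have := (hd Q hQ).idx
    omega
  -- generation
  have gen : ∀ X : Subgroup W, (∀ e ∈ E, ∀ x ∈ X, e x ∈ X) → ∀ T : Subgroup W, z ∈ T →
      (∀ Q, IsQ Q → Q ≤ X → Q ≤ T) → X ≤ T := by
    intro X hX T hzT hT
    apply gen_inv E hab hnc hcop X hX T
    intro f hf hf1
    by_cases hQ : IsQ (fixSub f)
    · have d := hd _ hQ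
      obtain ⟨-, g, hg, hg'⟩ := hQ
      rcases d.inv g hg hg' (X ⊓ fixSub f) inf_le_right (by
        intro x hx
        exact ⟨hX g hg x hx.1, hinvF f hf g hg x hx.2⟩) with h | h
      · intro x hx
        rcases h x hx with h | h
        · rw [h]; exact one_mem _
        · rw [h]; exact hzT
      · rw [h]
        exact hT _ ⟨⟨f, hf, hf1, rfl⟩, g, hg, hg'⟩ (inf_eq_right.1 h)
    · have h2 : ¬ ∃ g ∈ E, ∃ x ∈ fixSub f, g x ≠ x := fun h => hQ ⟨⟨f, hf, hf1, rfl⟩, h⟩
      push Not at h2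
      intro x hx
      rcases hfixE x (fun e he => h2 e he x hx.2) with h | h
      · rw [h]; exact one_mem _
      · rw [h]; exact hzT
  have hzc : ∀ w : W, z * w = w * z := by
    have h1 : (⊤ : Subgroup W) ≤ Subgroup.centralizer {z} := by
      apply gen ⊤ (fun _ _ _ _ => Subgroup.mem_top _)
      · rw [Subgroup.mem_centralizer_singleton_iff]
      · intro Q hQ _ x hx
        rw [Subgroup.mem_centralizer_singleton_iff]
        exact ((hd Q hQ).cen x hx).symm
    intro w
    exact (Subgroup.mem_centralizer_singleton_iff.1 (h1 (Subgroup.mem_top w))).symm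
  set Z : Subgroup W := Subgroup.zpowers z with hZdef
  have hmemZ : ∀ x, x ∈ Z ↔ x = 1 ∨ x = z := by
    intro x
    rw [hZdef, mem_zpowers_iff_mem_range_orderOf, hz2]
    simp only [Finset.mem_image, Finset.mem_range]
    constructor
    · rintro ⟨n, hn, rfl⟩
      interval_cases n
      · left; exact pow_zero z
      · right; exact pow_one z
    · rintro (rfl | rfl)
      · exact ⟨0, by norm_num, pow_zero z⟩
      · exact ⟨1, by norm_num, pow_one _⟩
  have hzZ : z ∈ Z := (hmemZ z).2 (Or.inr rfl)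
  haveI hZn : Z.Normal := by
    refine ⟨fun n hn g => ?_⟩
    rcases (hmemZ n).1 hn with rfl | rfl
    · simp
    · rw [← hzc g]; simp [hzZ]
  have hEZ : ∀ e ∈ E, ∀ x ∈ Z, e x = x := by
    intro e he x hx
    rcases (hmemZ x).1 hx with rfl | rfl
    · exact map_one e
    · exact d₁.fixz e he
  set Z2 : Subgroup W := (Subgroup.center (W ⧸ Z)).comap (QuotientGroup.mk' Z) with hZ2def
  have hmemZ2 : ∀ x, x ∈ Z2 ↔ ∀ w, ⁅x, w⁆ ∈ Z := by
    intro x
    rw [hZ2def, Subgroup.mem_comap, Subgroup.mem_center_iff]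
    have key : ∀ w : W, ((w : W ⧸ Z) * (x : W ⧸ Z) = (x : W ⧸ Z) * (w : W ⧸ Z)) ↔ ⁅x, w⁆ ∈ Z := by
      intro w
      rw [← QuotientGroup.mk_mul, ← QuotientGroup.mk_mul, eq_comm, QuotientGroup.eq_iff_div_mem]
      have : x * w / (w * x) = ⁅x, w⁆ := by rw [commutatorElement_def, div_eq_mul_inv]; group
      rw [this]
    constructor
    · intro h w
      exact (key w).1 (h w)
    · intro h w
      obtain ⟨w, rfl⟩ := QuotientGroup.mk_surjective w
      exact (key w).2 (h w)
  haveI hZ2n : Z2.Normal := by rw [hZ2def]; infer_instance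
  have hZ2E : ∀ e ∈ E, ∀ x ∈ Z2, e x ∈ Z2 := by
    intro e he x hx
    rw [hmemZ2] at hx ⊢
    intro w
    have h1 : ⁅e x, w⁆ = e ⁅x, e⁻¹ w⁆ := by
      rw [map_commutatorElement]; simp
    rw [h1, hEZ e he _ (hx _)]
    exact hx _
  have hpair : ∀ Q Q', IsQ Q → IsQ Q' → Q ≠ Q' → Q ≤ Z2 → ∀ x ∈ Q, ∀ y ∈ Q', x * y = y * x := by
    intro Q Q' hQ hQ' hne hQZ x hx y hy
    obtain ⟨f, hf, hf1⟩ : ∃ f ∈ ker E Q', f ≠ 1 := by
      by_contra hcon
      push Not at hcon
      have h1 : ker E Q' = ⊥ := (Subgroup.eq_bot_iff_forall _).2 hcon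
      have h2 := hker3 Q' hQ'
      rw [h1, Subgroup.card_bot] at h2
      omega
    have hfQ : ∃ x ∈ Q, f x ≠ x := by
      by_contra hcon
      push Not at hcon
      exact hf1 (hker Q Q' hQ hQ' hne f ⟨hf.1, hcon⟩ hf)
    have d := hd Q hQ
    have hfy : f y = y := hf.2 y hy
    rcases d.inv f hf.1 hfQ (Q ⊓ Subgroup.centralizer {y}) inf_le_left (by
      intro w hw
      refine Subgroup.mem_inf.2 ⟨hinvQ Q hQ f hf.1 w hw.1, ?_⟩
      rw [Subgroup.mem_centralizer_singleton_iff]
      have h3 := Subgroup.mem_centralizer_singleton_iff.1 (Subgroup.mem_inf.1 hw).2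
      have h4 := congrArg f h3
      rw [map_mul, map_mul, hfy] at h4
      exact h4) with h | h
    · exfalso
      obtain ⟨x₀, hx₀, hfx₀⟩ := hfQ
      have h5 : ⁅f x₀, y⁆ = ⁅x₀, y⁆ := by
        have h6 : ⁅f x₀, y⁆ = f ⁅x₀, y⁆ := by rw [map_commutatorElement, hfy]
        rw [h6]
        exact hEZ f hf.1 _ ((hmemZ2 x₀).1 (hQZ hx₀) y)
      have h7 : x₀⁻¹ * f x₀ ∈ Q ⊓ Subgroup.centralizer {y} := by
        refine Subgroup.mem_inf.2 ⟨mul_mem (inv_mem hx₀) (hinvQ Q hQ f hf.1 _ hx₀), ?_⟩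
        rw [Subgroup.mem_centralizer_singleton_iff]
        rw [commutatorElement_def, commutatorElement_def] at h5
        have h8 : f x₀ * y * (f x₀)⁻¹ = x₀ * y * x₀⁻¹ := mul_right_cancel h5
        calc x₀⁻¹ * f x₀ * y = x₀⁻¹ * (f x₀ * y * (f x₀)⁻¹) * f x₀ := by group
          _ = x₀⁻¹ * (x₀ * y * x₀⁻¹) * f x₀ := by rw [h8]
          _ = y * (x₀⁻¹ * f x₀) := by group
      rcases h _ h7 with h9 | h9
      · exact hfx₀ (inv_mul_eq_one.1 h9).symm
      · have h10 : f x₀ = x₀ * z := by rw [← h9]; group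
        have h11 := d.cube f hf.1 x₀ hx₀
        have h12 : f (f x₀) = x₀ := by
          rw [h10, map_mul, d₁.fixz f hf.1, h10, mul_assoc, d₁.zsq, mul_one]
        rw [h12] at h11
        exact hfx₀ h11
    · have h13 : x ∈ Q ⊓ Subgroup.centralizer {y} := by rw [h]; exact hx
      exact Subgroup.mem_centralizer_singleton_iff.1 h13.2
  have hQZ : ∀ Q, IsQ Q → ¬ Q ≤ Z := by
    intro Q hQ hle
    obtain ⟨x, hx, y, hy, hxy⟩ := (hd Q hQ).nab
    apply hxy
    rw [commutatorElement_eq_one_iff_mul_comm]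
    rcases (hmemZ x).1 (hle hx) with rfl | rfl
    · simp
    · exact hzc y
  set C : Subgroup W := Subgroup.centralizer (Z2 : Set W) with hCdef
  have hzC : z ∈ C := by
    rw [hCdef, Subgroup.mem_centralizer_iff]
    intro w _
    exact (hzc w).symm
  have hCE : ∀ e ∈ E, ∀ x ∈ C, e x ∈ C := by
    intro e he x hx
    rw [hCdef, Subgroup.mem_centralizer_iff] at hx ⊢
    intro w hw
    have h1 : e⁻¹ w ∈ (Z2 : Set W) := hZ2E _ (E.inv_mem he) w hw
    have h2 := congrArg e (hx _ h1)
    rw [map_mul, map_mul] at h2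
    simpa using h2
  have hCZ2 : C ⊓ Z2 ≤ Z := by
    apply gen _ _ Z hzZ
    · intro Q hQ hle
      exfalso
      obtain ⟨x, hx, y, hy, hxy⟩ := (hd Q hQ).nab
      apply hxy
      rw [commutatorElement_eq_one_iff_mul_comm]
      have h1 := (Subgroup.mem_inf.1 (hle hx)).1
      rw [hCdef, Subgroup.mem_centralizer_iff] at h1
      exact (h1 y (hle hy).2).symm
    · intro e he x hx
      exact ⟨hCE e he x hx.1, hZ2E e he x hx.2⟩
  have hCZ : C ≤ Z := by
    by_contra hcon
    haveI hCn : C.Normal := by rw [hCdef]; infer_instance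
    haveI : (C.map (QuotientGroup.mk' Z)).Normal := hCn.map _ (QuotientGroup.mk'_surjective Z)
    have h1 : C.map (QuotientGroup.mk' Z) ≠ ⊥ := by
      rw [Ne, Subgroup.map_eq_bot_iff, QuotientGroup.ker_mk']
      exact hcon
    have h2 := Cfsg.Agent.H25.inf_center_ne_bot (hW.to_quotient Z) (C.map (QuotientGroup.mk' Z)) h1
    obtain ⟨q, ⟨hq1, hq2⟩, hq3⟩ := Subgroup.ne_bot_iff_exists_ne_one.1 h2 |>.elim (fun a ha =>
      (⟨a.1, a.2, fun h => ha (Subtype.ext h)⟩ : ∃ q, q ∈ C.map (QuotientGroup.mk' Z) ⊓ Subgroup.center (W ⧸ Z) ∧ q ≠ 1))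
    obtain ⟨c, hc, rfl⟩ := hq1
    apply hq3
    have h3 : c ∈ Z2 := hq2
    exact (QuotientGroup.eq_one_iff c).2 (hCZ2 ⟨hc, h3⟩)
  have hallQ : ∀ Q, IsQ Q → Q ≤ Z2 := by
    intro Q hQ
    by_contra hcon
    apply hQZ Q hQ
    refine le_trans ?_ hCZ
    have h1 : Z2 ≤ Subgroup.centralizer (Q : Set W) := by
      apply gen Z2 hZ2E
      · rw [Subgroup.mem_centralizer_iff]
        intro w _
        exact (hzc w).symm
      · intro Q' hQ' hle x hx
        rw [Subgroup.mem_centralizer_iff]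
        intro y hy
        have hne : Q' ≠ Q := by
          rintro rfl
          exact hcon hle
        exact (hpair Q' Q hQ' hQ hne hle x hx y hy).symm
    intro x hx
    rw [hCdef, Subgroup.mem_centralizer_iff]
    intro w hw
    have := Subgroup.mem_centralizer_iff.1 (h1 hw) x hx
    exact this.symm
  have hZ2top : (⊤ : Subgroup W) ≤ Z2 := by
    apply gen ⊤ (fun _ _ _ _ => Subgroup.mem_top _)
    · rw [hmemZ2]
      intro w
      rw [commutatorElement_def, hzc w]
      simp
    · intro Q hQ _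
      exact hallQ Q hQ
  have hcomm : ∀ x y : W, ⁅x, y⁆ ∈ Z := fun x y => (hmemZ2 x).1 (hZ2top (Subgroup.mem_top x)) y
  have hcenter : Subgroup.center W = Z := by
    apply le_antisymm
    · apply gen _ _ Z hzZ
      · intro Q hQ hle
        exfalso
        obtain ⟨x, hx, y, hy, hxy⟩ := (hd Q hQ).nab
        apply hxy
        rw [commutatorElement_eq_one_iff_mul_comm]
        exact (Subgroup.mem_center_iff.1 (hle hx) y).symm
      · intro e he x hx
        rw [Subgroup.mem_center_iff] at hx ⊢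
        intro w
        have h2 := congrArg e (hx (e⁻¹ w))
        rw [map_mul, map_mul] at h2
        simpa using h2
    · rw [hZdef, Subgroup.zpowers_le, Subgroup.mem_center_iff]
      intro w
      exact (hzc w).symm
  have hcardZ : Nat.card Z = 2 := by rw [hZdef, Nat.card_zpowers, hz2]
  have hges : Extra.GES 2 W := by
    refine ⟨by rw [hcenter, hcardZ], ?_⟩
    change commutator W ≤ Subgroup.center W
    rw [commutator_def, Subgroup.commutator_le, hcenter]
    intro x _ y _
    exact hcomm x y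
  have hex : Cfsg.IsExtraspecial 2 W := by
    apply Extra.isExtraspecial_of_ges hges
    intro h
    apply hQZ Q₁ hQ₁
    rw [← hcenter, h]
    exact le_top
  refine ⟨hE9, hex, ?_, ?_⟩
  · obtain ⟨n, hn1, hn⟩ := Extra.card_of_isExtraspecial hex
    have hlow : 2 ≤ n := by
      by_contra hcon
      have : n = 1 := by omega
      rw [this] at hn
      apply hQne
      have e1 : Q₁ = ⊤ := Subgroup.eq_top_of_card_eq _ (by rw [d₁.card, hn]; norm_num)
      have e2 : Q₂ = ⊤ := Subgroup.eq_top_of_card_eq _ (by rw [d₂.card, hn]; norm_num)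
      rw [e1, e2]
    have hup : Nat.card W ≤ 2 * 4 ^ 4 := by
      obtain ⟨F, hF⟩ : ∃ F : Finset (Subgroup W), ∀ Q, Q ∈ F ↔ IsQ Q :=
        ⟨(Set.toFinite {Q | IsQ Q}).toFinset, fun Q => Set.Finite.mem_toFinset _⟩
      have hF4 : F.card ≤ 4 := by
        haveI : Fintype (MulAut W) := Fintype.ofFinite _
        let S : Subgroup W → Finset (MulAut W) := fun Q => Finset.univ.filter (fun f => f ∈ ker E Q ∧ f ≠ 1)
        have hS : ∀ Q ∈ F, (S Q).card = 2 := by
          intro Q hQ
          have hQ' : IsQ Q := (hF Q).1 hQ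
          have h1 : S Q = (Finset.univ.filter (fun f => f ∈ ker E Q)).erase 1 := by
            ext f
            simp only [S, Finset.mem_filter, Finset.mem_univ, true_and, Finset.mem_erase]
            tauto
          rw [h1, Finset.card_erase_of_mem (by simp [one_mem])]
          have h2 : (Finset.univ.filter (fun f => f ∈ ker E Q)).card = Nat.card (ker E Q) := by
            rw [Nat.card_eq_fintype_card, Fintype.card_subtype]
          rw [h2, hker3 Q hQ']
        have hdisj : (F : Set (Subgroup W)).PairwiseDisjoint S := by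
          intro Q hQ Q' hQ' hne
          rw [Function.onFun, Finset.disjoint_left]
          intro f hf hf'
          have h1 := (Finset.mem_filter.1 hf).2
          have h2 := (Finset.mem_filter.1 hf').2
          exact h1.2 (hker Q Q' ((hF Q).1 hQ) ((hF Q').1 hQ') hne f h1.1 h2.1)
        have h3 : (F.biUnion S).card = F.card * 2 := by
          rw [Finset.card_biUnion hdisj, Finset.sum_congr rfl hS, Finset.sum_const, smul_eq_mul]
        have h4 : F.biUnion S ⊆ (Finset.univ.filter (fun f => f ∈ E)).erase 1 := by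
          intro f hf
          obtain ⟨Q, hQ, hfQ⟩ := Finset.mem_biUnion.1 hf
          have h5 := (Finset.mem_filter.1 hfQ).2
          rw [Finset.mem_erase, Finset.mem_filter]
          exact ⟨h5.2, Finset.mem_univ _, h5.1.1⟩
        have h5 := Finset.card_le_card h4
        rw [h3, Finset.card_erase_of_mem (by simp [one_mem])] at h5
        have h6 : (Finset.univ.filter (fun f : MulAut W => f ∈ E)).card = Nat.card E := by
          rw [Nat.card_eq_fintype_card, Fintype.card_subtype]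
        rw [h6, hE9] at h5
        omega
      have hchain : ∀ T : Finset (Subgroup W), (∀ Q ∈ T, IsQ Q) →
          Nat.card (Z ⊔ T.sup id : Subgroup W) ≤ 2 * 4 ^ T.card := by
        intro T
        induction T using Finset.induction_on with
        | empty =>
          intro _
          rw [Finset.sup_empty, sup_bot_eq, hcardZ]
          simp
        | insert Q T hQT ih =>
          intro hT
          have h1 := ih (fun Q' hQ' => hT Q' (Finset.mem_insert_of_mem hQ'))
          have hQ := hT Q (Finset.mem_insert_self _ _)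
          rw [Finset.sup_insert, id, ← sup_assoc, sup_comm Z Q, sup_assoc, Finset.card_insert_of_notMem hQT]
          set N : Subgroup W := Z ⊔ T.sup id with hN
          have hNn : N.Normal := by
            refine ⟨fun n hn g => ?_⟩
            have h2 : g * n * g⁻¹ = ⁅g, n⁆ * n := by rw [commutatorElement_def]; group
            rw [h2]
            exact mul_mem ((le_sup_left : Z ≤ N) (hcomm g n)) hn
          have h3 : Q ≤ Subgroup.normalizer (N : Set W) := by
            rw [Subgroup.normalizer_eq_top_iff.2 hNn]; exact le_top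
          have h4 := Cfsg.Agent.H11.card_sup_mul_card_inf h3
          rw [(hd Q hQ).card] at h4
          have h5 : 2 ≤ Nat.card (Q ⊓ N : Subgroup W) := by
            rw [← hcardZ]
            apply Subgroup.card_le_of_le
            apply le_inf
            · rw [hZdef, Subgroup.zpowers_le]; exact (hd Q hQ).zmem
            · exact le_sup_left
          have h6 : Nat.card (Q ⊔ N : Subgroup W) * 2 ≤ 8 * Nat.card N := by
            rw [← h4]; exact Nat.mul_le_mul_left _ h5
          rw [pow_succ]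
          omega
      have hgenW : (⊤ : Subgroup W) ≤ Z ⊔ F.sup id := by
        apply gen ⊤ (fun _ _ _ _ => Subgroup.mem_top _)
        · exact (le_sup_left : Z ≤ Z ⊔ F.sup id) hzZ
        · intro Q hQ _
          refine le_trans ?_ le_sup_right
          exact Finset.le_sup (f := id) ((hF Q).2 hQ)
      have h7 := hchain F (fun Q hQ => (hF Q).1 hQ)
      rw [top_le_iff.1 hgenW, Subgroup.card_top] at h7
      exact h7.trans (Nat.mul_le_mul_left _ (Nat.pow_le_pow_right (by norm_num) hF4))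
    have hn4 : n ≤ 4 := by
      by_contra hcon
      have h8 : 2 ^ 11 ≤ 2 ^ (2 * n + 1) := Nat.pow_le_pow_right (by norm_num) (by omega)
      rw [← hn] at h8
      omega
    interval_cases n
    · left; exact hn
    · right; left; exact hn
    · right; right; exact hn
  · ext x
    rw [hcenter]
    constructor
    · intro hx
      exact (hmemZ x).2 (hfixE x hx)
    · intro hx e he
      exact hEZ e he x hx

end Cfsg.Agent.S2934
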