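import Cfsg.Statements.S2971
import Cfsg.Agent.H49.RankOne
import Cfsg.Agent.H49.Isolated

set_option autoImplicit false
open Cfsg

namespace Cfsg.Agent.S2971

/-- Let G be a finite group and p an odd prime such that G has p-rank at most 1 (no elementary abelian subgroup of order p²). If x ∈ G is an isolated element of order p, then x is central modulo the largest normal subgroup of G of order prime to p. -/
theorem result {G : Type*} [Group G] [Finite G] {p : ℕ} [Fact p.Prime] (hp : p ≠ 2) (hrk : Cfsg.PRankLE p 1 G) (x : G) (hx : orderOf x = p) (hiso : Cfsg.IsIsolated x) : Cfsg.InZStar p x := by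
  have hx1 : x ≠ 1 := by
    rintro rfl
    rw [orderOf_one] at hx
    exact (Fact.out : p.Prime).one_lt.ne hx
  have hcyc : ∀ P : Sylow p G, IsCyclic ↥(P : Subgroup G) := fun P =>
    H49.isCyclic_of_pRankLE_odd hp P.2 (H49.pRankLE_subgroup hrk _)
  obtain ⟨P, N, hN, hc⟩ := H49.isolated_cyclic_sylow x ⟨1, by rw [hx, pow_one]⟩ hiso hx1 hcyc
  have hNp : (Nat.card N).Coprime p := by
    have h1 := hc.card_mul
    have h2 : ¬ p ∣ (P : Subgroup G).index := P.not_dvd_index
    have h3 : (P : Subgroup G).index = Nat.card N := by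
      have h4 := (P : Subgroup G).card_mul_index
      have h5 : 0 < Nat.card (P : Subgroup G) := Nat.card_pos
      apply Nat.eq_of_mul_eq_mul_left h5
      rw [h4, ← h1, mul_comm]
    rw [h3] at h2
    exact ((Fact.out : p.Prime).coprime_iff_not_dvd.2 h2).symm
  have hle : N ≤ Cfsg.pPrimeCore p G := le_sSup ⟨hN, hNp⟩
  intro g
  apply hle
  have hcomm : ∀ a b : G ⧸ N, a * b = b * a := by
    have e : ↥(P : Subgroup G) ≃* G ⧸ N := hc.symm.QuotientMulEquiv.symm
    have := hcyc P
    intro a b
    obtain ⟨a, rfl⟩ := e.surjective a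
    obtain ⟨b, rfl⟩ := e.surjective b
    letI := IsCyclic.commGroup (α := ↥(P : Subgroup G))
    rw [← map_mul, ← map_mul, mul_comm]
  rw [← QuotientGroup.eq_one_iff]
  simp only [QuotientGroup.mk_mul, QuotientGroup.mk_inv]
  rw [hcomm (g : G ⧸ N) (x : G ⧸ N)]
  group

end Cfsg.Agent.S2971
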