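import Cfsg.Statements.S3019
import Cfsg.Agent.H31.PP.Final
import Cfsg.Agent.H79.PP3.Main
import Cfsg.Agent.H98.PPI
import Cfsg.Agent.H87.FlavII

set_option autoImplicit false
open Cfsg

namespace Cfsg.Agent.S3019

/-- Let G be a finite group, p a prime and P a Sylow p-subgroup of G. Then G is p-solvable if and only if, for every g ∈ G, the subgroup generated by P and g P g⁻¹ is p-solvable. -/
theorem result {G : Type*} [Group G] [Finite G] {p : ℕ} [Fact p.Prime] (P : Sylow p G) : Cfsg.IsPSolvable p G ↔ ∀ g : G, Cfsg.IsPSolvable p ↥((P : Subgroup G) ⊔ (P : Subgroup G).map (MulAut.conj g).toMonoidHom) := by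
  exact H79.PP3.main
    (fun _ G' _ _ hM P' _ B h1 h2 h3 h4 h5 h6 h7 h8 =>
      H98.PPI.partI_of
        (fun G'' _ _ hM'' P'' A a1 a2 a3 a4 _ a5 a6 a7 a8 a9 =>
          H31.PP.final hM'' P'' A a1 a2 a3 a4 a5 a6 a7 a8 a9)
        hM P' B h1 h2 h3 h4 h5 h6 h7 h8)
    (fun G' _ _ hM P' _ h1 h2 h3 h4 h5 =>
      H87.FlavII.partII_of hM P' h1 h2 h3 h4 h5
        (fun A a1 a2 a3 a4 _ a5 a6 a7 a8 a9 =>
          H31.PP.final hM P' A a1 a2 a3 a4 a5 a6 a7 a8 a9))
    G P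

end Cfsg.Agent.S3019
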