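import Cfsg.Statements.S3038
import Cfsg.Agent.H88.RTS3
import Cfsg.Agent.S3049
import Cfsg.Agent.Fus.SmallP
import Cfsg.Agent.OddP.NormalSq

set_option autoImplicit false
open Cfsg

namespace Cfsg.Agent.S3038

open Subgroup

universe u

theorem card_center_of_cube {G : Type u} [Group G] [Finite G] {p : ℕ} [hp : Fact p.Prime] (hG : Nat.card G = p ^ 3)
    (hna : ¬ ∀ a b : G, a * b = b * a) : Nat.card (center G) = p := by
  have hGp : IsPGroup p G := IsPGroup.of_card hG
  haveI : Nontrivial G := by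
    rw [← Finite.one_lt_card_iff_nontrivial, hG]
    exact Nat.one_lt_pow (by norm_num) hp.out.one_lt
  obtain ⟨k, hk⟩ := IsPGroup.iff_card.1 (hGp.to_subgroup (center G))
  have hnt : Nontrivial (center G) := hGp.center_nontrivial
  have h1 := (center G).card_mul_index
  have hidx : ∃ m, (center G).index = p ^ m ∧ k + m = 3 := by
    have hd : (center G).index ∣ p ^ 3 := by rw [← hG]; exact (center G).index_dvd_card
    obtain ⟨m, -, hm⟩ := (Nat.dvd_prime_pow hp.out).1 hd
    refine ⟨m, hm, ?_⟩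
    rw [hk, hm, hG, ← pow_add] at h1
    exact Nat.pow_right_injective hp.out.two_le h1
  obtain ⟨m, hm, hkm⟩ := hidx
  have hk0 : k ≠ 0 := by
    rintro rfl
    rw [pow_zero] at hk
    rw [← Finite.one_lt_card_iff_nontrivial, hk] at hnt
    exact lt_irrefl _ hnt
  have hm2 : 2 ≤ m := by
    by_contra hcon
    apply hna
    have hcyc : IsCyclic (G ⧸ center G) := by
      have h2 : Nat.card (G ⧸ center G) = p ^ m := hm
      have h3 : m = 0 ∨ m = 1 := by omega
      rcases h3 with rfl | rfl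
      · rw [pow_zero] at h2
        haveI := (Nat.card_eq_one_iff_unique.1 h2).1
        exact isCyclic_of_subsingleton
      · rw [pow_one] at h2
        exact isCyclic_of_prime_card h2
    exact commutative_of_cyclic_center_quotient (QuotientGroup.mk' (center G)) (by rw [QuotientGroup.ker_mk'])
  have hk1 : k = 1 := by omega
  rw [hk, hk1, pow_one]

theorem prank_sub {G : Type u} [Group G] [Finite G] {p : ℕ} (hrank : Cfsg.PRankLE p 2 G) (L : Subgroup G) :
    Cfsg.PRankLE p 2 ↥L := by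
  intro A hA hAe
  have h1 := hrank (A.map L.subtype) ?_ ?_
  · rwa [Nat.card_congr (A.equivMapOfInjective L.subtype L.subtype_injective).toEquiv.symm] at h1
  · refine ⟨⟨?_⟩⟩
    rintro ⟨_, a, ha, rfl⟩ ⟨_, b, hb, rfl⟩
    apply Subtype.ext
    have h2 : a * b = b * a := congrArg Subtype.val (hA.is_comm.comm ⟨a, ha⟩ ⟨b, hb⟩)
    show (a : G) * (b : G) = (b : G) * (a : G)
    exact congrArg Subtype.val h2
  · rintro _ ⟨a, ha, rfl⟩
    exact congrArg Subtype.val (hAe a ha)

theorem aux {G : Type u} [Group G] [Finite G] {p : ℕ} [Fact p.Prime] (hp : p ≠ 2)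
    (hrank : Cfsg.PRankLE p 2 G) (x : G) (hx : orderOf x = p) (hiso : Cfsg.IsIsolated x) (L : Subgroup G)
    (hsim : IsSimpleGroup ↥L) (hna : ¬ IsMulCommutative ↥L) (P : Sylow p ↥L) :
      ((∀ g : G, g * x * g⁻¹ ∉ ((P : Subgroup ↥L).map L.subtype)) ∧ IsCyclic ↥(P : Subgroup ↥L)) ∨
      ((∃ g : G, g * x * g⁻¹ ∈ ((P : Subgroup ↥L).map L.subtype)) ∧
        ((Cfsg.IsExtraspecial p ↥(P : Subgroup ↥L) ∧ Nat.card (P : Subgroup ↥L) = p ^ 3 ∧
            ∀ y ∈ (P : Subgroup ↥L), y ^ p = 1) ∨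
         (p = 3 ∧ ∃ k : ℕ, 2 ≤ k ∧ Nat.card (P : Subgroup ↥L) = 3 ^ (2 * k + 1) ∧
            ∃ _ : Group.IsNilpotent ↥(P : Subgroup ↥L), Group.nilpotencyClass ↥(P : Subgroup ↥L) = 2 * k))) := by
  have hpp : p.Prime := Fact.out
  by_cases hcase : ∃ g : G, g * x * g⁻¹ ∈ (P : Subgroup ↥L).map L.subtype
  · right
    refine ⟨hcase, ?_⟩
    obtain ⟨g, y, hyP, hyx⟩ := hcase
    have hyx' : (y : G) = g * x * g⁻¹ := hyx
    have hyo : orderOf y = p := by
      rw [← Subgroup.orderOf_coe, hyx', ← hx]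
      exact (MulAut.conj g).orderOf_eq x
    have hyi : Cfsg.IsIsolated y := by
      intro h hh
      have h1 : Commute (g * x * g⁻¹) ((h : G) * (g * x * g⁻¹) * (h : G)⁻¹) := by
        have h2 : (y : G) * ((h : G) * y * (h : G)⁻¹) = ((h : G) * y * (h : G)⁻¹) * y := congrArg Subtype.val hh.eq
        rw [hyx'] at h2
        exact h2
      have h3 : Commute x ((g⁻¹ * h * g) * x * (g⁻¹ * h * g)⁻¹) := by
        have h4 := (MulAut.conj g⁻¹).toMonoidHom.map_mul (g * x * g⁻¹) ((h : G) * (g * x * g⁻¹) * (h : G)⁻¹)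
        have h5 := (MulAut.conj g⁻¹).toMonoidHom.map_mul ((h : G) * (g * x * g⁻¹) * (h : G)⁻¹) (g * x * g⁻¹)
        rw [h1.eq, h5] at h4
        have e1 : (MulAut.conj g⁻¹).toMonoidHom (g * x * g⁻¹) = x := by
          show g⁻¹ * (g * x * g⁻¹) * g⁻¹⁻¹ = x
          group
        have e2 : (MulAut.conj g⁻¹).toMonoidHom ((h : G) * (g * x * g⁻¹) * (h : G)⁻¹) =
            (g⁻¹ * h * g) * x * (g⁻¹ * h * g)⁻¹ := by
          show g⁻¹ * ((h : G) * (g * x * g⁻¹) * (h : G)⁻¹) * g⁻¹⁻¹ = _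
          group
        rw [e1, e2] at h4
        exact h4.symm
      have h6 := hiso _ h3
      apply Subtype.ext
      show (h : G) * y * (h : G)⁻¹ = y
      rw [hyx']
      calc (h : G) * (g * x * g⁻¹) * (h : G)⁻¹ = g * ((g⁻¹ * h * g) * x * (g⁻¹ * h * g)⁻¹) * g⁻¹ := by group
        _ = g * x * g⁻¹ := by rw [h6]
    have hres : Cfsg.pResidual p ↥L = ⊤ := by
      rcases hsim.eq_bot_or_eq_top_of_normal (Cfsg.pResidual p ↥L) inferInstance with h | h
      · exfalso
        have h1 := Cfsg.Agent.Transfer.isPGroup_quotient_pResidual (p := p) (G := ↥L)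
        have h2 : IsPGroup p ↥L := by
          rintro a
          obtain ⟨k, hk⟩ := h1 (QuotientGroup.mk' _ a)
          refine ⟨k, ?_⟩
          rw [← map_pow] at hk
          have h3 : a ^ p ^ k ∈ Cfsg.pResidual p ↥L := (QuotientGroup.eq_one_iff _).1 hk
          rw [h] at h3
          exact mem_bot.1 h3
        haveI : Nontrivial ↥L := hsim.toNontrivial
        have h3 := h2.center_nontrivial
        rcases hsim.eq_bot_or_eq_top_of_normal (center ↥L) inferInstance with h4 | h4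
        · rw [Subgroup.nontrivial_iff_ne_bot] at h3
          exact h3 h4
        · apply hna
          refine ⟨⟨fun a b => ?_⟩⟩
          have h5 : b ∈ center ↥L := by rw [h4]; exact mem_top _
          exact mem_center_iff.1 h5 a
      · exact h
    rcases Cfsg.Agent.H88.sylow_isolated hp hres (prank_sub hrank L) P hyP hyo hyi with ⟨h1, h2, h3⟩ | ⟨h1, k, h2, h3, h4⟩
    · left
      refine ⟨Cfsg.Agent.Fus.isExtraspecial_of_card h1 (card_center_of_cube h1 ?_), h1, h2⟩
      intro h4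
      apply h3
      intro a ha b hb
      exact congrArg Subtype.val (h4 ⟨a, ha⟩ ⟨b, hb⟩)
    · exact Or.inr ⟨h1, k, h2, h3, P.2.isNilpotent, h4⟩
  · left
    push Not at hcase
    refine ⟨hcase, ?_⟩
    -- a Sylow subgroup of `G` containing `P`
    have hPp : IsPGroup p ↥((P : Subgroup ↥L).map L.subtype) := P.2.map _
    obtain ⟨S, hS⟩ := hPp.exists_le_sylow
    have hxp : IsPGroup p (zpowers x) := by
      rw [IsPGroup.iff_card]
      exact ⟨1, by rw [Nat.card_zpowers, hx, pow_one]⟩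
    obtain ⟨S0, hS0⟩ := hxp.exists_le_sylow
    obtain ⟨g, hg⟩ := MulAction.exists_smul_eq G S0 S
    have hxS : g * x * g⁻¹ ∈ (S : Subgroup G) := by
      rw [← hg]
      exact ⟨x, hS0 (mem_zpowers x), rfl⟩
    have hx0 := Cfsg.Agent.S3049.central_of_isolated hiso S0 (hS0 (mem_zpowers x))
    have hxc : ∀ s ∈ (S : Subgroup G), s * (g * x * g⁻¹) = (g * x * g⁻¹) * s := by
      intro s hs
      rw [← hg] at hs
      obtain ⟨s', hs', rfl⟩ := hs
      have h1 : x * s' = s' * x := (hx0 s' hs').eq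
      show (g * s' * g⁻¹) * (g * x * g⁻¹) = (g * x * g⁻¹) * (g * s' * g⁻¹)
      calc (g * s' * g⁻¹) * (g * x * g⁻¹) = g * (s' * x) * g⁻¹ := by group
        _ = g * (x * s') * g⁻¹ := by rw [h1]
        _ = _ := by group
    by_contra hnc'
    have hnc2 : ¬ IsCyclic ↥(⊤ : Subgroup ↥(P : Subgroup ↥L)) := by
      intro hc
      exact hnc' ((Subgroup.topEquiv (G := ↥(P : Subgroup ↥L))).isCyclic.1 hc)
    obtain ⟨A, -, hAn, hAe, hAc⟩ := Cfsg.Agent.OddP.exists_sq_of_not_cyclic hp P.2 ⊤ inferInstance hnc2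
    set W : Subgroup G := (A.map (P : Subgroup ↥L).subtype).map L.subtype with hW
    have hWle : W ≤ (P : Subgroup ↥L).map L.subtype := by
      rintro _ ⟨_, ⟨a, _, rfl⟩, rfl⟩
      exact ⟨a, a.2, rfl⟩
    have hWc : Nat.card W = p ^ 2 := by
      rw [hW, Nat.card_congr ((A.map (P : Subgroup ↥L).subtype).equivMapOfInjective L.subtype L.subtype_injective).toEquiv.symm,
        Nat.card_congr (A.equivMapOfInjective _ (P : Subgroup ↥L).subtype_injective).toEquiv.symm, hAc]
    have hWe : Cfsg.IsElementaryAbelian p W := by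
      refine ⟨⟨⟨?_⟩⟩, ?_⟩
      · rintro ⟨_, _, ⟨a, ha, rfl⟩, rfl⟩ ⟨_, _, ⟨b, hb, rfl⟩, rfl⟩
        apply Subtype.ext
        have h2 : a * b = b * a := congrArg Subtype.val (hAe.1.is_comm.comm ⟨a, ha⟩ ⟨b, hb⟩)
        show ((a : ↥L) : G) * ((b : ↥L) : G) = ((b : ↥L) : G) * ((a : ↥L) : G)
        exact congrArg (fun z : ↥(P : Subgroup ↥L) => ((z : ↥L) : G)) h2
      · rintro _ ⟨_, ⟨a, ha, rfl⟩, rfl⟩
        exact congrArg (fun z : ↥(P : Subgroup ↥L) => ((z : ↥L) : G)) (hAe.2 a ha)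
    have hxp : (g * x * g⁻¹) ^ p = 1 := by
      rw [conj_pow, ← hx, pow_orderOf_eq_one]; group
    have h1 := Cfsg.Agent.H88.mem_of_rank (P := (⊤ : Subgroup G)) (fun B _ hB => hrank B hB.1 hB.2) le_top hWe hWc
      (mem_top (g * x * g⁻¹)) hxp (fun e he => hxc e (hS (hWle he)))
    exact hcase g (hWle h1)

/-- Let G be a finite group and p an odd prime with O_{p'}(G) = 1. Suppose that G has p-rank at most 2 and that some element x of order p is isolated in G and not central. Then F*(G) is a non-abelian simple group, and for every Sylow p-subgroup P of F*(G), either no conjugate of x lies in P and P is cyclic, or some conjugate of x lies in P and either P is extraspecial of order p³ and exponent p, or p = 3 and P has order 3^{2k+1} for some k ≥ 2 and is of maximal class (nilpotency class 2k). Since O_{p'}(G) = 1, such an x is not central modulo O_{p'}(G): the hypotheses describe a counterexample to the Z*_p statement in p-rank at most 2, and the conclusion records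 the structure it would have. -/
theorem result {G : Type*} [Group G] [Finite G] {p : ℕ} [Fact p.Prime] (hp : p ≠ 2) (hcore : Cfsg.pPrimeCore p G = ⊥)
    (hrank : Cfsg.PRankLE p 2 G) (x : G) (hx : orderOf x = p) (hiso : Cfsg.IsIsolated x) (hnc : x ∉ Subgroup.center G) :
    IsSimpleGroup ↥(Cfsg.generalizedFittingSubgroup G) ∧ ¬ IsMulCommutative ↥(Cfsg.generalizedFittingSubgroup G) ∧
    ∀ P : Sylow p ↥(Cfsg.generalizedFittingSubgroup G),
      ((∀ g : G, g * x * g⁻¹ ∉ ((P : Subgroup ↥(Cfsg.generalizedFittingSubgroup G)).map (Cfsg.generalizedFittingSubgroup G).subtype)) ∧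
          IsCyclic ↥(P : Subgroup ↥(Cfsg.generalizedFittingSubgroup G))) ∨
      ((∃ g : G, g * x * g⁻¹ ∈ ((P : Subgroup ↥(Cfsg.generalizedFittingSubgroup G)).map (Cfsg.generalizedFittingSubgroup G).subtype)) ∧
        ((Cfsg.IsExtraspecial p ↥(P : Subgroup ↥(Cfsg.generalizedFittingSubgroup G)) ∧
            Nat.card (P : Subgroup ↥(Cfsg.generalizedFittingSubgroup G)) = p ^ 3 ∧
            ∀ y ∈ (P : Subgroup ↥(Cfsg.generalizedFittingSubgroup G)), y ^ p = 1) ∨
         (p = 3 ∧ ∃ k : ℕ, 2 ≤ k ∧ Nat.card (P : Subgroup ↥(Cfsg.generalizedFittingSubgroup G)) = 3 ^ (2 * k + 1) ∧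
            ∃ _ : Group.IsNilpotent ↥(P : Subgroup ↥(Cfsg.generalizedFittingSubgroup G)),
              Group.nilpotencyClass ↥(P : Subgroup ↥(Cfsg.generalizedFittingSubgroup G)) = 2 * k))) := by
  obtain ⟨hsim, hna⟩ := Cfsg.Agent.S3049.result hp hcore hrank x hx hiso hnc
  exact ⟨hsim, hna, fun P => aux hp hrank x hx hiso _ hsim hna P⟩

end Cfsg.Agent.S3038
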