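import Cfsg.Statements.S3066
import Cfsg.Agent.S0205
import Cfsg.Agent.S0227
import Cfsg.Agent.H55.Out18
import Cfsg.Agent.H55.Out19

set_option autoImplicit false
open Cfsg

namespace Cfsg.Agent.S3066

/-- Let G be a finite non-abelian simple group with a nontrivial Sylow 2-subgroup S (that is, G has even order). Then Out(G) = Aut(G)/Inn(G) is solvable provided one of the following holds: (a) S is generated by two elements; (b) S is generated by three elements and N_G(S)/C_G(S) is not a 2-group (some element of N_G(S) of odd order does not centralize S); (c) the involutions of S commute pairwise and are all conjugate in G. -/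
theorem result {G : Type*} [Group G] [Finite G] [IsSimpleGroup G]
    (hG : ¬ IsMulCommutative G) (S : Sylow 2 G) (hS1 : (S : Subgroup G) ≠ ⊥)
    (h : (∃ a b : ↥S, Subgroup.closure ({a, b} : Set ↥S) = ⊤) ∨
      ((∃ a b c : ↥S, Subgroup.closure ({a, b, c} : Set ↥S) = ⊤) ∧
        ∃ g ∈ Subgroup.normalizer ((S : Subgroup G) : Set G), Odd (orderOf g) ∧ g ∉ Subgroup.centralizer ((S : Subgroup G) : Set G)) ∨
      ((∀ s ∈ S, ∀ t ∈ S, orderOf s = 2 → orderOf t = 2 → s * t = t * s) ∧
        (∀ s ∈ S, ∀ t ∈ S, orderOf s = 2 → orderOf t = 2 → ∃ g : G, g * s * g⁻¹ = t))) :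
    Group.IsSolvable (Cfsg.Out G) := by
  have hO : ∀ N : Subgroup G, N.Normal → Odd (Nat.card N) → N = ⊥ := by
    intro N hN hodd
    rcases hN.eq_bot_or_eq_top with h1 | h1
    · exact h1
    · exfalso
      apply hS1
      rw [h1, Subgroup.card_top] at hodd
      rw [Subgroup.eq_bot_iff_forall]
      intro x hx
      obtain ⟨k, hk⟩ := S.isPGroup' ⟨x, hx⟩
      have h2 : x ^ (2 ^ k) = 1 := congrArg Subtype.val hk
      have h3 : orderOf x ∣ 2 ^ k := orderOf_dvd_of_pow_eq_one h2
      have h4 : orderOf x ∣ Nat.card G := orderOf_dvd_natCard x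
      have h5 : Nat.Coprime (2 ^ k) (Nat.card G) := Nat.Coprime.pow_left k (Nat.coprime_two_left.mpr hodd)
      exact orderOf_eq_one_iff.mp (Nat.eq_one_of_dvd_coprimes h5 h3 h4)
  have hCA : Group.IsSolvable (Cfsg.Agent.H55.Out.CA (S : Subgroup G)) :=
    (Cfsg.Agent.S0227.result hO S (Cfsg.Agent.H55.Out.CA (S : Subgroup G)) (fun φ => Iff.rfl)).2
  rcases h with h | ⟨h, hg⟩ | ⟨hcom, hcon⟩
  · exact Cfsg.Agent.H55.Out.case_a S hCA h
  · exact Cfsg.Agent.H55.Out.case_b S (fun X _ _ hX => Cfsg.Agent.S0205.result hX) hCA h hg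
  · have hord : ∀ s : G, s * s = 1 → s ≠ 1 → orderOf s = 2 := fun s hs hs1 =>
      orderOf_eq_prime (by rw [pow_two]; exact hs) hs1
    have hC : Cfsg.Agent.H55.Out.HypC S :=
      { com := by
          intro s hs t ht hs2 ht2
          by_cases hs1 : s = 1
          · rw [hs1, one_mul, mul_one]
          · by_cases ht1 : t = 1
            · rw [ht1, one_mul, mul_one]
            · exact hcom s hs t ht (hord s hs2 hs1) (hord t ht2 ht1)
        con := by
          intro s hs t ht hs2 ht2 hs1 ht1
          exact hcon s hs t ht (hord s hs2 hs1) (hord t ht2 ht1) }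
    exact hC.case_c (fun X _ _ hX => Cfsg.Agent.S0205.result hX) hCA

end Cfsg.Agent.S3066
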