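import Cfsg.Agent.H64.CI.F
import Cfsg.Agent.H64.CI.BTp

set_option autoImplicit false
open Cfsg

namespace Cfsg.Agent.S3067

/-- Let G be a finite non-abelian simple group, τ an involution of G, and α a nontrivial automorphism of G whose order is coprime to the order of G. Then α moves some element of the centralizer of τ: α does not fix C_G(τ) elementwise. -/
theorem result {G : Type*} [Group G] [Finite G] [IsSimpleGroup G]
    (hG : ¬ IsMulCommutative G) (τ : G) (hτ : orderOf τ = 2) (α : MulAut G) (hα : α ≠ 1)
    (hcop : (orderOf α).Coprime (Nat.card G)) :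
    ∃ c ∈ Subgroup.centralizer ({τ} : Set G), α c ≠ c := by
  classical
  by_contra hcon
  push Not at hcon
  have hn1 : orderOf α ≠ 1 := by
    intro h1
    exact hα (orderOf_eq_one_iff.1 h1)
  obtain ⟨p, hp, hpd⟩ := Nat.exists_prime_and_dvd hn1
  obtain ⟨k, hk⟩ := hpd
  have hpos := orderOf_pos α
  have hk0 : k ≠ 0 := by
    rintro rfl
    omega
  set β : MulAut G := α ^ k with hβ
  have hβo : orderOf β = p := by
    rw [hβ, orderOf_pow_of_dvd hk0 ⟨p, by rw [hk, mul_comm]⟩, hk]
    exact Nat.mul_div_cancel _ (Nat.pos_of_ne_zero hk0)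
  have hpG : ¬ p ∣ Nat.card G := by
    intro h1
    have h2 := Nat.dvd_gcd ((⟨k, hk⟩ : p ∣ orderOf α)) h1
    rw [Nat.Coprime.gcd_eq_one hcop] at h2
    exact hp.one_lt.ne' (Nat.dvd_one.1 h2)
  have hfixβ : ∀ c : G, c * τ = τ * c → β c = c := by
    intro c hc
    have h1 : α c = c := hcon c (by rw [Subgroup.mem_centralizer_singleton_iff]; exact hc)
    have h2 : ∀ n : ℕ, (α ^ n) c = c := by
      intro n
      induction n with
      | zero => rfl
      | succ n ih => rw [pow_succ, MulAut.mul_apply, h1, ih]
    exact h2 k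
  let H := G ⋊[MonoidHom.id (MulAut G)] MulAut G
  haveI : Finite H := Finite.of_injective (fun h : H => (h.left, h.right))
    (fun x y hxy => SemidirectProduct.ext (congrArg Prod.fst hxy) (congrArg Prod.snd hxy))
  let X : Subgroup H := (SemidirectProduct.inl : G →* H).range
  let b : H := SemidirectProduct.inr β
  let t : H := SemidirectProduct.inl τ
  have hX : X.Normal := by
    have h1 : X = (SemidirectProduct.rightHom : H →* _).ker := SemidirectProduct.range_inl_eq_ker_rightHom
    rw [h1]
    infer_instance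
  have hcardX : Nat.card X = Nat.card G :=
    (Nat.card_congr (MonoidHom.ofInjective (SemidirectProduct.inl_injective (φ := MonoidHom.id (MulAut G)))).toEquiv).symm
  have hinl : ∀ g : G, b * SemidirectProduct.inl g * b⁻¹ = (SemidirectProduct.inl (β g) : H) := by
    intro g
    have h1 := SemidirectProduct.inl_aut (φ := MonoidHom.id (MulAut G)) β g
    rw [map_inv] at h1
    exact h1.symm
  have key := Cfsg.Agent.H64.CI.main Cfsg.Agent.H64.CI.bt X p b t hp
    (by rw [← hβo]; exact orderOf_injective (SemidirectProduct.inr : _ →* H) SemidirectProduct.inr_injective β)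
    (by rw [hcardX]; exact hpG)
    (by rw [Subgroup.normalizer_eq_top]; exact Subgroup.mem_top _) ⟨τ, rfl⟩
    (by rw [← hτ]; exact orderOf_injective (SemidirectProduct.inl : _ →* H) SemidirectProduct.inl_injective τ)
    (by
      rintro _ ⟨y, rfl⟩ hy
      have h1 : y * τ = τ * y := by
        apply SemidirectProduct.inl_injective (φ := MonoidHom.id (MulAut G))
        rw [map_mul, map_mul]; exact hy
      have h2 := hinl y
      rw [hfixβ y h1, mul_inv_eq_iff_eq_mul] at h2
      exact h2.symm)
  have hle : ⁅X, Subgroup.zpowers b⁆ ≤ X :=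
    (Cfsg.Agent.H64.CI.comm_norm (by rw [Subgroup.normalizer_eq_top]; exact Subgroup.mem_top _)).1
  have hnorm : (⁅X, Subgroup.zpowers b⁆.comap (SemidirectProduct.inl : G →* H)).Normal := by
    constructor
    intro n hn g
    rw [Subgroup.mem_comap] at hn ⊢
    rw [map_mul, map_mul, map_inv]
    exact Cfsg.Agent.H64.CI.norm_conj (Subgroup.normalizer_commutator_ge_left X (Subgroup.zpowers b) ⟨g, rfl⟩) hn
  rcases hnorm.eq_bot_or_eq_top with h1 | h1
  · apply hα
    have h2 : ∀ g : G, β g = g := by
      intro g
      have h3 : (SemidirectProduct.inl g : H) * b * (SemidirectProduct.inl g : H)⁻¹ * b⁻¹ ∈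
          ⁅X, Subgroup.zpowers b⁆ := by
        have hgX : (SemidirectProduct.inl g : H) ∈ X := ⟨g, rfl⟩
        exact Subgroup.commutator_mem_commutator hgX (Subgroup.mem_zpowers b)
      obtain ⟨y, hy⟩ := hle h3
      have h4 : y ∈ ⁅X, Subgroup.zpowers b⁆.comap (SemidirectProduct.inl : G →* H) := by
        rw [Subgroup.mem_comap, hy]; exact h3
      rw [h1, Subgroup.mem_bot] at h4
      rw [h4, map_one] at hy
      have h5 : b * SemidirectProduct.inl g * b⁻¹ = (SemidirectProduct.inl g : H) := by
        have h6 : (SemidirectProduct.inl g : H) * b = b * SemidirectProduct.inl g := by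
          have h7 := mul_inv_eq_iff_eq_mul.1 hy.symm
          rw [one_mul] at h7
          exact mul_inv_eq_iff_eq_mul.1 h7
        rw [← h6, mul_inv_cancel_right]
      rw [hinl] at h5
      exact SemidirectProduct.inl_injective h5
    exfalso
    have h3 : β = 1 := by
      ext g
      exact h2 g
    rw [h3, orderOf_one] at hβo
    exact hp.one_lt.ne hβo
  · have h2 : X ≤ ⁅X, Subgroup.zpowers b⁆ := by
      rintro _ ⟨g, rfl⟩
      have h3 : g ∈ ⁅X, Subgroup.zpowers b⁆.comap (SemidirectProduct.inl : G →* H) := by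
        rw [h1]; exact Subgroup.mem_top _
      exact h3
    rw [le_antisymm hle h2, hcardX] at key
    have h3 : 2 ∣ Nat.card G := hτ ▸ orderOf_dvd_natCard τ
    exact (Nat.not_even_iff_odd.2 key) (even_iff_two_dvd.2 h3)

end Cfsg.Agent.S3067
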