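import Cfsg.Statements.S3071
import Cfsg.Agent.QdInv.Control

set_option autoImplicit false
open Cfsg

namespace Cfsg.Agent.S3071

/-- Let p be an odd prime and S a Sylow p-subgroup of the finite group G such that, for every subgroup P with Z(S) ≤ P ≤ S, the normalizer N_G(P) has no section isomorphic to SL₂(p). Let J(S) be the subgroup generated by the abelian subgroups of S of largest order. Then two elements of S are conjugate in G if and only if they are conjugate in N_G(Z(J(S))). -/
theorem result {G : Type*} [Group G] [Finite G] {p : ℕ} [Fact p.Prime]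
    (hp : p ≠ 2) (S : Sylow p G)
    (hfree : ∀ P : Subgroup G, (S : Subgroup G) ⊓ Subgroup.centralizer ((S : Subgroup G) : Set G) ≤ P → P ≤ S →
      ¬ ∃ (H K : Subgroup G) (hK : (K.subgroupOf H).Normal), H ≤ Subgroup.normalizer (P : Set G) ∧
        Nonempty ((H ⧸ K.subgroupOf H) ≃* Matrix.SpecialLinearGroup (Fin 2) (ZMod p))) :
    ∀ x ∈ S, ∀ y ∈ S, (∃ g : G, g * x * g⁻¹ = y) ↔
      ∃ n ∈ Subgroup.normalizer (Cfsg.centerThompsonAOf (S : Subgroup G) : Set G), n * x * n⁻¹ = y := by
  classical
  have hW := Cfsg.Agent.QdInv.famZ_charP (p := p)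
  have hconj := Cfsg.Agent.H33.ind_conj (G := G) hW
  have hmain := Cfsg.Agent.QdInv.strong_local_global_Z S
    (Cfsg.Agent.H33.ind G Cfsg.Agent.QdInv.famZ) hconj (by
      rw [Cfsg.Agent.QdInv.ind_famZ]
      rintro W hW H hH
      rw [Set.mem_singleton_iff] at hW
      subst hW
      rw [Cfsg.Agent.QdInv.induced_zja]
      exact Cfsg.Agent.QdInv.center_le_centerThompsonAOf H)
    {Subgroup.normalizer (Cfsg.centerThompsonAOf (S : Subgroup G) : Set G)} (by
      rw [Cfsg.Agent.QdInv.ind_famZ]
      rintro W hW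
      rw [Set.mem_singleton_iff] at hW
      subst hW
      exact ⟨_, rfl, by rw [Cfsg.Agent.QdInv.induced_zja]⟩)
    (by
      intro T hTS hTD hT
      have hfam : Cfsg.FamilyControlsStrongFusionIn p
          (Cfsg.Agent.H33.ind G Cfsg.Agent.QdInv.famZ) (Subgroup.normalizer (T : Set G)) := by
        refine Cfsg.Agent.H33.family_subgroup hW (Cfsg.Agent.QdInv.family_zja_of_free hp ?_)
        intro hinv
        obtain ⟨x, hx1, hx2⟩ := hTD
        have e : Subgroup.normalizer ((Cfsg.Agent.H33.cj x T : Subgroup G) : Set G) =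
            Cfsg.Agent.H33.cj x (Subgroup.normalizer (T : Set G)) :=
          (Cfsg.Agent.H33.cj_normalizer x T).symm
        have e2 : ↥(Subgroup.normalizer (T : Set G)) ≃*
            ↥(Subgroup.normalizer ((Cfsg.Agent.H33.cj x T : Subgroup G) : Set G)) :=
          ((Subgroup.normalizer (T : Set G)).equivMapOfInjective (MulAut.conj x).toMonoidHom
            (MulAut.conj x).injective).trans (MulEquiv.subgroupCongr e.symm)
        have hinv2 : Cfsg.Involves (Matrix.SpecialLinearGroup (Fin 2) (ZMod p))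
            ↥(Subgroup.normalizer ((Cfsg.Agent.H33.cj x T : Subgroup G) : Set G)) :=
          Cfsg.Agent.H46.involves_of_injective
            (Cfsg.Agent.H46.involves_trans Cfsg.Agent.QdInv.involves_sl_qd hinv) e2.toMonoidHom e2.injective
        exact hfree _ hx1 hx2 (Cfsg.Agent.QdInv.exists_section_of_involves hinv2)
      have hsf := Cfsg.Agent.H33.SFcontrol.of_family hconj hfam hT
      refine ⟨Cfsg.Agent.H33.nFam (Cfsg.Agent.H33.ind G Cfsg.Agent.QdInv.famZ)
        (Subgroup.normalizer (T : Set G)) _, ?_, hsf⟩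
      rintro N ⟨W, hW, rfl⟩
      exact Or.inl ⟨W, hW, le_rfl⟩)
  intro x hx y hy
  constructor
  · rintro ⟨g, rfl⟩
    have h1 := hmain (Subgroup.closure {x}) ((Subgroup.closure_le _).2 (Set.singleton_subset_iff.2 hx)) g (by
      rw [Cfsg.Agent.H33.cj_closure]
      refine (Subgroup.closure_le _).2 ?_
      rintro _ ⟨a, ha, rfl⟩
      rw [Set.mem_singleton_iff] at ha
      subst ha
      exact hy)
    obtain ⟨n, hn, h2⟩ := h1.single_fam
    exact ⟨n, hn, h2 x (Subgroup.subset_closure rfl)⟩
  · rintro ⟨n, -, h⟩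
    exact ⟨n, h⟩

end Cfsg.Agent.S3071
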