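import Cfsg.Statements.S3154
import Cfsg.Agent.H80.L34e

set_option autoImplicit false
open Cfsg

namespace Cfsg.Agent.S3154

/-- Let X be a finite quasisimple group whose centre is an elementary abelian 2-group and whose central quotient is isomorphic to the projective special linear group of dimension 3 over the field with 4 elements. Let T be a Sylow 2-subgroup of X and H ≠ K subgroups of T containing the centre Z(X) whose images in X/Z(X) are elementary abelian of order 16 (the two such subgroups of a Sylow 2-subgroup of the quotient). Then H and K are elementary abelian, H ∩ K is the centre of the subgroup they generate, and each of N_X(H), N_X(K) is a split extension of H, respectively K, by the projective special linear group of dimension 2 over the field with 4 elements (there is a complement isomorphic to that group). -/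
theorem result {X : Type*} [Group X] [Finite X] (hq : Cfsg.IsQuasisimple X) (hZ : Cfsg.IsElementaryAbelian 2 (Subgroup.center X))
    {F : Type*} [Field F] [Fintype F] (hF : Fintype.card F = 4) (hXL : Nonempty ((X ⧸ Subgroup.center X) ≃* Matrix.ProjectiveSpecialLinearGroup (Fin 3) F))
    (T : Sylow 2 X) (H K : Subgroup X) (hHK : H ≠ K) (hHT : H ≤ T) (hKT : K ≤ T) (hZH : Subgroup.center X ≤ H) (hZK : Subgroup.center X ≤ K)
    (hH : Cfsg.IsElementaryAbelian 2 (H.map (QuotientGroup.mk' (Subgroup.center X))) ∧ Nat.card ↥(H.map (QuotientGroup.mk' (Subgroup.center X))) = 16)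
    (hK : Cfsg.IsElementaryAbelian 2 (K.map (QuotientGroup.mk' (Subgroup.center X))) ∧ Nat.card ↥(K.map (QuotientGroup.mk' (Subgroup.center X))) = 16) :
    Cfsg.IsElementaryAbelian 2 H ∧ Cfsg.IsElementaryAbelian 2 K ∧
      H ⊓ K = (Subgroup.center ↥(H ⊔ K)).map (H ⊔ K).subtype ∧
      (∃ C : Subgroup X, C ≤ Subgroup.normalizer (H : Set X) ∧ C ⊓ H = ⊥ ∧ H ⊔ C = Subgroup.normalizer (H : Set X) ∧
        Nonempty (↥C ≃* Matrix.ProjectiveSpecialLinearGroup (Fin 2) F)) ∧
      (∃ C : Subgroup X, C ≤ Subgroup.normalizer (K : Set X) ∧ C ⊓ K = ⊥ ∧ K ⊔ C = Subgroup.normalizer (K : Set X) ∧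
        Nonempty (↥C ≃* Matrix.ProjectiveSpecialLinearGroup (Fin 2) F)) := by
  classical
  obtain ⟨e⟩ := hXL
  have hTp : IsPGroup 2 ((T : Subgroup X).map
      (e.toMonoidHom.comp (QuotientGroup.mk' (Subgroup.center X)))) := T.2.map _
  obtain ⟨g, hg⟩ := H80.L34.sylow_UU (F := F) hF hTp
  let φ : X →* H80.L34.P3 F :=
    (MulAut.conj g).toMonoidHom.comp (e.toMonoidHom.comp (QuotientGroup.mk' (Subgroup.center X)))
  have hφ : ∀ x, φ x = MulAut.conj g (e (QuotientGroup.mk' (Subgroup.center X) x)) := fun _ => rfl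
  have hsurj : Function.Surjective φ := by
    intro y
    obtain ⟨y, rfl⟩ := (MulAut.conj g).surjective y
    obtain ⟨y, rfl⟩ := e.surjective y
    obtain ⟨x, rfl⟩ := QuotientGroup.mk'_surjective _ y
    exact ⟨x, rfl⟩
  have hker : φ.ker = Subgroup.center X := by
    ext x
    rw [MonoidHom.mem_ker, hφ]
    constructor
    · intro h
      have h1 : e (QuotientGroup.mk' (Subgroup.center X) x) = 1 :=
        (MulAut.conj g).injective (by rw [h]; exact (map_one (MulAut.conj g)).symm)
      have h2 : QuotientGroup.mk' (Subgroup.center X) x = 1 := e.injective (by rw [h1, map_one])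
      exact (QuotientGroup.eq_one_iff x).1 h2
    · intro h
      have h2 : QuotientGroup.mk' (Subgroup.center X) x = 1 := (QuotientGroup.eq_one_iff x).2 h
      rw [h2, map_one, map_one]
  have hZ2 : ∀ z ∈ Subgroup.center X, z * z = 1 := by
    intro z hz
    rw [← pow_two]; exact hZ.2 z hz
  have key : ∀ Y : Subgroup X, (Cfsg.IsElementaryAbelian 2 (Y.map (QuotientGroup.mk' (Subgroup.center X))) ∧
      Nat.card ↥(Y.map (QuotientGroup.mk' (Subgroup.center X))) = 16) →
      (∀ x ∈ Y.map φ, x * x = 1) ∧ Nat.card (Y.map φ) = 16 := by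
    rintro Y ⟨⟨_, h1⟩, h2⟩
    constructor
    · rintro _ ⟨y, hy, rfl⟩
      rw [← map_mul, hφ]
      have := h1 (QuotientGroup.mk' (Subgroup.center X) y) ⟨y, hy, rfl⟩
      rw [pow_two, ← map_mul] at this
      rw [this, map_one, map_one]
    · have h3 : Y.map φ = ((Y.map (QuotientGroup.mk' (Subgroup.center X))).map e.toMonoidHom).map
          (MulAut.conj g).toMonoidHom := by
        rw [Subgroup.map_map, Subgroup.map_map]; rfl
      rw [h3, ← h2]
      have e1 := (Subgroup.equivMapOfInjective (Y.map (QuotientGroup.mk' (Subgroup.center X)))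
        e.toMonoidHom e.injective)
      have e2 := (Subgroup.equivMapOfInjective ((Y.map (QuotientGroup.mk' (Subgroup.center X))).map
        e.toMonoidHom) (MulAut.conj g).toMonoidHom (MulAut.conj g).injective)
      rw [← Nat.card_congr e2.toEquiv, ← Nat.card_congr e1.toEquiv]
  have hTU : (T : Subgroup X).map φ ≤ H80.L34.UU := by
    have h3 : (T : Subgroup X).map φ = ((T : Subgroup X).map
      (e.toMonoidHom.comp (QuotientGroup.mk' (Subgroup.center X)))).map (MulAut.conj g).toMonoidHom := by
      rw [Subgroup.map_map]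
    rw [h3]; exact hg
  obtain ⟨⟨a1, a2⟩, h3, h4, h5⟩ := H80.L34.main hF φ hsurj hker hZ2 T H K hHK hHT hKT hZH hZK
    (key H hH) (key K hK) hTU
  have hel : ∀ Y : Subgroup X, (∀ x ∈ Y, x * x = 1) → Cfsg.IsElementaryAbelian 2 Y := by
    intro Y hY
    exact ⟨⟨⟨fun a b => Subtype.ext (H80.L34.comm_of_sq hY a a.2 b b.2)⟩⟩, fun a ha => by
      rw [pow_two]; exact hY a ha⟩
  exact ⟨hel H a1, hel K a2, h3, h4, h5⟩

end Cfsg.Agent.S3154
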