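import Cfsg.Statements.S3225
import Mathlib

set_option autoImplicit false
open Cfsg

namespace Cfsg.Agent.S3225
open Subgroup MulAction

/-- the sign-type homomorphism attached to a subgroup of index 2 -/
noncomputable def signHom {S : Type*} [Group S] (M : Subgroup S) (h : M.index = 2) : S →* ℤˣ := by
  classical
  exact
  { toFun := fun y => if y ∈ M then 1 else -1
    map_one' := if_pos M.one_mem
    map_mul' := by
      intro a b
      have := Subgroup.mul_mem_iff_of_index_two h (a := a) (b := b)
      by_cases ha : a ∈ M <;> by_cases hb : b ∈ M <;> simp [this, ha, hb] }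

theorem signHom_of_mem {S : Type*} [Group S] (M : Subgroup S) (h : M.index = 2) {y : S} (hy : y ∈ M) :
    signHom M h y = 1 := by
  classical
  unfold signHom
  exact if_pos hy

theorem signHom_of_notMem {S : Type*} [Group S] (M : Subgroup S) (h : M.index = 2) {y : S} (hy : y ∉ M) :
    signHom M h y = -1 := by
  classical
  unfold signHom
  exact if_neg hy


/-- Let G be a finite group of even order with no subgroup of index 2, S a Sylow 2-subgroup of G and M a subgroup of index 2 in S such that, for some n ≥ 1, every element of S outside M has order greater than 2^(n−1). Then every element of S of order 2ⁿ is conjugate in G to an element of M. -/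
theorem result {G : Type*} [Group G] [Finite G] (hev : Even (Nat.card G))
    (hG : ∀ H : Subgroup G, H.index ≠ 2) (S : Sylow 2 G) (M : Subgroup G) (hMS : M ≤ (S : Subgroup G)) (hM : M.relIndex (S : Subgroup G) = 2)
    (n : ℕ) (hn : 1 ≤ n) (hord : ∀ y ∈ (S : Subgroup G), y ∉ M → 2 ^ (n - 1) < orderOf y)
    (x : G) (hx : x ∈ (S : Subgroup G)) (hxn : orderOf x = 2 ^ n) :
    ∃ g : G, g * x * g⁻¹ ∈ M := by
  classical
  by_contra hcon
  push Not at hcon
  have hf2 : Fact (Nat.Prime 2) := ⟨Nat.prime_two⟩
  set S' : Subgroup G := (S : Subgroup G) with hS'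
  set M' : Subgroup S' := M.subgroupOf S' with hM'
  have hidx : M'.index = 2 := hM
  set ϕ := signHom M' hidx with hϕ
  set V : G →* ℤˣ := MonoidHom.transfer ϕ with hV
  -- the transfer is trivial
  have hVx : V x = 1 := by
    by_contra hne
    have h1 : V x = -1 := (Int.units_eq_one_or (V x)).resolve_left hne
    have hsurj : Function.Surjective V := by
      intro u
      rcases Int.units_eq_one_or u with h2 | h2
      · exact ⟨1, by rw [map_one, h2]⟩
      · exact ⟨x, by rw [h1, h2]⟩
    apply hG V.ker
    rw [Subgroup.index_ker, MonoidHom.range_eq_top.2 hsurj, Subgroup.card_top, Nat.card_eq_fintype_card]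
    rfl
  have hper : ∀ a : G ⧸ S', Function.minimalPeriod (x • ·) a ∣ 2 ^ n := by
    intro a
    apply Function.IsPeriodicPt.minimalPeriod_dvd
    show (x • ·)^[2 ^ n] a = a
    rw [smul_iterate]
    show (x ^ 2 ^ n) • a = a
    rw [← hxn, pow_orderOf_eq_one, one_smul]
  have : Fintype (Quotient (orbitRel (zpowers x) (G ⧸ S'))) := Fintype.ofFinite _
  rw [hV, MonoidHom.transfer_eq_prod_quotient_orbitRel_zpowers_quot] at hVx
  have hterm : ∀ q : Quotient (orbitRel (zpowers x) (G ⧸ S')),
      ϕ ⟨q.out.out⁻¹ * x ^ Function.minimalPeriod (x • ·) q.out * q.out.out,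
            QuotientGroup.out_conj_pow_minimalPeriod_mem S' x q.out⟩ =
        if Function.minimalPeriod (x • ·) q.out = 1 then -1 else 1 := by
    intro q
    split_ifs with h1
    · apply signHom_of_notMem
      rw [hM', Subgroup.mem_subgroupOf]
      have h2 := hcon (q.out.out⁻¹)
      rw [inv_inv] at h2
      simpa [h1] using h2
    · apply signHom_of_mem
      rw [hM', Subgroup.mem_subgroupOf]
      by_contra h2
      have h3 := hord _ (QuotientGroup.out_conj_pow_minimalPeriod_mem S' x q.out) h2
      obtain ⟨j, hj, hj'⟩ := (Nat.dvd_prime_pow Nat.prime_two).1 (hper q.out)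
      have h4 : orderOf (q.out.out⁻¹ * x ^ Function.minimalPeriod (x • ·) q.out * q.out.out) = 2 ^ (n - j) := by
        have h5 := MulEquiv.orderOf_eq (MulAut.conj (q.out.out⁻¹)) (x ^ Function.minimalPeriod (x • ·) q.out)
        simp only [MulAut.conj_apply, inv_inv] at h5
        rw [h5, hj', orderOf_pow_of_dvd (by positivity) (by rw [hxn]; exact pow_dvd_pow 2 hj), hxn,
          Nat.pow_div hj (by norm_num)]
      rw [h4] at h3
      have h6 : n - 1 < n - j := (Nat.pow_lt_pow_iff_right (by norm_num)).1 h3
      have h7 : j = 0 := by omega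
      rw [h7, pow_zero] at hj'
      exact h1 hj'
  rw [Finset.prod_congr rfl (fun q _ => hterm q), Finset.prod_ite, Finset.prod_const, Finset.prod_const_one,
    mul_one] at hVx
  -- the number of fixed orbits is odd
  have hcard : (Finset.univ.filter fun q : Quotient (orbitRel (zpowers x) (G ⧸ S')) =>
      Function.minimalPeriod (x • ·) q.out = 1).card = Nat.card (fixedPoints (zpowers x) (G ⧸ S')) := by
    rw [← Fintype.card_subtype, ← Nat.card_eq_fintype_card]
    have hfix : ∀ a : G ⧸ S', Function.minimalPeriod (x • ·) a = 1 ↔ a ∈ fixedPoints (zpowers x) (G ⧸ S') := by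
      intro a
      rw [Function.minimalPeriod_eq_one_iff_isFixedPt, mem_fixedPoints]
      constructor
      · rintro h1 ⟨_, i, rfl⟩
        have h2 : x • a = a := h1
        have h3 : x ∈ stabilizer G a := h2
        exact (stabilizer G a).zpow_mem h3 i
      · intro h1
        exact h1 ⟨x, mem_zpowers x⟩
    apply Nat.card_congr
    refine
      { toFun := fun q => ⟨q.1.out, (hfix _).1 q.2⟩
        invFun := fun a => ⟨Quotient.mk _ a.1, ?_⟩
        left_inv := ?_
        right_inv := ?_ }
    · have h1 : (Quotient.mk (orbitRel (zpowers x) (G ⧸ S')) a.1).out = a.1 := by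
        have h2 := Quotient.mk_out (s := orbitRel (zpowers x) (G ⧸ S')) a.1
        rw [orbitRel_apply] at h2
        obtain ⟨y, hy⟩ := h2
        rw [← hy]
        exact a.2 y
      rw [h1, hfix]
      exact a.2
    · rintro ⟨q, hq⟩
      apply Subtype.ext
      exact Quotient.out_eq q
    · rintro ⟨a, ha⟩
      apply Subtype.ext
      have h2 := Quotient.mk_out (s := orbitRel (zpowers x) (G ⧸ S')) a
      rw [orbitRel_apply] at h2
      obtain ⟨y, hy⟩ := h2
      show (Quotient.mk (orbitRel (zpowers x) (G ⧸ S')) a).out = a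
      rw [← hy]
      exact ha y
  have hp : IsPGroup 2 (zpowers x) := IsPGroup.of_card (n := n) (by rw [Nat.card_zpowers, hxn])
  have h1 := hp.card_modEq_card_fixedPoints (G ⧸ S')
  have h2 : ¬ 2 ∣ Nat.card (G ⧸ S') := S.not_dvd_index
  have h3 : Odd (Nat.card (fixedPoints (zpowers x) (G ⧸ S'))) := by
    rw [Nat.odd_iff, ← h1]
    exact Nat.two_dvd_ne_zero.1 h2
  rw [hcard, h3.neg_one_pow] at hVx
  exact absurd hVx (by decide)

end Cfsg.Agent.S3225
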