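import Cfsg.Statements.S3178
import Cfsg.Agent.H72.BurnsideAb
import Cfsg.Agent.S3225

set_option autoImplicit false
open Cfsg

namespace Cfsg.Agent.S3178
open Subgroup Cfsg.Agent.H72

section facts

variable {G : Type*} [Group G] {n : ℕ} (hn : 3 ≤ n)
    (a b : G) (hao : orderOf a = 2 ^ n) (hbo : orderOf b = 2) (hrel : b * a * b⁻¹ = a ^ (2 ^ (n - 1) + 1))

include hbo in
theorem f_bb : b * b = 1 := by rw [← pow_two, ← hbo, pow_orderOf_eq_one]

include hao in
theorem f_one (s : ℤ) : a ^ s = 1 ↔ (2 ^ n : ℤ) ∣ s := by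
  rw [← orderOf_dvd_iff_zpow_eq_one, hao]
  push_cast; rfl

include hrel in
theorem f_ba (s : ℤ) : b * a ^ s = a ^ (s * (2 ^ (n - 1) + 1)) * b := by
  have h2 : b * a ^ s * b⁻¹ = (a ^ (2 ^ (n - 1) + 1)) ^ s := by rw [← hrel, conj_zpow]
  rw [← zpow_natCast, ← zpow_mul, mul_inv_eq_iff_eq_mul] at h2
  rw [h2]
  congr 2
  push_cast; ring

include hn in
theorem f_two : (2 ^ n : ℤ) = 2 * 2 ^ (n - 1) := by
  obtain ⟨m, rfl⟩ : ∃ m, n = m + 1 := ⟨n - 1, by omega⟩
  rw [Nat.add_sub_cancel, pow_succ]; ring

include hn hao hbo hrel in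
theorem f_ne (s : ℤ) : a ^ s ≠ b := by
  intro hs
  have h2 := f_ba a b hrel 1
  rw [← hs, one_mul, ← zpow_add, ← zpow_add] at h2
  have h3 : a ^ ((2 ^ (n - 1) : ℤ)) = 1 := by
    have h4 : a ^ ((2 ^ (n - 1) : ℤ) + 1 + s - (s + 1)) = 1 := by rw [zpow_sub, ← h2, mul_inv_cancel]
    have h5 : (2 ^ (n - 1) : ℤ) + 1 + s - (s + 1) = 2 ^ (n - 1) := by ring
    rwa [h5] at h4
  rw [f_one a hao, f_two hn] at h3
  have hpos : (0 : ℤ) < 2 ^ (n - 1) := by positivity
  have := Int.le_of_dvd hpos h3
  omega

include hn hao hrel in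
theorem f_comm (i : ℤ) : b * a ^ (2 * i) = a ^ (2 * i) * b := by
  rw [f_ba a b hrel]
  congr 1
  have h1 : 2 * i * (2 ^ (n - 1) + 1) = 2 ^ n * i + 2 * i := by rw [f_two hn]; ring
  rw [h1, zpow_add, (f_one a hao _).2 (Dvd.intro _ rfl), one_mul]

/-- the abelian maximal subgroup -/
def MM (hn : 3 ≤ n) (a b : G) (hao : orderOf a = 2 ^ n) (hbo : orderOf b = 2)
    (hrel : b * a * b⁻¹ = a ^ (2 ^ (n - 1) + 1)) : Subgroup G where
  carrier := {x | ∃ i : ℤ, x = a ^ (2 * i) ∨ x = a ^ (2 * i) * b}
  one_mem' := ⟨0, Or.inl (by simp)⟩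
  mul_mem' := by
    rintro x y ⟨i, hi⟩ ⟨j, hj⟩
    have hc := f_comm hn a b hao hrel j
    have hb := f_bb b hbo
    rcases hi with rfl | rfl <;> rcases hj with rfl | rfl
    · exact ⟨i + j, Or.inl (by rw [mul_add, zpow_add])⟩
    · exact ⟨i + j, Or.inr (by rw [mul_add, zpow_add, mul_assoc])⟩
    · refine ⟨i + j, Or.inr ?_⟩
      rw [mul_assoc, hc, mul_add, zpow_add, mul_assoc]
    · refine ⟨i + j, Or.inl ?_⟩
      rw [mul_assoc, ← mul_assoc b, hc, mul_assoc, hb, mul_one, mul_add, zpow_add]
  inv_mem' := by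
    rintro x ⟨i, hi⟩
    have hc := f_comm hn a b hao hrel (-i)
    have hb := f_bb b hbo
    rcases hi with rfl | rfl
    · exact ⟨-i, Or.inl (by rw [mul_neg, zpow_neg])⟩
    · refine ⟨-i, Or.inr ?_⟩
      rw [mul_inv_rev, ← hc, inv_eq_of_mul_eq_one_left hb, mul_neg, zpow_neg]

theorem mem_MM {hn : 3 ≤ n} {a b : G} {hao : orderOf a = 2 ^ n} {hbo : orderOf b = 2}
    {hrel : b * a * b⁻¹ = a ^ (2 ^ (n - 1) + 1)} {x : G} :
    x ∈ MM hn a b hao hbo hrel ↔ ∃ i : ℤ, x = a ^ (2 * i) ∨ x = a ^ (2 * i) * b := Iff.rfl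

theorem a_mem_MM {hn : 3 ≤ n} {a b : G} {hao : orderOf a = 2 ^ n} {hbo : orderOf b = 2}
    {hrel : b * a * b⁻¹ = a ^ (2 ^ (n - 1) + 1)} (s : ℤ) :
    a ^ s ∈ MM hn a b hao hbo hrel ↔ Even s := by
  constructor
  · rintro ⟨i, hi | hi⟩
    · have h1 : a ^ (s - 2 * i) = 1 := by rw [zpow_sub, hi, mul_inv_cancel]
      rw [f_one a hao, f_two hn] at h1
      obtain ⟨c, hc⟩ := h1
      exact ⟨2 ^ (n - 1) * c + i, by linarith⟩
    · exfalso
      apply f_ne hn a b hao hbo hrel (s - 2 * i)
      rw [zpow_sub, hi, (f_comm hn a b hao hrel i).symm, mul_inv_cancel_right]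
  · rintro ⟨i, hi⟩
    exact ⟨i, Or.inl (by rw [hi, two_mul])⟩

theorem b_mem_MM {hn : 3 ≤ n} {a b : G} {hao : orderOf a = 2 ^ n} {hbo : orderOf b = 2}
    {hrel : b * a * b⁻¹ = a ^ (2 ^ (n - 1) + 1)} : b ∈ MM hn a b hao hbo hrel :=
  ⟨0, Or.inr (by simp)⟩

theorem ab_mem_MM {hn : 3 ≤ n} {a b : G} {hao : orderOf a = 2 ^ n} {hbo : orderOf b = 2}
    {hrel : b * a * b⁻¹ = a ^ (2 ^ (n - 1) + 1)} (s : ℤ) :
    a ^ s * b ∈ MM hn a b hao hbo hrel ↔ Even s := by
  rw [Subgroup.mul_mem_cancel_right _ b_mem_MM, a_mem_MM]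

include hn hao hbo hrel in
theorem f_order {s : ℤ} (hs : ¬ Even s) : orderOf (a ^ s) = 2 ^ n ∧ orderOf (a ^ s * b) = 2 ^ n := by
  have hodd : Odd s := Int.not_even_iff_odd.1 hs
  obtain ⟨m, rfl⟩ : ∃ m, n = m + 3 := ⟨n - 3, by omega⟩
  have hf : Fact (Nat.Prime 2) := ⟨Nat.prime_two⟩
  have hrel' : b * a * b⁻¹ = a ^ (2 ^ (m + 3 - 1) + 1) := hrel
  have hba := f_ba (n := m + 3) a b hrel' s
  have e1 : m + 3 - 1 = m + 2 := rfl
  rw [e1] at hba
  constructor
  · apply orderOf_eq_prime_pow
    · rw [← zpow_natCast, ← zpow_mul, f_one a hao]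
      rintro ⟨c, hc⟩
      apply hs
      refine ⟨c, ?_⟩
      have h1 : (2 ^ (m + 2) : ℤ) * s = 2 ^ (m + 2) * (2 * c) := by push_cast at hc; rw [mul_comm, hc, pow_succ]; ring
      have h2 := mul_left_cancel₀ (by positivity) h1
      omega
    · rw [← zpow_natCast, ← zpow_mul, f_one a hao]
      exact ⟨s, by push_cast; ring⟩
  · have hsq : (a ^ s * b) ^ 2 = a ^ (s * (2 ^ (m + 2) + 2)) := by
      rw [pow_two]
      calc a ^ s * b * (a ^ s * b) = a ^ s * (b * a ^ s) * b := by group
        _ = a ^ s * (a ^ (s * (2 ^ (m + 2) + 1)) * b) * b := by rw [hba]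
        _ = a ^ s * a ^ (s * (2 ^ (m + 2) + 1)) * (b * b) := by group
        _ = a ^ (s * (2 ^ (m + 2) + 2)) := by
          rw [f_bb b hbo, mul_one, ← zpow_add]; congr 1; ring
    apply orderOf_eq_prime_pow
    · rw [pow_succ' 2 (m + 1), pow_mul, hsq, ← zpow_natCast, ← zpow_mul, f_one a hao]
      rintro ⟨c, hc⟩
      have h1 : (2 ^ (m + 2) : ℤ) * (s * (2 ^ (m + 1) + 1)) = 2 ^ (m + 2) * (2 * c) := by
        push_cast at hc
        have : s * (2 ^ (m + 2) + 2) * 2 ^ (m + 1) = (2 ^ (m + 2) : ℤ) * (s * (2 ^ (m + 1) + 1)) := by ring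
        rw [← this, hc]; ring
      have h2 := mul_left_cancel₀ (by positivity) h1
      have h3 : Odd (s * (2 ^ (m + 1) + 1)) := by
        apply hodd.mul
        exact Even.add_one (by rw [pow_succ]; exact even_two.mul_left _)
      rw [h2] at h3
      exact (Int.not_even_iff_odd.2 h3) (even_two_mul c)
    · rw [pow_succ' 2 (m + 2), pow_mul, hsq, ← zpow_natCast, ← zpow_mul, f_one a hao]
      exact ⟨s * (2 ^ (m + 1) + 1), by push_cast; ring⟩

include hn in
theorem pow_MM {a b : G} {hao : orderOf a = 2 ^ n} {hbo : orderOf b = 2}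
    {hrel : b * a * b⁻¹ = a ^ (2 ^ (n - 1) + 1)} {x : G} (hx : x ∈ MM hn a b hao hbo hrel) :
    x ^ 2 ^ (n - 1) = 1 := by
  obtain ⟨i, hi⟩ := hx
  have h1 : (a ^ (2 * i)) ^ 2 ^ (n - 1) = 1 := by
    rw [← zpow_natCast, ← zpow_mul, f_one a hao, f_two hn]
    exact ⟨i, by push_cast; ring⟩
  rcases hi with rfl | rfl
  · exact h1
  · have hc : Commute (a ^ (2 * i)) b := (f_comm hn a b hao hrel i).symm
    rw [hc.mul_pow, h1, one_mul]
    obtain ⟨m, rfl⟩ : ∃ m, n = m + 2 := ⟨n - 2, by omega⟩
    show b ^ 2 ^ (m + 1) = 1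
    rw [pow_succ', pow_mul, pow_two b, f_bb b hbo, one_pow]

end facts


/-- Groups with a modular Sylow 2-subgroup have a normal 2-complement. Let S, of order 2^(n+1) with n ≥ 3, be a Sylow 2-subgroup of a finite group G, and suppose S contains an element a of order 2^n and an involution b with b a b⁻¹ = a^(2^(n-1) + 1); so S is the non-abelian 2-group with a cyclic subgroup of index 2 that is neither dihedral, semidihedral nor generalized quaternion. Then G has a normal 2-complement. -/
theorem result {G : Type*} [Group G] [Finite G]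
    (S : Sylow 2 G) (n : ℕ) (hn : 3 ≤ n) (hS : Nat.card ↥(S : Subgroup G) = 2 ^ (n + 1))
    (a b : G) (ha : a ∈ (S : Subgroup G)) (hb : b ∈ (S : Subgroup G))
    (hao : orderOf a = 2 ^ n) (hbo : orderOf b = 2) (hrel : b * a * b⁻¹ = a ^ (2 ^ (n - 1) + 1)) :
    Cfsg.HasNormalPComplement 2 G := by
  classical
  have hf : Fact (Nat.Prime 2) := ⟨Nat.prime_two⟩
  have hbb := f_bb b hbo
  set M := MM hn a b hao hbo hrel with hM
  have hMS : M ≤ (S : Subgroup G) := by
    rintro x ⟨i, rfl | rfl⟩
    · exact (S : Subgroup G).zpow_mem ha _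
    · exact (S : Subgroup G).mul_mem ((S : Subgroup G).zpow_mem ha _) hb
  -- elements of `S`
  have hSel : ∀ x ∈ (S : Subgroup G), ∃ s : ℤ, x = a ^ s ∨ x = a ^ s * b := by
    have hidx : ((Subgroup.zpowers a).subgroupOf (S : Subgroup G)).index = 2 := by
      have h1 := ((Subgroup.zpowers a).subgroupOf (S : Subgroup G)).card_mul_index
      have h2 : Nat.card ((Subgroup.zpowers a).subgroupOf (S : Subgroup G)) = 2 ^ n := by
        rw [Nat.card_congr (Subgroup.subgroupOfEquivOfLe (Subgroup.zpowers_le.2 ha)).toEquiv, Nat.card_zpowers, hao]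
      rw [h2, hS, pow_succ] at h1
      exact Nat.eq_of_mul_eq_mul_left (by positivity) h1
    intro x hx
    have h1 := Subgroup.mul_mem_iff_of_index_two hidx (a := ⟨x, hx⟩) (b := ⟨b, hb⟩)
    simp only [Subgroup.mem_subgroupOf] at h1
    by_cases h2 : x ∈ Subgroup.zpowers a
    · obtain ⟨s, hs⟩ := h2
      exact ⟨s, Or.inl hs.symm⟩
    · have h3 : b ∉ Subgroup.zpowers a := by
        rintro ⟨s, hs⟩
        exact f_ne hn a b hao hbo hrel s hs
      have h4 : x * b ∈ Subgroup.zpowers a := h1.2 (by tauto)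
      obtain ⟨s, hs⟩ := h4
      refine ⟨s, Or.inr ?_⟩
      have hs' : a ^ s = x * b := hs
      rw [hs', mul_assoc, hbb, mul_one]
  have hordS : ∀ y ∈ (S : Subgroup G), y ∉ M → orderOf y = 2 ^ n := by
    intro y hy hyM
    obtain ⟨s, rfl | rfl⟩ := hSel y hy
    · rw [hM, a_mem_MM] at hyM
      exact (f_order hn a b hao hbo hrel hyM).1
    · rw [hM, ab_mem_MM] at hyM
      exact (f_order hn a b hao hbo hrel hyM).2
  have hMord : ∀ y ∈ M, orderOf y ≠ 2 ^ n := by
    intro y hy h1
    have h2 := orderOf_dvd_of_pow_eq_one (pow_MM hn hy)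
    rw [h1] at h2
    have h3 := (Nat.pow_dvd_pow_iff_le_right (by norm_num)).1 h2
    omega
  have hMrel : M.relIndex (S : Subgroup G) = 2 := by
    rw [Subgroup.relIndex_eq_two_iff]
    refine ⟨a, ha, fun x hx => ?_⟩
    obtain ⟨s, rfl | rfl⟩ := hSel x hx
    · have h1 : a ^ s * a = a ^ (s + 1) := by rw [zpow_add_one]
      rw [h1, hM, a_mem_MM, a_mem_MM, Int.even_add_one]
      by_cases h : Even s
      · exact Or.inr ⟨h, not_not.2 h⟩
      · exact Or.inl ⟨h, h⟩
    · have h1 : a ^ s * b * a = a ^ (s + (2 ^ (n - 1) + 1)) * b := by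
        have h2 := f_ba a b hrel 1
        rw [zpow_one, one_mul] at h2
        rw [mul_assoc, h2, zpow_add a s, mul_assoc]
      rw [h1, hM, ab_mem_MM, ab_mem_MM, ← add_assoc, Int.even_add_one, Int.even_add]
      have h3 : Even (2 ^ (n - 1) : ℤ) := (Int.even_pow.2 ⟨even_two, by omega⟩)
      by_cases h : Even s
      · exact Or.inr ⟨h, by simp [h, h3]⟩
      · exact Or.inl ⟨by simp [h, h3], h⟩
  have hev : Even (Nat.card G) := by
    have h1 : 2 ∣ Nat.card (S : Subgroup G) := by rw [hS, pow_succ]; exact Dvd.intro_left _ rfl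
    exact even_iff_two_dvd.2 (h1.trans (Subgroup.card_subgroup_dvd_card _))
  -- a subgroup of index 2
  obtain ⟨H, hH⟩ : ∃ H : Subgroup G, H.index = 2 := by
    by_contra hcon
    push Not at hcon
    obtain ⟨g, hg⟩ := S3225.result hev hcon S M hMS hMrel n (by omega) (fun y hy hyM => by
      rw [hordS y hy hyM]; exact Nat.pow_lt_pow_right (by norm_num) (by omega)) a ha hao
    apply hMord _ hg
    have := MulEquiv.orderOf_eq (MulAut.conj g) a
    rw [MulAut.conj_apply] at this
    rw [this, hao]
  have hHn : H.Normal := Subgroup.normal_of_index_eq_two hH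
  -- the Sylow subgroup of `H`
  have hnd : ¬ 2 ∣ (S : Subgroup G).relIndex H := fun h =>
    S.not_dvd_index (h.trans (relIndex_dvd_index_of_normal_right (S : Subgroup G) H))
  have hpg : IsPGroup 2 ((S : Subgroup G).subgroupOf H) := S.isPGroup'.comap_of_injective _ (Subgroup.subtype_injective _)
  set Q : Sylow 2 H := hpg.toSylow hnd with hQ
  have hQc : (Q : Subgroup H) = (S : Subgroup G).subgroupOf H := IsPGroup.toSylow_coe hpg hnd
  have hSH : Nat.card ↥((S : Subgroup G) ⊓ H) = 2 ^ n := by
    have h1 : H.relIndex (S : Subgroup G) ∣ 2 := by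
      have h0 := Subgroup.relIndex_dvd_index_of_normal H (S : Subgroup G)
      rwa [hH] at h0
    have h2 : H.relIndex (S : Subgroup G) ≠ 1 := by
      intro h3
      rw [Subgroup.relIndex_eq_one] at h3
      have h4 := S.not_dvd_index
      have h5 := Subgroup.index_dvd_of_le h3
      rw [hH] at h5
      exact h4 h5
    have h3 : H.relIndex (S : Subgroup G) = 2 := by
      rcases (Nat.dvd_prime Nat.prime_two).1 h1 with h4 | h4
      · exact absurd h4 h2
      · exact h4
    have h4 := Subgroup.card_mul_index (H.subgroupOf (S : Subgroup G))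
    have h5 : (H.subgroupOf (S : Subgroup G)).index = 2 := h3
    have h6 : Nat.card (H.subgroupOf (S : Subgroup G)) = Nat.card ↥((S : Subgroup G) ⊓ H) := by
      rw [← Subgroup.inf_subgroupOf_left, Nat.card_congr (Subgroup.subgroupOfEquivOfLe inf_le_left).toEquiv]
    rw [h5, h6, hS, pow_succ] at h4
    exact Nat.eq_of_mul_eq_mul_right (by norm_num) h4
  apply Transfer.HasNPC.of_normal_index_pow (M := H) (k := 1) (by rw [hH, pow_one])
  by_cases hcase : ∃ x ∈ (S : Subgroup G) ⊓ H, orderOf x = 2 ^ n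
  · -- cyclic case
    obtain ⟨x, hx, hxo⟩ := hcase
    have h1 : Subgroup.zpowers x = (S : Subgroup G) ⊓ H := by
      apply Subgroup.eq_of_le_of_card_ge (Subgroup.zpowers_le.2 hx)
      rw [hSH, Nat.card_zpowers, hxo]
    have hcyc : IsCyclic (Q : Subgroup H) := by
      rw [hQc]
      have h2 : (S : Subgroup G).subgroupOf H = Subgroup.zpowers (⟨x, hx.2⟩ : H) := by
        ext y
        rw [Subgroup.mem_subgroupOf]
        constructor
        · intro hy
          have h3 : (y : G) ∈ Subgroup.zpowers x := by rw [h1]; exact ⟨hy, y.2⟩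
          obtain ⟨i, hi⟩ := h3
          exact ⟨i, Subtype.ext hi⟩
        · rintro ⟨i, rfl⟩
          exact (S : Subgroup G).zpow_mem hx.1 i
      rw [h2]; infer_instance
    have hmin : (Nat.card H).minFac = 2 := by
      rw [Nat.minFac_eq_two_iff]
      have h2 : Nat.card ↥((S : Subgroup G) ⊓ H) ∣ Nat.card H := Subgroup.card_dvd_of_le inf_le_right
      rw [hSH] at h2
      exact (dvd_pow_self 2 (by omega)).trans h2
    exact ⟨Q, _, inferInstance, IsCyclic.isComplement' hmin hcyc⟩
  · push Not at hcase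
    have hSHM : (S : Subgroup G) ⊓ H = M := by
      apply Subgroup.eq_of_le_of_card_ge
      · intro x hx
        by_contra hxM
        exact hcase x hx (hordS x hx.1 hxM)
      · have h1 := Subgroup.card_mul_index (M.subgroupOf (S : Subgroup G))
        have h2 : (M.subgroupOf (S : Subgroup G)).index = 2 := hMrel
        have h3 : Nat.card (M.subgroupOf (S : Subgroup G)) = Nat.card M :=
          Nat.card_congr (Subgroup.subgroupOfEquivOfLe hMS).toEquiv
        rw [h2, h3, hS, pow_succ] at h1
        have h4 := Nat.eq_of_mul_eq_mul_right (by norm_num) h1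
        rw [h4, hSH]
    have hMH : M ≤ H := by rw [← hSHM]; exact inf_le_right
    have hQM : ∀ x : H, x ∈ (Q : Subgroup H) ↔ (x : G) ∈ M := by
      intro x
      rw [hQc, Subgroup.mem_subgroupOf, ← hSHM]
      exact ⟨fun h => ⟨h, x.2⟩, fun h => h.1⟩
    have hMab : ∀ x ∈ M, ∀ y ∈ M, x * y = y * x := by
      rintro x ⟨i, hi⟩ y ⟨j, hj⟩
      have h1 : Commute (a ^ (2 * i)) (a ^ (2 * j)) := (Commute.refl a).zpow_zpow _ _
      have h2 : Commute (a ^ (2 * i)) b := (f_comm hn a b hao hrel i).symm
      have h3 : Commute b (a ^ (2 * j)) := f_comm hn a b hao hrel j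
      rcases hi with rfl | rfl <;> rcases hj with rfl | rfl
      · exact h1
      · exact h1.mul_right h2
      · exact h1.mul_left h3
      · exact (h1.mul_right h2).mul_left (h3.mul_right (Commute.refl b))
    apply hasNPC_of_abelian_sylow Q
    · intro x hx y hy
      exact Subtype.ext (hMab x ((hQM x).1 hx) y ((hQM y).1 hy))
    · intro g hg hgo
      have hgn : ∀ x ∈ (Q : Subgroup H), g * x * g⁻¹ ∈ (Q : Subgroup H) := fun x hx =>
        (Subgroup.mem_normalizer_iff.1 hg x).1 hx
      apply commute_of_omega_abelian (p := 2) (Q : Subgroup H) Q.isPGroup' ?_ g hgn hgo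
      · -- the four-group
        set z : G := a ^ ((2 ^ (n - 1) : ℤ)) with hz
        have hzz : z * z = 1 := by
          rw [hz, ← zpow_add, f_one a hao, f_two hn, two_mul]
        -- `g` fixes `z`
        have hw : a ^ (2 * (2 ^ (n - 3) : ℤ)) ∈ M := ⟨_, Or.inl rfl⟩
        have hinv : ∀ x ∈ M, x * x = 1 → x = 1 ∨ x = z ∨ x = b ∨ x = z * b := by
          have h0 : ∀ i : ℤ, a ^ (2 * i) * a ^ (2 * i) = 1 → a ^ (2 * i) = 1 ∨ a ^ (2 * i) = z := by
            intro i hi
            rw [← zpow_add, f_one a hao, f_two hn, ← two_mul] at hi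
            obtain ⟨c, hc⟩ := hi
            have h1 : 2 * i = 2 ^ (n - 1) * c := by linarith
            rcases Int.even_or_odd' c with ⟨d, hd | hd⟩
            · left
              rw [f_one a hao, f_two hn, h1, hd]
              exact ⟨d, by ring⟩
            · right
              rw [h1, hd, hz]
              have h2 : (2 ^ (n - 1) : ℤ) * (2 * d + 1) = 2 ^ n * d + 2 ^ (n - 1) := by rw [f_two hn]; ring
              rw [h2, zpow_add, (f_one a hao _).2 (Dvd.intro _ rfl), one_mul]
          rintro x ⟨i, rfl | rfl⟩ hxx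
          · rcases h0 i hxx with h | h
            · exact Or.inl h
            · exact Or.inr (Or.inl h)
          · have h1 : a ^ (2 * i) * b * (a ^ (2 * i) * b) = a ^ (2 * i) * a ^ (2 * i) := by
              have h2 := f_comm hn a b hao hrel i
              calc a ^ (2 * i) * b * (a ^ (2 * i) * b) = a ^ (2 * i) * (b * a ^ (2 * i)) * b := by group
                _ = a ^ (2 * i) * a ^ (2 * i) * (b * b) := by rw [h2]; group
                _ = a ^ (2 * i) * a ^ (2 * i) := by rw [hbb, mul_one]
            rw [h1] at hxx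
            rcases h0 i hxx with h | h
            · right; right; left; rw [h, one_mul]
            · right; right; right; rw [h]
        have hsqM : ∀ x ∈ M, x * x ≠ b ∧ x * x ≠ z * b := by
          rintro x ⟨i, hi⟩
          have h1 : x * x = a ^ (4 * i) := by
            rcases hi with rfl | rfl
            · rw [← zpow_add]; congr 1; ring
            · have h2 := f_comm hn a b hao hrel i
              calc a ^ (2 * i) * b * (a ^ (2 * i) * b) = a ^ (2 * i) * (b * a ^ (2 * i)) * b := by group
                _ = a ^ (2 * i) * a ^ (2 * i) * (b * b) := by rw [h2]; group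
                _ = a ^ (4 * i) := by rw [hbb, mul_one, ← zpow_add]; congr 1; ring
          rw [h1]
          refine ⟨f_ne hn a b hao hbo hrel _, fun h => ?_⟩
          apply f_ne hn a b hao hbo hrel (-(2 ^ (n - 1)) + 4 * i)
          rw [zpow_add, h, hz, zpow_neg, inv_mul_cancel_left]
        have hgz : (g : G) * z * (g : G)⁻¹ = z := by
          set w := a ^ (2 * (2 ^ (n - 3) : ℤ)) with hwdef
          have hww : w * w = z := by
            rw [hwdef, hz, ← zpow_add]
            congr 1
            obtain ⟨m, rfl⟩ : ∃ m, n = m + 3 := ⟨n - 3, by omega⟩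
            show 2 * (2 ^ m : ℤ) + 2 * 2 ^ m = 2 ^ (m + 2)
            rw [pow_add]; ring
          have h1 : (g : G) * w * (g : G)⁻¹ ∈ M := (hQM _).1 (hgn ⟨w, hMH hw⟩ ((hQM _).2 hw))
          have h2 : (g : G) * z * (g : G)⁻¹ = ((g : G) * w * (g : G)⁻¹) * ((g : G) * w * (g : G)⁻¹) := by
            rw [← hww]; group
          have h3 : (g : G) * z * (g : G)⁻¹ ∈ M := by rw [h2]; exact M.mul_mem h1 h1
          have h4 : ((g : G) * z * (g : G)⁻¹) * ((g : G) * z * (g : G)⁻¹) = 1 := by
            have : ((g : G) * z * (g : G)⁻¹) * ((g : G) * z * (g : G)⁻¹) = (g : G) * (z * z) * (g : G)⁻¹ := by group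
            rw [this, hzz]; group
          rcases hinv _ h3 h4 with h5 | h5 | h5 | h5
          · exfalso
            have h6 : z = 1 := by
              have := conj_eq_one_iff.1 h5
              exact this
            rw [hz, f_one a hao, f_two hn] at h6
            have hpos : (0 : ℤ) < 2 ^ (n - 1) := by positivity
            have := Int.le_of_dvd hpos h6
            omega
          · exact h5
          · exact absurd (h2.symm.trans h5) (hsqM _ h1).1
          · exact absurd (h2.symm.trans h5) (hsqM _ h1).2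
        have hzc : (g : G) * z = z * g := by
          rw [mul_inv_eq_iff_eq_mul] at hgz; exact hgz
        -- `g` fixes `b`
        have hgb : (g : G) * b = b * g := by
          have h1 : (g : G) * b * (g : G)⁻¹ ∈ M := (hQM _).1 (hgn ⟨b, hMH b_mem_MM⟩ ((hQM _).2 b_mem_MM))
          have h4 : ((g : G) * b * (g : G)⁻¹) * ((g : G) * b * (g : G)⁻¹) = 1 := by
            have : ((g : G) * b * (g : G)⁻¹) * ((g : G) * b * (g : G)⁻¹) = (g : G) * (b * b) * (g : G)⁻¹ := by group
            rw [this, hbb]; group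
          rcases hinv _ h1 h4 with h5 | h5 | h5 | h5
          · exfalso
            have h6 : b = 1 := conj_eq_one_iff.1 h5
            exact f_ne hn a b hao hbo hrel 0 (by rw [zpow_zero, h6])
          · exfalso
            rw [← hgz] at h5
            have h6 : b = z := by
              have := mul_right_cancel h5
              exact mul_left_cancel this
            exact f_ne hn a b hao hbo hrel _ h6.symm
          · rw [mul_inv_eq_iff_eq_mul] at h5; exact h5
          · -- then `g ^ k b = z ^ k b g ^ k`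
            exfalso
            rw [mul_inv_eq_iff_eq_mul] at h5
            have h6 : ∀ k : ℕ, (g : G) ^ k * b = z ^ k * b * (g : G) ^ k := by
              intro k
              induction k with
              | zero => simp
              | succ k ih =>
                calc (g : G) ^ (k + 1) * b = (g : G) * ((g : G) ^ k * b) := by rw [pow_succ', mul_assoc]
                  _ = (g : G) * z ^ k * b * (g : G) ^ k := by rw [ih]; group
                  _ = z ^ k * ((g : G) * b) * (g : G) ^ k := by
                    rw [((show Commute (g : G) z from hzc).pow_right k).eq]; group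
                  _ = z ^ k * z * b * ((g : G) * (g : G) ^ k) := by rw [h5]; group
                  _ = z ^ (k + 1) * b * (g : G) ^ (k + 1) := by rw [← pow_succ, ← pow_succ']
            have h7 := h6 (orderOf (g : G))
            rw [pow_orderOf_eq_one, one_mul, mul_one] at h7
            have h8 : z ^ orderOf (g : G) = 1 := by
              have := mul_right_cancel (a := (1 : G)) (b := b) (c := z ^ orderOf (g : G)) (by rw [one_mul]; exact h7)
              exact this.symm
            have h9 : Odd (orderOf (g : G)) := by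
              rw [Subgroup.orderOf_coe]
              exact Nat.coprime_two_right.1 hgo
            obtain ⟨k, hk⟩ := h9
            rw [hk, pow_succ, pow_mul, pow_two, hzz, one_pow, one_mul] at h8
            rw [hz, f_one a hao, f_two hn] at h8
            have hpos : (0 : ℤ) < 2 ^ (n - 1) := by positivity
            have := Int.le_of_dvd hpos h8
            omega
        intro x hx hx2
        have hxM := (hQM x).1 hx
        have hxx : (x : G) * x = 1 := by
          rw [← pow_two]
          exact congrArg Subtype.val hx2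
        apply Subtype.ext
        show (g : G) * x = x * g
        rcases hinv _ hxM hxx with h | h | h | h
        · rw [h]; simp
        · rw [h]; exact hzc
        · rw [h]; exact hgb
        · rw [h]; exact (show Commute (g : G) z from hzc).mul_right hgb
      · intro x hx y hy
        exact Subtype.ext (hMab x ((hQM x).1 hx) y ((hQM y).1 hy))

end Cfsg.Agent.S3178
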