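import Cfsg.Statements.S3192
import Cfsg.Agent.H35.CRd
import Cfsg.Agent.FT.Base
import Cfsg.Agent.S2507

set_option autoImplicit false
set_option linter.style.haveILetI false
open Cfsg

namespace Cfsg.Agent.S3192

open Cfsg.Agent.H35.CR

theorem index_map {G H : Type*} [Group G] [Group H] (e : G ≃* H) (g : G) :
    (Subgroup.centralizer ({e g} : Set H)).index = (Subgroup.centralizer ({g} : Set G)).index := by
  have h : Subgroup.centralizer ({g} : Set G) = (Subgroup.centralizer ({e g} : Set H)).comap (e : G →* H) := by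
    ext x
    rw [Subgroup.mem_comap, Subgroup.mem_centralizer_singleton_iff, Subgroup.mem_centralizer_singleton_iff]
    show x * g = g * x ↔ e x * e g = e g * e x
    rw [← map_mul, ← map_mul, e.injective.eq_iff]
  rw [h, Subgroup.index_comap_of_surjective _ e.surjective]

theorem index_eq_one_iff {G : Type*} [Group G] (x : G) :
    (Subgroup.centralizer ({x} : Set G)).index = 1 ↔ x ∈ Subgroup.center G := by
  rw [Subgroup.index_eq_one, Subgroup.mem_center_iff, eq_top_iff]
  constructor
  · intro h g
    exact Subgroup.mem_centralizer_singleton_iff.1 (h (Subgroup.mem_top g))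
  · intro h g _
    exact Subgroup.mem_centralizer_singleton_iff.2 (h g)

theorem set_eq {G : Type*} [Group G] :
    {m : ℕ | ∃ x : G, x ∉ Subgroup.center G ∧ m = (Subgroup.centralizer ({x} : Set G)).index} =
      Set.range (fun g : G => (Subgroup.centralizer ({g} : Set G)).index) \ {1} := by
  ext m
  constructor
  · rintro ⟨x, hx, rfl⟩
    exact ⟨⟨x, rfl⟩, fun h => hx ((index_eq_one_iff x).1 h)⟩
  · rintro ⟨⟨x, rfl⟩, h⟩
    exact ⟨x, fun hx => h ((index_eq_one_iff x).2 hx), rfl⟩

theorem result (G : Type*) [Group G] [Finite G] :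
    (IsSimpleGroup G ∧ ¬ IsMulCommutative G ∧
        Set.ncard {m : ℕ | ∃ x : G, x ∉ Subgroup.center G ∧ m = (Subgroup.centralizer ({x} : Set G)).index} = 3) ↔
      ∃ (m : ℕ) (F : Type) (_ : Field F) (_ : Fintype F), 2 ≤ m ∧ Fintype.card F = 2 ^ m ∧
        Nonempty (G ≃* Matrix.ProjectiveSpecialLinearGroup (Fin 2) F) := by
  classical
  constructor
  · rintro ⟨hs, hG, h3⟩
    haveI := hs
    have hna : ¬ ∀ a b : G, a * b = b * a := fun h => hG ⟨⟨h⟩⟩
    have hcen : Subgroup.center G = ⊥ := by
      rcases (inferInstance : (Subgroup.center G).Normal).eq_bot_or_eq_top with h | h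
      · exact h
      · exfalso
        apply hna
        intro a b
        have : a ∈ Subgroup.center G := h ▸ Subgroup.mem_top a
        exact (Subgroup.mem_center_iff.mp this b).symm
    obtain ⟨m1, m2, m3, h12, h13, h23, hT⟩ := Set.ncard_eq_three.1 h3
    have hmem : ∀ g : G, g ≠ 1 → (cz g).index = m1 ∨ (cz g).index = m2 ∨ (cz g).index = m3 := by
      intro g hg
      have : (cz g).index ∈ ({m1, m2, m3} : Set ℕ) := by
        rw [← hT]
        exact ⟨g, by rw [hcen, Subgroup.mem_bot]; exact hg, rfl⟩
      simpa using this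
    have hex : ∀ m ∈ ({m1, m2, m3} : Set ℕ), ∃ x : G, x ≠ 1 ∧ (cz x).index = m := by
      intro m hm
      rw [← hT] at hm
      obtain ⟨x, hx, hxm⟩ := hm
      refine ⟨x, ?_, hxm.symm⟩
      rw [hcen, Subgroup.mem_bot] at hx
      exact hx
    obtain ⟨x1, hx1, hxm1⟩ := hex m1 (by simp)
    obtain ⟨x2, hx2, hxm2⟩ := hex m2 (by simp)
    obtain ⟨x3, hx3, hxm3⟩ := hex m3 (by simp)
    have hci : ∀ g h : G, (cz g).index = (cz h).index → c g = c h := by
      intro g h hgh
      have e1 := (cz g).card_mul_index
      have e2 := (cz h).card_mul_index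
      rw [← hgh] at e2
      exact Nat.eq_of_mul_eq_mul_right (Nat.pos_of_ne_zero Subgroup.index_ne_zero_of_finite) (e1.trans e2.symm)
    have hne : ∀ g h : G, (cz g).index ≠ (cz h).index → c g ≠ c h := fun g h hgh he => hgh (index_eq he)
    have h2G := Cfsg.Agent.FT.even_of_simple hG
    have key := main_three hna (n1 := c x1) (n2 := c x2) (n3 := c x3)
      (hne _ _ (by rw [hxm1, hxm2]; exact h12)) (hne _ _ (by rw [hxm1, hxm3]; exact h13))
      (hne _ _ (by rw [hxm2, hxm3]; exact h23)) (by
        intro g hg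
        rcases hmem g hg with h | h | h
        · left; exact hci _ _ (h.trans hxm1.symm)
        · right; left; exact hci _ _ (h.trans hxm2.symm)
        · right; right; exact hci _ _ (h.trans hxm3.symm)) hx1 hx2 hx3 rfl rfl rfl h2G
    obtain ⟨F, i1, i2, f, hf, hF, he⟩ := psl_of_inv hG key h2G
    exact ⟨f, F, i1, i2, hf, hF, he⟩
  · rintro ⟨m, F, i1, i2, hm, hF, ⟨e⟩⟩
    have h4 : 4 ≤ Fintype.card F := by
      rw [hF]
      calc 4 = 2 ^ 2 := by norm_num
        _ ≤ 2 ^ m := Nat.pow_le_pow_right (by norm_num) hm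
    have h2 : 2 ∣ Fintype.card F := by
      rw [hF]; exact dvd_pow_self 2 (by omega)
    have hr := Cfsg.Agent.S2507.result h2 h4
    have hrG : Set.range (fun g : G => (Subgroup.centralizer ({g} : Set G)).index) =
        {1, Fintype.card F * (Fintype.card F - 1), Fintype.card F ^ 2 - 1, Fintype.card F * (Fintype.card F + 1)} := by
      rw [← hr]
      ext k
      constructor
      · rintro ⟨g, rfl⟩
        exact ⟨e g, index_map e g⟩
      · rintro ⟨g, rfl⟩
        refine ⟨e.symm g, ?_⟩
        have := index_map e (e.symm g)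
        rw [e.apply_symm_apply] at this
        exact this.symm
    set q := Fintype.card F with hq
    obtain ⟨r, hr⟩ : ∃ r, q = r + 4 := ⟨q - 4, by omega⟩
    have hsimple : IsSimpleGroup (Matrix.ProjectiveSpecialLinearGroup (Fin 2) F) :=
      Matrix.ProjectiveSpecialLinearGroup.rank_two_simple (by
        rw [Nat.card_eq_fintype_card]; omega)
    have hsG : IsSimpleGroup G := (e.isSimpleGroup_congr).2 hsimple
    refine ⟨hsG, ?_, ?_⟩
    · intro hc
      have h1 : q * (q - 1) ∈ Set.range (fun g : G => (Subgroup.centralizer ({g} : Set G)).index) := by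
        rw [hrG]; simp
      obtain ⟨g, hg⟩ := h1
      have h2 : (Subgroup.centralizer ({g} : Set G)).index = 1 := by
        rw [index_eq_one_iff, Subgroup.mem_center_iff]
        intro h; exact hc.is_comm.comm h g
      have h3 : (1 : ℕ) = q * (q - 1) := h2.symm.trans hg
      rw [hr] at h3
      have : (r + 4) * (r + 4 - 1) = (r + 4) * (r + 3) := by congr 1
      rw [this] at h3
      nlinarith
    · rw [set_eq, hrG]
      have e1 : ({1, q * (q - 1), q ^ 2 - 1, q * (q + 1)} : Set ℕ) \ {1} = {q * (q - 1), q ^ 2 - 1, q * (q + 1)} := by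
        have a1 : q * (q - 1) ≠ 1 := by
          rw [hr, show r + 4 - 1 = r + 3 by omega]; nlinarith
        have a2 : q ^ 2 - 1 ≠ 1 := by
          have : 16 ≤ q ^ 2 := by nlinarith
          omega
        have a3 : q * (q + 1) ≠ 1 := by nlinarith
        ext k
        simp only [Set.mem_diff, Set.mem_insert_iff, Set.mem_singleton_iff]
        constructor
        · rintro ⟨h | h, h'⟩
          · exact absurd h h'
          · exact h
        · intro h
          refine ⟨Or.inr h, ?_⟩
          rcases h with h | h | h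
          · rw [h]; exact a1
          · rw [h]; exact a2
          · rw [h]; exact a3
      rw [e1]
      have b1 : q * (q - 1) = q ^ 2 - q := by rw [Nat.mul_sub_one, sq]
      have b2 : q ≤ q ^ 2 := by nlinarith
      apply Set.ncard_eq_three.2
      refine ⟨q * (q - 1), q ^ 2 - 1, q * (q + 1), ?_, ?_, ?_, rfl⟩
      · rw [b1]; omega
      · rw [b1]
        have : q * (q + 1) = q ^ 2 + q := by ring
        omega
      · have : q * (q + 1) = q ^ 2 + q := by ring
        omega

end Cfsg.Agent.S3192
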