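import Cfsg.Statements.S4593
import Cfsg.Agent.H69.AbelSylow

set_option autoImplicit false
set_option linter.style.haveILetI false
open Cfsg

namespace Cfsg.Agent.S4593

open Subgroup Cfsg.Agent.H69

/-- Let G be a finite group with trivial centre and no nontrivial normal subgroup of odd order, whose Sylow 2-subgroups are abelian, and let P be a Sylow 2-subgroup. Every automorphism of G of 2-power order that fixes P elementwise is inner. -/
theorem result {G : Type*} [Group G] [Finite G] (hZ : Subgroup.center G = ⊥) (hcore : Cfsg.pPrimeCore 2 G = ⊥) (P : Sylow 2 G) (hab : IsMulCommutative (P : Subgroup G))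
    (α : MulAut G) (h2 : ∃ j : ℕ, orderOf α = 2 ^ j) (hfix : ∀ x ∈ (P : Subgroup G), α x = x) :
    ∃ g : G, ∀ x : G, α x = g * x * g⁻¹ := by
  haveI : Finite (MulAut G) := inferInstance
  set I : Subgroup (MulAut G) := (MulAut.conj : G →* MulAut G).range with hI
  have hconj : ∀ (β : MulAut G) (g : G), β * MulAut.conj g * β⁻¹ = MulAut.conj (β g) := by
    intro β g
    ext x
    simp [MulAut.mul_apply]
  have hinj : Function.Injective (MulAut.conj : G →* MulAut G) := by
    rw [injective_iff_map_eq_one]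
    intro g hg
    have : g ∈ center G := by
      rw [mem_center_iff]
      intro x
      have h1 := congrArg (fun f : MulAut G => f x) hg
      simp only [MulAut.conj_apply, MulAut.one_apply] at h1
      exact (mul_inv_eq_iff_eq_mul.mp h1).symm
    rw [hZ] at this; exact mem_bot.mp this
  haveI hIn : I.Normal := by
    constructor
    rintro _ ⟨g, rfl⟩ β
    rw [hconj]; exact ⟨_, rfl⟩
  set Z : Subgroup (MulAut G) := I ⊔ zpowers α with hZdef
  have hZmem : ∀ x, x ∈ Z → ∃ i ∈ I, ∃ a ∈ zpowers α, i * a = x := by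
    intro x hx
    rwa [hZdef, mem_sup_of_normal_left] at hx
  set P₁ : Subgroup (MulAut G) := (P : Subgroup G).map MulAut.conj with hP₁
  have hP₁I : P₁ ≤ I := by
    rintro _ ⟨g, _, rfl⟩; exact ⟨g, rfl⟩
  have hαP : ∀ x ∈ P₁, α * x = x * α := by
    rintro _ ⟨g, hg, rfl⟩
    have := hconj α g
    rw [hfix g hg, mul_inv_eq_iff_eq_mul] at this
    exact this
  have hAc : zpowers α ≤ centralizer (P₁ : Set (MulAut G)) := by
    rw [zpowers_le]
    rw [mem_centralizer_iff]
    intro x hx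
    exact (hαP x hx).symm
  have hPcomm : ∀ x ∈ P₁, ∀ y ∈ P₁, x * y = y * x := by
    rintro _ ⟨x, hx, rfl⟩ _ ⟨y, hy, rfl⟩
    rw [← map_mul, ← map_mul]
    have := hab.is_comm.comm (⟨x, hx⟩ : (P : Subgroup G)) ⟨y, hy⟩
    exact congrArg _ (congrArg Subtype.val this)
  obtain ⟨j, hj⟩ := h2
  have hA2 : IsPGroup 2 (zpowers α) := IsPGroup.of_card (n := j) (by rw [Nat.card_zpowers, hj])
  have hP2 : IsPGroup 2 P₁ := P.2.map _
  -- R = P₁ ⊔ ⟨α⟩
  set R : Subgroup (MulAut G) := P₁ ⊔ zpowers α with hR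
  have hAN : zpowers α ≤ normalizer (P₁ : Set (MulAut G)) :=
    hAc.trans (Subgroup.centralizer_le_normalizer _)
  have hR2 : IsPGroup 2 R := hP2.to_sup_of_normal_left' hA2 hAN
  have hRmem : ∀ x, x ∈ R → ∃ u ∈ P₁, ∃ m : ℤ, u * α ^ m = x := by
    intro x hx
    obtain ⟨u, hu, a, ha, e⟩ := (H47.mem_sup_of_le_normalizer' hAN).mp (by rw [sup_comm]; exact hx)
    obtain ⟨m, rfl⟩ := mem_zpowers_iff.mp ha
    exact ⟨u, hu, m, e⟩
  have hRcomm : ∀ x ∈ R, ∀ y ∈ R, x * y = y * x := by
    intro x hx y hy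
    obtain ⟨u, hu, m, rfl⟩ := hRmem x hx
    obtain ⟨v, hv, n, rfl⟩ := hRmem y hy
    have c1 : Commute u v := hPcomm u hu v hv
    have c2 : Commute u α := (hαP u hu).symm
    have c3 : Commute v α := (hαP v hv).symm
    have : Commute (u * α ^ m) (v * α ^ n) := by
      apply Commute.mul_left
      · exact c1.mul_right (c2.zpow_right n)
      · exact (c3.symm.zpow_left m).mul_right (((Commute.refl α).zpow_left m).zpow_right n)
    exact this
  have hRZ : R ≤ Z := sup_le_sup hP₁I le_rfl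
  -- the Sylow 2-subgroup of Z
  obtain ⟨S, hS⟩ := (hR2.comap_subtype (K := Z)).exists_le_sylow
  have hSR : (S : Subgroup Z).map Z.subtype = R := by
    apply le_antisymm
    · rintro _ ⟨y, hy, rfl⟩
      obtain ⟨i, hi, a, ha, hia⟩ := hZmem _ y.2
      have haR : a ∈ R := (le_sup_right : zpowers α ≤ R) ha
      have haS : (⟨a, hRZ haR⟩ : Z) ∈ (S : Subgroup Z) := hS haR
      have hiS : ∃ h : i ∈ Z, (⟨i, h⟩ : Z) ∈ (S : Subgroup Z) := by
        refine ⟨(le_sup_left : I ≤ Z) hi, ?_⟩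
        have h1 := mul_mem hy (inv_mem haS)
        have h2 : y * (⟨a, hRZ haR⟩ : Z)⁻¹ = (⟨i, (le_sup_left : I ≤ Z) hi⟩ : Z) := by
          apply Subtype.ext
          show (y : MulAut G) * a⁻¹ = i
          rw [← hia, mul_inv_cancel_right]
        rwa [h2] at h1
      obtain ⟨h, hiS⟩ := hiS
      -- i ∈ P₁
      have hiP : i ∈ P₁ := by
        set T : Subgroup G := ((S : Subgroup Z).map Z.subtype).comap (MulAut.conj : G →* MulAut G)
          with hT
        have hT2 : IsPGroup 2 T := (S.2.map Z.subtype).comap_of_injective _ hinj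
        have hPT : (P : Subgroup G) ≤ T := by
          intro x hx
          have hx1 : MulAut.conj x ∈ R := (le_sup_left : P₁ ≤ R) ⟨x, hx, rfl⟩
          exact ⟨⟨_, hRZ hx1⟩, hS hx1, rfl⟩
        have hTP : T = P := P.is_maximal' hT2 hPT
        obtain ⟨g, rfl⟩ := hi
        refine ⟨g, ?_, rfl⟩
        rw [SetLike.mem_coe, ← hTP]
        exact ⟨⟨_, h⟩, hiS, rfl⟩
      show (y : MulAut G) ∈ R
      rw [← hia]
      exact mul_mem ((le_sup_left : P₁ ≤ R) hiP) haR
    · intro x hx
      exact ⟨⟨x, hRZ hx⟩, hS hx, rfl⟩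
  have hSab : IsMulCommutative (S : Subgroup Z) := by
    refine ⟨⟨fun x y => ?_⟩⟩
    apply Subtype.ext
    apply Subtype.ext
    have hx : ((x : Z) : MulAut G) ∈ R := by rw [← hSR]; exact ⟨_, x.2, rfl⟩
    have hy : ((y : Z) : MulAut G) ∈ R := by rw [← hSR]; exact ⟨_, y.2, rfl⟩
    exact hRcomm _ hx _ hy
  -- commutators lie in I
  have hcommI : ∀ x y : Z, x * y * x⁻¹ * y⁻¹ ∈ I.subgroupOf Z := by
    intro x y
    rw [mem_subgroupOf]
    have hq : ∀ x : Z, ∃ m : ℤ, (QuotientGroup.mk (x : MulAut G) : MulAut G ⧸ I) =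
        (QuotientGroup.mk α) ^ m := by
      intro x
      obtain ⟨i, hi, a, ha, hia⟩ := hZmem _ x.2
      obtain ⟨m, rfl⟩ := mem_zpowers_iff.mp ha
      refine ⟨m, ?_⟩
      rw [← hia, QuotientGroup.mk_mul, (QuotientGroup.eq_one_iff i).mpr hi, one_mul]
      rfl
    obtain ⟨m, hm⟩ := hq x
    obtain ⟨n, hn⟩ := hq y
    rw [← QuotientGroup.eq_one_iff]
    push_cast
    rw [QuotientGroup.mk_mul, QuotientGroup.mk_mul, QuotientGroup.mk_mul, QuotientGroup.mk_inv,
      QuotientGroup.mk_inv, hm, hn]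
    rw [← zpow_neg, ← zpow_neg, ← zpow_add, ← zpow_add, ← zpow_add]
    have : m + n + -m + -n = 0 := by ring
    rw [this, zpow_zero]
  have hαR : α ∈ R := (le_sup_right : zpowers α ≤ R) (mem_zpowers α)
  have hαS : (⟨α, hRZ hαR⟩ : Z) ∈ (S : Subgroup Z) := hS hαR
  obtain ⟨i, hiI, hiS, hfixi⟩ := abelian_sylow_decomp S hSab (I.subgroupOf Z) hcommI hαS
  set c : Z := ⟨α, hRZ hαR⟩ * i with hc
  have hcS : c ∈ (S : Subgroup Z) := mul_mem hαS hiS
  have hzs := abelian_sylow_zstar S hSab hcS hfixi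
  -- O(Z) = 1
  have hOZ : pPrimeCore 2 Z = ⊥ := by
    have hcardO : (Nat.card (pPrimeCore 2 Z)).Coprime 2 := Solv.pPrimeCore_card_coprime 2
    -- O(Z) ≤ I
    have h1 : ∀ x ∈ pPrimeCore 2 Z, (x : MulAut G) ∈ I := by
      intro x hx
      have ho : (orderOf x).Coprime 2 := by
        apply Nat.Coprime.coprime_dvd_left _ hcardO
        have := orderOf_dvd_natCard (⟨x, hx⟩ : pPrimeCore 2 Z)
        rwa [Subgroup.orderOf_mk] at this
      have ho2 : (orderOf (x : MulAut G)).Coprime (2 ^ j) := by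
        rw [orderOf_submonoid]
        exact Nat.Coprime.pow_right j ho
      rw [← QuotientGroup.eq_one_iff]
      obtain ⟨i, hi, a, ha, hia⟩ := hZmem _ x.2
      have h3 : (QuotientGroup.mk (x : MulAut G) : MulAut G ⧸ I) = QuotientGroup.mk a := by
        rw [← hia, QuotientGroup.mk_mul, (QuotientGroup.eq_one_iff i).mpr hi, one_mul]
      have h4 : orderOf (QuotientGroup.mk (x : MulAut G) : MulAut G ⧸ I) ∣ orderOf (x : MulAut G) :=
        orderOf_map_dvd (QuotientGroup.mk' I) _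
      have h5 : orderOf (QuotientGroup.mk (x : MulAut G) : MulAut G ⧸ I) ∣ 2 ^ j := by
        rw [h3]
        refine (orderOf_map_dvd (QuotientGroup.mk' I) a).trans ?_
        rw [← hj]; exact orderOf_dvd_of_mem_zpowers ha
      have h6 := Nat.Coprime.eq_one_of_dvd (Nat.Coprime.coprime_dvd_left h4 ho2) h5
      exact orderOf_eq_one_iff.mp h6
    -- comap to G
    set M : Subgroup G := ((pPrimeCore 2 Z).map Z.subtype).comap (MulAut.conj : G →* MulAut G)
      with hM
    have hMn : M.Normal := by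
      constructor
      rintro x ⟨y, hy, hyx⟩ g
      have hgZ : MulAut.conj g ∈ Z := (le_sup_left : I ≤ Z) ⟨g, rfl⟩
      refine ⟨⟨_, hgZ⟩ * y * ⟨_, hgZ⟩⁻¹, (pPrimeCore_normal 2 Z).conj_mem y hy ⟨_, hgZ⟩, ?_⟩
      rw [map_mul, map_mul, map_inv]
      have : (Z.subtype y : MulAut G) = MulAut.conj x := hyx
      rw [map_mul, map_mul, map_inv, this]
      rfl
    have hMc : (Nat.card M).Coprime 2 := by
      have h2 : M.map (MulAut.conj : G →* MulAut G) ≤ (pPrimeCore 2 Z).map Z.subtype :=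
        map_comap_le _ _
      have h3 := card_dvd_of_le h2
      rw [Cop.card_map_subtype, card_map_of_injective hinj] at h3
      exact Nat.Coprime.coprime_dvd_left h3 hcardO
    have hMbot : M = ⊥ := by
      rw [eq_bot_iff, ← hcore]
      exact Solv.le_pPrimeCore hMn hMc
    rw [eq_bot_iff]
    intro x hx
    obtain ⟨g, hg⟩ := h1 x hx
    have hgM : g ∈ M := by
      refine ⟨x, hx, ?_⟩
      exact hg.symm
    rw [hMbot, mem_bot] at hgM
    rw [hgM, map_one] at hg
    rw [mem_bot]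
    exact Subtype.ext hg.symm
  -- c is central in Z
  have hcent : ∀ g : Z, g * c * g⁻¹ = c := by
    intro g
    have := hzs g
    rw [hOZ, mem_bot, mul_inv_eq_one] at this
    exact this
  have hc1 : ∀ x : G, (c : MulAut G) x = x := by
    intro x
    have hxZ : MulAut.conj x ∈ Z := (le_sup_left : I ≤ Z) ⟨x, rfl⟩
    have h1 := congrArg Subtype.val (hcent ⟨_, hxZ⟩)
    have h2 : MulAut.conj x * (c : MulAut G) * (MulAut.conj x)⁻¹ = (c : MulAut G) := h1
    rw [mul_inv_eq_iff_eq_mul] at h2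
    have h3 := hconj (c : MulAut G) x
    rw [← h2, mul_inv_cancel_right] at h3
    exact (hinj h3).symm
  obtain ⟨g, hg⟩ := mem_subgroupOf.mp hiI
  refine ⟨g⁻¹, fun x => ?_⟩
  have h1 : (c : MulAut G) = α * MulAut.conj g := by
    rw [hc, hg]; rfl
  have h2 := hc1 (g⁻¹ * x * g)
  rw [h1, MulAut.mul_apply, MulAut.conj_apply] at h2
  have e1 : g * (g⁻¹ * x * g) * g⁻¹ = x := by group
  rw [e1] at h2
  rw [h2, inv_inv]

end Cfsg.Agent.S4593
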