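import Cfsg.Statements.S3206
import Cfsg.Agent.S4593
import Cfsg.Agent.H69.AbelSylow
import Cfsg.Agent.H69.CoprimeZ
import Cfsg.Agent.H14.KleinPSL
import Cfsg.Agent.H47.Basic

set_option autoImplicit false
set_option linter.style.haveILetI false
open Cfsg

namespace Cfsg.Agent.S3206

open Subgroup Cfsg.Agent.H69

theorem center_bot {X : Type*} [Group X] [IsSimpleGroup X] (h : ¬ ∀ x y : X, x * y = y * x) :
    center X = ⊥ := by
  rcases (inferInstance : (center X).Normal).eq_bot_or_eq_top with h1 | h1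
  · exact h1
  · refine absurd (fun x y => ?_) h
    have : y ∈ center X := by rw [h1]; exact mem_top y
    exact mem_center_iff.mp this x

theorem derived_top {X : Type*} [Group X] [IsSimpleGroup X] (h : ¬ ∀ x y : X, x * y = y * x) :
    _root_.commutator X = ⊤ := by
  rcases (inferInstance : (_root_.commutator X).Normal).eq_bot_or_eq_top with h1 | h1
  · refine absurd (fun x y => ?_) h
    have h2 : x * y * x⁻¹ * y⁻¹ ∈ _root_.commutator X :=
      commutator_mem_commutator (mem_top x) (mem_top y)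
    rw [h1, mem_bot, mul_inv_eq_one, mul_inv_eq_iff_eq_mul] at h2
    exact h2
  · exact h1

theorem core_bot {X : Type*} [Group X] [Finite X] [IsSimpleGroup X] (h : 2 ∣ Nat.card X) :
    pPrimeCore 2 X = ⊥ := by
  have hn : (pPrimeCore 2 X).Normal := by
    exact Solv.pPrimeCore_normal 2
  rcases hn.eq_bot_or_eq_top with h1 | h1
  · exact h1
  · have h2 := Solv.pPrimeCore_card_coprime (G := X) 2
    rw [h1, Subgroup.card_top] at h2
    exact absurd (Nat.Coprime.eq_one_of_dvd h2.symm h) (by norm_num)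

theorem psl_not_comm {F : Type*} [Field F] [Fintype F] (h2 : (2 : F) ≠ 0) :
    ¬ ∀ x y : Matrix.ProjectiveSpecialLinearGroup (Fin 2) F, x * y = y * x := by
  intro h
  haveI := H14.Klein.finite_psl (F := F)
  obtain ⟨V, hV⟩ := H14.Klein.exists_klein (F := F) h2
  have h1 := H14.Klein.centralizer_le h2 hV
  have h3 : V = ⊤ := by
    rw [eq_top_iff]
    intro x _
    apply h1
    rw [mem_centralizer_iff]
    intro y _
    exact h y x
  have h4 := H14.Klein.twelve_mul (F := F) h2
  have h5 : Nat.card V = 4 := hV.card_four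
  rw [h3, Subgroup.card_top] at h5
  rw [h5] at h4
  omega

/-- An abelian Sylow 2-subgroup of `PSL₂(q)`, `q` odd, has order 4. -/
theorem sylow_psl_card {F : Type*} [Field F] [Fintype F] (h2 : (2 : F) ≠ 0) {X : Type*} [Group X] [Finite X]
    (e : X ≃* Matrix.ProjectiveSpecialLinearGroup (Fin 2) F)
    (hab : ∀ Q : Subgroup X, IsPGroup 2 Q → ∀ x ∈ Q, ∀ y ∈ Q, x * y = y * x) (P : Sylow 2 X) :
    Nat.card (P : Subgroup X) = 4 := by
  obtain ⟨V, hV⟩ := H14.Klein.exists_klein (F := F) h2
  have h4 : Nat.card V = 4 := hV.card_four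
  set W : Subgroup X := V.map (e.symm : Matrix.ProjectiveSpecialLinearGroup (Fin 2) F →* X) with hW
  have hW4 : Nat.card W = 4 := by
    rw [← h4]
    exact (Nat.card_congr (V.equivMapOfInjective _ e.symm.injective).toEquiv).symm
  have hWp : IsPGroup 2 W := IsPGroup.of_card (n := 2) (by rw [hW4]; norm_num)
  obtain ⟨Q, hQ⟩ := hWp.exists_le_sylow
  have hQW : (Q : Subgroup X) ≤ W := by
    intro x hx
    have h5 : e x ∈ centralizer (V : Set (Matrix.ProjectiveSpecialLinearGroup (Fin 2) F)) := by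
      rw [mem_centralizer_iff]
      intro v hv
      have h6 : e.symm v ∈ W := ⟨v, hv, rfl⟩
      have h7 := hab Q Q.2 _ (hQ h6) _ hx
      have h8 := congrArg e h7
      simpa using h8
    have h9 := H14.Klein.centralizer_le h2 hV h5
    exact ⟨e x, h9, by simp⟩
  have hQe : (Q : Subgroup X) = W := le_antisymm hQW hQ
  rw [← hW4, ← hQe, P.card_eq_multiplicity, Q.card_eq_multiplicity]

/-- The transfer into an abelian subgroup of a perfect group. -/
theorem transfer_central {L : Type*} [Group L] [Finite L] (hL : _root_.commutator L = ⊤) (P : Subgroup L)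
    (hP : ∀ x ∈ P, ∀ y ∈ P, x * y = y * x) {z : L} (hz : z ∈ center L) : z ^ P.index = 1 := by
  set V : L →* Abelianization P :=
    MonoidHom.transfer (Abelianization.of : P →* Abelianization P) with hV
  have hzkey : ∀ (k : ℕ) (g₀ : L), g₀⁻¹ * z ^ k * g₀ ∈ P →
      g₀⁻¹ * z ^ k * g₀ = z ^ k := by
    intro k g₀ _
    have h1 : z ^ k ∈ center L := pow_mem hz k
    have h2 := mem_center_iff.mp h1 g₀
    rw [mul_assoc, ← h2, ← mul_assoc, inv_mul_cancel, one_mul]
  have hVz : V z = 1 := by
    have h1 : z ∈ V.ker := by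
      have := Abelianization.commutator_subset_ker V
      rw [hL] at this
      exact this (mem_top z)
    exact h1
  rw [hV, MonoidHom.transfer_eq_pow _ _ hzkey] at hVz
  have h2 : (⟨z ^ P.index, MonoidHom.transfer_eq_pow_aux z hzkey⟩ : P) ∈
      (Abelianization.of : P →* _).ker := hVz
  rw [Abelianization.ker_of] at h2
  have h3 : _root_.commutator P = ⊥ := by
    rw [_root_.commutator_def, Subgroup.commutator_eq_bot_iff_le_centralizer]
    intro x _
    rw [mem_centralizer_iff]
    intro y _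
    exact Subtype.ext (hP y y.2 x x.2)
  rw [h3, mem_bot] at h2
  exact congrArg Subtype.val h2

/-- Lifts of elements of a perfect subgroup of `C(t)` commute with lifts of `t`. -/
theorem lift_commute {L G : Type*} [Group L] [Group G] (π : L →* G) (hπ : Function.Surjective π)
    (hker : π.ker ≤ center L) (N : Subgroup G) (hN : ⁅N, N⁆ = N) {a x : L}
    (hc : ∀ y ∈ N, π a * y = y * π a) (hx : π x ∈ N) : a * x = x * a := by
  set M : Subgroup L := N.comap π with hM
  have hMm : M.map π = N := map_comap_eq_self_of_surjective hπ N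
  have h1 : (⁅M, M⁆ : Subgroup L) ≤ centralizer ({a} : Set L) := by
    rw [commutator_le]
    intro u hu v hv
    have key : ∀ w ∈ M, ∃ z ∈ center L, a * w * a⁻¹ = z * w := by
      intro w hw
      refine ⟨a * w * a⁻¹ * w⁻¹, hker ?_, by group⟩
      rw [MonoidHom.mem_ker, map_mul, map_mul, map_mul, map_inv, map_inv, hc _ hw]
      group
    obtain ⟨z, hz, e1⟩ := key u hu
    obtain ⟨z', hz', e2⟩ := key v hv
    have c1 : ∀ g, g * z = z * g := mem_center_iff.mp hz
    have c2 : ∀ g, g * z' = z' * g := mem_center_iff.mp hz'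
    rw [mem_centralizer_singleton_iff, commutatorElement_def]
    have e3 : a * (u * v * u⁻¹ * v⁻¹) * a⁻¹ = u * v * u⁻¹ * v⁻¹ := by
      calc a * (u * v * u⁻¹ * v⁻¹) * a⁻¹
          = (a * u * a⁻¹) * (a * v * a⁻¹) * (a * u * a⁻¹)⁻¹ * (a * v * a⁻¹)⁻¹ := by group
        _ = (z * u) * (z' * v) * (z * u)⁻¹ * (z' * v)⁻¹ := by rw [e1, e2]
        _ = z * (u * z') * v * u⁻¹ * z⁻¹ * (v⁻¹ * z'⁻¹) := by group
        _ = z * (z' * u) * v * u⁻¹ * z⁻¹ * (v⁻¹ * z'⁻¹) := by rw [c2 u]
        _ = z * z' * (u * v * u⁻¹ * z⁻¹) * v⁻¹ * z'⁻¹ := by group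
        _ = z * z' * (z⁻¹ * (u * v * u⁻¹)) * v⁻¹ * z'⁻¹ := by
            rw [(Commute.inv_right (c1 (u * v * u⁻¹) : Commute _ z)).eq]
        _ = z * z' * z⁻¹ * ((u * v * u⁻¹ * v⁻¹) * z'⁻¹) := by group
        _ = z * z' * z⁻¹ * (z'⁻¹ * (u * v * u⁻¹ * v⁻¹)) := by
            rw [(Commute.inv_right (c2 (u * v * u⁻¹ * v⁻¹) : Commute _ z')).eq]
        _ = (z * z') * z⁻¹ * z'⁻¹ * (u * v * u⁻¹ * v⁻¹) := by group
        _ = (z' * z) * z⁻¹ * z'⁻¹ * (u * v * u⁻¹ * v⁻¹) := by rw [c2 z]
        _ = u * v * u⁻¹ * v⁻¹ := by group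
    have := mul_inv_eq_iff_eq_mul.mp e3
    first | exact this | exact this.symm
  have h2 : π x ∈ (⁅M, M⁆ : Subgroup L).map π := by
    rw [map_commutator, hMm, hN]; exact hx
  obtain ⟨d, hd, hdx⟩ := h2
  have h3 : d⁻¹ * x ∈ center L := by
    apply hker
    rw [MonoidHom.mem_ker, map_mul, map_inv, hdx, inv_mul_cancel]
  have h4 : a * d = d * a := by
    have := mem_centralizer_singleton_iff.mp (h1 hd)
    first | exact this | exact this.symm
  have h5 := mem_center_iff.mp h3 a
  calc a * x = (a * d) * (d⁻¹ * x) := by group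
    _ = d * (a * (d⁻¹ * x)) := by rw [h4]; group
    _ = d * ((d⁻¹ * x) * a) := by rw [h5]
    _ = x * a := by group

/-- Let G be a non-abelian finite simple group with abelian Sylow 2-subgroups, and let t be an involution of G whose centralizer is a maximal subgroup of G and is the direct product of the subgroup generated by t with a subgroup E having a normal subgroup isomorphic to PSL(2, q), q odd and greater than 3, with trivial centralizer in E. Then every finite perfect group having a central 2-subgroup with quotient isomorphic to G has that central subgroup trivial (G has no nontrivial perfect central extension by a 2-group), and every automorphism of G of 2-power order that fixes every element of some Sylow 2-subgroup of G is inner. -/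
theorem result {G : Type*} [Group G] [Finite G] [IsSimpleGroup G]
    (hG : ¬ IsMulCommutative G) (hab : ∀ S : Sylow 2 G, IsMulCommutative ↥(S : Subgroup G))
    (t : G) (ht : orderOf t = 2) (hmax : IsCoatom (Subgroup.centralizer ({t} : Set G)))
    (E : Subgroup G) (hE : Cfsg.IsInternalDirectProduct (Subgroup.zpowers t) E (Subgroup.centralizer ({t} : Set G)))
    {F : Type*} [Field F] [Fintype F] (hFo : Odd (Fintype.card F)) (hF3 : 3 < Fintype.card F)
    (N : Subgroup ↥E) [N.Normal] (hN : Nonempty (↥N ≃* Matrix.ProjectiveSpecialLinearGroup (Fin 2) F))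
    (hNc : Subgroup.centralizer (N : Set ↥E) = ⊥) :
    (∀ (L : Type) (_ : Group L) (_ : Finite L) (Z : Subgroup L) (_ : Z.Normal), commutator L = ⊤ → Z ≤ Subgroup.center L →
        IsPGroup 2 ↥Z → Nonempty (L ⧸ Z ≃* G) → Z = ⊥) ∧
    (∀ (φ : G ≃* G) (k : ℕ), φ ^ (2 ^ k) = 1 → (∃ S : Sylow 2 G, ∀ s ∈ (S : Subgroup G), φ s = s) →
        ∃ g : G, ∀ x : G, φ x = g * x * g⁻¹) := by
  have hG' : ¬ ∀ x y : G, x * y = y * x := by
    intro h
    exact hG ⟨⟨h⟩⟩
  have hZ : center G = ⊥ := center_bot hG'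
  have h2G : 2 ∣ Nat.card G := by rw [← ht]; exact orderOf_dvd_natCard t
  have hcore : pPrimeCore 2 G = ⊥ := core_bot h2G
  have h2F : (2 : F) ≠ 0 := by
    intro h0
    obtain ⟨k, hk⟩ := hFo
    have h3 : ((Fintype.card F : ℕ) : F) = 0 := FiniteField.cast_card_eq_zero F
    rw [hk] at h3
    push_cast at h3
    rw [h0, zero_mul, zero_add] at h3
    exact one_ne_zero h3
  refine ⟨?_, ?_⟩
  swap
  · intro φ k hφ ⟨S, hS⟩
    have h1 : orderOf φ ∣ 2 ^ k := orderOf_dvd_of_pow_eq_one hφ
    obtain ⟨j, -, hj⟩ := (Nat.dvd_prime_pow Nat.prime_two).mp h1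
    exact Cfsg.Agent.S4593.result hZ hcore S (hab S) φ ⟨j, hj⟩ hS
  -- part 1
  obtain ⟨eN⟩ := hN
  set N' : Subgroup G := N.map E.subtype with hN'
  have eN' : N' ≃* Matrix.ProjectiveSpecialLinearGroup (Fin 2) F :=
    (N.equivMapOfInjective E.subtype E.subtype_injective).symm.trans eN
  have hq' : 4 ≤ Nat.card F := by rw [Nat.card_eq_fintype_card]; omega
  haveI hsimp : IsSimpleGroup (Matrix.ProjectiveSpecialLinearGroup (Fin 2) F) :=
    Matrix.ProjectiveSpecialLinearGroup.rank_two_simple hq'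
  haveI hsN : IsSimpleGroup N' := eN'.isSimpleGroup
  have hncN : ¬ ∀ x y : N', x * y = y * x := by
    intro h
    apply psl_not_comm (F := F) h2F
    intro x y
    have := congrArg eN' (h (eN'.symm x) (eN'.symm y))
    simpa using this
  have hN'E : N' ≤ E := map_subtype_le _
  obtain ⟨hE1, hE2, hE3, hE4, hE5⟩ := hE
  have htE : ∀ e ∈ E, t * e = e * t := fun e he => hE3 t (mem_zpowers t) e he
  have ht1 : t ≠ 1 := by
    intro h; rw [h, orderOf_one] at ht; omega
  have habQ : ∀ Q : Subgroup G, IsPGroup 2 Q → ∀ x ∈ Q, ∀ y ∈ Q, x * y = y * x := by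
    intro Q hQ x hx y hy
    obtain ⟨P, hP⟩ := hQ.exists_le_sylow
    have := (hab P).is_comm.comm (⟨x, hP hx⟩ : (P : Subgroup G)) ⟨y, hP hy⟩
    exact congrArg Subtype.val this
  have habN : ∀ Q : Subgroup N', IsPGroup 2 Q → ∀ x ∈ Q, ∀ y ∈ Q, x * y = y * x := by
    intro Q hQ x hx y hy
    exact Subtype.ext (habQ (Q.map N'.subtype) (hQ.map _) _ ⟨x, hx, rfl⟩ _ ⟨y, hy, rfl⟩)
  -- a Sylow subgroup containing `t`
  have htp : IsPGroup 2 (zpowers t) := IsPGroup.of_card (n := 1) (by rw [Nat.card_zpowers, ht]; norm_num)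
  obtain ⟨S, hS⟩ := htp.exists_le_sylow
  have htS : t ∈ (S : Subgroup G) := hS (mem_zpowers t)
  have hScom : ∀ x ∈ (S : Subgroup G), ∀ y ∈ (S : Subgroup G), x * y = y * x := habQ S S.2
  set C : Subgroup G := centralizer ({t} : Set G) with hC
  have hSC : (S : Subgroup G) ≤ C := by
    intro x hx
    rw [hC, mem_centralizer_singleton_iff]
    first | exact hScom x hx t htS | exact hScom t htS x hx
  have hNC : N' ≤ C := hN'E.trans hE2
  have hEN : E ≤ normalizer (N' : Set G) := by
    intro e he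
    rw [mem_normalizer_iff]
    intro x
    constructor
    · rintro ⟨y, hy, rfl⟩
      exact ⟨⟨e, he⟩ * y * ⟨e, he⟩⁻¹, Normal.conj_mem inferInstance y hy _, rfl⟩
    · rintro ⟨y, hy, hyx⟩
      refine ⟨⟨e, he⟩⁻¹ * y * ⟨e, he⟩, ?_, ?_⟩
      · have := Normal.conj_mem (inferInstance : N.Normal) y hy (⟨e, he⟩⁻¹)
        rwa [inv_inv] at this
      · have hyx' : (y : G) = e * x * e⁻¹ := hyx
        show e⁻¹ * (y : G) * e = x
        rw [hyx']; group
  have htN : t ∈ normalizer (N' : Set G) := by
    rw [mem_normalizer_iff]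
    intro x
    constructor
    · intro hx
      rw [htE x (hN'E hx), mul_inv_cancel_right]; exact hx
    · intro hx
      have h1 := htE _ (hN'E hx)
      have h2 : t * x * t⁻¹ = x := by
        have h3 : t * (t * x * t⁻¹) * t⁻¹ = t * x * t⁻¹ := by rw [h1]; group
        have h4 : t * x * t⁻¹ = t⁻¹ * (t * (t * x * t⁻¹) * t⁻¹) * t := by group
        rw [h3] at h4
        rw [h4]; group
      rwa [h2] at hx
  have hCN : C ≤ normalizer (N' : Set G) := by
    rw [← hE5, sup_le_iff]
    exact ⟨by rw [zpowers_le]; exact htN, hEN⟩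
  obtain ⟨P₁, hP₁⟩ := exists_sylow_inf (p := 2) hNC hCN (S.subtype hSC)
  have hSmap : ((S.subtype hSC : Sylow 2 C) : Subgroup C).map C.subtype = (S : Subgroup G) := by
    rw [Sylow.coe_subtype, subgroupOf_map_subtype, inf_eq_left.mpr hSC]
  rw [hSmap] at hP₁
  have hP₁4 : Nat.card (P₁ : Subgroup N') = 4 := sylow_psl_card h2F eN' habN P₁
  -- the decomposition of elements of `S`
  have hSE : ∀ e ∈ (S : Subgroup G), e ∈ E → e ∈ N' := by
    intro e heS heE
    have hZN : center N' = ⊥ := center_bot hncN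
    have h2N : 2 ∣ Nat.card N' := by
      have : (P₁ : Subgroup N').index * Nat.card (P₁ : Subgroup N') = Nat.card N' := index_mul_card _
      rw [← this, hP₁4]
      exact Dvd.dvd.mul_left (by norm_num) _
    have hcN : pPrimeCore 2 N' = ⊥ := core_bot h2N
    have heN := hEN heE
    set φ : MulAut N' := N'.normalizerMonoidHom ⟨e, heN⟩ with hφ
    have hφv : ∀ x : N', ((φ x : N') : G) = e * x * e⁻¹ := fun x => rfl
    obtain ⟨k, hk⟩ := S.2 ⟨e, heS⟩
    have hk' : e ^ 2 ^ k = 1 := congrArg Subtype.val hk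
    have hφk : φ ^ 2 ^ k = 1 := by
      rw [hφ, ← map_pow]
      have : (⟨e, heN⟩ : normalizer (N' : Set G)) ^ 2 ^ k = 1 := Subtype.ext hk'
      rw [this, map_one]
    obtain ⟨j, -, hj⟩ := (Nat.dvd_prime_pow Nat.prime_two).mp (orderOf_dvd_of_pow_eq_one hφk)
    have hPc : IsMulCommutative (P₁ : Subgroup N') :=
      ⟨⟨fun a b => Subtype.ext (habN P₁ P₁.2 a a.2 b b.2)⟩⟩
    obtain ⟨g, hg⟩ := Cfsg.Agent.S4593.result hZN hcN P₁ hPc φ ⟨j, hj⟩ (by
      intro x hx
      apply Subtype.ext
      rw [hφv]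
      have h1 : (x : G) ∈ (S : Subgroup G) ⊓ N' := by
        rw [← hP₁]; exact ⟨x, hx, rfl⟩
      rw [hScom e heS x h1.1, mul_inv_cancel_right])
    have h1 : (⟨(g : G)⁻¹ * e, mul_mem (inv_mem (hN'E g.2)) heE⟩ : E) ∈ centralizer (N : Set E) := by
      rw [mem_centralizer_iff]
      intro x hx
      apply Subtype.ext
      show (x : G) * ((g : G)⁻¹ * e) = (g : G)⁻¹ * e * x
      have h2 := congrArg Subtype.val (hg ⟨(x : G), ⟨x, hx, rfl⟩⟩)
      have h3 : e * (x : G) * e⁻¹ = (g : G) * (x : G) * (g : G)⁻¹ := h2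
      have h4 : e * (x : G) = (g : G) * (x : G) * (g : G)⁻¹ * e := by rw [← h3]; group
      rw [mul_assoc (g : G)⁻¹ e, h4]; group
    rw [hNc, mem_bot] at h1
    have h2 : (g : G)⁻¹ * e = 1 := congrArg Subtype.val h1
    have h3 : e = g := by rw [← mul_one (g : G), ← h2]; group
    rw [h3]; exact g.2
  have hdec : ∀ s ∈ (S : Subgroup G), ∃ a ∈ zpowers t, ∃ e ∈ (S : Subgroup G), e ∈ N' ∧ s = a * e := by
    intro s hs
    have h1 : s ∈ C := hSC hs
    rw [← hE5] at h1
    have htnE : zpowers t ≤ normalizer (E : Set G) := by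
      rw [zpowers_le, mem_normalizer_iff]
      intro x
      constructor
      · intro hx
        rw [htE x hx, mul_inv_cancel_right]; exact hx
      · intro hx
        have h3 := htE _ hx
        have h4 : x = t⁻¹ * (t * (t * x * t⁻¹)) * t⁻¹ * t := by rw [h3]; group
        have h5 : t * x * t⁻¹ = x := by
          rw [← mul_assoc] at h3
          have h6 : t * (t * x * t⁻¹) * t⁻¹ = t * x * t⁻¹ := by
            rw [← mul_assoc]; rw [h3]; group
          have h7 : t * x * t⁻¹ = t⁻¹ * (t * (t * x * t⁻¹) * t⁻¹) * t := by group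
          rw [h7, h6]; group
        rwa [h5] at hx
    obtain ⟨a, ha, e, he, hae⟩ := (H47.mem_sup_of_le_normalizer htnE).mp h1
    have haS : a ∈ (S : Subgroup G) := hS ha
    have heS : e ∈ (S : Subgroup G) := by
      have : e = a⁻¹ * s := by rw [← hae]; group
      rw [this]; exact mul_mem (inv_mem haS) hs
    exact ⟨a, ha, e, heS, hSE e heS he, hae.symm⟩
  -- `t` is not fixed by the normalizer of `S`
  have hnf : ∃ n ∈ normalizer ((S : Subgroup G) : Set G), n * t * n⁻¹ ≠ t := by
    by_contra hcon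
    push Not at hcon
    apply ht1
    have h1 : t ∈ center G := by
      rw [mem_center_iff]
      intro g
      have h2 := abelian_sylow_zstar S (hab S) htS hcon g
      rw [hcore, mem_bot, mul_inv_eq_one, mul_inv_eq_iff_eq_mul] at h2
      exact h2
    rw [hZ, mem_bot] at h1; exact h1
  obtain ⟨n, hn, hnt⟩ := hnf
  have hntS : n * t * n⁻¹ ∈ (S : Subgroup G) := (mem_normalizer_iff.mp hn t).mp htS
  obtain ⟨a₀, ha₀, v, hvS, hvN, hav⟩ := hdec _ hntS
  have hza : ∀ a ∈ zpowers t, a = 1 ∨ a = t := by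
    intro a ha
    obtain ⟨k, rfl⟩ := mem_zpowers_iff.mp ha
    have h2 : t ^ (2 : ℤ) = 1 := by
      have := pow_orderOf_eq_one t
      rw [ht] at this
      exact_mod_cast this
    rcases Int.even_or_odd' k with ⟨m, rfl | rfl⟩
    · left; rw [zpow_mul, h2, one_zpow]
    · right; rw [zpow_add, zpow_mul, h2, one_zpow, one_mul, zpow_one]
  have hv1 : v ≠ 1 := by
    intro hv
    rw [hv, mul_one] at hav
    rcases hza a₀ ha₀ with h | h
    · rw [h, mul_inv_eq_one] at hav
      apply ht1
      exact mul_eq_left.mp hav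
    · exact hnt (hav.trans h)
  intro L _ _ Z _ hL hZc hZ2 ⟨eL⟩
  set π : L →* G := eL.toMonoidHom.comp (QuotientGroup.mk' Z) with hπ
  have hπs : Function.Surjective π := eL.surjective.comp (QuotientGroup.mk'_surjective Z)
  have hπk : π.ker = Z := by
    ext x
    rw [MonoidHom.mem_ker]
    show eL (QuotientGroup.mk' Z x) = 1 ↔ x ∈ Z
    rw [MulEquiv.map_eq_one_iff]
    exact QuotientGroup.eq_one_iff x
  have hker : π.ker ≤ center L := by rw [hπk]; exact hZc
  have hNN : (⁅N', N'⁆ : Subgroup G) = N' := by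
    rw [← map_subtype_commutator, derived_top hncN, ← MonoidHom.range_eq_map, range_subtype]
  -- lifts of t commute with lifts of elements of S
  have hcen : ∀ z, π z = 1 → ∀ y, z * y = y * z := by
    intro z hz y
    exact (mem_center_iff.mp (hker hz) y).symm
  have hct : ∀ a x : L, π a ∈ zpowers t → π x ∈ (S : Subgroup G) → a * x = x * a := by
    intro a x ha hx
    -- a lift of t
    have key : ∀ b y : L, π b = t → π y ∈ N' → b * y = y * b := by
      intro b y hb hy
      apply lift_commute π hπs hker N' hNN _ hy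
      intro w hw
      rw [hb]; exact htE w (hN'E hw)
    have key2 : ∀ b y : L, π b = t → π y = t → b * y = y * b := by
      intro b y hb hy
      have h1 := hcen (b * y⁻¹) (by rw [map_mul, map_inv, hb, hy, mul_inv_cancel]) y
      have h2 : b = b * y⁻¹ * y := by group
      calc b * y = (b * y⁻¹ * y) * y := by rw [← h2]
        _ = (y * (b * y⁻¹)) * y := by rw [h1]
        _ = y * b := by group
    have key3 : ∀ b y : L, π b = t → π y ∈ (S : Subgroup G) → b * y = y * b := by
      intro b y hb hy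
      obtain ⟨c, hc, e, heS, heN, hce⟩ := hdec _ hy
      obtain ⟨e', he'⟩ := hπs e
      have h1 : b * e' = e' * b := key b e' hb (by rw [he']; exact heN)
      have h2 : π (y * e'⁻¹) = c := by rw [map_mul, map_inv, he', hce]; group
      have h3 : b * (y * e'⁻¹) = (y * e'⁻¹) * b := by
        rcases hza c hc with h | h
        · exact (hcen _ (h2.trans h) b).symm
        · exact key2 b _ hb (h2.trans h)
      calc b * y = (b * (y * e'⁻¹)) * e' := by group
        _ = (y * e'⁻¹) * (b * e') := by rw [h3]; group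
        _ = y * b := by rw [h1]; group
    rcases hza _ ha with h | h
    · exact hcen a h x
    · exact key3 a x h hx
  -- lifts of v commute with lifts of elements of S
  have hcv : ∀ a x : L, π a = v → π x ∈ (S : Subgroup G) → a * x = x * a := by
    intro a x ha hx
    obtain ⟨n', hn'⟩ := hπs n
    -- lifts of `n t n⁻¹`
    have h1 : ∀ b : L, π b = n * t * n⁻¹ → b * x = x * b := by
      intro b hb
      have h2 := hct (n'⁻¹ * b * n') (n'⁻¹ * x * n') (by
        rw [map_mul, map_mul, map_inv, hn', hb]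
        have : n⁻¹ * (n * t * n⁻¹) * n = t := by group
        rw [this]; exact mem_zpowers t) (by
        rw [map_mul, map_mul, map_inv, hn']
        have := (mem_normalizer_iff.mp (inv_mem hn) (π x)).mp hx
        rwa [inv_inv] at this)
      calc b * x = n' * ((n'⁻¹ * b * n') * (n'⁻¹ * x * n')) * n'⁻¹ := by group
        _ = n' * ((n'⁻¹ * x * n') * (n'⁻¹ * b * n')) * n'⁻¹ := by rw [h2]
        _ = x * b := by group
    obtain ⟨b, hb⟩ := hπs a₀
    have h2 := h1 (b * a) (by rw [map_mul, hb, ha, hav])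
    have h3 := hct b x (by rw [hb]; exact ha₀) hx
    calc a * x = b⁻¹ * ((b * a) * x) := by group
      _ = b⁻¹ * (x * b) * a := by rw [h2]; group
      _ = b⁻¹ * (b * x) * a := by rw [h3]
      _ = x * a := by group
  -- lifts of elements of the Klein four-group commute
  have hcV : ∀ x y : L, π x ∈ (S : Subgroup G) → π x ∈ N' → π y ∈ (S : Subgroup G) → π y ∈ N' →
      x * y = y * x := by
    intro x y hxS hxN hyS hyN
    set Q : Subgroup (P₁ : Subgroup N') :=
      { carrier := {s | ∀ a w : L, π a = ((s : N') : G) → π w ∈ (S : Subgroup G) → a * w = w * a}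
        one_mem' := by
          intro a w ha _
          exact hcen a ha w
        mul_mem' := by
          intro s r hs hr a w ha hw
          obtain ⟨b, hb⟩ := hπs ((s : N') : G)
          have h1 := hs b w hb hw
          have h2 := hr (b⁻¹ * a) w (by
            rw [map_mul, map_inv, hb, ha]
            show (((s : N') : G))⁻¹ * (((s : N') : G) * ((r : N') : G)) = ((r : N') : G)
            group) hw
          calc a * w = b * ((b⁻¹ * a) * w) := by group
            _ = (b * w) * (b⁻¹ * a) := by rw [h2]; group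
            _ = w * a := by rw [h1]; group
        inv_mem' := by
          intro s hs a w ha hw
          have h1 := hs a⁻¹ w (by
            rw [map_inv, ha]
            show ((((s : N') : G))⁻¹)⁻¹ = _
            rw [inv_inv]) hw
          calc a * w = a * (w * a⁻¹) * a := by group
            _ = a * (a⁻¹ * w) * a := by rw [h1]
            _ = w * a := by group } with hQ
    have hmemP : ∀ u : G, u ∈ (S : Subgroup G) → ∀ hu : u ∈ N', (⟨u, hu⟩ : N') ∈ (P₁ : Subgroup N') := by
      intro u huS huN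
      have h1 : u ∈ (P₁ : Subgroup N').map N'.subtype := by rw [hP₁]; exact ⟨huS, huN⟩
      obtain ⟨w, hw, hwu⟩ := h1
      have : (⟨u, huN⟩ : N') = w := Subtype.ext hwu.symm
      rw [this]; exact hw
    have hQc : Nat.card Q * Q.index = 4 := by rw [card_mul_index, hP₁4]
    have hvQ : (⟨⟨v, hvN⟩, hmemP v hvS hvN⟩ : (P₁ : Subgroup N')) ∈ Q := by
      intro a w ha hw
      exact hcv a w ha hw
    have hQ1 : Nat.card Q ≠ 1 := by
      intro h
      rw [Subgroup.card_eq_one] at h
      rw [h, mem_bot] at hvQ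
      exact hv1 (congrArg (fun s : (P₁ : Subgroup N') => ((s : N') : G)) hvQ)
    have hQi : Q.index = 1 ∨ Q.index = 2 := by
      have h1 : Q.index ∣ 4 := Dvd.intro_left _ hQc
      have h2 : Q.index ≤ 4 := Nat.le_of_dvd (by norm_num) h1
      interval_cases h : Q.index
      · omega
      · left; rfl
      · right; rfl
      · omega
      · omega
    have hQm : ∀ s : (P₁ : Subgroup N'), s ∈ Q → ∀ a w : L, π a = ((s : N') : G) →
        π w ∈ (S : Subgroup G) → a * w = w * a := fun s hs => hs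
    by_cases hxQ : (⟨⟨π x, hxN⟩, hmemP _ hxS hxN⟩ : (P₁ : Subgroup N')) ∈ Q
    · exact hQm _ hxQ x y rfl hyS
    by_cases hyQ : (⟨⟨π y, hyN⟩, hmemP _ hyS hyN⟩ : (P₁ : Subgroup N')) ∈ Q
    · exact (hQm _ hyQ y x rfl hxS).symm
    rcases hQi with h | h
    · rw [index_eq_one] at h
      exact absurd (by rw [h]; exact mem_top _) hxQ
    · have h1 := (mul_mem_iff_of_index_two h).mpr (iff_of_false hxQ hyQ)
      have h2 := hQm _ h1 (x * y) y (by rw [map_mul]; rfl) hyS
      have h3 : x * y * y = y * x * y := by rw [h2]; group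
      exact mul_right_cancel h3
  have hfin : ∀ x ∈ (S : Subgroup G).comap π, ∀ y ∈ (S : Subgroup G).comap π, x * y = y * x := by
    intro x hx y hy
    obtain ⟨a, ha, e, heS, heN, hae⟩ := hdec _ hx
    obtain ⟨b, hb, f, hfS, hfN, hbf⟩ := hdec _ hy
    obtain ⟨a', ha'⟩ := hπs a
    obtain ⟨b', hb'⟩ := hπs b
    have e1 : π (a'⁻¹ * x) = e := by rw [map_mul, map_inv, ha', hae]; group
    have f1 : π (b'⁻¹ * y) = f := by rw [map_mul, map_inv, hb', hbf]; group
    have h1 := hcV (a'⁻¹ * x) (b'⁻¹ * y) (by rw [e1]; exact heS) (by rw [e1]; exact heN)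
      (by rw [f1]; exact hfS) (by rw [f1]; exact hfN)
    have h2 := hct a' y (by rw [ha']; exact ha) hy
    have h3 := hct b' (a'⁻¹ * x) (by rw [hb']; exact hb) (by rw [e1]; exact heS)
    calc x * y = a' * ((a'⁻¹ * x) * b' * (b'⁻¹ * y)) := by group
      _ = a' * (b' * (a'⁻¹ * x) * (b'⁻¹ * y)) := by rw [h3]
      _ = a' * b' * ((a'⁻¹ * x) * (b'⁻¹ * y)) := by group
      _ = a' * b' * ((b'⁻¹ * y) * (a'⁻¹ * x)) := by rw [h1]
      _ = (a' * y) * (a'⁻¹ * x) := by group
      _ = y * x := by rw [h2]; group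
  rw [eq_bot_iff]
  intro z hz
  have h1 := transfer_central hL ((S : Subgroup G).comap π) hfin (hZc hz)
  rw [index_comap_of_surjective _ hπs] at h1
  obtain ⟨k, hk⟩ := hZ2 ⟨z, hz⟩
  have hk' : z ^ 2 ^ k = 1 := congrArg Subtype.val hk
  have h3 := orderOf_dvd_of_pow_eq_one h1
  have h4 := orderOf_dvd_of_pow_eq_one hk'
  have h5 : Nat.Coprime (2 ^ k) (S : Subgroup G).index :=
    Nat.Coprime.pow_left _ ((Nat.Prime.coprime_iff_not_dvd Nat.prime_two).mpr S.not_dvd_index)
  rw [mem_bot, ← orderOf_eq_one_iff]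
  exact Nat.eq_one_of_dvd_coprimes h5 h4 h3

end Cfsg.Agent.S3206
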