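import Cfsg.Statements.S3222
import Cfsg.Agent.DihSyl.SixFin
import Cfsg.Agent.H72.SmallSolvable
import Cfsg.Agent.S0848
import Cfsg.Agent.S0497

set_option autoImplicit false
open Cfsg

namespace Cfsg.Agent.S3222

/-- Let G be a finite group of even order such that (1) some involution t lying in the centre of a Sylow 2-subgroup of G has C_G(t) ≅ Z₂ × S₄, and (2) every Sylow 2-subgroup S of G satisfies C_G(S′) = S, where S′ is the derived subgroup of S. Then G = C_G(t) if G is solvable, and G ≅ S₆ otherwise. -/
theorem result {G : Type*} [Group G] [Finite G] (hev : Even (Nat.card G))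
    (t : G) (ht : orderOf t = 2) (T : Sylow 2 G) (htT : t ∈ (T : Subgroup G)) (htc : ∀ s ∈ (T : Subgroup G), s * t = t * s)
    (e : ↥(Subgroup.centralizer ({t} : Set G)) ≃* (Multiplicative (ZMod 2) × Equiv.Perm (Fin 4)))
    (h2 : ∀ S : Sylow 2 G, Subgroup.centralizer ((⁅(S : Subgroup G), (S : Subgroup G)⁆ : Subgroup G) : Set G) = (S : Subgroup G)) :
    (Group.IsSolvable G → Subgroup.centralizer ({t} : Set G) = ⊤) ∧
      (¬ Group.IsSolvable G → Nonempty (G ≃* Equiv.Perm (Fin 6))) := by
  have hmain := DihSyl.Six.main (fun N z h1 h2 h3 => Cfsg.Agent.S0848.result h1 z h2 h3.some)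
    (fun N hs h1 => Cfsg.Agent.S0497.result h1) ht T htc e h2
  have hsC : Group.IsSolvable (Subgroup.centralizer ({t} : Set G)) := by
    have : Group.IsSolvable (Equiv.Perm (Fin 4)) := H72.isSolvable_perm_fin_four
    exact Group.isSolvable_of_isSolvable_injective (f := e.toMonoidHom) e.injective
  constructor
  · intro hs
    rcases hmain with h1 | ⟨⟨e6⟩⟩
    · exact h1
    · exfalso
      apply Equiv.Perm.not_isSolvable (Fin 6) (by rw [Cardinal.mk_fin]; norm_cast)
      exact Group.isSolvable_of_isSolvable_injective (f := e6.symm.toMonoidHom) e6.symm.injective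
  · intro hs
    rcases hmain with h1 | h1
    · exfalso
      apply hs
      rw [h1] at hsC
      exact Group.isSolvable_of_isSolvable_injective
        (f := (Subgroup.topEquiv (G := G)).symm.toMonoidHom) (Subgroup.topEquiv (G := G)).symm.injective
    · exact h1

end Cfsg.Agent.S3222
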