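import Cfsg.Statements.S3252
import Cfsg.Agent.H73.CZR4

set_option autoImplicit false
open Cfsg

namespace Cfsg.Agent.S3252

/-- Let G be a finite non-solvable group that is the product G = AB of a cyclic subgroup A and a subgroup B all of whose Sylow subgroups are cyclic. Then the quotient of G by its largest solvable normal subgroup is isomorphic to PGL₂(p) for some prime p > 3. -/
theorem result {G : Type*} [Group G] [Finite G] (hG : ¬ Group.IsSolvable G)
    (A B : Subgroup G) (hA : IsCyclic ↥A) (hB : ∀ (q : ℕ) [Fact q.Prime] (Q : Sylow q ↥B), IsCyclic ↥(Q : Subgroup ↥B))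
    (hAB : ∀ g : G, ∃ a ∈ A, ∃ b ∈ B, g = a * b)
    (R : Subgroup G) [hR : R.Normal] (hRs : Group.IsSolvable ↥R) (hRmax : ∀ N : Subgroup G, N.Normal → Group.IsSolvable ↥N → N ≤ R) :
    ∃ (F : Type) (_ : Field F) (_ : Fintype F) (p : ℕ), p.Prime ∧ 3 < p ∧ Fintype.card F = p ∧
      Nonempty ((G ⧸ R) ≃* (GL (Fin 2) F ⧸ Subgroup.center (GL (Fin 2) F))) := by
  classical
  have hRtop : R ≠ ⊤ := by
    rintro rfl
    exact hG (Group.isSolvable_of_surjective (f := (⊤ : Subgroup G).subtype)
      (fun x => ⟨⟨x, trivial⟩, rfl⟩))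
  have hBz : IsZGroup ↥B := ⟨fun p hp P => by
    haveI : Fact p.Prime := ⟨hp⟩
    exact hB p P⟩
  have hcard : 1 < Nat.card (G ⧸ R) := by
    have h2 : R.index ≠ 1 := by
      intro h3
      exact hRtop (Subgroup.index_eq_one.1 h3)
    have h3 : R.index ≠ 0 := Subgroup.index_ne_zero_of_finite
    have h4 : Nat.card (G ⧸ R) = R.index := rfl
    omega
  have hrad : Cfsg.solvableRadical (G ⧸ R) = ⊥ := by
    rw [eq_bot_iff]
    refine sSup_le ?_
    rintro N ⟨hN, hNs⟩
    have hNc : (N.comap (QuotientGroup.mk' R)).Normal := hN.comap _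
    have hs : Group.IsSolvable ↥(N.comap (QuotientGroup.mk' R)) := by
      let f : ↥(N.comap (QuotientGroup.mk' R)) →* ↥N :=
        { toFun := fun x => ⟨QuotientGroup.mk' R (x : G), x.2⟩
          map_one' := Subtype.ext (map_one _)
          map_mul' := fun x y => Subtype.ext (map_mul (QuotientGroup.mk' R) (x : G) (y : G)) }
      have hRle : R ≤ N.comap (QuotientGroup.mk' R) := by
        intro x hx
        show QuotientGroup.mk' R x ∈ N
        have : QuotientGroup.mk' R x = 1 := (QuotientGroup.eq_one_iff x).2 hx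
        rw [this]
        exact one_mem N
      refine Group.isSolvable_of_ker_le_range (f := Subgroup.inclusion hRle) (g := f) ?_
      intro x hx
      have h1 : f x = 1 := hx
      have h2 : (QuotientGroup.mk' R (x : G)) = 1 := congrArg Subtype.val h1
      have h3 : (x : G) ∈ R := (QuotientGroup.eq_one_iff (x : G)).1 h2
      exact ⟨⟨x, h3⟩, Subtype.ext rfl⟩
    have hle := hRmax _ hNc hs
    intro x hx
    obtain ⟨g, rfl⟩ := QuotientGroup.mk'_surjective R x
    rw [Subgroup.mem_bot]
    exact (QuotientGroup.eq_one_iff g).2 (hle hx)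
  have hAq : IsCyclic ↥(A.map (QuotientGroup.mk' R)) := by
    haveI := hA
    exact isCyclic_of_surjective ((QuotientGroup.mk' R).subgroupMap A)
      ((QuotientGroup.mk' R).subgroupMap_surjective _)
  have hBq : IsZGroup ↥(B.map (QuotientGroup.mk' R)) := by
    haveI := hBz
    exact IsZGroup.of_surjective (f := (QuotientGroup.mk' R).subgroupMap B)
      ((QuotientGroup.mk' R).subgroupMap_surjective _)
  obtain ⟨F, i1, i2, hp, h3, ⟨e⟩⟩ := Cfsg.Agent.H73.CZ.claim (Nat.card (G ⧸ R)) (G ⧸ R)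
    (A.map (QuotientGroup.mk' R)) (B.map (QuotientGroup.mk' R)) rfl hAq hBq
    (by
      intro g
      obtain ⟨g, rfl⟩ := QuotientGroup.mk'_surjective R g
      obtain ⟨a, ha, b, hb, rfl⟩ := hAB g
      exact ⟨_, ⟨a, ha, rfl⟩, _, ⟨b, hb, rfl⟩, map_mul _ _ _⟩) hrad hcard
  exact ⟨F, i1, i2, Fintype.card F, hp, h3, rfl, ⟨e⟩⟩

end Cfsg.Agent.S3252
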