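import Cfsg.Statements.S3322
import Cfsg.Agent.GWP.AsCen
import Cfsg.Agent.GWP.AsT
import Cfsg.Agent.H40.EvenL

set_option autoImplicit false
open Cfsg

namespace Cfsg.Agent.S3322

/-- Call a group a D-group when it has a proper subgroup outside of which every element x satisfies x² = 1 (for instance a dihedral group, or an elementary abelian 2-group). Let G be a finite group with a subgroup H that is a D-group (witnessed by a proper subgroup A of H) of order divisible by 4, such that H = C_G(j) for every involution j in the centre of H. If G is not solvable, then G has a normal subgroup N whose order is odd or twice an odd number with G/N isomorphic to PSL(2, q) or PGL(2, q) for some prime power q > 3 (q may be even). -/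
theorem result
    {G : Type*} [Group G] [Finite G] (H A : Subgroup G) (hAH : A < H) (hD : ∀ x ∈ H, x ∉ A → x ^ 2 = 1)
    (h4 : 4 ∣ Nat.card ↥H)
    (hC : ∀ j ∈ H, orderOf j = 2 → (∀ h ∈ H, h * j = j * h) → Subgroup.centralizer ({j} : Set G) = H)
    (hns : ¬ Group.IsSolvable G) :
    ∃ (N : Subgroup G) (_ : N.Normal), (Odd (Nat.card ↥N) ∨ ∃ m : ℕ, Odd m ∧ Nat.card ↥N = 2 * m) ∧
      ∃ (F : Type) (_ : Field F) (_ : Fintype F), 3 < Fintype.card F ∧
        (Nonempty (G ⧸ N ≃* Matrix.ProjectiveSpecialLinearGroup (Fin 2) F) ∨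
          Nonempty (G ⧸ N ≃* Matrix.ProjGenLinGroup (Fin 2) F)) := by
  classical
  haveI : Fact (Nat.Prime 2) := ⟨Nat.prime_two⟩
  obtain ⟨hAH', hne⟩ := lt_iff_le_and_ne.1 hAH
  obtain ⟨x, hxH, hxA⟩ := SetLike.exists_of_lt hAH
  have hinv : ∀ y ∈ H, y ∉ A → ∀ a ∈ A, y * a * y⁻¹ = a⁻¹ := by
    intro y hyH hyA a ha
    have h1 : y * a ∉ A := fun h => hyA (by
      have := A.mul_mem h (A.inv_mem ha)
      rwa [mul_inv_cancel_right] at this)
    have h2 := hD (y * a) (H.mul_mem hyH (hAH' ha)) h1
    have h3 := hD y hyH hyA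
    rw [pow_two] at h2 h3
    have h4 : y⁻¹ = y := inv_eq_of_mul_eq_one_left h3
    rw [h4]
    apply eq_inv_of_mul_eq_one_left
    rw [← h2]; group
  have hsq : ∀ y ∈ H, y ∉ A → y * y = 1 := by
    intro y hyH hyA
    have := hD y hyH hyA
    rwa [pow_two] at this
  have xx : x * x = 1 := hsq x hxH hxA
  have hab : ∀ a ∈ A, ∀ b ∈ A, a * b = b * a := by
    intro a ha b hb
    have h1 := hinv x hxH hxA a ha
    have h2 := hinv x hxH hxA b hb
    have h3 := hinv x hxH hxA (a * b) (A.mul_mem ha hb)
    have h4 : x * (a * b) * x⁻¹ = a⁻¹ * b⁻¹ := by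
      rw [← h1, ← h2]; group
    rw [h4] at h3
    have h5 := congrArg (·⁻¹) h3
    simp only [mul_inv_rev, inv_inv] at h5
    exact h5.symm
  by_cases hel : ∀ h ∈ H, h * h = 1
  · -- elementary abelian
    have hHab : ∀ a ∈ H, ∀ b ∈ H, a * b = b * a := by
      intro a ha b hb
      have e1 : a⁻¹ = a := inv_eq_of_mul_eq_one_left (hel a ha)
      have e2 : b⁻¹ = b := inv_eq_of_mul_eq_one_left (hel b hb)
      have e3 : (a * b)⁻¹ = a * b := inv_eq_of_mul_eq_one_left (hel _ (H.mul_mem ha hb))
      rw [mul_inv_rev, e1, e2] at e3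
      exact e3.symm
    have hC' : ∀ e ∈ H, e ≠ 1 → e * e = 1 → ∀ g : G, g * e = e * g → g ∈ H := by
      intro e he he1 he2 g hg
      have h1 := hC e he (orderOf_eq_prime (by rw [pow_two]; exact he2) he1) (fun h hh => hHab h hh e he)
      rw [← h1, Subgroup.mem_centralizer_singleton_iff]
      exact hg
    -- two involutions
    have hx1 : x ≠ 1 := fun h => hxA (by rw [h]; exact A.one_mem)
    obtain ⟨e, heH, he1, hex⟩ : ∃ e ∈ H, e ≠ 1 ∧ e ≠ x := by
      by_contra hcon
      push Not at hcon
      have h1 : H ≤ Subgroup.zpowers x := by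
        intro y hy
        by_cases hy1 : y = 1
        · rw [hy1]; exact one_mem _
        · rw [hcon y hy hy1]; exact Subgroup.mem_zpowers x
      have h2 : Nat.card H ∣ Nat.card (Subgroup.zpowers x) := Subgroup.card_dvd_of_le h1
      have h3 : orderOf x = 2 := orderOf_eq_prime (by rw [pow_two]; exact xx) hx1
      rw [Nat.card_zpowers, h3] at h2
      have h5 := h4.trans h2
      exact absurd (Nat.le_of_dvd (by norm_num) h5) (by norm_num)
    obtain ⟨F, i1, i2, -, h4F, hF⟩ := H40.EvenL.main H hHab hC' heH he1 (hel e heH) hxH hx1 xx hex hns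
    exact ⟨Cfsg.pPrimeCore 2 G, inferInstance, Or.inl GWP.odd_core, F, i1, i2, by omega, Or.inl hF⟩
  push Not at hel
  obtain ⟨a₀, ha₀H, ha₀⟩ := hel
  have ha₀A : a₀ ∈ A := by
    by_contra h
    exact ha₀ (hsq a₀ ha₀H h)
  have hmul : ∀ g ∈ H, g ∈ A ∨ g * x ∈ A := by
    intro g hg
    by_contra hcon
    push Not at hcon
    obtain ⟨h1, h2⟩ := hcon
    have e1 := hinv g hg h1 a₀⁻¹ (A.inv_mem ha₀A)
    have e2 := hinv x hxH hxA a₀ ha₀A
    have e3 := hinv (g * x) (H.mul_mem hg hxH) h2 a₀ ha₀A
    have e4 : g * x * a₀ * (g * x)⁻¹ = g * (x * a₀ * x⁻¹) * g⁻¹ := by group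
    rw [e4, e2, e1, inv_inv] at e3
    apply ha₀
    nth_rw 1 [e3]
    exact inv_mul_cancel a₀
  have hct : ∀ e ∈ A, e ≠ 1 → e * e = 1 → ∀ g : G, g * e = e * g → g ∈ A ∨ g * x ∈ A := by
    intro e he he1 he2 g hg
    apply hmul
    have hei : e⁻¹ = e := inv_eq_of_mul_eq_one_left he2
    have h1 := hC e (hAH' he) (orderOf_eq_prime (by rw [pow_two]; exact he2) he1) (by
      intro h hh
      by_cases hhA : h ∈ A
      · exact hab h hhA e he
      · have h2 := hinv h hh hhA e he
        rw [hei] at h2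
        exact mul_inv_eq_iff_eq_mul.1 h2)
    rw [← h1, Subgroup.mem_centralizer_singleton_iff]
    exact hg
  -- an involution of `A`
  obtain ⟨e, heA, he1, he2⟩ : ∃ e ∈ A, e ≠ 1 ∧ e * e = 1 := by
    have hle : Nat.card H ≤ 2 * Nat.card A := by
      have hf : Function.Injective (fun h : H => if hh : (h : G) ∈ A then (Sum.inl ⟨h, hh⟩ : A ⊕ A)
          else Sum.inr ⟨h * x, (hmul h h.2).resolve_left hh⟩) := by
        intro h h' hhh
        by_cases e1 : (h : G) ∈ A
        · by_cases e2 : (h' : G) ∈ A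
          · simp only [e1, e2, dif_pos, Sum.inl.injEq, Subtype.mk.injEq] at hhh
            exact Subtype.ext hhh
          · simp [e1, e2] at hhh
        · by_cases e2 : (h' : G) ∈ A
          · simp [e1, e2] at hhh
          · simp only [e1, e2, dif_neg, not_false_eq_true, Sum.inr.injEq, Subtype.mk.injEq, mul_left_inj] at hhh
            exact Subtype.ext hhh
      have h1 := Nat.card_le_card_of_injective _ hf
      rw [Nat.card_sum] at h1
      omega
    have hdvd : Nat.card A ∣ Nat.card H := Subgroup.card_dvd_of_le hAH'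
    have hlt : Nat.card A < Nat.card H := by
      apply lt_of_le_of_ne (Nat.le_of_dvd Nat.card_pos hdvd)
      intro h
      exact hne (Subgroup.eq_of_le_of_card_ge hAH' h.ge)
    obtain ⟨k, hk⟩ := hdvd
    have hApos : 0 < Nat.card A := Nat.card_pos
    have hk2 : k = 2 := by
      have h1 : k ≤ 2 := by
        by_contra hcon
        push Not at hcon
        have : Nat.card A * 3 ≤ Nat.card A * k := Nat.mul_le_mul_left _ hcon
        omega
      have h2 : 1 < k := by
        by_contra hcon
        push Not at hcon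
        have : Nat.card A * k ≤ Nat.card A * 1 := Nat.mul_le_mul_left _ hcon
        omega
      omega
    rw [hk2] at hk
    have h2A : 2 ∣ Nat.card A := by
      obtain ⟨l, hl⟩ := h4
      exact ⟨l, by omega⟩
    obtain ⟨t, ht⟩ := exists_prime_orderOf_dvd_card' 2 h2A
    refine ⟨t, t.2, ?_, ?_⟩
    · intro h
      have : t = 1 := Subtype.ext h
      rw [this, orderOf_one] at ht
      exact absurd ht (by norm_num)
    · have h1 := pow_orderOf_eq_one t
      rw [ht, pow_two] at h1
      exact congrArg Subtype.val h1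
  by_cases huq : ∃ f ∈ A, f ≠ 1 ∧ f * f = 1 ∧ e ≠ f
  · obtain ⟨f, hfA, hf1, hf2, hef⟩ := huq
    obtain ⟨N, hN, hN2, F, i1, i2, h3, hF⟩ := GWP.asT hns hab hxA xx (hinv x hxH hxA) hct heA he1 he2 hfA hf1 hf2
      hef ha₀A ha₀
    exact ⟨N, hN, Or.inr hN2, F, i1, i2, h3, Or.inl hF⟩
  · push Not at huq
    have H' : GWP.Cen A e x :=
      { hab := hab
        tA := heA
        t1 := he1
        tt := he2
        uniq := by
          intro a ha haa
          by_cases ha1 : a = 1
          · exact Or.inl ha1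
          · exact Or.inr (huq a ha ha1 haa).symm
        xA := hxA
        xx := xx
        inv := hinv x hxH hxA
        ct := fun g hg => hct e heA he1 he2 g hg }
    exact GWP.asCen hns H'

end Cfsg.Agent.S3322
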