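import Cfsg.Statements.S3332
import Cfsg.Agent.H32.SECon
import Cfsg.Agent.SigF.PC
import Cfsg.Agent.H32.SEBS

set_option autoImplicit false
open Cfsg

namespace Cfsg.Agent.S3332

open H32.SFB H32.SE

/-- Let G be a finite group of 2-rank at least 4 with O_{2'}(G) = 1 whose Sylow 2-subgroup S has a normal abelian subgroup of rank at least 3 that is its own centralizer in S. If the centralizer of every involution of G is solvable, then O_{2'}(C_G(t)) = 1 for every involution t of G. -/
theorem result {G : Type*} [Group G] [Finite G]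
    (hrank : ¬ Cfsg.PRankLE 2 3 G) (hO : Cfsg.oddCore G = ⊥) (S : Sylow 2 G)
    (A : Subgroup G) (hAS : A ≤ S) (hAn : (A.subgroupOf S).Normal) (hAc : IsMulCommutative A)
    (hAself : (S : Subgroup G) ⊓ Subgroup.centralizer (A : Set G) = A) (hA3 : ¬ Cfsg.PRankLE 2 2 A)
    (hsol : ∀ t : G, orderOf t = 2 → Group.IsSolvable (Subgroup.centralizer ({t} : Set G))) :
    ∀ t : G, orderOf t = 2 → Cfsg.oddCore (Subgroup.centralizer ({t} : Set G)) = ⊥ := by
  haveI : Fact (Nat.Prime 2) := ⟨Nat.prime_two⟩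
  have hA3' : ¬ Cfsg.PRankLE 2 2 ↥(A.subgroupOf (S : Subgroup G)) := by
    intro h
    apply hA3
    exact pRankLE_of_injective (Subgroup.subgroupOfEquivOfLe hAS).symm.toMonoidHom
      (Subgroup.subgroupOfEquivOfLe hAS).symm.injective h
  have hAc' : IsMulCommutative ↥(A.subgroupOf (S : Subgroup G)) := by
    refine ⟨⟨?_⟩⟩
    rintro ⟨a, ha⟩ ⟨b, hb⟩
    apply Subtype.ext
    apply Subtype.ext
    exact congrArg (fun x : A => (x : G)) (hAc.is_comm.comm (⟨a, ha⟩ : A) ⟨b, hb⟩)
  obtain ⟨V, hVS, hV, hV3, hSV⟩ := exists_V hAn hAc' hA3'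
  have hS : (S : Subgroup G) ≠ ⊥ := by
    intro h
    rw [h, le_bot_iff] at hVS
    rw [hVS, Subgroup.card_bot] at hV3
    norm_num at hV3
  have hcc : CentConstr G := fun t ht => SigF.PC.isPConstrained_of_isSolvable (hsol t ht)
  intro t ht
  have h := core_trivial H32.SE.strongCore hcc hO S (inEight_of_normal hVS hV hV3 hSV) hS _
    (fun B hB hBr => cc_W_eq hcc S.2 hV hV3 hSV hB hBr) ht
  unfold Cfsg.centralizerPPrimeCore at h
  rwa [Subgroup.map_eq_bot_iff_of_injective _ (Subgroup.subtype_injective _)] at h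

end Cfsg.Agent.S3332
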