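import Cfsg.Statements.S3333
import Cfsg.Agent.Tri3.Nine.Final

set_option autoImplicit false
open Cfsg

namespace Cfsg.Agent.S3333

/-- Let G be a finite group with a Sylow 3-subgroup S of order 9 that is its own centralizer, with N_G(S)/S dihedral of order 8, and such that C_G(x) ≤ N_G(S) for every non-identity x in S. Then S is normal in G or G is isomorphic to the symmetric group of degree 6. -/
theorem result {G : Type*} [Group G] [Finite G]
    (P : Sylow 3 G) (S : Subgroup G) (hSP : S = P) (hcard : Nat.card S = 9)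
    (hC : Subgroup.centralizer (S : Set G) = S)
    (eN : Subgroup.normalizer (S : Set G) ⧸ S.subgroupOf (Subgroup.normalizer (S : Set G)) ≃* DihedralGroup 4)
    (hcent : ∀ x ∈ S, x ≠ 1 → Subgroup.centralizer ({x} : Set G) ≤ Subgroup.normalizer (S : Set G)) :
    S.Normal ∨ Nonempty (G ≃* Equiv.Perm (Fin 6)) := by
  obtain ⟨D, hD⟩ := Tri3.exists_D9 S hcard hC eN hcent
  obtain ⟨R0⟩ := Tri3.exists_rows D
  obtain ⟨R⟩ := R0.exists_typed
  have := Fintype.ofFinite (IrrCharacter G)
  have : Fact (Nat.Prime 3) := ⟨Nat.prime_three⟩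
  have hFr : ∀ N : Subgroup G, N.Normal → D.φ.range ≤ N → Subgroup.normalizer (S : Set G) ⊔ N = ⊤ := by
    intro N hN hDN
    rw [hD, hSP] at hDN
    rw [hSP]
    exact P.normalizer_sup_eq_top' hDN
  have hSH : D.φ.range ≤ Subgroup.normalizer (S : Set G) := by
    rw [hD]; exact Subgroup.le_normalizer
  rcases R.main (fun N hN hHN => by
    have h := hFr N hN (hSH.trans hHN)
    rwa [sup_eq_right.2 hHN] at h) with h | ⟨h720, h4, hall⟩
  · left
    have h1 := D.card_H
    have h2 : Nat.card (DihedralGroup 4) = 8 := by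
      rw [Nat.card_eq_fintype_card, DihedralGroup.card]
    rw [Tri3.card_A2, h2] at h1
    have h3 : Subgroup.normalizer (S : Set G) = ⊤ := Subgroup.eq_top_of_card_eq _ (by rw [h1, h])
    exact Subgroup.normalizer_eq_top_iff.1 h3
  · right
    exact R.sym6 hFr h720 h4 hall

end Cfsg.Agent.S3333
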