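import Cfsg.Statements.S3361
import Cfsg.Agent.H68.HupReg
import Cfsg.Agent.S2879

set_option autoImplicit false
open Cfsg

namespace Cfsg.Agent.S3361

open Cfsg.Agent.H68 Cfsg.Agent

/-- Let q be a prime and V a non-trivial finite vector space over the field with q elements, and let G be a finite solvable group acting faithfully and linearly on V and regularly on the non-zero vectors (transitively, with only the identity fixing a non-zero vector). Then either V can be identified with the additive group of a finite field F so that every element of G acts as x ↦ a·σ(x) (a ∈ F, σ a field automorphism), or V has 5^2, 7^2, 11^2 or 23^2 elements. Moreover, if q ≠ 2 then G has a normal subgroup of index 2, except that when V has 25 elements G may be isomorphic to SL(2,3) and when V has 121 elements G may be isomorphic to SL(2,3) × C₅. -/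
theorem result
    (q : ℕ) [Fact q.Prime] {V : Type*} [AddCommGroup V] [Module (ZMod q) V] [Finite V] [Nontrivial V]
    {G : Type*} [Group G] [Finite G] (hsol : Group.IsSolvable G)
    (ρ : G →* (V ≃ₗ[ZMod q] V)) (hρ : Function.Injective ρ)
    (htrans : ∀ v w : V, v ≠ 0 → w ≠ 0 → ∃ g : G, ρ g v = w)
    (hreg : ∀ v : V, v ≠ 0 → ∀ g : G, ρ g v = v → g = 1) :
    ((∃ (F : Type) (_ : Field F) (_ : Fintype F) (e : V ≃+ F),
        ∀ g : G, ∃ (a : F) (σ : F ≃+* F), ∀ v : V, e (ρ g v) = a * σ (e v)) ∨
      Nat.card V ∈ ({25, 49, 121, 529} : Set ℕ)) ∧
    (q ≠ 2 → (∃ N : Subgroup G, N.Normal ∧ N.index = 2) ∨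
      (Nat.card V = 25 ∧ Nonempty (G ≃* Matrix.SpecialLinearGroup (Fin 2) (ZMod 3))) ∨
      (Nat.card V = 121 ∧ Nonempty (G ≃* Matrix.SpecialLinearGroup (Fin 2) (ZMod 3) × Multiplicative (ZMod 5)))) := by
  have hq : q.Prime := Fact.out
  let act : DistribMulAction G V :=
    { smul := fun g v => ρ g v
      one_smul := fun v => by
        change ρ 1 v = v
        rw [map_one]; rfl
      mul_smul := fun g h v => by
        change ρ (g * h) v = ρ g (ρ h v)
        rw [map_mul]; rfl
      smul_zero := fun g => map_zero (ρ g)
      smul_add := fun g v w => map_add (ρ g) v w }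
  have hfree : Module.Finite (ZMod q) V := Module.Finite.of_finite
  have hn : Nat.card V = q ^ Module.finrank (ZMod q) V := by
    rw [Module.natCard_eq_pow_finrank (K := ZMod q), Nat.card_zmod]
  have hr : Hup.RegV G V := hreg
  have htr : Hup.TransV G V := htrans
  have hf : Hup.FaithV G V := hr.faith
  have hcG := hr.card htr
  have hidx2 : (∃ H : Subgroup G, H.index = 2) → ∃ N : Subgroup G, N.Normal ∧ N.index = 2 := by
    rintro ⟨H, hH⟩
    exact ⟨H, Subgroup.normal_of_index_eq_two hH, hH⟩
  obtain ⟨A, hA⟩ := Hup.exists_maxAb G
  rcases Hup.structure_thm hn hsol hf htr hA with ⟨F, i1, i2, i3, h, h1⟩ |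
    ⟨F, i1, i2, i3, B, h, hFq, hFn, hBn, hB, hq2, hBc, h1⟩
  · refine ⟨Or.inl (h.semilinear h1), fun hq2 => Or.inl (hidx2 ?_)⟩
    have hFc : CharP F q := by
      have h2 : Nat.card V = Nat.card F := by rw [Hup.card_V_eq (F := F), h1, pow_one]
      have h3 : ((Nat.card F : ℕ) : F) = 0 := by
        have := Fintype.ofFinite F
        rw [Nat.card_eq_fintype_card]
        exact Nat.cast_card_eq_zero F
      rw [← h2, hn, Nat.cast_pow] at h3
      have h4 : Module.finrank (ZMod q) V ≠ 0 := Module.finrank_pos.ne'
      exact (CharP.charP_iff_prime_eq_zero hq).mpr ((pow_eq_zero_iff h4).mp h3)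
    exact hr.index_two_semilinear htr h h1 hA hFc hq2
  · have hAn := hA.normal
    have h2A : ¬ B ≤ A := by
      intro hle
      have h2 := Subgroup.card_le_of_le hle
      have h3 : 0 < Nat.card A := Nat.card_pos
      rw [hBc] at h2
      rcases h1 with ⟨h4, -⟩ | ⟨h4, -⟩ <;> rw [h4] at h2 <;> omega
    have hr2 : Fact (Nat.Prime 2) := ⟨Nat.prime_two⟩
    have hA2 := hB.r_dvd h2A
    have hne := hB.ne_top hA h2A
    have hAF := h.card_dvd hf
    rw [hFq] at hAF
    rcases h1 with ⟨h2, h3, h4⟩ | ⟨h2, h3⟩
    · have hBc4 : Nat.card B = 4 * Nat.card A := by rw [hBc, h2]; norm_num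
      rw [h2] at hn hFn
      have hbi := B.card_mul_index
      rw [hcG, hn, hBc4] at hbi
      have h5 : q ≤ 23 := by
        have := Nat.le_of_dvd (by norm_num) h3
        omega
      have h6 : q = 3 ∨ q = 5 ∨ q = 7 ∨ q = 11 ∨ q = 23 := by
        have h6 := hq.two_le
        interval_cases q <;> omega
      have hi1 : B.index ≠ 1 := fun h0 => hne (Subgroup.index_eq_one.mp h0)
      have hi6 : B.index = 2 ∨ B.index = 3 ∨ B.index = 6 := by
        have h7 : B.index ≤ 6 := Nat.le_of_dvd (by norm_num) h4
        have h8 : B.index ≠ 0 := Subgroup.index_ne_zero_of_finite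
        generalize B.index = i at *
        interval_cases i <;> omega
      have hq3 : q ≠ 3 := by
        rintro rfl
        obtain ⟨c, hc⟩ := hA2
        rw [hc] at hbi
        have h0 : c ≠ 0 := by
          rintro rfl
          have : 0 < Nat.card A := Nat.card_pos
          omega
        have : 1 ≤ c := by omega
        rcases hi6 with h7 | h7 | h7 <;> rw [h7] at hbi <;> omega
      have haut : Nat.card (F ≃+* F) ≤ 1 := Hup.card_ringAut_le (q := q) (by rw [hFq, pow_one])
      refine ⟨Or.inr ?_, fun _ => ?_⟩
      · rw [hn]
        rcases h6 with rfl | rfl | rfl | rfl | rfl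
        · exact absurd rfl hq3
        all_goals simp
      · rcases hi6 with h7 | h7 | h7
        · exact Or.inl ⟨B, hBn, h7⟩
        · right
          rw [h7] at hbi
          have hAp : 0 < Nat.card A := Nat.card_pos
          rcases h6 with rfl | rfl | rfl | rfl | rfl
          · exact absurd rfl hq3
          · left
            have hAc : Nat.card A = 2 := by omega
            obtain ⟨N, ⟨e⟩⟩ := Hup.exc hr h hB hA hBn hBc4 hFn haut h7 (by rw [hAc]; norm_num) hA2
            have hN : Nat.card N = 24 := by
              rw [Nat.card_congr e.toEquiv]; exact S2879.card_SL23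
            have hG : Nat.card G = 24 := by rw [hcG, hn]; norm_num
            have hNt : N = ⊤ := Subgroup.eq_top_of_card_eq N (by rw [hN, hG])
            subst hNt
            exact ⟨by rw [hn]; norm_num, ⟨(Subgroup.topEquiv (G := G)).symm.trans e⟩⟩
          · exfalso
            have hA4 : Nat.card A = 4 := by omega
            rw [hA4] at hAF
            norm_num at hAF
          · right
            have hAc : Nat.card A = 10 := by omega
            obtain ⟨N, ⟨e⟩⟩ := Hup.exc hr h hB hA hBn hBc4 hFn haut h7 (by rw [hAc]) hA2
            have hN : Nat.card N = 24 := by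
              rw [Nat.card_congr e.toEquiv]; exact S2879.card_SL23
            have hG : Nat.card G = 120 := by rw [hcG, hn]; norm_num
            have h5p : Fact (Nat.Prime 5) := ⟨by norm_num⟩
            obtain ⟨⟨y, hyA⟩, hy⟩ := exists_prime_orderOf_dvd_card' (G := A) 5 (by rw [hAc]; norm_num)
            rw [Subgroup.orderOf_mk] at hy
            have hlin : ∀ g : G, ∀ a ∈ A, a * g = g * a := by
              intro g
              apply (h.mem_ker hf g).mp
              rw [MonoidHom.mem_ker]
              have hfin : Finite (F ≃+* F) := Finite.of_injective (fun σ : F ≃+* F => (σ : F → F))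
                DFunLike.coe_injective
              have : Subsingleton (F ≃+* F) := (Finite.card_le_one_iff_subsingleton).mp haut
              exact Subsingleton.elim _ _
            have hYc : Nat.card (Subgroup.zpowers y) = 5 := by rw [Nat.card_zpowers, hy]
            have hYA : Subgroup.zpowers y ≤ A := Subgroup.zpowers_le.mpr hyA
            let f : N × Subgroup.zpowers y →* G :=
              MonoidHom.noncommCoprod N.subtype (Subgroup.zpowers y).subtype
                (fun m n => (hlin m n (hYA n.2)).symm)
            have hfi : Function.Injective f := by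
              rw [injective_iff_map_eq_one]
              rintro ⟨m, c⟩ hmc
              have h10 : (m : G) * (c : G) = 1 := hmc
              have h11 : (m : G) = (c : G)⁻¹ := eq_inv_of_mul_eq_one_left h10
              have h12 : orderOf (m : G) ∣ 24 := by
                have := orderOf_dvd_natCard m
                rw [hN] at this
                rwa [Subgroup.orderOf_coe]
              have h13 : orderOf (c : G) ∣ 5 := by
                have := orderOf_dvd_natCard c
                rw [hYc] at this
                rwa [Subgroup.orderOf_coe]
              rw [h11, orderOf_inv] at h12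
              have h14 : orderOf (c : G) = 1 := Nat.eq_one_of_dvd_coprimes (by norm_num : Nat.Coprime 24 5) h12 h13
              rw [orderOf_eq_one_iff] at h14
              rw [h14, inv_one] at h11
              exact Prod.ext (Subtype.ext h11) (Subtype.ext h14)
            have hfin : Finite (N × Subgroup.zpowers y) := inferInstance
            have hfb : Function.Bijective f := by
              rw [Nat.bijective_iff_injective_and_card]
              exact ⟨hfi, by rw [Nat.card_prod, hN, hYc, hG]⟩
            let e5 : Subgroup.zpowers y ≃* Multiplicative (ZMod 5) :=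
              mulEquivOfPrimeCardEq (p := 5) hYc (by
                rw [Nat.card_congr Multiplicative.toAdd, Nat.card_zmod])
            exact ⟨by rw [hn]; norm_num, ⟨(MulEquiv.ofBijective f hfb).symm.trans (e.prodCongr e5)⟩⟩
          · exfalso
            have hA4 : Nat.card A = 44 := by omega
            rw [hA4] at hAF
            norm_num at hAF
        · left
          apply hidx2
          have h8 : Nat.card (G ⧸ B) = 6 := by rw [← h7, Subgroup.index_eq_card]
          obtain ⟨T⟩ : Nonempty (Sylow 2 (G ⧸ B)) := inferInstance
          have hT : Nat.card T = 2 := by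
            have h9 := T.card_eq_multiplicity
            rw [h8] at h9
            rw [h9]
            have : (6 : ℕ).factorization 2 = 1 := by
              rw [show (6 : ℕ) = 2 * 3 from rfl, Nat.factorization_mul (by norm_num) (by norm_num)]
              simp [Nat.Prime.factorization Nat.prime_two, Nat.Prime.factorization Nat.prime_three]
            rw [this, pow_one]
          have hTc : IsCyclic (T : Subgroup (G ⧸ B)) := isCyclic_of_prime_card (p := 2) hT
          obtain ⟨H, hH⟩ := H80.exists_index_two_of_cyclic_sylow (by rw [h8]; decide) T hTc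
          exact ⟨H.comap (QuotientGroup.mk' B), by
            rw [Subgroup.index_comap_of_surjective H (QuotientGroup.mk'_surjective B), hH]⟩
    · exfalso
      have h4 := Subgroup.card_subgroup_dvd_card B
      rw [hcG, hn, hBc, h2, h3] at h4
      obtain ⟨c, hc⟩ := hA2
      rw [hc] at h4
      obtain ⟨e, he⟩ := h4
      norm_num at he
      have : 80 = 32 * (c * e) := by rw [he]; ring
      omega

end Cfsg.Agent.S3361
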