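import Cfsg.Statements.S3365
import Cfsg.Agent.H96.Fx.PC
import Cfsg.Agent.H96.Fx.PA
import Cfsg.Agent.H96.Fx.PB32

set_option autoImplicit false
open Cfsg

namespace Cfsg.Agent.S3365

/-- Finite simple groups acting with fixity 4. Let G be a finite non-abelian simple group acting faithfully and transitively on a finite set so that every non-identity element fixes at most 4 points and some non-identity element fixes exactly 4 (fixity 4). Let P be a Sylow 3-subgroup, S a Sylow 2-subgroup, f the largest number of fixed points of an involution of G, and a a point. Then one of the following holds: (1) f ≥ 1 and G has a strongly embedded subgroup; (2) 1 ≤ f ≤ 3 and S is dihedral or semidihedral; (3) f = 4 and G has sectional 2-rank at most 4; (4) the point stabilizer G_a has odd order divisible by 3 and either G has a strongly 3-embedded subgroup (a proper subgroup H of order divisible by 3 such that H ∩ gHg⁻¹ has order prime to 3 for every element g outside H), or |P| = 3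 and a Sylow 2-subgroup of N_G(P) has order at most 4, or P is elementary abelian of order 9, or P is extraspecial of order 27 and exponent 3, or P is isomorphic to a Sylow 3-subgroup of Sym(9) (the wreath product C₃ ≀ C₃); (5) G_a has order prime to 6. -/
theorem result {G Ω : Type*} [Group G] [Finite G] [IsSimpleGroup G] (hna : ¬ IsMulCommutative G)
    [MulAction G Ω] [FaithfulSMul G Ω] [Finite Ω] (htrans : MulAction.IsPretransitive G Ω)
    (hfix : ∀ g : G, g ≠ 1 → Nat.card (MulAction.fixedBy Ω g) ≤ 4)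
    (hfix4 : ∃ g : G, g ≠ 1 ∧ Nat.card (MulAction.fixedBy Ω g) = 4)
    (P : Sylow 3 G) (S : Sylow 2 G) (f : ℕ)
    (hf : ∀ g : G, orderOf g = 2 → Nat.card (MulAction.fixedBy Ω g) ≤ f)
    (hf' : ∃ g : G, orderOf g = 2 ∧ Nat.card (MulAction.fixedBy Ω g) = f) (a : Ω) :
    (1 ≤ f ∧ ∃ H : Subgroup G, Cfsg.IsStronglyEmbedded H) ∨
    (1 ≤ f ∧ f ≤ 3 ∧ ((∃ n : ℕ, Nonempty ((S : Subgroup G) ≃* DihedralGroup n)) ∨ Cfsg.IsQuasiDihedral (S : Subgroup G))) ∨
    (f = 4 ∧ Cfsg.SectionalPRankLE 2 4 G) ∨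
    (Odd (Nat.card (MulAction.stabilizer G a)) ∧ 3 ∣ Nat.card (MulAction.stabilizer G a) ∧
      ((∃ H : Subgroup G, H ≠ ⊤ ∧ 3 ∣ Nat.card H ∧ ∀ g : G, g ∉ H → ¬ 3 ∣ Nat.card ↥(H ⊓ H.map (MulAut.conj g).toMonoidHom)) ∨
       (Nat.card P = 3 ∧ ∀ T : Sylow 2 (Subgroup.normalizer ((P : Subgroup G) : Set G)), Nat.card T ≤ 4) ∨
       (Nat.card P = 9 ∧ ∀ x ∈ (P : Subgroup G), x ^ 3 = 1) ∨
       (Nat.card P = 27 ∧ Cfsg.IsExtraspecial 3 (P : Subgroup G) ∧ ∀ x ∈ (P : Subgroup G), x ^ 3 = 1) ∨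
       (∃ T : Sylow 3 (Equiv.Perm (Fin 9)), Nonempty ((P : Subgroup G) ≃* (T : Subgroup (Equiv.Perm (Fin 9))))))) ∨
    (Nat.card (MulAction.stabilizer G a)).Coprime 6 := by
  obtain ⟨t, ht, htf⟩ := hf'
  have ht1 : t ≠ 1 := by
    intro h; rw [h, orderOf_one] at ht; omega
  have hf4 : f ≤ 4 := htf ▸ hfix t ht1
  rcases Nat.eq_zero_or_pos f with hf0 | hf1
  · subst hf0
    have hinv : ∀ g : G, orderOf g = 2 → MulAction.fixedBy Ω g = ∅ := by
      intro g hg
      have h1 : Nat.card (MulAction.fixedBy Ω g) = 0 := Nat.le_zero.1 (hf g hg)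
      rw [Nat.card_coe_set_eq, Set.ncard_eq_zero (Set.toFinite _)] at h1
      exact h1
    have hodd : ¬ 2 ∣ Nat.card (MulAction.stabilizer G a) := by
      intro h2
      haveI : Fact (Nat.Prime 2) := ⟨Nat.prime_two⟩
      obtain ⟨u, hu⟩ := exists_prime_orderOf_dvd_card' 2 h2
      have h3 : orderOf (u : G) = 2 := by rw [Subgroup.orderOf_coe]; exact hu
      have h4 : a ∈ MulAction.fixedBy Ω (u : G) := u.2
      rw [hinv _ h3] at h4
      exact h4
    by_cases h3 : 3 ∣ Nat.card (MulAction.stabilizer G a)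
    · refine Or.inr (Or.inr (Or.inr (Or.inl ⟨?_, h3, ?_⟩)))
      · rw [← Nat.not_even_iff_odd, even_iff_two_dvd]; exact hodd
      · rcases Cfsg.Agent.H96.Fx.partC hna htrans hfix hinv P a h3 with h | h | h
        · exact Or.inl h
        · exact Or.inr (Or.inr (Or.inl h))
        · exact Or.inr (Or.inr (Or.inr (Or.inl h)))
    · refine Or.inr (Or.inr (Or.inr (Or.inr ?_)))
      rw [show 6 = 2 * 3 by norm_num]
      exact Nat.Coprime.mul_right ((Nat.Prime.coprime_iff_not_dvd Nat.prime_two).2 hodd).symm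
        ((Nat.Prime.coprime_iff_not_dvd Nat.prime_three).2 h3).symm
  · rcases Nat.lt_or_ge f 4 with h4 | h4
    · rcases Cfsg.Agent.H96.Fx.partA hna htrans S f hf1 (by omega) hf t ht htf with h | h
      · exact Or.inl ⟨hf1, h⟩
      · exact Or.inr (Or.inl ⟨hf1, by omega, h⟩)
    · have hfe : f = 4 := by omega
      subst hfe
      rcases Cfsg.Agent.H96.Fx.partB_G hna htrans hfix t ht htf with h | h
      · exact Or.inl ⟨hf1, h⟩
      · exact Or.inr (Or.inr (Or.inl ⟨rfl, h⟩))

end Cfsg.Agent.S3365
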