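import Mathlib
import Cfsg.Prelude
import Cfsg.Agent.S3224

set_option autoImplicit false
set_option linter.unusedSectionVars false
set_option linter.style.haveILetI false

namespace Cfsg.Agent.S3390

open MulAction

universe u v

section gen

variable {G : Type u} [Group G] [Finite G] {Ω : Type v} [Fintype Ω] [MulAction G Ω]

theorem fix_two (hfix : ∀ g : G, g ≠ 1 → Nat.card (MulAction.fixedBy Ω g) ≤ 2) {x : G} (hx : x ≠ 1)
    {a b c : Ω} (hab : b ≠ a) (ha : x • a = a) (hb : x • b = b) (hc : x • c = c) : c = a ∨ c = b := by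
  classical
  by_contra hcon
  push Not at hcon
  have h1 := hfix x hx
  rw [Nat.card_coe_set_eq] at h1
  have h3 : ({a, b, c} : Set Ω).ncard = 3 := by
    rw [Set.ncard_eq_toFinset_card']
    simp only [Set.toFinset_insert, Set.toFinset_singleton]
    rw [Finset.card_insert_of_notMem, Finset.card_insert_of_notMem, Finset.card_singleton]
    · simpa using hcon.2.symm
    · simp only [Finset.mem_insert, Finset.mem_singleton, not_or]
      exact ⟨hab.symm, hcon.1.symm⟩
  have h2 : ({a, b, c} : Set Ω).ncard ≤ (MulAction.fixedBy Ω x).ncard := by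
    refine Set.ncard_le_ncard ?_ (Set.toFinite _)
    rintro y (rfl | rfl | rfl)
    · exact ha
    · exact hb
    · exact hc
  omega

theorem orb_eq (K : Subgroup G) (ω : Ω) : (stabilizer G ω).relIndex K = Nat.card (orbit K ω) := by
  rw [Nat.card_coe_set_eq, ← MulAction.index_stabilizer]
  rfl

theorem orb_le {K : Subgroup G} {α β : Ω} (h : ∀ g ∈ K, g • α = α ∨ g • α = β) :
    (stabilizer G α).relIndex K ≤ 2 := by
  classical
  rw [orb_eq, Nat.card_coe_set_eq]
  have : orbit K α ⊆ ({α, β} : Set Ω) := by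
    rintro _ ⟨g, rfl⟩
    rcases h g g.2 with h1 | h1
    · left; exact h1
    · right; exact h1
  refine (Set.ncard_le_ncard this (Set.toFinite _)).trans ?_
  have h2 := Set.ncard_insert_le α ({β} : Set Ω)
  rw [Set.ncard_singleton] at h2
  exact h2

theorem exists_norm {S P : Subgroup G} (hS : IsPGroup 2 S) (hlt : P < S) :
    ∃ s ∈ S, s ∉ P ∧ ∀ x, x ∈ P ↔ s * x * s⁻¹ ∈ P := by
  haveI : Fact (Nat.Prime 2) := ⟨Nat.prime_two⟩
  haveI : Finite S := inferInstance
  haveI := hS.isNilpotent
  have h1 : P.subgroupOf S < ⊤ := by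
    rw [lt_top_iff_ne_top]
    intro h
    rw [Subgroup.subgroupOf_eq_top] at h
    exact absurd hlt (not_lt_of_ge h)
  have h2 := Group.normalizerCondition_of_isNilpotent (G := S) _ h1
  obtain ⟨s, hs, hsP⟩ := SetLike.exists_of_lt h2
  refine ⟨s, s.2, fun h => hsP (by rwa [Subgroup.mem_subgroupOf]), fun x => ?_⟩
  rw [Subgroup.mem_normalizer_iff] at hs
  constructor
  · intro hx
    have := (hs ⟨x, hlt.le hx⟩).1 (by rw [Subgroup.mem_subgroupOf]; exact hx)
    rw [Subgroup.mem_subgroupOf] at this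
    exact this
  · intro hx
    have hxS : x ∈ S := by
      have h3 := S.mul_mem (S.mul_mem (S.inv_mem s.2) (hlt.le hx)) s.2
      have h4 : ((s : G))⁻¹ * (s * x * (s : G)⁻¹) * s = x := by group
      rwa [h4] at h3
    have := (hs ⟨x, hxS⟩).2 (by rw [Subgroup.mem_subgroupOf]; exact hx)
    rw [Subgroup.mem_subgroupOf] at this
    exact this

theorem card_eq_mul {P K : Subgroup G} (h : P ≤ K) : Nat.card K = Nat.card P * P.relIndex K := by
  have := Subgroup.relIndex_mul_relIndex (⊥ : Subgroup G) P K bot_le h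
  rw [Subgroup.relIndex_bot_left, Subgroup.relIndex_bot_left] at this
  exact this.symm

theorem two_elts {P : Subgroup G} (h2 : Nat.card P = 2) : ∃ y ∈ P, y ≠ 1 ∧ ∀ z ∈ P, z = 1 ∨ z = y := by
  obtain ⟨a, b, hab, huniv⟩ := Nat.card_eq_two_iff.1 h2
  have h1 : (1 : P) = a ∨ (1 : P) = b := by
    have : (1 : P) ∈ ({a, b} : Set P) := by rw [huniv]; trivial
    simpa using this
  rcases h1 with h1 | h1
  · refine ⟨b, b.2, fun h => hab ?_, fun z hz => ?_⟩
    · rw [← h1]; exact Subtype.ext h.symm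
    · have : (⟨z, hz⟩ : P) ∈ ({a, b} : Set P) := by rw [huniv]; trivial
      rcases this with h | h
      · left; rw [← h1] at h; exact congrArg Subtype.val h
      · right; exact congrArg Subtype.val h
  · refine ⟨a, a.2, fun h => hab ?_, fun z hz => ?_⟩
    · rw [← h1]; exact Subtype.ext h
    · have : (⟨z, hz⟩ : P) ∈ ({a, b} : Set P) := by rw [huniv]; trivial
      rcases this with h | h
      · right; exact congrArg Subtype.val h
      · left; rw [← h1] at h; exact congrArg Subtype.val h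

theorem maxcl (hfix : ∀ g : G, g ≠ 1 → Nat.card (MulAction.fixedBy Ω g) ≤ 2) {S : Subgroup G}
    (hS : IsPGroup 2 S) {ω : Ω} (h2 : Nat.card ↥(S ⊓ stabilizer G ω) = 2) (hcard : Nat.card S ≠ 2) :
    ((∃ n : ℕ, Nonempty (S ≃* DihedralGroup n)) ∨ Cfsg.IsQuasiDihedral S ∨ Nat.card S = 4) := by
  set P := S ⊓ stabilizer G ω with hP
  have hlt : P < S := lt_of_le_of_ne inf_le_left (fun h => hcard (by rw [← h]; exact h2))
  obtain ⟨s, hs, hsP, hn⟩ := exists_norm hS hlt
  obtain ⟨y, hy, hy1, huniq⟩ := two_elts h2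
  have hyy : y * y = 1 := by
    rcases huniq _ (P.mul_mem hy hy) with h | h
    · exact h
    · exact absurd (mul_eq_left.1 h) hy1
  have hyo : orderOf y = 2 := orderOf_eq_prime (by rw [sq]; exact hyy) hy1
  have hcomm : s * y = y * s := by
    rcases huniq _ ((hn y).1 hy) with h | h
    · exact absurd (conj_eq_one_iff.1 h) hy1
    · exact mul_inv_eq_iff_eq_mul.1 h
  have hyω : y • ω = ω := hy.2
  have hsω : s • ω ≠ ω := fun h => hsP ⟨hs, h⟩
  have hysω : y • (s • ω) = s • ω := by
    rw [← mul_smul, ← hcomm, mul_smul, hyω]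
  set K := S ⊓ Subgroup.centralizer {y} with hK
  have hPK : P ≤ K := by
    intro z hz
    refine Subgroup.mem_inf.2 ⟨hz.1, ?_⟩
    rw [Subgroup.mem_centralizer_singleton_iff]
    rcases huniq z hz with rfl | rfl <;> simp
  have h3 : (stabilizer G ω).relIndex K ≤ 2 := by
    refine orb_le (β := s • ω) (fun g hg => fix_two hfix hy1 hsω hyω hysω ?_)
    have := Subgroup.mem_centralizer_singleton_iff.1 hg.2
    rw [← mul_smul, ← this, mul_smul, hyω]
  have h4 : P.relIndex K = (stabilizer G ω).relIndex K := by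
    have h0 : P = K ⊓ stabilizer G ω := by
      ext z
      constructor
      · intro hz; exact ⟨hPK hz, hz.2⟩
      · intro hz; exact ⟨hz.1.1, hz.2⟩
    rw [h0]
    exact Subgroup.inf_relIndex_left _ _
  have h5 : P.relIndex K ≠ 1 := by
    intro h
    rw [Subgroup.relIndex_eq_one] at h
    exact hsP (h ⟨hs, Subgroup.mem_centralizer_singleton_iff.2 hcomm⟩)
  have h6 : Nat.card K = 4 := by
    have h7 := card_eq_mul hPK
    have h8 : P.relIndex K ≠ 0 := Subgroup.index_ne_zero_of_finite
    have : P.relIndex K = 2 := by omega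
    rw [h7, h2, this]
  have h7 : Subgroup.centralizer ({(⟨y, hy.1⟩ : S)} : Set S) = K.subgroupOf S := by
    ext z
    rw [Subgroup.mem_centralizer_singleton_iff, Subgroup.mem_subgroupOf]
    constructor
    · intro h
      exact ⟨z.2, Subgroup.mem_centralizer_singleton_iff.2 (congrArg Subtype.val h)⟩
    · intro h
      exact Subtype.ext (Subgroup.mem_centralizer_singleton_iff.1 h.2)
  refine Cfsg.Agent.S3224.result hS ⟨y, hy.1⟩ (by rw [Subgroup.orderOf_mk]; exact hyo) ?_
  rw [h7, Nat.card_congr (Subgroup.subgroupOfEquivOfLe (inf_le_left : K ≤ S)).toEquiv, h6]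

theorem transfer_eq {S : Subgroup G} (hodd : ¬ 2 ∣ S.index) (ϕ : S →* ℤˣ)
    (hinv : ∀ (s t : S) (g : G), (t : G) = g⁻¹ * s * g → ϕ t = ϕ s) (s : S) :
    MonoidHom.transfer ϕ (s : G) = ϕ s := by
  classical
  letI := S.fintypeQuotientOfFiniteIndex
  rw [MonoidHom.transfer_eq_prod_quotient_orbitRel_zpowers_quot]
  have h1 : ∀ q : Quotient (orbitRel (Subgroup.zpowers (s : G)) (G ⧸ S)),
      ϕ ⟨q.out.out⁻¹ * (s : G) ^ Function.minimalPeriod ((s : G) • ·) q.out * q.out.out,
        QuotientGroup.out_conj_pow_minimalPeriod_mem S (s : G) q.out⟩ =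
      ϕ s ^ Function.minimalPeriod ((s : G) • ·) q.out := by
    intro q
    rw [← map_pow]
    exact hinv _ _ q.out.out (by simp)
  rw [Finset.prod_congr rfl (fun q _ => h1 q), Finset.prod_pow_eq_pow_sum,
    ← Subgroup.index_eq_sum_minimalPeriod]
  have h2 : Odd S.index := by
    rw [← Nat.not_even_iff_odd, even_iff_two_dvd]; exact hodd
  obtain ⟨k, hk⟩ := h2
  rw [hk, pow_succ, pow_mul]
  rcases Int.units_eq_one_or (ϕ s) with h | h <;> rw [h] <;> simp

theorem even_card {s : G} {k : ℕ} (hs : s ^ 2 ^ k = 1) (hnf : ∀ ω : Ω, s • ω ≠ ω) : 2 ∣ Nat.card Ω := by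
  haveI : Fact (Nat.Prime 2) := ⟨Nat.prime_two⟩
  have hp : IsPGroup 2 (Subgroup.zpowers s) := by
    rw [IsPGroup.iff_card]
    obtain ⟨j, _, hj⟩ := (Nat.dvd_prime_pow Nat.prime_two).1 (orderOf_dvd_of_pow_eq_one hs)
    exact ⟨j, by rw [Nat.card_zpowers, hj]⟩
  have h1 := hp.card_modEq_card_fixedPoints Ω
  have h2 : Nat.card (fixedPoints (Subgroup.zpowers s) Ω) = 0 := by
    haveI : IsEmpty (fixedPoints (Subgroup.zpowers s) Ω) := by
      refine ⟨fun ω => hnf ω.1 ?_⟩
      exact ω.2 ⟨s, Subgroup.mem_zpowers s⟩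
    exact Nat.card_of_isEmpty
  rw [h2] at h1
  exact (Nat.modEq_zero_iff_dvd).1 h1

theorem frob [FaithfulSMul G Ω] (htr : MulAction.IsPretransitive G Ω)
    (hfix : ∀ g : G, g ≠ 1 → Nat.card (MulAction.fixedBy Ω g) ≤ 2) {N : Subgroup G} [N.Normal]
    {α : Ω} (hodd : ¬ 2 ∣ Nat.card (orbit N α)) (heven : 2 ∣ Nat.card Ω)
    (hP : N ⊓ stabilizer G α ≠ ⊥) :
    ∃ H : Subgroup N, Cfsg.IsFrobeniusComplement H := by
  classical
  -- a point outside the orbit
  obtain ⟨γ, hγ⟩ : ∃ γ, γ ∉ orbit N α := by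
    by_contra hcon
    push Not at hcon
    apply hodd
    have : orbit N α = Set.univ := Set.eq_univ_of_forall hcon
    rw [Nat.card_coe_set_eq, this, Set.ncard_univ]
    exact heven
  obtain ⟨g₀, hg₀⟩ := htr.exists_smul_eq α γ
  have hg₀N : g₀ ∉ N := fun h => hγ ⟨⟨g₀, h⟩, hg₀⟩
  have hcard : Nat.card (orbit N γ) = Nat.card (orbit N α) := by
    rw [Nat.card_coe_set_eq, Nat.card_coe_set_eq]
    have himg : orbit N γ = (fun x => g₀ • x) '' orbit N α := by
      ext x
      constructor
      · rintro ⟨n, rfl⟩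
        refine ⟨(g₀⁻¹ * n * g₀) • α, ⟨⟨g₀⁻¹ * n * g₀, ?_⟩, rfl⟩, ?_⟩
        · have := (inferInstance : N.Normal).conj_mem n.1 n.2 g₀⁻¹
          rwa [inv_inv] at this
        · change g₀ • (g₀⁻¹ * n * g₀) • α = (n : G) • γ
          rw [← hg₀, ← mul_smul, ← mul_smul]
          congr 1
          group
      · rintro ⟨_, ⟨n, rfl⟩, rfl⟩
        refine ⟨⟨g₀ * n * g₀⁻¹, (inferInstance : N.Normal).conj_mem n.1 n.2 g₀⟩, ?_⟩
        change (g₀ * n * g₀⁻¹) • γ = g₀ • (n : G) • α
        rw [← hg₀, ← mul_smul, ← mul_smul]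
        congr 1
        group
    rw [himg, Set.ncard_image_of_injective _ (MulAction.injective g₀)]
  refine ⟨(stabilizer G α).subgroupOf N, ?_, ?_, ?_⟩
  · intro h
    apply hP
    rw [Subgroup.eq_bot_iff_forall] at h ⊢
    intro x hx
    have := h ⟨x, hx.1⟩ (by rw [Subgroup.mem_subgroupOf]; exact hx.2)
    exact congrArg Subtype.val this
  · intro h
    rw [Subgroup.subgroupOf_eq_top] at h
    apply hP
    rw [Subgroup.eq_bot_iff_forall]
    intro x hx
    refine FaithfulSMul.eq_of_smul_eq_smul (α := Ω) (fun ω => ?_)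
    obtain ⟨g, rfl⟩ := htr.exists_smul_eq α ω
    have h1 : (g⁻¹ * x * g) • α = α := by
      refine h ?_
      have := (inferInstance : N.Normal).conj_mem x hx.1 g⁻¹
      rwa [inv_inv] at this
    rw [one_smul, ← mul_smul]
    have h2 : x * g = g * (g⁻¹ * x * g) := by group
    rw [h2, mul_smul, h1]
  · intro g hg
    rw [Subgroup.eq_bot_iff_forall]
    rintro x ⟨hx1, hx2⟩
    by_contra hx
    have hx1' : (x : G) • α = α := by
      have := Subgroup.mem_subgroupOf.1 hx1
      exact this
    have hx2' : (x : G) • ((g : G) • α) = (g : G) • α := by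
      have h1 : (MulAut.conj g)⁻¹ • x ∈ (stabilizer G α).subgroupOf N :=
        Subgroup.mem_pointwise_smul_iff_inv_smul_mem.1 hx2
      rw [Subgroup.mem_subgroupOf] at h1
      have h2 : (((MulAut.conj g)⁻¹ • x : N) : G) = (g : G)⁻¹ * x * g := by
        simp [MulAut.smul_def, ← map_inv]
      rw [h2] at h1
      have h3 : ((g : G)⁻¹ * x * g) • α = α := h1
      calc (x : G) • ((g : G) • α) = (g : G) • (((g : G)⁻¹ * x * g) • α) := by
            rw [← mul_smul, ← mul_smul]; congr 1; group
        _ = _ := by rw [h3]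
    have hgα : (g : G) • α ≠ α := fun h => hg (by rw [Subgroup.mem_subgroupOf]; exact h)
    -- prime order power
    have ho : orderOf x ≠ 1 := fun h => hx (orderOf_eq_one_iff.1 h)
    obtain ⟨p, hp, hpd⟩ := Nat.exists_prime_and_dvd ho
    haveI := Fact.mk hp
    obtain ⟨m, hm⟩ := hpd
    set y : N := x ^ m with hy
    have hyo : orderOf y = p := by
      have hm0 : m ≠ 0 := by
        rintro rfl
        rw [mul_zero] at hm
        exact (orderOf_pos x).ne' hm
      rw [hy, orderOf_pow' x hm0, hm, Nat.gcd_eq_right (Dvd.intro_left p rfl), Nat.mul_div_cancel _ (Nat.pos_of_ne_zero hm0)]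
    have hy1 : (y : G) ≠ 1 := by
      intro h
      have : y = 1 := Subtype.ext h
      rw [this, orderOf_one] at hyo
      exact hp.one_lt.ne hyo
    have hpow : ∀ ω : Ω, (x : G) • ω = ω → (y : G) • ω = ω := by
      intro ω h
      have : (x : G) ∈ stabilizer G ω := h
      have h2 := (stabilizer G ω).pow_mem this m
      rw [hy]
      exact h2
    have hyα := hpow α hx1'
    have hyα' := hpow _ hx2'
    have hpg : IsPGroup p (Subgroup.zpowers y) := by
      rw [IsPGroup.iff_card]
      exact ⟨1, by rw [Nat.card_zpowers, hyo, pow_one]⟩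
    have hfp : ∀ (δ : Ω) (w : orbit N δ), w ∈ fixedPoints (Subgroup.zpowers y) (orbit N δ) ↔ (y : G) • (w : Ω) = w := by
      intro δ w
      rw [mem_fixedPoints]
      constructor
      · intro h
        exact congrArg Subtype.val (h ⟨y, Subgroup.mem_zpowers y⟩)
      · intro h m'
        have h1 : y ∈ stabilizer N w := Subtype.ext h
        exact (Subgroup.zpowers_le.2 h1) m'.2
    have h1 := hpg.card_modEq_card_fixedPoints (orbit N α)
    have h2 := hpg.card_modEq_card_fixedPoints (orbit N γ)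
    have h3 : Nat.card (fixedPoints (Subgroup.zpowers y) (orbit N γ)) = 0 := by
      haveI : IsEmpty (fixedPoints (Subgroup.zpowers y) (orbit N γ)) := by
        refine ⟨fun w => ?_⟩
        have hw := (hfp γ w.1).1 w.2
        have hγα : ∀ z ∈ orbit N γ, z ∉ orbit N α := by
          intro z hz hz'
          apply hγ
          rw [← orbit_eq_iff.2 hz', orbit_eq_iff.2 hz]
          exact mem_orbit_self γ
        have hne := hγα _ w.1.2
        rcases fix_two hfix hy1 hgα hyα hyα' hw with h | h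
        · exact hne (by rw [h]; exact mem_orbit_self α)
        · exact hne (by rw [h]; exact ⟨g, rfl⟩)
      exact Nat.card_of_isEmpty
    have h4 : Nat.card (fixedPoints (Subgroup.zpowers y) (orbit N α)) = 2 := by
      rw [Nat.card_eq_two_iff]
      refine ⟨⟨⟨α, mem_orbit_self α⟩, (hfp α _).2 hyα⟩, ⟨⟨(g : G) • α, ⟨g, rfl⟩⟩, (hfp α _).2 hyα'⟩, ?_, ?_⟩
      · intro h
        exact hgα (congrArg (fun w => (w.1.1 : Ω)) h).symm
      · ext w
        constructor
        · intro _; trivial
        · intro _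
          have hw := (hfp α w.1).1 w.2
          rcases fix_two hfix hy1 hgα hyα hyα' hw with h | h
          · left; exact Subtype.ext (Subtype.ext h)
          · right; exact Subtype.ext (Subtype.ext h)
    rw [h3] at h2
    rw [h4] at h1
    rw [hcard] at h2
    have h5 : p ∣ 2 := (Nat.modEq_zero_iff_dvd).1 (h1.symm.trans h2)
    have h6 : p = 2 := (Nat.prime_dvd_prime_iff_eq hp Nat.prime_two).1 h5
    subst h6
    exact hodd ((Nat.modEq_zero_iff_dvd).1 h2)

theorem exists_N [FaithfulSMul G Ω] (htr : MulAction.IsPretransitive G Ω)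
    (hfix : ∀ g : G, g ≠ 1 → Nat.card (MulAction.fixedBy Ω g) ≤ 2) {S : Subgroup G} (hS : IsPGroup 2 S)
    (hodd : ¬ 2 ∣ S.index) {α β : Ω} (hβ : β ≠ α) {s₀ : G} (hs₀ : s₀ ∈ S) (hs₀α : s₀ • α = β)
    (hPβ : ∀ x ∈ S, x • α = α → x • β = β) (hSα : ∀ s ∈ S, s • α = α ∨ s • α = β)
    (hP : S ⊓ stabilizer G α ≠ ⊥) (hreg : ∀ ω, ω ≠ α → ω ≠ β → S ⊓ stabilizer G ω = ⊥) :
    ∃ N : Subgroup G, N.Normal ∧ (N.index = 2 ∨ N.index = Nat.card S) ∧
      (∃ H : Subgroup N, Cfsg.IsFrobeniusComplement H) := by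
  classical
  have hSβ : ∀ s ∈ S, s • α = β → s • β = α := by
    intro s hs h
    have h1 : s • β = (s * s₀) • α := by rw [mul_smul, hs₀α]
    rcases hSα (s * s₀) (S.mul_mem hs hs₀) with h2 | h2
    · rw [h1, h2]
    · exfalso
      have h3 : s • β = s • α := by rw [h1, h2, h]
      exact hβ (MulAction.injective s h3)
  let ϕ : S →* ℤˣ :=
    { toFun := fun s => if (s : G) • α = α then 1 else -1
      map_one' := by simp
      map_mul' := by
        intro s t
        change (if ((s : G) * t) • α = α then (1 : ℤˣ) else -1) =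
          (if (s : G) • α = α then (1 : ℤˣ) else -1) * (if (t : G) • α = α then (1 : ℤˣ) else -1)
        rw [mul_smul]
        rcases hSα t t.2 with ht | ht
        · rw [ht, if_pos rfl, mul_one]
        · rw [ht, if_neg hβ]
          rcases hSα s s.2 with hs | hs
          · rw [hs, if_pos rfl, hPβ s s.2 hs, if_neg hβ, one_mul]
          · rw [hs, if_neg hβ, hSβ s s.2 hs, if_pos rfl]
            simp }
  have hϕ : ∀ s : S, ϕ s = 1 ↔ (s : G) • α = α := by
    intro s
    change (if (s : G) • α = α then (1 : ℤˣ) else -1) = 1 ↔ _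
    split_ifs with h
    · simp [h]
    · simp only [h, iff_false]
      decide
  have hϕ' : ∀ s : S, ϕ s = 1 ↔ ∃ ω : Ω, (s : G) • ω = ω := by
    intro s
    rw [hϕ]
    constructor
    · intro h; exact ⟨α, h⟩
    · rintro ⟨ω, hω⟩
      by_cases h1 : ω = α
      · rw [← h1]; exact hω
      · by_cases h2 : ω = β
        · rcases hSα s s.2 with h3 | h3
          · exact h3
          · exfalso
            have h4 := hSβ s s.2 h3
            rw [← h2, hω, h2] at h4
            exact hβ h4
        · have h3 : (s : G) ∈ S ⊓ stabilizer G ω := ⟨s.2, hω⟩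
          rw [hreg ω h1 h2, Subgroup.mem_bot] at h3
          rw [h3, one_smul]
  have hinv : ∀ (s t : S) (g : G), (t : G) = g⁻¹ * s * g → ϕ t = ϕ s := by
    intro s t g h
    have h1 : ϕ t = 1 ↔ ϕ s = 1 := by
      rw [hϕ', hϕ', h]
      constructor
      · rintro ⟨ω, hω⟩
        refine ⟨g • ω, ?_⟩
        have : (s : G) * g = g * (g⁻¹ * s * g) := by group
        rw [← mul_smul, this, mul_smul, hω]
      · rintro ⟨ω, hω⟩
        refine ⟨g⁻¹ • ω, ?_⟩
        rw [← mul_smul, mul_assoc, mul_inv_cancel, mul_one, mul_smul, hω]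
    rcases Int.units_eq_one_or (ϕ s) with h2 | h2
    · rw [h2]; exact h1.2 h2
    · rcases Int.units_eq_one_or (ϕ t) with h3 | h3
      · rw [h1.1 h3] at h2
        exact absurd h2 (by decide)
      · rw [h2, h3]
  set V := MonoidHom.transfer ϕ with hV
  have hVs : ∀ s : S, V (s : G) = ϕ s := transfer_eq hodd ϕ hinv
  set N := V.ker with hN
  have hs₀N : V s₀ = -1 := by
    have := hVs ⟨s₀, hs₀⟩
    rcases Int.units_eq_one_or (V s₀) with h | h
    · rw [h] at this
      have h2 := (hϕ ⟨s₀, hs₀⟩).1 this.symm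
      exact absurd (hs₀α.symm.trans h2) hβ
    · exact h
  have hindex : N.index = 2 := by
    rw [hN, Subgroup.index_ker]
    have : V.range = ⊤ := by
      rw [eq_top_iff]
      intro u _
      rcases Int.units_eq_one_or u with h | h
      · rw [h]; exact V.range.one_mem
      · rw [h]; exact ⟨s₀, hs₀N⟩
    rw [this, Subgroup.card_top, Nat.card_eq_fintype_card]
    rfl
  have hmem : ∀ s ∈ S, (s ∈ N ↔ s • α = α) := by
    intro s hs
    rw [hN, MonoidHom.mem_ker]
    have := hVs ⟨s, hs⟩
    rw [this]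
    exact hϕ ⟨s, hs⟩
  set P := S ⊓ stabilizer G α with hPdef
  have hPN : P ≤ N := fun x hx => (hmem x hx.1).2 hx.2
  have hPS : P.relIndex S = 2 := by
    have h1 : P.relIndex S = (stabilizer G α).relIndex S := Subgroup.inf_relIndex_left _ _
    have h2 : (stabilizer G α).relIndex S ≤ 2 := orb_le hSα
    have h3 : P.relIndex S ≠ 0 := Subgroup.index_ne_zero_of_finite
    have h4 : P.relIndex S ≠ 1 := by
      intro h
      rw [Subgroup.relIndex_eq_one] at h
      exact hβ (hs₀α.symm.trans (h hs₀).2)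
    omega
  have hrel : P.relIndex N = S.index := by
    have h1 := card_eq_mul hPN
    have h2 := card_eq_mul (inf_le_left : P ≤ S)
    have h3 := N.card_mul_index
    have h4 := S.card_mul_index
    rw [hindex] at h3
    rw [hPS] at h2
    rw [h2] at h4
    have h5 : 0 < Nat.card P := Nat.card_pos
    have h6 : Nat.card P * (P.relIndex N * 2) = Nat.card P * (2 * S.index) := by
      rw [← mul_assoc, ← h1, h3, ← h4]; ring
    have := Nat.eq_of_mul_eq_mul_left h5 h6
    omega
  have hodd2 : ¬ 2 ∣ Nat.card (orbit N α) := by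
    intro h
    apply hodd
    rw [← hrel]
    rw [← orb_eq] at h
    exact h.trans (Subgroup.relIndex_dvd_of_le_left N inf_le_right)
  have heven : 2 ∣ Nat.card Ω := by
    obtain ⟨k, hk⟩ := hS ⟨s₀, hs₀⟩
    refine even_card (s := s₀) (k := k) (congrArg Subtype.val hk) (fun ω hω => ?_)
    have h1 := (hϕ' ⟨s₀, hs₀⟩).2 ⟨ω, hω⟩
    have h2 := (hϕ ⟨s₀, hs₀⟩).1 h1
    exact hβ (hs₀α.symm.trans h2)
  haveI : N.Normal := inferInstanceAs V.ker.Normal
  refine ⟨N, this, Or.inl hindex, frob htr hfix hodd2 heven ?_⟩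
  intro h
  apply hP
  rw [Subgroup.eq_bot_iff_forall] at h ⊢
  intro x hx
  exact h x ⟨hPN hx, hx.2⟩

end gen

theorem result {G : Type*} [Group G] [Finite G] {Ω : Type*} [Fintype Ω] [MulAction G Ω] [FaithfulSMul G Ω] (htr : MulAction.IsPretransitive G Ω)
    (hfix : ∀ g : G, g ≠ 1 → Nat.card (MulAction.fixedBy Ω g) ≤ 2) (hex : ∃ g : G, g ≠ 1 ∧ Nat.card (MulAction.fixedBy Ω g) = 2) (α : Ω) (S : Sylow 2 G) :
    (S : Subgroup G) ⊓ MulAction.stabilizer G α = ⊥ ∨
    (((∃ n : ℕ, Nonempty (↥(S : Subgroup G) ≃* DihedralGroup n)) ∨ Cfsg.IsQuasiDihedral ↥(S : Subgroup G)) ∧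
       (Nat.card ↥((S : Subgroup G) ⊓ MulAction.stabilizer G α) = 2 ∨ ((S : Subgroup G) ⊓ MulAction.stabilizer G α).relIndex (S : Subgroup G) = 2)) ∨
    (4 ≤ Nat.card (S : Subgroup G) ∧
       (∃ ω : Ω, Nat.card (MulAction.orbit ↥(S : Subgroup G) ω) = 2 ∧
          ∀ ω' : Ω, ω' ∉ MulAction.orbit ↥(S : Subgroup G) ω → Nat.card (MulAction.orbit ↥(S : Subgroup G) ω') = Nat.card (S : Subgroup G)) ∧
       ∃ N : Subgroup G, N.Normal ∧ (N.index = 2 ∨ N.index = Nat.card (S : Subgroup G)) ∧ (∃ H : Subgroup ↥N, Cfsg.IsFrobeniusComplement H)) ∨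
    (S : Subgroup G) ≤ MulAction.stabilizer G α := by
  classical
  haveI : Fact (Nat.Prime 2) := ⟨Nat.prime_two⟩
  have hSp : IsPGroup 2 (S : Subgroup G) := S.isPGroup'
  set P := (S : Subgroup G) ⊓ stabilizer G α with hPdef
  by_cases h1 : P = ⊥
  · left; exact h1
  by_cases h4 : (S : Subgroup G) ≤ stabilizer G α
  · right; right; right; exact h4
  right
  have hlt : P < (S : Subgroup G) := lt_of_le_of_ne inf_le_left (fun h => h4 (by rw [← h]; exact inf_le_right))
  obtain ⟨s, hs, hsP, hn⟩ := exists_norm hSp hlt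
  set β := s • α with hβdef
  have hβ : β ≠ α := fun h => hsP ⟨hs, h⟩
  have hPα : ∀ x ∈ P, x • α = α := fun x hx => hx.2
  have hPβ : ∀ x ∈ P, x • β = β := by
    intro x hx
    have h2 : s⁻¹ * x * s ∈ P := by
      rw [hn]
      have : s * (s⁻¹ * x * s) * s⁻¹ = x := by group
      rwa [this]
    have h3 := hPα _ h2
    rw [hβdef, ← mul_smul]
    have h5 : x * s = s * (s⁻¹ * x * s) := by group
    rw [h5, mul_smul, h3]
  have hfixP : ∀ x ∈ P, x ≠ 1 → ∀ c : Ω, x • c = c → c = α ∨ c = β :=
    fun x hx hx1 c hc => fix_two hfix hx1 hβ (hPα x hx) (hPβ x hx) hc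
  obtain ⟨⟨x₀, hx₀⟩, hx₀1'⟩ := (Subgroup.ne_bot_iff_exists_ne_one).1 h1
  have hx₀1 : x₀ ≠ 1 := fun h => hx₀1' (Subtype.ext h)
  have hrelS : P.relIndex (S : Subgroup G) = (stabilizer G α).relIndex (S : Subgroup G) :=
    Subgroup.inf_relIndex_left _ _
  have hPcard : 2 ≤ Nat.card P := by
    have : 1 < Nat.card P := by
      rw [Finite.one_lt_card_iff_nontrivial]
      exact ⟨⟨⟨x₀, hx₀⟩, 1, hx₀1'⟩⟩
    exact this
  have hcS : Nat.card (S : Subgroup G) = Nat.card P * P.relIndex (S : Subgroup G) :=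
    card_eq_mul (inf_le_left : P ≤ (S : Subgroup G))
  by_cases h2 : P.relIndex (S : Subgroup G) = 2
  · -- case II
    rw [h2] at hcS
    have hSα : ∀ t ∈ (S : Subgroup G), t • α = α ∨ t • α = β := by
      intro t ht
      have hPn : (P.subgroupOf (S : Subgroup G)).Normal := Subgroup.normal_of_index_eq_two h2
      have h3 : t⁻¹ * x₀ * t ∈ P := by
        have := hPn.conj_mem ⟨x₀, hx₀.1⟩ (Subgroup.mem_subgroupOf.2 hx₀) ⟨t, ht⟩⁻¹
        rw [Subgroup.mem_subgroupOf] at this
        simpa using this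
      have h5 : x₀ • (t • α) = t • α := by
        have h6 : x₀ * t = t * (t⁻¹ * x₀ * t) := by group
        rw [← mul_smul, h6, mul_smul, hPα _ h3]
      exact hfixP x₀ hx₀ hx₀1 _ h5
    by_cases hω : ∃ ω, ω ≠ α ∧ ω ≠ β ∧ (S : Subgroup G) ⊓ stabilizer G ω ≠ ⊥
    · obtain ⟨ω, hωα, hωβ, hQ⟩ := hω
      left
      set Q := (S : Subgroup G) ⊓ stabilizer G ω with hQdef
      have hPQ : P ⊓ Q = ⊥ := by
        rw [Subgroup.eq_bot_iff_forall]
        intro x hx
        by_contra hx1
        rcases hfixP x hx.1 hx1 ω hx.2.2 with h | h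
        · exact hωα h
        · exact hωβ h
      have hQ2 : Nat.card Q = 2 := by
        have h3 : P.relIndex Q = Nat.card Q := by
          rw [← Subgroup.inf_relIndex_right, hPQ, Subgroup.relIndex_bot_left]
        have h5 : P.relIndex Q ≤ P.relIndex (S : Subgroup G) :=
          Subgroup.relIndex_le_of_le_right inf_le_left Subgroup.index_ne_zero_of_finite
        have h6 : 1 < Nat.card Q := by
          rw [Finite.one_lt_card_iff_nontrivial]
          exact (Subgroup.nontrivial_iff_ne_bot Q).2 hQ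
        omega
      refine ⟨?_, Or.inr h2⟩
      rcases maxcl hfix hSp (ω := ω) hQ2 (by omega) with h | h | h
      · left; exact h
      · right; exact h
      · left
        refine ⟨2, ?_⟩
        have hP2 : Nat.card P = 2 := by omega
        have hQrel : Q.relIndex (S : Subgroup G) = 2 := by
          have h7 : Nat.card (S : Subgroup G) = Nat.card Q * Q.relIndex (S : Subgroup G) :=
            card_eq_mul (inf_le_left : Q ≤ (S : Subgroup G))
          rw [hQ2] at h7
          omega
        have hsq : ∀ t : (S : Subgroup G), t ^ 2 = 1 := by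
          intro t
          have h3 := Subgroup.sq_mem_of_index_two h2 t
          have h5 := Subgroup.sq_mem_of_index_two hQrel t
          rw [Subgroup.mem_subgroupOf] at h3 h5
          have h6 : ((t ^ 2 : (S : Subgroup G)) : G) ∈ P ⊓ Q := ⟨h3, h5⟩
          rw [hPQ, Subgroup.mem_bot] at h6
          exact Subtype.ext h6
        haveI hK : IsKleinFour (S : Subgroup G) := by
          refine ⟨h, ?_⟩
          have h3 : Monoid.exponent (S : Subgroup G) ∣ 2 := Monoid.exponent_dvd_of_forall_pow_eq_one hsq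
          rcases (Nat.dvd_prime Nat.prime_two).1 h3 with h5 | h5
          · exfalso
            rw [Monoid.exp_eq_one_iff] at h5
            have : Nat.card (S : Subgroup G) = 1 := Nat.card_unique
            omega
          · exact h5
        exact IsKleinFour.nonempty_mulEquiv
    · push Not at hω
      right; left
      refine ⟨by omega, ⟨α, ?_, ?_⟩, ?_⟩
      · rw [← orb_eq, ← hrelS, h2]
      · intro ω' hω'
        have h3 : ω' ≠ α := fun h => hω' (by rw [h]; exact mem_orbit_self α)
        have h5 : ω' ≠ β := fun h => hω' (by rw [h]; exact ⟨⟨s, hs⟩, rfl⟩)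
        have h6 := hω ω' h3 h5
        rw [← orb_eq, ← Subgroup.inf_relIndex_left, h6, Subgroup.relIndex_bot_left]
      · exact exists_N htr hfix hSp S.not_dvd_index hβ hs rfl (fun x hx hxα => hPβ x ⟨hx, hxα⟩) hSα h1 hω
  · -- case I
    left
    set N₁ := (S : Subgroup G) ⊓ Subgroup.normalizer (P : Set G) with hN₁
    have hPN₁ : P ≤ N₁ := le_inf inf_le_left Subgroup.le_normalizer
    have horb : (stabilizer G α).relIndex N₁ ≤ 2 := by
      refine orb_le (β := β) (fun g hg => ?_)
      have h3 : g⁻¹ * x₀ * g ∈ P := by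
        have := (Subgroup.mem_normalizer_iff''.1 hg.2 x₀).1 hx₀
        exact this
      have h5 : x₀ • (g • α) = g • α := by
        have h6 : x₀ * g = g * (g⁻¹ * x₀ * g) := by group
        rw [← mul_smul, h6, mul_smul, hPα _ h3]
      exact hfixP x₀ hx₀ hx₀1 _ h5
    have hPrel : P.relIndex N₁ = (stabilizer G α).relIndex N₁ := by
      have h0 : P = N₁ ⊓ stabilizer G α := by
        ext z
        constructor
        · intro hz; exact ⟨hPN₁ hz, hz.2⟩
        · intro hz; exact ⟨hz.1.1, hz.2⟩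
      conv_lhs => rw [h0]
      exact Subgroup.inf_relIndex_left _ _
    have hN₁S : N₁ < (S : Subgroup G) := by
      refine lt_of_le_of_ne inf_le_left (fun h => ?_)
      rw [h] at hPrel horb
      have h3 : P.relIndex (S : Subgroup G) ≠ 0 := Subgroup.index_ne_zero_of_finite
      have h5 : P.relIndex (S : Subgroup G) ≠ 1 := by
        intro h6
        rw [Subgroup.relIndex_eq_one] at h6
        exact hsP (h6 hs)
      omega
    obtain ⟨g, hg, hgN, hgn⟩ := exists_norm hSp hN₁S
    set Q : Subgroup G := P.map (MulAut.conj g).toMonoidHom with hQdef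
    have hQmem : ∀ z, z ∈ Q ↔ g⁻¹ * z * g ∈ P := by
      intro z
      rw [hQdef, Subgroup.mem_map]
      constructor
      · rintro ⟨w, hw, rfl⟩
        have : g⁻¹ * ((MulAut.conj g).toMonoidHom w) * g = w := by
          simp [MulAut.conj_apply]; group
        rwa [this]
      · intro h
        exact ⟨_, h, by simp [MulAut.conj_apply]; group⟩
    have hQN₁ : Q ≤ N₁ := by
      intro z hz
      rw [hQmem] at hz
      have h3 := (hgn _).1 (hPN₁ hz)
      have h5 : g * (g⁻¹ * z * g) * g⁻¹ = z := by group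
      rwa [h5] at h3
    have hQc : Nat.card Q = Nat.card P :=
      (Nat.card_congr (P.equivMapOfInjective _ (MulAut.conj g).injective).toEquiv).symm
    have hPQ : P ⊓ Q = ⊥ := by
      rw [Subgroup.eq_bot_iff_forall]
      intro x hx
      by_contra hx1
      have hy := (hQmem x).1 hx.2
      have hga : x • (g • α) = g • α := by
        have h6 : x * g = g * (g⁻¹ * x * g) := by group
        rw [← mul_smul, h6, mul_smul, hPα _ hy]
      have hgb : x • (g • β) = g • β := by
        have h6 : x * g = g * (g⁻¹ * x * g) := by group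
        rw [← mul_smul, h6, mul_smul, hPβ _ hy]
      rcases hfixP x hx.1 hx1 _ hga with h | h
      · exact hgN (hPN₁ ⟨hg, h⟩)
      · have hgβ : g • β = α := by
          rcases hfixP x hx.1 hx1 _ hgb with h3 | h3
          · exact h3
          · exact absurd (MulAction.injective g (h3.trans h.symm)) hβ
        apply hgN
        refine Subgroup.mem_inf.2 ⟨hg, ?_⟩
        have hle : ∀ y ∈ P, g * y * g⁻¹ ∈ P := by
          intro y hy
          refine ⟨(S : Subgroup G).mul_mem ((S : Subgroup G).mul_mem hg hy.1) ((S : Subgroup G).inv_mem hg), ?_⟩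
          change (g * y * g⁻¹) • α = α
          have h3 : g⁻¹ • α = β := by rw [← hgβ, inv_smul_smul]
          rw [mul_smul, mul_smul, h3, hPβ y hy, hgβ]
        have hQP : Q = P := by
          refine Subgroup.eq_of_le_of_card_ge ?_ hQc.ge
          rintro _ ⟨w, hw, rfl⟩
          exact hle w hw
        rw [Subgroup.mem_normalizer_iff]
        intro y
        refine ⟨fun hy => hle y hy, fun hy => ?_⟩
        have hy' := hy
        rw [← hQP, hQmem] at hy'
        have h3 : g⁻¹ * (g * y * g⁻¹) * g = y := by group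
        rwa [h3] at hy'
    have hP2 : Nat.card P = 2 := by
      have h3 : P.relIndex Q = Nat.card Q := by
        rw [← Subgroup.inf_relIndex_right, hPQ, Subgroup.relIndex_bot_left]
      have h5 : P.relIndex Q ≤ P.relIndex N₁ :=
        Subgroup.relIndex_le_of_le_right hQN₁ Subgroup.index_ne_zero_of_finite
      omega
    have h3 : P.relIndex (S : Subgroup G) ≠ 0 := Subgroup.index_ne_zero_of_finite
    have h5 : P.relIndex (S : Subgroup G) ≠ 1 := by
      intro h6
      rw [Subgroup.relIndex_eq_one] at h6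
      exact hsP (h6 hs)
    refine ⟨?_, Or.inl hP2⟩
    rcases maxcl hfix hSp (ω := α) hP2 (by rw [hcS, hP2]; omega) with h | h | h
    · left; exact h
    · right; exact h
    · exfalso
      rw [hP2] at hcS
      omega

end Cfsg.Agent.S3390
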