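import Cfsg.Statements.S3406
import Cfsg.Agent.H93.F5.Klein
import Cfsg.Agent.H93.F5.Cit
import Cfsg.Agent.CIT.Final2
import Cfsg.Agent.FT.Base
import Cfsg.Agent.S0222

set_option autoImplicit false
open Cfsg

namespace Cfsg.Agent.S3406

open Cfsg.Agent.H93.F5 in
theorem noncit {G : Type*} [Group G] [Finite G] [IsSimpleGroup G] (hna : ¬ IsMulCommutative G)
    (h2 : 2 ∣ Nat.card G) (hC : ¬ CIT.IsCIT G)
    (h5 : Nat.card (MulAction.orbitRel.Quotient (MulAut G) G) ≤ 5) : False := by
  haveI : Fact (Nat.Prime 2) := ⟨Nat.prime_two⟩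
  unfold CIT.IsCIT at hC
  push Not at hC
  obtain ⟨t, ht, hC⟩ := hC
  -- an odd prime dividing `|C(t)|`
  obtain ⟨r, hr, hd, hr2⟩ : ∃ r : ℕ, r.Prime ∧ r ∣ Nat.card (Subgroup.centralizer ({t} : Set G)) ∧ r ≠ 2 := by
    by_contra hcon
    push Not at hcon
    apply hC
    exact IsPGroup.of_card (Nat.eq_prime_pow_of_unique_prime_dvd (p := 2) Nat.card_pos.ne'
      (fun {d} hd1 hd2 => hcon d hd1 hd2))
  haveI := Fact.mk hr
  obtain ⟨y, hy⟩ := exists_prime_orderOf_dvd_card' r hd
  have hy' : orderOf (y : G) = r := by rw [Subgroup.orderOf_coe, hy]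
  have hc : Commute t (y : G) := (Subgroup.mem_centralizer_singleton_iff.1 y.2).symm
  have hty : orderOf (t * (y : G)) = 2 * r := by
    rw [hc.orderOf_mul_eq_mul_orderOf_of_coprime, ht, hy']
    rw [ht, hy']
    exact (Nat.coprime_primes Nat.prime_two hr).2 hr2.symm
  obtain ⟨s, hs, ds, hs2, hsr⟩ := third_prime hna Nat.prime_two hr
  have hr1 := hr.two_le
  have hs1 := hs.two_le
  have hns : s ≠ 2 * r := by
    rintro rfl
    exact Nat.not_prime_mul (by norm_num) hr.ne_one hs
  have hspec : Spec r s G := by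
    intro x
    by_contra hcon
    push Not at hcon
    obtain ⟨n1, n2, n3, n4, n5⟩ := hcon
    have hS := card_orders h5 {1, 2, r, s, 2 * r, orderOf x} (by
      intro d hd
      simp only [Finset.mem_insert, Finset.mem_singleton] at hd
      rcases hd with rfl | rfl | rfl | rfl | rfl | rfl
      · exact ⟨1, orderOf_one⟩
      · exact ⟨t, ht⟩
      · exact ⟨y, hy'⟩
      · haveI := Fact.mk hs; exact exists_prime_orderOf_dvd_card' _ ds
      · exact ⟨_, hty⟩
      · exact ⟨x, rfl⟩)
    rw [Finset.card_insert_of_notMem, Finset.card_insert_of_notMem, Finset.card_insert_of_notMem,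
      Finset.card_insert_of_notMem, Finset.card_insert_of_notMem, Finset.card_singleton] at hS
    · omega
    all_goals simp only [Finset.mem_insert, Finset.mem_singleton, not_or]
    all_goals omega
  have hprimes : ∀ l : ℕ, l.Prime → l ∣ Nat.card G → l = 2 ∨ l = r ∨ l = s :=
    fun l hl hd => card_primes hspec hr hs hl hd
  obtain ⟨P⟩ : Nonempty (Sylow 2 G) := inferInstance
  obtain ⟨k, hk⟩ := IsPGroup.iff_card.1 P.2
  rcases Nat.lt_or_ge k 3 with hk3 | hk3
  · interval_cases k
    · apply P.ne_bot_of_dvd_card h2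
      rw [pow_zero] at hk
      exact Subgroup.card_eq_one.1 hk
    · apply H17.not_normalizer_le_centralizer hna h2 P
      intro x hx
      rw [pow_one] at hk
      obtain ⟨a, b, hab, hu⟩ := (Nat.card_eq_two_iff (α := (P : Subgroup G))).1 hk
      rw [Subgroup.mem_centralizer_iff]
      intro z hz
      by_cases hz1 : z = 1
      · rw [hz1]; simp
      · have hz' : x * z * x⁻¹ ∈ (P : Subgroup G) := (Subgroup.mem_normalizer_iff.1 hx z).1 hz
        have hz1' : x * z * x⁻¹ ≠ 1 := fun h => hz1 (conj_eq_one_iff.1 h)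
        have key : ∀ u v : (P : Subgroup G), u ≠ 1 → v ≠ 1 → u = v := by
          intro u v hu1 hv1
          have hmem : ∀ w : (P : Subgroup G), w = a ∨ w = b := by
            intro w
            have : w ∈ ({a, b} : Set (P : Subgroup G)) := by rw [hu]; trivial
            simpa using this
          rcases hmem u with rfl | rfl <;> rcases hmem v with rfl | rfl <;>
            rcases hmem 1 with h1 | h1 <;> first | rfl | (exact absurd h1.symm hu1) | (exact absurd h1.symm hv1)
        have h3 := key ⟨_, hz'⟩ ⟨z, hz⟩ (fun h => hz1' (congrArg Subtype.val h))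
          (fun h => hz1 (congrArg Subtype.val h))
        have h4 : x * z * x⁻¹ = z := congrArg Subtype.val h3
        exact (mul_inv_eq_iff_eq_mul.1 h4).symm
    · exact klein_false hna hr hs hprimes P (by rw [hk]; norm_num) (g := t * (y : G))
        (by rw [hty]; exact Dvd.intro _ rfl) (by rw [hty]; omega)
  · have h8 : 8 ≤ Nat.card P := by
      rw [hk]
      calc 8 = 2 ^ 3 := by norm_num
        _ ≤ 2 ^ k := Nat.pow_le_pow_right (by norm_num) hk3
    obtain ⟨M, hM⟩ := exists_stronglyEmbedded hna hspec hr hs hr2 hs2 P h8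
    have hna' : ∃ a b : G, a * b ≠ b * a := by
      by_contra hcon
      push Not at hcon
      exact hna (IsMulCommutative.of_comm hcon)
    rcases Cfsg.Agent.S0222.result hna' M hM with ⟨F, i1, i2, i3, -, ⟨f⟩⟩ | hsz | ⟨F, i1, i2, q, hF, hq, hq4, ⟨f⟩⟩
    · have h1 := psl2_even_order (F := F) (g := f (t * (y : G))) (by
        rw [MulEquiv.orderOf_eq, hty]; exact Dvd.intro _ rfl)
      rw [← map_mul] at h1
      have h3 : (t * (y : G)) * (t * (y : G)) = 1 := f.injective (by rw [h1, map_one])
      have h4 := orderOf_dvd_of_pow_eq_one (x := t * (y : G)) (n := 2) (by rw [pow_two, h3])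
      rw [hty] at h4
      have := Nat.le_of_dvd (by norm_num) h4
      omega
    · exact suzuki_false hprimes hsz
    · exact psu_false hF hq hq4 (fun l hl hd => hprimes l hl (by
        rw [Nat.card_congr f.toEquiv]; exact hd))

/-- A non-abelian finite simple group on whose elements the full automorphism group has at most five orbits is isomorphic to the alternating group of degree 5 or 6, to PSL(2, 7) or to PSL(2, 8). -/
theorem result {G : Type*} [Group G] [Finite G] [IsSimpleGroup G] (hG : ¬ IsMulCommutative G)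
    (h5 : Nat.card (MulAction.orbitRel.Quotient (MulAut G) G) ≤ 5) :
    Nonempty (G ≃* ↥(alternatingGroup (Fin 5))) ∨ Nonempty (G ≃* ↥(alternatingGroup (Fin 6))) ∨
      (∃ (F : Type) (_ : Field F) (_ : Fintype F), (Fintype.card F = 7 ∨ Fintype.card F = 8) ∧
        Nonempty (G ≃* Matrix.ProjectiveSpecialLinearGroup (Fin 2) F)) := by

  have h2 : 2 ∣ Nat.card G := FT.even_of_simple hG
  by_cases hC : CIT.IsCIT G
  · exact H93.F5.cit_case hG hC h2 (CIT.cit_main hC hG h2) h5
  · exact (noncit hG h2 hC h5).elim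

end Cfsg.Agent.S3406
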