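import Cfsg.Statements.S3520
import Cfsg.Agent.H59.PrimComp2
import Cfsg.Agent.H59.Derange2
import Cfsg.Agent.S0144

set_option autoImplicit false
set_option linter.style.haveILetI false
open Cfsg

namespace Cfsg.Agent.S3520

open scoped Pointwise
open Cfsg.Agent.H59

theorem three_classes {G Ω : Type*} [Group G] [Finite G] [MulAction G Ω]
    (hκ : Nat.card {c : ConjClasses G // ∃ g : G, ConjClasses.mk g = c ∧ ∀ ω : Ω, g • ω ≠ ω} = 2)
    (a b c : G) (ha : ∀ ω : Ω, a • ω ≠ ω) (hb : ∀ ω : Ω, b • ω ≠ ω) (hc : ∀ ω : Ω, c • ω ≠ ω)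
    (hab : ¬ IsConj a b) (hac : ¬ IsConj a c) (hbc : ¬ IsConj b c) : False := by
  classical
  haveI : Finite (ConjClasses G) := inferInstance
  let f : Fin 3 → {c : ConjClasses G // ∃ g : G, ConjClasses.mk g = c ∧ ∀ ω : Ω, g • ω ≠ ω} :=
    ![⟨ConjClasses.mk a, a, rfl, ha⟩, ⟨ConjClasses.mk b, b, rfl, hb⟩, ⟨ConjClasses.mk c, c, rfl, hc⟩]
  have hf : Function.Injective f := by
    intro i j hij
    have h : (f i).1 = (f j).1 := congrArg Subtype.val hij
    fin_cases i <;> fin_cases j <;>
      simp [f] at h ⊢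
    all_goals first
      | exact hab (ConjClasses.mk_eq_mk_iff_isConj.mp h)
      | exact hac (ConjClasses.mk_eq_mk_iff_isConj.mp h)
      | exact hbc (ConjClasses.mk_eq_mk_iff_isConj.mp h)
      | exact hab (ConjClasses.mk_eq_mk_iff_isConj.mp h).symm
      | exact hac (ConjClasses.mk_eq_mk_iff_isConj.mp h).symm
      | exact hbc (ConjClasses.mk_eq_mk_iff_isConj.mp h).symm
  have := Nat.card_le_card_of_injective f hf
  rw [hκ] at this
  simp at this

theorem affine_count {G Ω : Type*} [Group G] [Finite G] [MulAction G Ω] [Finite Ω]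
    (N : Subgroup G) (hN : N.Normal) (hNc : IsMulCommutative N) [MulAction.IsPretransitive N Ω]
    (α : Ω)
    (hNd : ∀ x ∈ N, x ≠ 1 → ∀ ω : Ω, x • ω ≠ ω)
    (hle : ∀ g : G, g ≠ 1 → Nat.card (MulAction.fixedBy Ω g) ≤ 1)
    (hall : ∀ g : G, (∀ ω : Ω, g • ω ≠ ω) → g ∈ N)
    (hκ : Nat.card {c : ConjClasses G // ∃ g : G, ConjClasses.mk g = c ∧ ∀ ω : Ω, g • ω ≠ ω} = 2) :
    Nat.card N = 2 * Nat.card (MulAction.stabilizer G α) + 1 := by
  classical
  set C := {c : ConjClasses G // ∃ g : G, ConjClasses.mk g = c ∧ ∀ ω : Ω, g • ω ≠ ω} with hC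
  -- a bijection `C × G_α → N \ {1}`
  have hrep : ∀ c : C, ∃ x : G, x ∈ N ∧ x ≠ 1 ∧ ConjClasses.mk x = c.1 := by
    rintro ⟨c, g, rfl, hg⟩
    refine ⟨g, hall g hg, ?_, rfl⟩
    rintro rfl
    exact hg α (one_smul _ _)
  choose f hfN hf1 hfc using hrep
  let F : C × MulAction.stabilizer G α → {x : N // x ≠ 1} := fun p =>
    ⟨⟨p.2 * f p.1 * (p.2 : G)⁻¹, hN.conj_mem _ (hfN _) _⟩, fun h => hf1 p.1 (by
      have h' : (p.2 : G) * f p.1 * (p.2 : G)⁻¹ = 1 := congrArg Subtype.val h
      have h2 : f p.1 = (p.2 : G)⁻¹ * ((p.2 : G) * f p.1 * (p.2 : G)⁻¹) * p.2 := by group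
      rw [h2, h']; group)⟩
  have hFinj : Function.Injective F := by
    rintro ⟨c, h⟩ ⟨c', h'⟩ heq
    have e1 : (h : G) * f c * (h : G)⁻¹ = h' * f c' * (h' : G)⁻¹ :=
      congrArg (fun x => ((x.1 : N) : G)) heq
    have hcc : c = c' := by
      apply Subtype.ext
      rw [← hfc c, ← hfc c', ConjClasses.mk_eq_mk_iff_isConj, isConj_iff]
      refine ⟨(h' : G)⁻¹ * h, ?_⟩
      calc (h' : G)⁻¹ * h * f c * ((h' : G)⁻¹ * h)⁻¹ = (h' : G)⁻¹ * (h * f c * (h : G)⁻¹) * h' := by
            group
        _ = f c' := by rw [e1]; group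
    subst hcc
    have e2 : ((h' : G)⁻¹ * h) * f c = f c * ((h' : G)⁻¹ * h) := by
      calc ((h' : G)⁻¹ * h) * f c = (h' : G)⁻¹ * (h * f c * (h : G)⁻¹) * h := by group
        _ = f c * ((h' : G)⁻¹ * h) := by rw [e1]; group
    have e3 : (h' : G)⁻¹ * h = 1 := by
      by_contra hne
      have h5 : Subsingleton (MulAction.fixedBy Ω ((h' : G)⁻¹ * (h : G))) :=
        Finite.card_le_one_iff_subsingleton.mp (hle _ hne)
      have h6 : ((h' : G)⁻¹ * (h : G)) • α = α := by
        have : (h' : G)⁻¹ * (h : G) ∈ MulAction.stabilizer G α :=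
          Subgroup.mul_mem _ (Subgroup.inv_mem _ h'.2) h.2
        exact this
      have h7 : ((h' : G)⁻¹ * (h : G)) • f c • α = f c • α := by
        rw [← mul_smul, e2, mul_smul, h6]
      have := h5.elim ⟨α, h6⟩ ⟨f c • α, h7⟩
      exact hNd _ (hfN c) (hf1 c) α (congrArg Subtype.val this).symm
    rw [inv_mul_eq_one] at e3
    rw [Subtype.ext e3]
  have hFsurj : Function.Surjective F := by
    rintro ⟨⟨x, hx⟩, hx1⟩
    have hx1' : x ≠ 1 := fun h => hx1 (Subtype.ext h)
    let c : C := ⟨ConjClasses.mk x, x, rfl, hNd x hx hx1'⟩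
    have h1 : IsConj (f c) x := by
      rw [← ConjClasses.mk_eq_mk_iff_isConj]; exact hfc c
    obtain ⟨g, hg⟩ := isConj_iff.mp h1
    obtain ⟨⟨n, hn⟩, hna⟩ := MulAction.exists_smul_eq N α (g • α)
    change n • α = g • α at hna
    have hh : n⁻¹ * g ∈ MulAction.stabilizer G α := by
      rw [MulAction.mem_stabilizer_iff, mul_smul, ← hna, inv_smul_smul]
    refine ⟨(c, ⟨n⁻¹ * g, hh⟩), ?_⟩
    apply Subtype.ext
    apply Subtype.ext
    change n⁻¹ * g * f c * (n⁻¹ * g)⁻¹ = x
    have h2 : n⁻¹ * x = x * n⁻¹ :=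
      Cfsg.Agent.Solv.comm_of_isMulCommutative hNc (N.inv_mem hn) hx
    calc n⁻¹ * g * f c * (n⁻¹ * g)⁻¹ = n⁻¹ * (g * f c * g⁻¹) * n := by group
      _ = x := by rw [hg, h2]; group
  have hcard := Nat.card_congr (Equiv.ofBijective F ⟨hFinj, hFsurj⟩)
  rw [Nat.card_prod, hκ] at hcard
  have h8 : Nat.card {x : N // x ≠ 1} + 1 = Nat.card N := by
    haveI : Fintype N := Fintype.ofFinite N
    rw [Nat.card_eq_fintype_card, Nat.card_eq_fintype_card, Fintype.card_subtype_compl,
      Fintype.card_subtype_eq]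
    have : 0 < Fintype.card N := Fintype.card_pos
    omega
  omega

theorem not_two_primes {T : Type*} [Group T] [Finite T] (hs : IsSimpleGroup T)
    (hc : ¬ IsMulCommutative T)
    (h : ∀ p q r : ℕ, p.Prime → q.Prime → r.Prime → p ≠ q → q ≠ r → p ≠ r →
      p ∣ Nat.card T → q ∣ Nat.card T → r ∣ Nat.card T → False) : False := by
  classical
  have key : ∃ p q : ℕ, p.Prime ∧ q.Prime ∧ p ≠ q ∧ ∀ r : ℕ, r.Prime → r ∣ Nat.card T →
      r = p ∨ r = q := by
    haveI := hs.toNontrivial
    have hcard : 1 < Nat.card T := Finite.one_lt_card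
    obtain ⟨p, hp, hpd⟩ := Nat.exists_prime_and_dvd hcard.ne'
    by_cases hq : ∃ q : ℕ, q.Prime ∧ q ≠ p ∧ q ∣ Nat.card T
    · obtain ⟨q, hq, hqp, hqd⟩ := hq
      refine ⟨p, q, hp, hq, hqp.symm, fun r hr hrd => ?_⟩
      by_contra hcon
      push Not at hcon
      exact h p q r hp hq hr hqp.symm hcon.2.symm hcon.1.symm hpd hqd hrd
    · push Not at hq
      obtain ⟨q, hqp, hq'⟩ := Nat.exists_infinite_primes (p + 1)
      refine ⟨p, q, hp, hq', by omega, fun r hr hrd => ?_⟩
      by_contra hcon
      push Not at hcon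
      exact hq r hr hcon.1 hrd
  obtain ⟨p, q, hp, hq, hpq, hpr⟩ := key
  have hn0 : Nat.card T ≠ 0 := Nat.card_pos.ne'
  have hcard : Nat.card T = p ^ (Nat.card T).factorization p * q ^ (Nat.card T).factorization q := by
    conv_lhs => rw [← Nat.prod_factorization_pow_eq_self hn0]
    rw [Finsupp.prod_of_support_subset _ (s := {p, q})]
    · rw [Finset.prod_pair hpq]
    · intro r hr
      have hr' := Nat.mem_primeFactors.mp (by simpa using hr)
      rcases hpr r hr'.1 hr'.2.1 with h | h <;> simp [h]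
    · intro i _; exact pow_zero i
  have hsol : Group.IsSolvable T := Cfsg.Agent.S0144.result p q _ _ hp hq hcard
  apply hc
  have := (IsSimpleGroup.comm_iff_isSolvable (G := T)).mpr hsol
  exact ⟨⟨this⟩⟩

/-- If a conjugate of `u * v` is as given then components are permuted. -/
theorem comp_of_conj {G : Type*} [Group G] [Finite G] {N T : Subgroup G} (hT : IsMinComp N T)
    {a b : G} (hab : MulAut.conj a • T ≠ MulAut.conj b • T) :
    ∀ x ∈ MulAut.conj a • T, ∀ y ∈ MulAut.conj b • T, x * y = y * x := by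
  intro x hx y hy
  rw [mem_conj_smul] at hx
  have hy' : a⁻¹ * y * a ∈ MulAut.conj (a⁻¹ * b) • T := by
    rw [mem_conj_smul] at hy ⊢
    have : (a⁻¹ * b)⁻¹ * (a⁻¹ * y * a) * (a⁻¹ * b) = b⁻¹ * y * b := by group
    rwa [this]
  rcases hT.conj_eq_or_comm (a⁻¹ * b) with h1 | h1
  · exfalso
    apply hab
    have h2 : MulAut.conj a • MulAut.conj (a⁻¹ * b) • T = MulAut.conj b • T := by
      rw [← conj_smul_mul]; congr 2; group
    rw [← h2, h1]
  · have h2 := h1 _ hx _ hy'
    have h3 : x * y = a * ((a⁻¹ * x * a) * (a⁻¹ * y * a)) * a⁻¹ := by group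
    rw [h3, h2]; group

theorem conj_inf_centralizer {G : Type*} [Group G] [Finite G] {N T : Subgroup G}
    (hT : IsMinComp N T) {a x : G} (hx : x ∈ MulAut.conj a • T)
    (h : ∀ y ∈ MulAut.conj a • T, x * y = y * x) : x = 1 := by
  rw [mem_conj_smul] at hx
  have h1 : a⁻¹ * x * a ∈ T ⊓ Subgroup.centralizer (T : Set G) := by
    refine ⟨hx, Subgroup.mem_centralizer_iff.mpr ?_⟩
    intro t ht
    have h2 := h _ (conj_mem_conj_smul (g := a) ht)
    calc t * (a⁻¹ * x * a) = a⁻¹ * ((a * t * a⁻¹) * x) * a := by group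
      _ = a⁻¹ * (x * (a * t * a⁻¹)) * a := by rw [h2]
      _ = a⁻¹ * x * a * t := by group
  rw [inf_centralizer_of_simple hT.simple hT.noncomm, Subgroup.mem_bot] at h1
  have : x = a * (a⁻¹ * x * a) * a⁻¹ := by group
  rw [this, h1]; group

theorem three_derangements {G Ω : Type*} [Group G] [Finite G] [MulAction G Ω] [Finite Ω]
    [FaithfulSMul G Ω] [Nontrivial Ω] (hprim : MulAction.IsPreprimitive G Ω) {N T : Subgroup G}
    (hT : IsMinComp N T) {g t s₀ : G} {ω : Ω} (hgT : MulAut.conj g • T ≠ T)
    (hgC : MulAut.conj g • T ≤ Subgroup.centralizer (T : Set G)) (ht : t ∈ T)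
    (htd : ∀ ω : Ω, t • ω ≠ ω) (hs₀ : s₀ ∈ T) (hs₀1 : s₀ ≠ 1) (hω : s₀ • ω = ω)
    (h3 : ∀ a b c : G, (∀ ω : Ω, a • ω ≠ ω) → (∀ ω : Ω, b • ω ≠ ω) → (∀ ω : Ω, c • ω ≠ ω) →
      ¬ IsConj a b → ¬ IsConj a c → ¬ IsConj b c → False) : False := by
  have hns : ∃ x ∈ T, x ≠ 1 ∧ ∃ ω : Ω, x • ω = ω := ⟨s₀, hs₀, hs₀1, ω, hω⟩
  set t' := g * t * g⁻¹ with ht'
  set s := g * s₀ * g⁻¹ with hs
  have ht'g : t' ∈ MulAut.conj g • T := conj_mem_conj_smul ht
  have hsg : s ∈ MulAut.conj g • T := conj_mem_conj_smul hs₀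
  have ht1 : t ≠ 1 := by
    rintro rfl
    exact htd ω (one_smul _ _)
  have ht'1 : t' ≠ 1 := by
    intro h
    apply ht1
    have h2 : t = g⁻¹ * t' * g := by rw [ht']; group
    rw [h2, h]; group
  have hs1 : s ≠ 1 := by
    intro h
    apply hs₀1
    have h2 : s₀ = g⁻¹ * s * g := by rw [hs]; group
    rw [h2, h]; group
  have hdtt := hT.derangement_mul hprim hns ht htd (hgC ht'g)
  have hdts := hT.derangement_mul hprim hns ht htd (hgC hsg)
  have ht'd : ∀ ω : Ω, t' • ω ≠ ω := by
    intro ω hω
    apply htd (g⁻¹ • ω)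
    rw [ht', mul_smul, mul_smul] at hω
    rw [eq_inv_smul_iff]; exact hω
  have hT1 : MulAut.conj (1 : G) • T = T := by simp
  -- `t` is not conjugate to `t * y`
  have key : ∀ y ∈ MulAut.conj g • T, y ≠ 1 → ¬ IsConj t (t * y) := by
    intro y hy hy1 hconj
    obtain ⟨c, hc⟩ := isConj_iff.mp hconj
    have hmem : t * y ∈ MulAut.conj c • T := by rw [← hc]; exact conj_mem_conj_smul ht
    by_cases h1 : MulAut.conj c • T = T
    · rw [h1] at hmem
      have hyT : y ∈ T := by
        have := T.mul_mem (T.inv_mem ht) hmem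
        rwa [inv_mul_cancel_left] at this
      have : y ∈ T ⊓ Subgroup.centralizer (T : Set G) := ⟨hyT, hgC hy⟩
      rw [inf_centralizer_of_simple hT.simple hT.noncomm, Subgroup.mem_bot] at this
      exact hy1 this
    · -- `t * y` centralises `T`, hence so does `t`
      have h2 := comp_of_conj hT (a := c) (b := 1) (by rw [hT1]; exact h1)
      apply ht1
      apply conj_inf_centralizer hT (a := 1) (by rw [hT1]; exact ht)
      intro x hx
      have h3 := h2 _ hmem x hx
      rw [hT1] at hx
      have h4 := Subgroup.mem_centralizer_iff.mp (hgC hy) x hx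
      have h5 : t * x * y = x * t * y := by
        calc t * x * y = t * (x * y) := by group
          _ = t * (y * x) := by rw [h4]
          _ = (t * y) * x := by group
          _ = x * (t * y) := h3
          _ = x * t * y := by group
      exact mul_right_cancel h5
  refine h3 t (t * t') (t * s) htd hdtt hdts (key t' ht'g ht'1) (key s hsg hs1) ?_
  intro hconj
  obtain ⟨c, hc⟩ := isConj_iff.mp hconj
  set u := c * t * c⁻¹ with hu
  set v := c * t' * c⁻¹ with hv
  have huv : u * v = t * s := by rw [← hc, hu, hv]; group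
  have huc : u ∈ MulAut.conj c • T := conj_mem_conj_smul ht
  have hvc : v ∈ MulAut.conj (c * g) • T := by
    rw [conj_smul_mul]; exact conj_mem_conj_smul ht'g
  have hu1 : u ≠ 1 := by
    intro h
    apply ht1
    have h2 : t = c⁻¹ * u * c := by rw [hu]; group
    rw [h2, h]; group
  have hv1 : v ≠ 1 := by
    intro h
    apply ht'1
    have h2 : t' = c⁻¹ * v * c := by rw [hv]; group
    rw [h2, h]; group
  have hud : ∀ ω : Ω, u • ω ≠ ω := by
    intro ω hω
    apply htd (c⁻¹ • ω)
    rw [hu, mul_smul, mul_smul] at hω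
    rw [eq_inv_smul_iff]; exact hω
  have hvd : ∀ ω : Ω, v • ω ≠ ω := by
    intro ω hω
    apply ht'd (c⁻¹ • ω)
    rw [hv, mul_smul, mul_smul] at hω
    rw [eq_inv_smul_iff]; exact hω
  have hsfix : ∃ ω : Ω, s • ω = ω := ⟨g • ω, by rw [hs, mul_smul, mul_smul, inv_smul_smul, hω]⟩
  -- `T^c` and `T^{cg}` are distinct
  have hne : MulAut.conj c • T ≠ MulAut.conj (c * g) • T := by
    intro h
    rw [conj_smul_mul] at h
    exact hgT (smul_left_cancel _ h).symm
  have hccg := comp_of_conj hT hne
  have huvcomm : u * v = v * u := hccg u huc v hvc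
  -- each of the two is `T` or `T^g`
  have claim : ∀ a b x y : G, x ∈ MulAut.conj a • T → y ∈ MulAut.conj b • T → x ≠ 1 →
      MulAut.conj a • T ≠ MulAut.conj b • T → x * y = t * s →
      MulAut.conj a • T = T ∨ MulAut.conj a • T = MulAut.conj g • T := by
    intro a b x y hx hy hx1 hab hxy
    by_contra hcon
    push Not at hcon
    apply hx1
    apply conj_inf_centralizer hT hx
    intro z hz
    have e1 := comp_of_conj hT (a := a) (b := 1) (by rw [hT1]; exact hcon.1) z hz t
      (by rw [hT1]; exact ht)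
    have e2 := comp_of_conj hT (a := a) (b := g) hcon.2 z hz s hsg
    have e3 := comp_of_conj hT hab z hz y hy
    have e4 : x * z * y = z * x * y := by
      calc x * z * y = x * (z * y) := by group
        _ = x * (y * z) := by rw [e3]
        _ = (x * y) * z := by group
        _ = t * s * z := by rw [hxy]
        _ = t * (s * z) := by group
        _ = t * (z * s) := by rw [e2]
        _ = t * z * s := by group
        _ = z * t * s := by rw [e1]
        _ = z * (t * s) := by group
        _ = z * (x * y) := by rw [hxy]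
        _ = z * x * y := by group
    exact mul_right_cancel e4
  have hc1 := claim c (c * g) u v huc hvc hu1 hne huv
  have hc2 := claim (c * g) c v u hvc huc hv1 hne.symm (by rw [← huvcomm]; exact huv)
  -- uniqueness of decomposition
  have uniq : ∀ x y : G, x ∈ T → y ∈ MulAut.conj g • T → x * y = t * s → y = s := by
    intro x y hx hy hxy
    have h1 : y * s⁻¹ = x⁻¹ * t := by
      rw [eq_inv_mul_iff_mul_eq, ← mul_assoc, hxy]; group
    have h2 : y * s⁻¹ ∈ T ⊓ Subgroup.centralizer (T : Set G) := by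
      refine ⟨by rw [h1]; exact T.mul_mem (T.inv_mem hx) ht, ?_⟩
      exact hgC (Subgroup.mul_mem _ hy (Subgroup.inv_mem _ hsg))
    rw [inf_centralizer_of_simple hT.simple hT.noncomm, Subgroup.mem_bot] at h2
    exact mul_inv_eq_one.mp h2
  obtain ⟨ω', hω'⟩ := hsfix
  rcases hc1 with h1 | h1
  · rcases hc2 with h2 | h2
    · exact hne (by rw [h1, h2])
    · rw [h1] at huc
      rw [h2] at hvc
      have := uniq u v huc hvc huv
      exact hvd ω' (by rw [this]; exact hω')
  · rcases hc2 with h2 | h2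
    · rw [h1] at huc
      rw [h2] at hvc
      have := uniq v u hvc huc (by rw [← huvcomm]; exact huv)
      exact hud ω' (by rw [this]; exact hω')
    · exact hne (by rw [h1, h2])


/-- Let a finite group G act faithfully and primitively on a finite set Ω with at least two points, suppose G is not almost simple (no non-abelian simple normal subgroup with trivial centralizer), and suppose the derangements of G form exactly two conjugacy classes. Then either Ω has 3 points and G has order 3; or G has a non-trivial abelian normal subgroup N acting regularly, every non-identity element of G fixes at most one point (so, when n > 3, G is a Frobenius group with kernel N), the number n of points is odd and a point stabilizer has order (n − 1)/2; or G is 2-transitive with a non-trivial abelian regular normal subgroup and some non-identity element fixes at least two points (a non-Frobenius 2-transitive affine group). -/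
theorem result {G : Type*} [Group G] [Finite G] {Ω : Type*} [Fintype Ω] [MulAction G Ω] [FaithfulSMul G Ω] (hΩ : 2 ≤ Fintype.card Ω) (hprim : MulAction.IsPreprimitive G Ω) (hnas : ¬ ∃ T : Subgroup G, T.Normal ∧ IsSimpleGroup T ∧ ¬ IsMulCommutative T ∧ Subgroup.centralizer (T : Set G) = ⊥)
    (hκ : Nat.card {c : ConjClasses G // ∃ g : G, ConjClasses.mk g = c ∧ ∀ ω : Ω, g • ω ≠ ω} = 2) (α : Ω) :
    (Fintype.card Ω = 3 ∧ Nat.card G = 3) ∨
    ((∃ N : Subgroup G, N.Normal ∧ N ≠ ⊥ ∧ IsMulCommutative N ∧ ∀ ω : Ω, MulAction.stabilizer N ω = ⊥) ∧ (∀ g : G, g ≠ 1 → Nat.card (MulAction.fixedBy Ω g) ≤ 1) ∧ ¬ 2 ∣ Fintype.card Ω ∧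
        2 * Nat.card (MulAction.stabilizer G α) = Fintype.card Ω - 1) ∨
    ((∃ N : Subgroup G, N.Normal ∧ N ≠ ⊥ ∧ IsMulCommutative N ∧ ∀ ω : Ω, MulAction.stabilizer N ω = ⊥) ∧ MulAction.IsMultiplyPretransitive G Ω 2 ∧ ∃ g : G, g ≠ 1 ∧ 2 ≤ Nat.card (MulAction.fixedBy Ω g)) := by
  classical
  haveI : Fintype G := Fintype.ofFinite G
  haveI : Nontrivial Ω := Fintype.one_lt_card_iff_nontrivial.mp (by omega)
  haveI := hprim
  right
  have h3 := three_classes hκ
  have hG : (⊤ : Subgroup G) ≠ ⊥ := by
    intro h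
    obtain ⟨x, y, hxy⟩ := exists_pair_ne Ω
    obtain ⟨g, hg⟩ := MulAction.exists_smul_eq G x y
    have : g ∈ (⊤ : Subgroup G) := trivial
    rw [h, Subgroup.mem_bot] at this
    rw [this, one_smul] at hg
    exact hxy hg
  by_cases hab : ∃ A : Subgroup G, A.Normal ∧ IsMulCommutative A ∧ A ≠ ⊥
  · obtain ⟨A, hA, hAc, hA1⟩ := hab
    obtain ⟨N, r, hr, hN, hN1, hNe, hNt, hNs⟩ := exists_affine hprim A hA hAc hA1
    have hNd : ∀ x ∈ N, x ≠ 1 → ∀ ω : Ω, x • ω ≠ ω := by
      intro x hx hx1 ω hω
      apply hx1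
      have : (⟨x, hx⟩ : N) ∈ MulAction.stabilizer N ω := hω
      rw [hNs, Subgroup.mem_bot] at this
      exact congrArg Subtype.val this
    have hcardN : Nat.card N = Fintype.card Ω := by
      have := Cfsg.Agent.H59.card_stabilizer_mul (G := N) α
      rw [hNs] at this
      simpa using this.symm
    by_cases hall : ∀ g : G, (∀ ω : Ω, g • ω ≠ ω) → g ∈ N
    · left
      obtain ⟨-, hone⟩ := derangement_subgroup (Ω := Ω) inferInstance N hall
      have hle : ∀ g : G, g ≠ 1 → Nat.card (MulAction.fixedBy Ω g) ≤ 1 := by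
        intro g hg
        by_cases hgN : g ∈ N
        · have : Nat.card (MulAction.fixedBy Ω g) = 0 := by
            rw [Nat.card_eq_fintype_card, Fintype.card_eq_zero_iff]
            exact ⟨fun x => hNd g hgN hg x.1 x.2⟩
          omega
        · exact (hone g hgN).le
      have hcount := affine_count N hN hNe.1 α hNd hle hall hκ
      rw [hcardN] at hcount
      refine ⟨⟨N, hN, hN1, hNe.1, hNs⟩, hle, ?_, ?_⟩
      · rintro ⟨k, hk⟩
        omega
      · omega
    · right
      push Not at hall
      obtain ⟨d, hd, hdN⟩ := hall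
      have hconjN : ∀ x ∈ N, x ≠ 1 → ∀ y ∈ N, y ≠ 1 → IsConj x y := by
        intro x hx hx1 y hy hy1
        by_contra hxy
        refine h3 x y d (hNd x hx hx1) (hNd y hy hy1) hd hxy ?_ ?_
        · intro h
          obtain ⟨c, hc⟩ := isConj_iff.mp h
          apply hdN
          rw [← hc]
          exact hN.conj_mem x hx c
        · intro h
          obtain ⟨c, hc⟩ := isConj_iff.mp h
          apply hdN
          rw [← hc]
          exact hN.conj_mem y hy c
      refine ⟨⟨N, hN, hN1, hNe.1, hNs⟩, ?_, ?_⟩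
      · rw [MulAction.is_two_pretransitive_iff]
        intro a b c e hab hce
        obtain ⟨⟨x, hx⟩, hxa⟩ := hNt.exists_smul_eq a b
        obtain ⟨⟨y, hy⟩, hyc⟩ := hNt.exists_smul_eq c e
        change x • a = b at hxa
        change y • c = e at hyc
        have hx1 : x ≠ 1 := by rintro rfl; rw [one_smul] at hxa; exact hab hxa
        have hy1 : y ≠ 1 := by rintro rfl; rw [one_smul] at hyc; exact hce hyc
        obtain ⟨g, hg⟩ := isConj_iff.mp (hconjN x hx hx1 y hy hy1)
        obtain ⟨⟨n, hn⟩, hnc⟩ := hNt.exists_smul_eq (g • a) c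
        change n • g • a = c at hnc
        refine ⟨n * g, ?_, ?_⟩
        · rw [mul_smul]; exact hnc
        · rw [← hxa, ← mul_smul, ← hyc, ← hnc, ← mul_smul, ← mul_smul]
          have h1 : n * y = y * n := Cfsg.Agent.Solv.comm_of_isMulCommutative hNe.1 hn hy
          have h2 : n * g * x = y * (n * g) := by
            calc n * g * x = n * (g * x * g⁻¹) * g := by group
              _ = n * y * g := by rw [hg]
              _ = y * (n * g) := by rw [h1]; group
          rw [h2, ← mul_assoc]
      · by_contra hcon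
        push Not at hcon
        have hb := Cfsg.Agent.H59.burnside_nat G Ω
        rw [card_orbits_of_pretransitive, one_mul] at hb
        let b : G → ℕ := fun g => if g = 1 then Fintype.card Ω else if g ∈ N then 0 else 1
        have hlt : ∑ g : G, Nat.card (MulAction.fixedBy Ω g) < ∑ g : G, b g := by
          apply Finset.sum_lt_sum
          · intro g _
            by_cases hg1 : g = 1
            · simp only [b, if_pos hg1]
              rw [← Nat.card_eq_fintype_card]
              exact Nat.card_le_card_of_injective (fun x => x.1) Subtype.coe_injective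
            · by_cases hgN : g ∈ N
              · simp only [b, if_neg hg1, if_pos hgN]
                have : Nat.card (MulAction.fixedBy Ω g) = 0 := by
                  rw [Nat.card_eq_fintype_card, Fintype.card_eq_zero_iff]
                  exact ⟨fun x => hNd g hgN hg1 x.1 x.2⟩
                omega
              · simp only [b, if_neg hg1, if_neg hgN]
                have := hcon g hg1
                omega
          · refine ⟨d, Finset.mem_univ _, ?_⟩
            have hd1 : d ≠ 1 := by
              rintro rfl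
              exact hdN N.one_mem
            simp only [b, if_neg hd1, if_neg hdN]
            have : Nat.card (MulAction.fixedBy Ω d) = 0 := by
              rw [Nat.card_eq_fintype_card, Fintype.card_eq_zero_iff]
              exact ⟨fun x => hd x.1 x.2⟩
            omega
        have hsum : ∑ g : G, b g = Nat.card G := by
          have h1 : ∀ g : G, b g = (if g = 1 then Fintype.card Ω else 0) +
              (if g ∈ N then 0 else 1) := by
            intro g
            by_cases hg1 : g = 1
            · simp [b, hg1, N.one_mem]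
            · simp [b, hg1]
          rw [Finset.sum_congr rfl (fun g _ => h1 g), Finset.sum_add_distrib, Finset.sum_ite_eq']
          simp only [Finset.mem_univ, if_true]
          have h2 : ∑ g : G, (if g ∈ N then 0 else 1) + Nat.card N = Nat.card G := by
            have h4 : Nat.card N = ∑ g : G, (if g ∈ N then 1 else 0) := by
              rw [Nat.card_eq_fintype_card, Fintype.card_subtype, Finset.card_filter]
            rw [h4, ← Finset.sum_add_distrib, Nat.card_eq_fintype_card]
            rw [Finset.sum_congr rfl (g := fun _ => 1)]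
            · simp
            · intro g _; by_cases hg : g ∈ N <;> simp [hg]
          rw [← hcardN]; omega
        rw [hsum, hb] at hlt
        exact lt_irrefl _ hlt
  exfalso
  push Not at hab
  obtain ⟨N, hN, -, hN1, hmin⟩ := Cfsg.Agent.Solv.exists_minimal_normal (⊤ : Subgroup G)
    inferInstance hG
  haveI := hN
  have hNc : ¬ IsMulCommutative N := fun h => hN1 (hab N hN h)
  obtain ⟨T, hT⟩ := exists_minComp N hN1 hmin hNc
  haveI := transitive_of_normal hprim N hN hN1
  by_cases hns : ∃ x ∈ T, x ≠ 1 ∧ ∃ ω : Ω, x • ω = ω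
  swap
  · push Not at hns
    apply not_two_primes hT.simple hT.noncomm
    intro p q r hp hq hr hpq hqr hpr hpd hqd hrd
    haveI := Fact.mk hp
    haveI := Fact.mk hq
    haveI := Fact.mk hr
    obtain ⟨x, hx⟩ := exists_prime_orderOf_dvd_card' (G := T) p hpd
    obtain ⟨y, hy⟩ := exists_prime_orderOf_dvd_card' (G := T) q hqd
    obtain ⟨z, hz⟩ := exists_prime_orderOf_dvd_card' (G := T) r hrd
    rw [← Subgroup.orderOf_coe] at hx hy hz
    have ho : ∀ u v : G, IsConj u v → orderOf u = orderOf v := by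
      intro u v huv
      obtain ⟨c, hc⟩ := isConj_iff.mp huv
      rw [← hc, ← MulAut.conj_apply]
      exact ((MulAut.conj c).orderOf_eq u).symm
    have hd : ∀ x : T, (orderOf (x : G)).Prime → ∀ ω : Ω, (x : G) • ω ≠ ω := by
      intro x hx
      apply hns x x.2
      intro h
      rw [h, orderOf_one] at hx
      exact Nat.not_prime_one hx
    refine h3 x y z (hd x (by rw [hx]; exact hp)) (hd y (by rw [hy]; exact hq))
      (hd z (by rw [hz]; exact hr)) ?_ ?_ ?_
    · intro h; exact hpq (by rw [← hx, ← hy]; exact ho _ _ h)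
    · intro h; exact hpr (by rw [← hx, ← hz]; exact ho _ _ h)
    · intro h; exact hqr (by rw [← hy, ← hz]; exact ho _ _ h)
  obtain ⟨t, ht, htd⟩ := hT.exists_derangement (Ω := Ω)
  by_cases hTN : T = N
  · apply hnas
    refine ⟨T, by rw [hTN]; exact hN, hT.simple, hT.noncomm, ?_⟩
    by_contra hC1
    have hCn : (Subgroup.centralizer (T : Set G)).Normal := by
      rw [hTN]; infer_instance
    haveI := transitive_of_normal hprim _ hCn hC1
    obtain ⟨x, hx, hx1, ω, hω⟩ := hns
    apply hx1
    apply eq_one_of_commute_transitive (Subgroup.centralizer (T : Set G)) x _ ω hω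
    intro k hk
    exact (Subgroup.mem_centralizer_iff.mp hk x hx).symm
  obtain ⟨g, hgT, hgC⟩ := hT.exists_conj_ne hTN
  obtain ⟨s₀, hs₀, hs₀1, ω, hω⟩ := hns
  -- the three derangements
  exact three_derangements hprim hT hgT hgC ht htd hs₀ hs₀1 hω h3


end Cfsg.Agent.S3520
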