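import Cfsg.Statements.S3532
import Cfsg.Agent.S2475
import Cfsg.Agent.H42.SemiSpec
import Cfsg.Agent.H42.SpTori

set_option autoImplicit false
open Cfsg

namespace Cfsg.Agent.S3532

open Cfsg.Agent.H42.SemiSpec

/-- Let q ≥ 4 be a prime power and L = PSL(2,q). There is a finite solvable group with the same set of element orders as L × L (so L × L is not determined by its spectrum). -/
theorem result {F : Type*} [Field F] [Fintype F] (hF : 4 ≤ Fintype.card F) :
    ∃ (H : Type) (_ : Group H) (_ : Finite H), Group.IsSolvable H ∧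
      Set.range (orderOf : H → ℕ) = Set.range (orderOf : Matrix.ProjectiveSpecialLinearGroup (Fin 2) F × Matrix.ProjectiveSpecialLinearGroup (Fin 2) F → ℕ) := by
  classical
  obtain ⟨p, hchar⟩ := CharP.exists F
  haveI hp : Fact p.Prime := ⟨CharP.char_is_prime F p⟩
  obtain ⟨n, -, hn⟩ := FiniteField.card F p
  set q := Fintype.card F with hq
  have hspec := Cfsg.Agent.S2475.result (F := F) p hF
  rw [← hq] at hspec
  set d := Nat.gcd 2 (q - 1) with hd
  have hd1 : d ∣ q - 1 := Nat.gcd_dvd_right _ _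
  have hd2 : d ∣ q + 1 := by
    have h1 : d ∣ 2 := Nat.gcd_dvd_left _ _
    have h2 : q + 1 = (q - 1) + 2 := by omega
    rw [h2]
    exact dvd_add hd1 h1
  have hd0 : 0 < d := Nat.gcd_pos_of_pos_left _ (by norm_num)
  let K := GaloisField p n
  let L := GaloisField p (2 * n)
  haveI : Finite K := inferInstance
  haveI : Finite L := inferInstance
  have hK : Nat.card K = q := by rw [GaloisField.card p n n.ne_zero, hn]
  have hL : Nat.card L = q ^ 2 := by
    rw [GaloisField.card p (2 * n) (Nat.mul_ne_zero two_ne_zero n.ne_zero), hn, ← pow_mul, mul_comm]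
  obtain ⟨ε, hε0, hε⟩ := Cfsg.Agent.H42.SpSpec.exists_orderOf_unit (E := K) (N := (q - 1) / d) (by
    rw [hK]
    exact Nat.div_dvd_of_dvd hd1)
  obtain ⟨δ, hδ0, hδ⟩ := Cfsg.Agent.H42.SpSpec.exists_orderOf_unit (E := L) (N := (q + 1) / d) (by
    rw [hL]
    have h6 := Nat.sq_sub_sq q 1
    rw [one_pow] at h6
    rw [h6]
    exact (Nat.div_dvd_of_dvd hd2).trans (Dvd.intro _ rfl))
  have hε' : orderOf (Units.mk0 ε hε0) = (q - 1) / d := by rw [← hε, ← orderOf_units]; rfl
  have hδ' : orderOf (Units.mk0 δ hδ0) = (q + 1) / d := by rw [← hδ, ← orderOf_units]; rfl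
  refine ⟨Aff (Units.mk0 ε hε0) × Aff (Units.mk0 δ hδ0), inferInstance, inferInstance, ?_, ?_⟩
  · haveI := isSolvable_aff (Units.mk0 ε hε0)
    haveI := isSolvable_aff (Units.mk0 δ hδ0)
    infer_instance
  · rw [range_orderOf_prod, range_orderOf_prod, range_orderOf_aff p, range_orderOf_aff p, hspec, hε', hδ']
    ext s
    simp only [Set.mem_setOf_eq, Set.mem_union]
    constructor
    · rintro ⟨a, ha, b, hb, rfl⟩
      exact ⟨a, by tauto, b, by tauto, rfl⟩
    · rintro ⟨a, ha, b, hb, rfl⟩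
      rcases ha with ha | ha | ha
      · rcases hb with hb | hb | hb
        · exact ⟨Nat.lcm a b, Or.inl (Nat.lcm_dvd ha hb), 1, Or.inl (one_dvd _), by rw [Nat.lcm_one_right]⟩
        · exact ⟨b, Or.inr hb, a, Or.inl ha, Nat.lcm_comm a b⟩
        · exact ⟨a, Or.inl ha, b, Or.inr hb, rfl⟩
      · rcases hb with hb | hb | hb
        · exact ⟨a, Or.inr ha, b, Or.inl hb, rfl⟩
        · exact ⟨Nat.lcm a b, Or.inr (Nat.lcm_dvd ha hb), 1, Or.inl (one_dvd _), by rw [Nat.lcm_one_right]⟩
        · exact ⟨a, Or.inr ha, b, Or.inr hb, rfl⟩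
      · rcases hb with hb | hb | hb
        · exact ⟨b, Or.inl hb, a, Or.inr ha, Nat.lcm_comm a b⟩
        · exact ⟨b, Or.inr hb, a, Or.inr ha, Nat.lcm_comm a b⟩
        · exact ⟨1, Or.inl (one_dvd _), Nat.lcm a b, Or.inr (Nat.lcm_dvd ha hb), by rw [Nat.lcm_one_left]⟩

end Cfsg.Agent.S3532
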