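import Cfsg.Statements.S3554


set_option autoImplicit false
set_option linter.style.haveILetI false
open Cfsg

namespace Cfsg.Agent.S3554

/-- Let G act faithfully and transitively on a finite set and suppose G has a non-trivial cyclic normal subgroup. Then some element of G of prime order fixes no point. -/
theorem result {G Ω : Type*} [Group G] [Finite G] [MulAction G Ω] [FaithfulSMul G Ω] [Finite Ω]
    (htrans : MulAction.IsPretransitive G Ω) (C : Subgroup G) (hC : C.Normal) (hC1 : C ≠ ⊥) (hcyc : IsCyclic ↥C) :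
    ∃ g : G, (orderOf g).Prime ∧ ∀ ω : Ω, g • ω ≠ ω := by
  classical
  haveI := hC
  haveI := hcyc
  haveI : Nontrivial C := (Subgroup.nontrivial_iff_ne_bot C).mpr hC1
  have hcard : 1 < Nat.card C := Finite.one_lt_card
  obtain ⟨p, hp, hpd⟩ := Nat.exists_prime_and_dvd hcard.ne'
  haveI : Fact p.Prime := ⟨hp⟩
  obtain ⟨x, hx⟩ := exists_prime_orderOf_dvd_card' (G := C) p hpd
  have hxo : orderOf (x : G) = p := by rw [Subgroup.orderOf_coe, hx]
  refine ⟨x, by rw [hxo]; exact hp, ?_⟩
  intro ω hω
  -- every conjugate of `x` is a power of `x`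
  have hconj : ∀ g : G, ∃ k : ℤ, (x : G) ^ k = g * x * g⁻¹ := by
    intro g
    obtain ⟨m, hm⟩ := (MulAut.conjNormal g : C ≃* C).toMonoidHom.map_cyclic
    refine ⟨m, ?_⟩
    have := congrArg (Subtype.val) (hm x)
    simpa using this.symm
  have hfix : ∀ ω' : Ω, (x : G) • ω' = ω' := by
    intro ω'
    obtain ⟨g, rfl⟩ := MulAction.exists_smul_eq G ω ω'
    obtain ⟨k, hk⟩ := hconj g⁻¹
    have hk' : (x : G) • g • ω = g • ((x : G) ^ k) • ω := by
      rw [hk]; simp [mul_smul]
    rw [hk']
    congr 1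
    have : (x : G) ∈ MulAction.stabilizer G ω := hω
    exact (MulAction.stabilizer G ω).zpow_mem this k
  have : (x : G) = 1 := by
    apply FaithfulSMul.eq_of_smul_eq_smul (α := Ω)
    intro a; rw [hfix a, one_smul]
  rw [this, orderOf_one] at hxo
  exact hp.one_lt.ne hxo


end Cfsg.Agent.S3554
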