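import Cfsg.Statements.S3555
import Cfsg.Agent.H59.Derange

set_option autoImplicit false
set_option linter.style.haveILetI false
open Cfsg

namespace Cfsg.Agent.S3555

open MulAction in
/-- `∑ π(g²) ≤ ∑ π(g)²`. -/
theorem sum_sq_le {G Ω : Type*} [Group G] [Fintype G] [MulAction G Ω] [Fintype Ω] :
    ∑ g : G, Nat.card (fixedBy Ω (g ^ 2)) ≤ ∑ g : G, Nat.card (fixedBy Ω g) ^ 2 := by
  classical
  -- both sides count triples
  have h1 : ∑ g : G, Nat.card (fixedBy Ω (g ^ 2)) =
      ∑ p : Ω × Ω, (Finset.univ.filter (fun g : G => g • p.1 = p.2 ∧ g • p.2 = p.1)).card := by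
    simp only [Finset.card_filter]
    rw [Finset.sum_comm]
    apply Finset.sum_congr rfl
    intro g _
    rw [← Finset.card_filter, Nat.card_eq_fintype_card, ← Fintype.card_subtype]
    apply Fintype.card_congr
    refine ⟨fun ω => ⟨(ω.1, g • ω.1), rfl, ?_⟩, fun p => ⟨p.1.1, ?_⟩, ?_, ?_⟩
    · obtain ⟨ω, hω⟩ := ω
      have : g • g • ω = ω := by rw [← mul_smul, ← sq]; exact hω
      exact this
    · obtain ⟨⟨a, b⟩, h1, h2⟩ := p
      rw [mem_fixedBy, sq, mul_smul]
      simp only at h1 h2 ⊢
      rw [h1, h2]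
    · intro ω; rfl
    · rintro ⟨⟨a, b⟩, h1, h2⟩
      simp only at h1 h2 ⊢
      subst h1
      rfl
  have h2 : ∑ g : G, Nat.card (fixedBy Ω g) ^ 2 =
      ∑ p : Ω × Ω, (Finset.univ.filter (fun g : G => g • p.1 = p.1 ∧ g • p.2 = p.2)).card := by
    simp only [Finset.card_filter]
    rw [Finset.sum_comm]
    apply Finset.sum_congr rfl
    intro g _
    rw [← Finset.card_filter, ← Cfsg.Agent.H59.card_fixedBy_prod, Nat.card_eq_fintype_card,
      ← Fintype.card_subtype]
    apply Fintype.card_congr
    apply Equiv.subtypeEquivRight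
    rintro ⟨a, b⟩
    simp [mem_fixedBy, Prod.ext_iff]
  rw [h1, h2]
  apply Finset.sum_le_sum
  rintro ⟨a, b⟩ -
  by_cases h : ∃ g₀ : G, g₀ • a = b ∧ g₀ • b = a
  · obtain ⟨g₀, h3, h4⟩ := h
    apply Finset.card_le_card_of_injOn (fun g => g₀⁻¹ * g)
    · intro g hg
      simp only [Finset.coe_filter, Finset.mem_univ, true_and, Set.mem_ofPred_eq] at hg ⊢
      rw [mul_smul, mul_smul, hg.1, hg.2, inv_smul_eq_iff, inv_smul_eq_iff]
      exact ⟨h3.symm, h4.symm⟩
    · intro x _ y _ hxy
      exact mul_left_cancel hxy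
  · have : Finset.univ.filter (fun g : G => g • a = b ∧ g • b = a) = ∅ := by
      rw [Finset.filter_eq_empty_iff]
      intro g _ hg
      exact h ⟨g, hg⟩
    simp [this]

open MulAction in
/-- If all derangements of a transitive group square to `1`, then each non-identity element fixes at
most one point. -/
theorem few_fixed {G Ω : Type*} [Group G] [Finite G] [MulAction G Ω] [FaithfulSMul G Ω] [Finite Ω]
    (htrans : IsPretransitive G Ω) (hX : ∀ g : G, (∀ ω : Ω, g • ω ≠ ω) → g ^ 2 = 1) :
    ∀ g : G, g ≠ 1 → Nat.card (fixedBy Ω g) ≤ 1 := by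
  classical
  haveI := Fintype.ofFinite G
  haveI := Fintype.ofFinite Ω
  cases isEmpty_or_nonempty Ω with
  | inl h => intro g _; rw [Nat.card_eq_fintype_card, Fintype.card_eq_zero]; omega
  | inr hne =>
  have h1 := Cfsg.Agent.H59.burnside_nat G Ω
  rw [Cfsg.Agent.H59.card_orbits_of_pretransitive, one_mul] at h1
  have h2 := sum_sq_le (G := G) (Ω := Ω)
  set n := Nat.card Ω with hn
  -- indicator of derangements
  set χ : G → ℤ := fun g => if (∀ ω : Ω, g • ω ≠ ω) then 1 else 0 with hχ
  set π : G → ℤ := fun g => (Nat.card (fixedBy Ω g) : ℤ) with hπ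
  have hle : ∀ g : G, Nat.card (fixedBy Ω g) ≤ n := fun g =>
    Nat.card_le_card_of_injective (fun x => x.1) Subtype.coe_injective
  have hzero : ∀ g : G, (∀ ω : Ω, g • ω ≠ ω) → Nat.card (fixedBy Ω g) = 0 := by
    intro g hg
    rw [Nat.card_eq_fintype_card, Fintype.card_eq_zero_iff]
    exact ⟨fun x => hg x.1 x.2⟩
  have hpos : ∀ g : G, ¬ (∀ ω : Ω, g • ω ≠ ω) → 1 ≤ Nat.card (fixedBy Ω g) := by
    intro g hg
    push Not at hg
    obtain ⟨ω, hω⟩ := hg
    haveI : Nonempty (fixedBy Ω g) := ⟨⟨ω, hω⟩⟩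
    exact Nat.card_pos
  -- lower bound
  have hlow : ∀ g : G, π g + n * χ g ≤ (Nat.card (fixedBy Ω (g ^ 2)) : ℤ) := by
    intro g
    by_cases hg : ∀ ω : Ω, g • ω ≠ ω
    · have h3 : fixedBy Ω (g ^ 2) = Set.univ := by
        rw [hX g hg]; ext ω; simp
      simp only [hχ, hπ, if_pos hg, hzero g hg, h3]
      simp [hn]
    · simp only [hχ, hπ, if_neg hg, mul_zero, add_zero]
      have : Nat.card (fixedBy Ω g) ≤ Nat.card (fixedBy Ω (g ^ 2)) := by
        apply Nat.card_le_card_of_injective (fun x => (⟨x.1, by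
          have := x.2; rw [mem_fixedBy] at this ⊢; rw [sq, mul_smul, this, this]⟩ : fixedBy Ω (g ^ 2)))
        intro x y hxy
        simp only [Subtype.mk.injEq] at hxy
        exact Subtype.ext hxy
      exact_mod_cast this
  have hterm : ∀ g : G, 0 ≤ (n + 1) * π g - n + n * χ g - (π g) ^ 2 := by
    intro g
    by_cases hg : ∀ ω : Ω, g • ω ≠ ω
    · simp only [hχ, hπ, if_pos hg, hzero g hg]; simp
    · simp only [hχ, if_neg hg, mul_zero, add_zero]
      have a1 : (1 : ℤ) ≤ π g := by simp only [hπ]; exact_mod_cast hpos g hg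
      have a2 : π g ≤ n := by simp only [hπ]; exact_mod_cast hle g
      nlinarith
  have hsum : ∑ g : G, ((n + 1) * π g - n + n * χ g - (π g) ^ 2) ≤ 0 := by
    have e1 : ∑ g : G, π g = Nat.card G := by
      simp only [hπ]; rw [← h1]; push_cast; rfl
    have e2 : ∑ g : G, (π g + n * χ g) ≤ ∑ g : G, (π g) ^ 2 := by
      calc ∑ g : G, (π g + n * χ g) ≤ ∑ g : G, (Nat.card (fixedBy Ω (g ^ 2)) : ℤ) :=
            Finset.sum_le_sum (fun g _ => hlow g)
        _ = ((∑ g : G, Nat.card (fixedBy Ω (g ^ 2)) : ℕ) : ℤ) := by push_cast; rfl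
        _ ≤ ((∑ g : G, Nat.card (fixedBy Ω g) ^ 2 : ℕ) : ℤ) := by exact_mod_cast h2
        _ = ∑ g : G, (π g) ^ 2 := by push_cast; rfl
    simp only [Finset.sum_sub_distrib, Finset.sum_add_distrib, ← Finset.mul_sum, e1,
      Finset.sum_const, Finset.card_univ] at e2 ⊢
    rw [Nat.card_eq_fintype_card] at *
    simp only [nsmul_eq_mul]
    nlinarith
  have hz : ∀ g : G, (n + 1) * π g - n + n * χ g - (π g) ^ 2 = 0 := by
    have h4 : ∑ g : G, ((n + 1) * π g - n + n * χ g - (π g) ^ 2) = 0 :=
      le_antisymm hsum (Finset.sum_nonneg (fun g _ => hterm g))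
    intro g
    exact (Finset.sum_eq_zero_iff_of_nonneg (fun g _ => hterm g)).mp h4 g (Finset.mem_univ _)
  intro g hg
  by_cases hd : ∀ ω : Ω, g • ω ≠ ω
  · rw [hzero g hd]; omega
  have h5 := hz g
  simp only [hχ, if_neg hd, mul_zero, add_zero] at h5
  have h6 : (π g - 1) * (π g - n) = 0 := by nlinarith
  rcases mul_eq_zero.mp h6 with h7 | h7
  · have : (Nat.card (fixedBy Ω g) : ℤ) = 1 := by simp only [hπ] at h7; omega
    have : Nat.card (fixedBy Ω g) = 1 := by exact_mod_cast this
    omega
  · exfalso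
    have h8 : Nat.card (fixedBy Ω g) = n := by
      have : (Nat.card (fixedBy Ω g) : ℤ) = n := by simp only [hπ] at h7; omega
      exact_mod_cast this
    apply hg
    apply FaithfulSMul.eq_of_smul_eq_smul (α := Ω)
    intro ω
    rw [one_smul]
    have h9 : fixedBy Ω g = Set.univ := by
      apply Set.eq_of_subset_of_ncard_le (Set.subset_univ _)
      rw [Set.ncard_univ, ← hn, ← h8]; rfl
    have : ω ∈ fixedBy Ω g := by rw [h9]; trivial
    exact this


/-- Let G act faithfully and transitively on a finite set and suppose every element of G fixing no point is an involution. Then either G is an elementary abelian 2-group, or G is a Frobenius group whose Frobenius kernel is an elementary abelian 2-group: G has a Frobenius complement H, and the elements lying in no conjugate of H, together with the identity, pairwise commute and square to the identity. -/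
theorem result {G Ω : Type*} [Group G] [Finite G] [MulAction G Ω] [FaithfulSMul G Ω] [Finite Ω]
    (htrans : MulAction.IsPretransitive G Ω) (hinv : ∀ g : G, (∀ ω : Ω, g • ω ≠ ω) → orderOf g = 2) :
    (IsMulCommutative G ∧ ∀ g : G, g ^ 2 = 1) ∨
    (∃ H : Subgroup G, Cfsg.IsFrobeniusComplement H ∧
      (∀ x ∈ Cfsg.frobeniusKernel H, x ^ 2 = 1) ∧
      ∀ x ∈ Cfsg.frobeniusKernel H, ∀ y ∈ Cfsg.frobeniusKernel H, x * y = y * x) := by
  classical
  haveI := Fintype.ofFinite G
  haveI := Fintype.ofFinite Ω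
  have hne : Nonempty Ω := by
    by_contra hcon
    have h := hinv 1 (fun ω => (hcon ⟨ω⟩).elim)
    rw [orderOf_one] at h; omega
  have hX2 : ∀ g : G, (∀ ω : Ω, g • ω ≠ ω) → g ^ 2 = 1 := fun g hg => by
    rw [← hinv g hg]; exact pow_orderOf_eq_one g
  have key := few_fixed htrans hX2
  -- the product of two derangements is a derangement or trivial
  have hcomm : ∀ x y : G, (∀ ω : Ω, x • ω ≠ ω) → (∀ ω : Ω, y • ω ≠ ω) → x * y = y * x := by
    intro x y hx hy
    have hx2 := hX2 x hx
    have hy2 := hX2 y hy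
    have hxi : x⁻¹ = x := inv_eq_of_mul_eq_one_left (by rw [← sq, hx2])
    have hyi : y⁻¹ = y := inv_eq_of_mul_eq_one_left (by rw [← sq, hy2])
    have main : (x * y) ^ 2 = 1 := by
      by_cases h1 : ∀ ω : Ω, (x * y) • ω ≠ ω
      · exact hX2 _ h1
      · push Not at h1
        obtain ⟨b, hb⟩ := h1
        by_contra hne1
        have hxy1 : x * y ≠ 1 := fun h => hne1 (by rw [h, one_pow])
        have hcard := key (x * y) hxy1
        -- `x • b` is fixed by `x * y`
        have hb' : (x * y) • (x • b) = x • b := by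
          have h2 : (x * y)⁻¹ • b = b := by
            rw [inv_smul_eq_iff]; exact hb.symm
          have h3 : (x * y) * x = x * (x * y)⁻¹ := by
            rw [mul_inv_rev, hxi, hyi, mul_assoc]
          rw [← mul_smul, h3, mul_smul, h2]
        have hsub : ∀ c d : Ω, (x * y) • c = c → (x * y) • d = d → c = d := by
          intro c d hc hd
          have hss : Subsingleton (MulAction.fixedBy Ω (x * y)) :=
            Finite.card_le_one_iff_subsingleton.mp hcard
          have := hss.elim (⟨c, hc⟩ : MulAction.fixedBy Ω (x * y)) ⟨d, hd⟩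
          exact congrArg Subtype.val this
        exact hx b (hsub _ _ hb' hb)
    have h5 : (x * y)⁻¹ = x * y := inv_eq_of_mul_eq_one_left (by rw [← sq, main])
    rw [← h5, mul_inv_rev, hxi, hyi]
  obtain ⟨a⟩ := hne
  by_cases hH : MulAction.stabilizer G a = ⊥
  · left
    have hall : ∀ g : G, g ≠ 1 → ∀ ω : Ω, g • ω ≠ ω := by
      intro g hg ω hω
      obtain ⟨h, rfl⟩ := MulAction.exists_smul_eq G a ω
      have : h⁻¹ * g * h ∈ MulAction.stabilizer G a := by
        rw [MulAction.mem_stabilizer_iff, mul_smul, mul_smul, hω, inv_smul_smul]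
      rw [hH, Subgroup.mem_bot] at this
      apply hg
      have h2 : g = h * (h⁻¹ * g * h) * h⁻¹ := by group
      rw [h2, this]; group
    refine ⟨⟨⟨fun x y => ?_⟩⟩, fun g => ?_⟩
    · by_cases hx : x = 1
      · rw [hx, one_mul, mul_one]
      by_cases hy : y = 1
      · rw [hy, one_mul, mul_one]
      exact hcomm x y (hall x hx) (hall y hy)
    · by_cases hx : g = 1
      · rw [hx, one_pow]
      exact hX2 g (hall g hx)
  · right
    have hker : ∀ x ∈ Cfsg.frobeniusKernel (MulAction.stabilizer G a), x = 1 ∨ ∀ ω : Ω, x • ω ≠ ω := by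
      intro x hx
      rcases hx with hx | hx
      · exact Or.inl hx
      · right
        intro ω hω
        obtain ⟨h, rfl⟩ := MulAction.exists_smul_eq G a ω
        apply hx h
        rw [Subgroup.mem_pointwise_smul_iff_inv_smul_mem]
        rw [← map_inv, MulAut.smul_def, MulAut.conj_apply, inv_inv]
        rw [MulAction.mem_stabilizer_iff, mul_smul, mul_smul, hω, inv_smul_smul]
    refine ⟨MulAction.stabilizer G a, ⟨hH, ?_, ?_⟩, ?_, ?_⟩
    · intro htop
      apply hH
      rw [eq_bot_iff]
      intro g hg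
      rw [Subgroup.mem_bot]
      apply FaithfulSMul.eq_of_smul_eq_smul (α := Ω)
      intro ω
      have hfix : ∀ h : G, h • a = a := fun h => by
        have : h ∈ MulAction.stabilizer G a := by rw [htop]; trivial
        exact this
      obtain ⟨h, rfl⟩ := MulAction.exists_smul_eq G a ω
      rw [hfix h, hfix g, one_smul]
    · intro g hg
      rw [eq_bot_iff]
      intro z hz
      obtain ⟨hz1, hz2⟩ := Subgroup.mem_inf.mp hz
      rw [Subgroup.mem_pointwise_smul_iff_inv_smul_mem] at hz2
      rw [← map_inv, MulAut.smul_def, MulAut.conj_apply, inv_inv,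
        MulAction.mem_stabilizer_iff, mul_smul, mul_smul, inv_smul_eq_iff] at hz2
      rw [Subgroup.mem_bot]
      by_contra hz3
      have hcard := key z hz3
      have hss : Subsingleton (MulAction.fixedBy Ω z) :=
        Finite.card_le_one_iff_subsingleton.mp hcard
      have := hss.elim (⟨a, hz1⟩ : MulAction.fixedBy Ω z) ⟨g • a, hz2⟩
      exact hg (congrArg Subtype.val this).symm
    · intro x hx
      rcases hker x hx with h | h
      · rw [h, one_pow]
      · exact hX2 x h
    · intro x hx y hy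
      rcases hker x hx with h | h
      · rw [h, one_mul, mul_one]
      rcases hker y hy with h' | h'
      · rw [h', one_mul, mul_one]
      exact hcomm x y h h'


end Cfsg.Agent.S3555
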