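import Cfsg.Statements.S3556
import Cfsg.Agent.H59.PrimComp2

set_option autoImplicit false
set_option linter.style.haveILetI false
open Cfsg

namespace Cfsg.Agent.S3556

open scoped Pointwise
open Cfsg.Agent.H59

/-- Let G act faithfully and primitively on a finite set with at least two points, and suppose that for some fixed prime p every element of G fixing no point has order a power of p. Then G is of affine type (it has a regular normal subgroup that is an elementary abelian r-group for some prime r) or almost simple (it has a non-abelian simple normal subgroup with trivial centralizer). -/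
theorem result {G Ω : Type*} [Group G] [Finite G] [MulAction G Ω] [FaithfulSMul G Ω] [Finite Ω]
    (hprim : MulAction.IsPreprimitive G Ω) (hΩ : 2 ≤ Nat.card Ω) (p : ℕ) (hp : p.Prime)
    (hder : ∀ g : G, (∀ ω : Ω, g • ω ≠ ω) → ∃ k : ℕ, orderOf g = p ^ k) :
    (∃ (N : Subgroup G) (r : ℕ), r.Prime ∧ N.Normal ∧ Cfsg.IsElementaryAbelian r N ∧
      MulAction.IsPretransitive N Ω ∧ ∀ a : Ω, MulAction.stabilizer N a = ⊥) ∨
    (∃ T : Subgroup G, T.Normal ∧ IsSimpleGroup ↥T ∧ ¬ IsMulCommutative ↥T ∧
      Subgroup.centralizer (T : Set G) = ⊥) := by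
  classical
  haveI : Fact p.Prime := ⟨hp⟩
  haveI : Nontrivial Ω := (Finite.one_lt_card_iff_nontrivial).mp (by omega)
  haveI := hprim
  by_cases hab : ∃ A : Subgroup G, A.Normal ∧ IsMulCommutative A ∧ A ≠ ⊥
  · obtain ⟨A, hA, hAc, hA1⟩ := hab
    obtain ⟨N, r, hr, hN, -, hNe, hNt, hNs⟩ := exists_affine hprim A hA hAc hA1
    exact Or.inl ⟨N, r, hr, hN, hNe, hNt, hNs⟩
  right
  push Not at hab
  have hG : (⊤ : Subgroup G) ≠ ⊥ := by
    intro h
    obtain ⟨x, y, hxy⟩ := exists_pair_ne Ω
    obtain ⟨g, hg⟩ := MulAction.exists_smul_eq G x y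
    have : g ∈ (⊤ : Subgroup G) := trivial
    rw [h, Subgroup.mem_bot] at this
    rw [this, one_smul] at hg
    exact hxy hg
  obtain ⟨N, hN, -, hN1, hmin⟩ := Cfsg.Agent.Solv.exists_minimal_normal (⊤ : Subgroup G)
    inferInstance hG
  haveI := hN
  have hNc : ¬ IsMulCommutative N := fun h => hN1 (hab N hN h)
  obtain ⟨T, hT⟩ := exists_minComp N hN1 hmin hNc
  haveI := transitive_of_normal hprim N hN hN1
  have hTp := not_isPGroup_of_simple hT.simple hT.noncomm p
  by_cases hns : ∃ x ∈ T, x ≠ 1 ∧ ∃ ω : Ω, x • ω = ω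
  swap
  · exfalso
    push Not at hns
    apply hTp
    rw [IsPGroup.iff_orderOf]
    intro x
    by_cases hx : x = 1
    · exact ⟨0, by rw [hx]; simp⟩
    obtain ⟨k, hk⟩ := hder x (hns x x.2 (fun h => hx (Subtype.ext h)))
    exact ⟨k, by rw [← hk, Subgroup.orderOf_coe]⟩
  obtain ⟨t, ht, htd⟩ := hT.exists_derangement (Ω := Ω)
  have hCp : IsPGroup p (Subgroup.centralizer (T : Set G)) := by
    rw [isPGroup_iff_pow_pow_eq_one]
    rintro ⟨y, hy⟩
    obtain ⟨k, hk⟩ := hder (t * y) (hT.derangement_mul hprim hns ht htd hy)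
    refine ⟨k, ?_⟩
    have h1 : (t * y) ^ p ^ k = 1 := by rw [← hk]; exact pow_orderOf_eq_one _
    have hcomm : Commute t y := Subgroup.mem_centralizer_iff.mp hy t ht
    rw [hcomm.mul_pow] at h1
    have h2 : y ^ p ^ k ∈ T ⊓ Subgroup.centralizer (T : Set G) := by
      refine ⟨?_, Subgroup.pow_mem _ hy _⟩
      have h3 : y ^ p ^ k = (t ^ p ^ k)⁻¹ := by
        rw [eq_inv_iff_mul_eq_one, ← (hcomm.pow_pow _ _).eq]; exact h1
      rw [h3]; exact T.inv_mem (T.pow_mem ht _)
    rw [inf_centralizer_of_simple hT.simple hT.noncomm, Subgroup.mem_bot] at h2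
    exact Subtype.ext h2
  by_cases hTN : T = N
  · refine ⟨T, ?_, hT.simple, hT.noncomm, ?_⟩
    · rw [hTN]; exact hN
    have hCn : (Subgroup.centralizer (T : Set G)).Normal := by
      rw [hTN]; infer_instance
    by_contra hC1
    haveI : Nontrivial (Subgroup.centralizer (T : Set G)) :=
      (Subgroup.nontrivial_iff_ne_bot _).mpr hC1
    haveI := hCp.center_nontrivial
    have h1 : (Subgroup.center (Subgroup.centralizer (T : Set G))).map
        (Subgroup.centralizer (T : Set G)).subtype = ⊥ := by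
      apply hab
      · exact ConjAct.normal_of_characteristic_of_normal
      · refine ⟨⟨?_⟩⟩
        rintro ⟨_, x, hx, rfl⟩ ⟨_, y, hy, rfl⟩
        apply Subtype.ext
        have h := Subgroup.mem_center_iff.mp hy x
        exact congrArg (Subgroup.subtype _) h
    rw [Subgroup.map_eq_bot_iff_of_injective _ (Subgroup.subtype_injective _)] at h1
    exact (Subgroup.nontrivial_iff_ne_bot _).mp ‹Nontrivial (Subgroup.center _)› h1
  · exfalso
    obtain ⟨g, -, hg⟩ := hT.exists_conj_ne hTN
    have h1 : IsPGroup p (MulAut.conj g • T : Subgroup G) := hCp.to_le hg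
    exact hTp (h1.of_equiv (Subgroup.equivSMul (MulAut.conj g) T).symm)


end Cfsg.Agent.S3556
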