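import Cfsg.Statements.S3557
import Cfsg.Agent.H59.TwoPSq
import Cfsg.Agent.H95.SylowOrbit


set_option autoImplicit false
set_option linter.style.haveILetI false
open Cfsg

namespace Cfsg.Agent.S3557


open Cfsg.Agent.H59 Cfsg.Agent.H23

/-- A `p`-group acting faithfully with two orbits of size `p ^ 2`. -/
theorem two_orbits {P Ω : Type*} [Group P] [Finite P] [MulAction P Ω] [FaithfulSMul P Ω] [Finite Ω] {p : ℕ}
    [hp : Fact p.Prime] (hP : IsPGroup p P) {D1 D2 : Set Ω}
    (hcov : ∀ x, x ∈ D1 ∨ x ∈ D2) (hdis : ∀ x, x ∈ D1 → x ∉ D2)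
    (inv1 : ∀ (g : P) (x : Ω), x ∈ D1 → g • x ∈ D1) (inv2 : ∀ (g : P) (x : Ω), x ∈ D2 → g • x ∈ D2)
    (tr1 : ∀ x ∈ D1, ∀ y ∈ D1, ∃ g : P, g • x = y) (tr2 : ∀ x ∈ D2, ∀ y ∈ D2, ∃ g : P, g • x = y)
    (card1 : Nat.card D1 = p ^ 2) (card2 : Nat.card D2 = p ^ 2) :
    ∃ σ : Equiv.Perm Ω, σ ^ p = 1 ∧ (∀ x, σ x ≠ x) ∧ ∀ a b, ∃ g : P, σ a = g • a ∧ σ b = g • b := by
  classical
  have hker : ∀ D : Set Ω, (∀ (g : P) (x : Ω), x ∈ D → g • x ∈ D) → ∃ K : Subgroup P, K.Normal ∧
      ∀ g, g ∈ K ↔ ∀ x ∈ D, g • x = x := by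
    intro D hD
    refine ⟨{ carrier := {g | ∀ x ∈ D, g • x = x}
              mul_mem' := ?_, one_mem' := fun x _ => one_smul P x, inv_mem' := ?_ }, ?_, fun g => Iff.rfl⟩
    · intro a b ha hb x hx
      rw [mul_smul, hb x hx, ha x hx]
    · intro a ha x hx
      rw [inv_smul_eq_iff, ha x hx]
    · refine ⟨fun k hk g x hx => ?_⟩
      rw [mul_smul, mul_smul, hk _ (hD _ _ hx), smul_inv_smul]
  obtain ⟨K1, hK1n, hK1⟩ := hker D1 inv1
  obtain ⟨K2, hK2n, hK2⟩ := hker D2 inv2
  have hfaith : ∀ g : P, g ∈ K1 → g ∈ K2 → g = 1 := by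
    intro g h1 h2
    apply FaithfulSMul.eq_of_smul_eq_smul (α := Ω)
    intro x
    rw [one_smul]
    rcases hcov x with hx | hx
    · exact (hK1 g).1 h1 x hx
    · exact (hK2 g).1 h2 x hx
  have hcomm : ∀ z ∈ Subgroup.center P, ∀ g : P, g * z = z * g := fun z hz g =>
    Subgroup.mem_center_iff.1 hz g
  -- central elements outside both kernels
  have key : ∀ z ∈ Subgroup.center P, orderOf z = p → z ∉ K1 → z ∉ K2 →
      ∃ σ : Equiv.Perm Ω, σ ^ p = 1 ∧ (∀ x, σ x ≠ x) ∧ ∀ a b, ∃ g : P, σ a = g • a ∧ σ b = g • b := by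
    intro z hz hzo hz1 hz2
    refine ⟨MulAction.toPerm z, ?_, ?_, fun a b => ⟨z, rfl, rfl⟩⟩
    · have h1 : (MulAction.toPermHom P Ω) z ^ p = 1 := by
        rw [← map_pow, ← hzo, pow_orderOf_eq_one, map_one]
      exact h1
    · intro x hx
      change z • x = x at hx
      have h2 : ∀ g : P, z • g • x = g • x := by
        intro g
        rw [← mul_smul, ← hcomm z hz g, mul_smul, hx]
      rcases hcov x with h | h
      · apply hz1
        rw [hK1]
        intro y hy
        obtain ⟨g, rfl⟩ := tr1 x h y hy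
        exact h2 g
      · apply hz2
        rw [hK2]
        intro y hy
        obtain ⟨g, rfl⟩ := tr2 x h y hy
        exact h2 g
  by_cases h1 : K1 = ⊥
  · by_cases h2 : K2 = ⊥
    · -- both actions faithful
      have hne : (⊤ : Subgroup P) ≠ ⊥ := by
        intro h
        have h3 : Nat.card D1 ≤ 1 := by
          rw [Finite.card_le_one_iff_subsingleton]
          refine ⟨fun x y => Subtype.ext ?_⟩
          obtain ⟨g, hg⟩ := tr1 x.1 x.2 y.1 y.2
          have h4 : g ∈ (⊥ : Subgroup P) := by rw [← h]; exact Subgroup.mem_top g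
          rw [← hg, Subgroup.mem_bot.1 h4, one_smul]
        rw [card1] at h3
        have := Nat.one_lt_pow (by norm_num : (2:ℕ) ≠ 0) hp.out.one_lt
        omega
      obtain ⟨z, _, hzo, hzc⟩ := exists_central_orderOf hP (inferInstance : (⊤ : Subgroup P).Normal) hne
      have hz1 : z ≠ 1 := by
        rintro rfl
        rw [orderOf_one] at hzo
        exact hp.out.one_lt.ne hzo
      exact key z hzc hzo (by rw [h1, Subgroup.mem_bot]; exact hz1)
        (by rw [h2, Subgroup.mem_bot]; exact hz1)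
    · obtain ⟨z, hzK, hzo, hzc⟩ := exists_central_orderOf hP hK2n h2
      have hz1 : z ≠ 1 := by
        rintro rfl
        rw [orderOf_one] at hzo
        exact hp.out.one_lt.ne hzo
      exact core hP hcov hdis inv1 inv2 tr1 tr2 card1 card2
        (fun g hg => by
          have h3 : g ∈ K1 := (hK1 g).2 hg
          rwa [h1, Subgroup.mem_bot] at h3)
        (hcomm z hzc) (by rw [← hzo]; exact pow_orderOf_eq_one z) hz1 ((hK2 z).1 hzK)
  · obtain ⟨z, hzK, hzo, hzc⟩ := exists_central_orderOf hP hK1n h1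
    have hz1 : z ≠ 1 := by
      rintro rfl
      rw [orderOf_one] at hzo
      exact hp.out.one_lt.ne hzo
    by_cases h2 : K2 = ⊥
    · exact core hP (fun x => (hcov x).symm) (fun x hx hx' => hdis x hx' hx) inv2 inv1 tr2 tr1 card2 card1
        (fun g hg => by
          have h3 : g ∈ K2 := (hK2 g).2 hg
          rwa [h2, Subgroup.mem_bot] at h3)
        (hcomm z hzc) (by rw [← hzo]; exact pow_orderOf_eq_one z) hz1 ((hK1 z).1 hzK)
    · obtain ⟨z', hzK', hzo', hzc'⟩ := exists_central_orderOf hP hK2n h2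
      have hz1' : z' ≠ 1 := by
        rintro rfl
        rw [orderOf_one] at hzo'
        exact hp.out.one_lt.ne hzo'
      have h3 : z * z' ≠ 1 := by
        intro h
        have h4 : z = z'⁻¹ := mul_eq_one_iff_eq_inv.1 h
        apply hz1
        apply hfaith z hzK
        rw [h4]
        exact inv_mem hzK'
      have hc : Commute z z' := (hcomm z' hzc' z)
      refine key (z * z') (mul_mem hzc hzc') ?_ ?_ ?_
      · have h4 : (z * z') ^ p = 1 := by
          rw [hc.mul_pow]
          nth_rw 1 [← hzo]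
          rw [pow_orderOf_eq_one, ← hzo', pow_orderOf_eq_one, one_mul]
        rcases (Nat.dvd_prime hp.out).1 (orderOf_dvd_of_pow_eq_one h4) with h5 | h5
        · exact absurd (orderOf_eq_one_iff.1 h5) h3
        · exact h5
      · intro h
        apply hz1'
        exact hfaith z' ((Subgroup.mul_mem_cancel_left K1 hzK).1 h) hzK'
      · intro h
        apply hz1
        exact hfaith z hzK ((Subgroup.mul_mem_cancel_right K2 hzK').1 h)

/-- Let G act faithfully and transitively on a finite set with 2p² points, p a prime, and suppose G is 2-closed: every permutation of the set which, on each ordered pair of points, agrees with some element of G, is itself induced by an element of G. Then some element of G of prime order fixes no point. -/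
theorem result {G Ω : Type*} [Group G] [Finite G] [MulAction G Ω] [FaithfulSMul G Ω] [Finite Ω]
    (htrans : MulAction.IsPretransitive G Ω) (p : ℕ) (hp : p.Prime) (hcard : Nat.card Ω = 2 * p ^ 2)
    (hcl : ∀ σ : Equiv.Perm Ω, (∀ a b : Ω, ∃ g : G, σ a = g • a ∧ σ b = g • b) → ∃ g : G, ∀ a : Ω, σ a = g • a) :
    ∃ g : G, (orderOf g).Prime ∧ ∀ ω : Ω, g • ω ≠ ω := by

  classical
  have := htrans
  haveI : Fact p.Prime := ⟨hp⟩
  obtain ⟨P⟩ : Nonempty (Sylow p G) := inferInstance
  have hP : IsPGroup p (P : Subgroup G) := P.isPGroup'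
  have hp1 : 1 < p := hp.one_lt
  have hfin : (Nat.card Ω) ≠ 0 := by rw [hcard]; positivity
  -- orbits of `P` have size at least `p ^ 2`
  have horb : ∀ x : Ω, p ^ 2 ≤ (MulAction.orbit (P : Subgroup G) x).ncard := by
    intro x
    apply Nat.le_of_dvd
    · rw [Set.ncard_pos]
      exact ⟨x, MulAction.mem_orbit_self x⟩
    · apply Cfsg.Agent.H95.pow_dvd_ncard_sylow_orbit p P x 2
      rw [hcard]
      exact Dvd.intro_left _ rfl
  have fin : ∀ σ : Equiv.Perm Ω, σ ^ p = 1 → (∀ x, σ x ≠ x) →
      (∀ a b, ∃ g : (P : Subgroup G), σ a = g • a ∧ σ b = g • b) →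
      ∃ g : G, (orderOf g).Prime ∧ ∀ ω : Ω, g • ω ≠ ω := by
    intro σ h1 h2 h3
    obtain ⟨g, hg⟩ := hcl σ (fun a b => by
      obtain ⟨g, h4, h5⟩ := h3 a b
      exact ⟨g.1, h4, h5⟩)
    have h4 : MulAction.toPermHom G Ω g = σ := by
      apply Equiv.Perm.ext
      intro x
      exact (hg x).symm
    have h5 : g ^ p = 1 := by
      apply MulAction.toPerm_injective (β := Ω)
      have h6 : MulAction.toPermHom G Ω (g ^ p) = MulAction.toPermHom G Ω 1 := by
        rw [map_pow, h4, h1, map_one]
      exact h6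
    have hne : Nonempty Ω := (Nat.card_pos_iff.1 (Nat.pos_of_ne_zero hfin)).1
    obtain ⟨x0⟩ := hne
    refine ⟨g, ?_, fun ω h6 => h2 ω (by rw [hg ω, h6])⟩
    rcases (Nat.dvd_prime hp).1 (orderOf_dvd_of_pow_eq_one h5) with h6 | h6
    · rw [orderOf_eq_one_iff] at h6
      exact absurd (by rw [hg x0, h6, one_smul]) (h2 x0)
    · rw [h6]; exact hp
  obtain ⟨x0⟩ : Nonempty Ω := (Nat.card_pos_iff.1 (Nat.pos_of_ne_zero hfin)).1
  by_cases htr : MulAction.orbit (P : Subgroup G) x0 = Set.univ
  · -- transitive Sylow subgroup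
    have htop : (⊤ : Subgroup (P : Subgroup G)) ≠ ⊥ := by
      intro h
      have h1 : (MulAction.orbit (P : Subgroup G) x0).ncard ≤ 1 := by
        rw [Set.ncard_le_one]
        rintro _ ⟨g, rfl⟩ _ ⟨g', rfl⟩
        have h2 : ∀ g : (P : Subgroup G), g = 1 := fun g => by
          have h3 : g ∈ (⊥ : Subgroup (P : Subgroup G)) := by rw [← h]; exact Subgroup.mem_top g
          exact Subgroup.mem_bot.1 h3
        rw [h2 g, h2 g']
      have h2 := horb x0
      have := Nat.one_lt_pow (by norm_num : (2:ℕ) ≠ 0) hp1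
      omega
    obtain ⟨z, _, hzo, hzc⟩ := exists_central_orderOf hP
      (inferInstance : (⊤ : Subgroup (P : Subgroup G)).Normal) htop
    refine ⟨z.1, by rw [Subgroup.orderOf_coe, hzo]; exact hp, ?_⟩
    intro ω hω
    have h1 : z = 1 := by
      apply Subtype.ext
      apply FaithfulSMul.eq_of_smul_eq_smul (α := Ω)
      intro y
      have hy : y ∈ MulAction.orbit (P : Subgroup G) x0 := by rw [htr]; exact Set.mem_univ y
      have hω' : ω ∈ MulAction.orbit (P : Subgroup G) x0 := by rw [htr]; exact Set.mem_univ ω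
      have h2 : y ∈ MulAction.orbit (P : Subgroup G) ω := by
        rw [MulAction.orbit_eq_iff.2 hω']; exact hy
      obtain ⟨g, rfl⟩ := h2
      have h3 : (z * g) • ω = g • ω := by
        rw [← Subgroup.mem_center_iff.1 hzc g, mul_smul]
        congr 1
      rw [mul_smul] at h3
      change z.1 • _ = (1 : G) • _
      rw [one_smul]
      exact h3
    rw [h1, orderOf_one] at hzo
    exact hp1.ne hzo
  · -- two orbits
    obtain ⟨y0, hy0⟩ : ∃ y, y ∉ MulAction.orbit (P : Subgroup G) x0 := by
      by_contra hcon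
      push Not at hcon
      exact htr (Set.eq_univ_of_forall hcon)
    set D1 := MulAction.orbit (P : Subgroup G) x0 with hD1
    set D2 := MulAction.orbit (P : Subgroup G) y0 with hD2
    have hdisj : Disjoint D1 D2 := by
      rw [Set.disjoint_left]
      intro x hx hx'
      apply hy0
      have h1 : MulAction.orbit (P : Subgroup G) x = D1 := MulAction.orbit_eq_iff.2 hx
      have h2 : MulAction.orbit (P : Subgroup G) x = D2 := MulAction.orbit_eq_iff.2 hx'
      rw [← h1, h2]
      exact MulAction.mem_orbit_self y0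
    have hsum : D1.ncard + D2.ncard = (D1 ∪ D2).ncard := (Set.ncard_union_eq hdisj).symm
    have hle : (D1 ∪ D2).ncard ≤ 2 * p ^ 2 := by
      rw [← hcard, ← Set.ncard_univ]
      exact Set.ncard_le_ncard (Set.subset_univ _)
    have h1 : p ^ 2 ≤ D1.ncard := horb x0
    have h2 : p ^ 2 ≤ D2.ncard := horb y0
    have c1 : D1.ncard = p ^ 2 := by omega
    have c2 : D2.ncard = p ^ 2 := by omega
    have huniv : D1 ∪ D2 = Set.univ := by
      apply Set.eq_of_subset_of_ncard_le (Set.subset_univ _)
      rw [Set.ncard_univ, hcard, ← hsum, c1, c2]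
      omega
    have hfa : FaithfulSMul (P : Subgroup G) Ω := by
      refine ⟨fun {a b} h => ?_⟩
      apply Subtype.ext
      apply FaithfulSMul.eq_of_smul_eq_smul (α := Ω)
      exact h
    obtain ⟨σ, h3, h4, h5⟩ := two_orbits (P := (P : Subgroup G)) hP (D1 := D1) (D2 := D2)
      (fun x => by
        have : x ∈ D1 ∪ D2 := by rw [huniv]; exact Set.mem_univ x
        exact this)
      (fun x hx hx' => Set.disjoint_left.1 hdisj hx hx')
      (fun g x hx => MulAction.mem_orbit_of_mem_orbit g hx)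
      (fun g x hx => MulAction.mem_orbit_of_mem_orbit g hx)
      (fun x hx y hy => by
        have : y ∈ MulAction.orbit (P : Subgroup G) x := by
          rw [MulAction.orbit_eq_iff.2 hx]; exact hy
        exact this)
      (fun x hx y hy => by
        have : y ∈ MulAction.orbit (P : Subgroup G) x := by
          rw [MulAction.orbit_eq_iff.2 hx]; exact hy
        exact this)
      (by rw [Nat.card_coe_set_eq, c1]) (by rw [Nat.card_coe_set_eq, c2])
    exact fin σ h3 h4 h5


end Cfsg.Agent.S3557
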