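import Cfsg.Statements.S3589
import Cfsg.Agent.H39.QMin

set_option autoImplicit false
open Cfsg

namespace Cfsg.Agent.S3589

open Module QuadraticMap Cfsg.Agent.Orth Cfsg.Agent.OCase Cfsg.Agent.H39.EForm Cfsg.Agent.H39.SpecBC Cfsg.Agent.H39.QOrd
open Cfsg.Agent.H42.SpSpec
open Cfsg.Agent.ClGeo (sfB sfB_isAlt sfB_nondegenerate)

/-- Let F be a finite field of characteristic 2 and let a, b ∈ F make the binary form z₁² + a z₁z₂ + b z₂² anisotropic. Then the symplectic group PSp(8,F) (= Sp(8,F)) and the full isometry group of the non-singular quadratic form x₁y₁ + x₂y₂ + x₃y₃ + (z₁² + a z₁z₂ + b z₂²) of minus type in dimension 8 have the same set of element orders. -/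
theorem result {F : Type*} [Field F] [Fintype F]
    [CharP F 2] (a b : F) (han : ∀ z₁ z₂ : F, z₁ ^ 2 + a * z₁ * z₂ + b * z₂ ^ 2 = 0 → z₁ = 0 ∧ z₂ = 0) :
    Set.range (orderOf : Cfsg.PSp 4 F → ℕ) = Set.range (orderOf : ↥(Cfsg.isometryGroup F (Cfsg.quadFormMinus 3 F a b)) → ℕ) := by
  classical
  have h11 : (-1 : (Fin 4 ⊕ Fin 4 → F) →ₗ[F] (Fin 4 ⊕ Fin 4 → F)) = 1 := by
    apply LinearMap.ext
    intro v
    show -v = v
    exact neg_eq_of_add_eq_zero_left (by rw [← two_smul F, CharTwo.two_eq_zero, zero_smul])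
  have hnd : (polarBilin (qfMinus 3 F a b)).Nondegenerate := qfMinus_nondegenerate 3 F (disc_ne_zero_of_aniso han)
  have hfr : Module.finrank F ((Fin 3 ⊕ Fin 3) ⊕ Fin 2 → F) = 2 * 4 := by
    rw [Module.finrank_fintype_fun_eq_card, Fintype.card_sum, Fintype.card_sum, Fintype.card_fin, Fintype.card_fin]
  change Set.range (orderOf : Cfsg.PSp 4 F → ℕ) =
    Set.range (orderOf : ↥(Cfsg.isometryGroup F ⇑(qfMinus 3 F a b)) → ℕ)
  ext N
  constructor
  · rintro ⟨x, rfl⟩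
    obtain ⟨T, hT, hTm⟩ := exists_end_of_psp x
    have hTm' : ∀ m : ℕ, x ^ m = 1 ↔ T ^ m = 1 := by
      intro m
      rw [hTm, h11, or_self]
    have hfx : IsOfFinOrder x := isOfFinOrder_of_finite x
    have ho : orderOf x = orderOf T := by
      apply Nat.dvd_antisymm
      · rw [orderOf_dvd_iff_pow_eq_one, hTm']
        exact pow_orderOf_eq_one T
      · rw [orderOf_dvd_iff_pow_eq_one, ← hTm']
        exact pow_orderOf_eq_one x
    have hpos : 0 < orderOf T := by rw [← ho]; exact hfx.orderOf_pos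
    have h1 := qo_of_sp (sfB F (Fin 4)) (by
      rw [Module.finrank_fintype_fun_eq_card, Fintype.card_sum, Fintype.card_fin]) sfB_isAlt sfB_nondegenerate T hT hpos
    obtain ⟨g, hg⟩ := h1.to hnd hfr (by simp only [not_isPlus_minus 3 han])
    refine ⟨(bridge (qfMinus 3 F a b)).symm g, ?_⟩
    rw [MulEquiv.orderOf_eq, hg, ho]
  · rintro ⟨g, rfl⟩
    set h := bridge (qfMinus 3 F a b) g with hh
    have ho : orderOf h = orderOf g := by rw [hh, MulEquiv.orderOf_eq]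
    have hA : (polarBilin (qfMinus 3 F a b)).IsAlt := by
      intro v
      change polar (qfMinus 3 F a b) v v = 0
      rw [pself, CharTwo.two_eq_zero, zero_mul]
    obtain ⟨x, hx⟩ := exists_psp_of_end (n := 4) hfr _ hA hnd
      ((h : ((Fin 3 ⊕ Fin 3) ⊕ Fin 2 → F) ≃ₗ[F] ((Fin 3 ⊕ Fin 3) ⊕ Fin 2 → F)) :
        ((Fin 3 ⊕ Fin 3) ⊕ Fin 2 → F) →ₗ[F] ((Fin 3 ⊕ Fin 3) ⊕ Fin 2 → F)) (fun u v => OGrp_polar h u v)
    have hTp : ∀ i : ℕ, (((h : ((Fin 3 ⊕ Fin 3) ⊕ Fin 2 → F) ≃ₗ[F] ((Fin 3 ⊕ Fin 3) ⊕ Fin 2 → F)) :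
        ((Fin 3 ⊕ Fin 3) ⊕ Fin 2 → F) →ₗ[F] ((Fin 3 ⊕ Fin 3) ⊕ Fin 2 → F)) ^ i) =
        (((h ^ i : OGrp (qfMinus 3 F a b)) : ((Fin 3 ⊕ Fin 3) ⊕ Fin 2 → F) ≃ₗ[F] ((Fin 3 ⊕ Fin 3) ⊕ Fin 2 → F)) :
        ((Fin 3 ⊕ Fin 3) ⊕ Fin 2 → F) →ₗ[F] ((Fin 3 ⊕ Fin 3) ⊕ Fin 2 → F)) := by
      intro i
      induction i with
      | zero => rw [pow_zero, pow_zero]; rfl
      | succ i ih => rw [pow_succ, ih, pow_succ]; rfl
    have hone : ∀ i : ℕ, x ^ i = 1 ↔ h ^ i = 1 := by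
      intro i
      rw [hx, hTp]
      constructor
      · intro h0
        refine OGrp_ext fun v => ?_
        rw [coe_one_apply]
        rcases h0 with h0 | h0
        · have := LinearMap.congr_fun h0 v
          exact this
        · have := LinearMap.congr_fun h0 v
          refine Eq.trans this ?_
          show -v = v
          funext j
          exact CharTwo.neg_eq (v j)
      · intro h0
        rw [h0]
        exact Or.inl rfl
    refine ⟨x, ?_⟩
    rw [← ho]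
    apply Nat.dvd_antisymm
    · rw [orderOf_dvd_iff_pow_eq_one, hone]
      exact pow_orderOf_eq_one h
    · rw [orderOf_dvd_iff_pow_eq_one, ← hone]
      exact pow_orderOf_eq_one x

end Cfsg.Agent.S3589
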