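import Cfsg.Statements.S3590
import Cfsg.Agent.H39.QSemi

set_option autoImplicit false
open Cfsg

namespace Cfsg.Agent.S3590

open Module QuadraticMap Cfsg.Agent.Orth Cfsg.Agent.OCase Cfsg.Agent.H39.EForm Cfsg.Agent.H39.SpecBC Cfsg.Agent.H39.QOrd
open Cfsg.Agent.H42.SpSpec
open Cfsg.Agent.ClGeo (sfB sfB_isAlt sfB_nondegenerate)

section

variable {F : Type*} [Field F] [Finite F] [CharP F 2]

omit [Finite F] in
theorem neg_one_end {V : Type*} [AddCommGroup V] [Module F V] : (-1 : V →ₗ[F] V) = 1 := by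
  apply LinearMap.ext
  intro v
  show -v = v
  exact neg_eq_of_add_eq_zero_left (by rw [← two_smul F, CharTwo.two_eq_zero, zero_smul])

/-- orders of elements of `PSp` -/
theorem psp_of_qo.{u, v} {F : Type u} [Field F] [Finite F] [CharP F 2] {δ : Prop} {n N : ℕ}
    (h : QO.{u, v} F δ n N) : ∃ x : Cfsg.PSp n F, orderOf x = N := by
  obtain ⟨V, i1, i2, i3, Q, g, hV, hQ, ht, hg⟩ := h
  have hA : (polarBilin Q).IsAlt := by
    intro v
    change polar Q v v = 0
    rw [pself, CharTwo.two_eq_zero, zero_mul]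
  obtain ⟨x, hx⟩ := exists_psp_of_end (n := n) hV _ hA hQ (li g) (fun u v => OGrp_polar g u v)
  have hone : ∀ i : ℕ, x ^ i = 1 ↔ g ^ i = 1 := by
    intro i
    rw [hx, li_pow, neg_one_end, or_self]
    constructor
    · intro h
      exact li_inj h
    · intro h
      rw [h]
      rfl
  refine ⟨x, ?_⟩
  rw [← hg]
  apply Nat.dvd_antisymm
  · rw [orderOf_dvd_iff_pow_eq_one, hone]
    exact pow_orderOf_eq_one g
  · rw [orderOf_dvd_iff_pow_eq_one, ← hone]
    exact pow_orderOf_eq_one x

theorem dvd_range {G : Type*} [Group G] [Finite G] {N : ℕ} {x : G} (h : N ∣ orderOf x) : ∃ y : G, orderOf y = N := by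
  have h0 : orderOf x ≠ 0 := (orderOf_pos x).ne'
  obtain ⟨k, hk⟩ := h
  have hk0 : k ≠ 0 := by rintro rfl; rw [mul_zero] at hk; exact h0 hk
  refine ⟨x ^ k, ?_⟩
  rw [orderOf_pow_of_dvd hk0 (by rw [hk]; exact Dvd.intro_left _ rfl), hk]
  exact Nat.mul_div_cancel _ (Nat.pos_of_ne_zero hk0)

end

theorem main.{u} {F : Type u} [Field F] [Fintype F] [CharP F 2] (M : ℕ) :
    ∃ (H : Type u) (_ : Group H) (_ : Finite H), M < Nat.card H ∧
      Set.range (orderOf : H → ℕ) = Set.range (orderOf : Cfsg.PSp 4 F → ℕ) := by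
  classical
  have h2 : (2 : F) = 0 := CharTwo.two_eq_zero
  obtain ⟨ζ, hζ⟩ := exists_zeta F
  have han := aniso_of_root hζ
  set S := qfMinus 3 F 1 ζ with hS
  have hnd : (polarBilin S).Nondegenerate := qfMinus_nondegenerate 3 F (disc_ne_zero_of_aniso han)
  have hfr : Module.finrank F ((Fin 3 ⊕ Fin 3) ⊕ Fin 2 → F) = 2 * 4 := by
    rw [Module.finrank_fintype_fun_eq_card, Fintype.card_sum, Fintype.card_sum, Fintype.card_fin, Fintype.card_fin]
  have hts : IsPlus S ↔ False := by
    simp only [iff_false]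
    exact not_isPlus_minus 3 han
  haveI : Finite (((Fin 3 ⊕ Fin 3) ⊕ Fin 2 → F) ≃ₗ[F] ((Fin 3 ⊕ Fin 3) ⊕ Fin 2 → F)) :=
    DFunLike.finite _
  haveI hfO : Finite (OGrp S) := inferInstance
  have hfH : Finite (SD S (M + 1) (commutator (OGrp S))) :=
    Finite.of_equiv _ (SemidirectProduct.equivProd).symm
  refine ⟨SD S (M + 1) (commutator (OGrp S)), inferInstance, hfH, ?_, ?_⟩
  · rw [Nat.card_congr SemidirectProduct.equivProd, Nat.card_prod]
    have h3 : Nat.card (Multiplicative (Fin (M + 1) → ((Fin 3 ⊕ Fin 3) ⊕ Fin 2 → F))) =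
        Nat.card ((Fin 3 ⊕ Fin 3) ⊕ Fin 2 → F) ^ (M + 1) := by
      rw [Nat.card_congr Multiplicative.toAdd, Nat.card_fun, Nat.card_fin]
    have h4 : 2 ≤ Nat.card ((Fin 3 ⊕ Fin 3) ⊕ Fin 2 → F) := Finite.one_lt_card
    have h5 : 0 < Nat.card (commutator (OGrp S)) := Nat.card_pos
    calc M < M + 1 := Nat.lt_succ_self M
      _ < 2 ^ (M + 1) := Nat.lt_two_pow_self
      _ ≤ Nat.card ((Fin 3 ⊕ Fin 3) ⊕ Fin 2 → F) ^ (M + 1) := Nat.pow_le_pow_left h4 (M + 1)
      _ = Nat.card (Multiplicative (Fin (M + 1) → ((Fin 3 ⊕ Fin 3) ⊕ Fin 2 → F))) * 1 := by rw [h3, mul_one]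
      _ ≤ _ := Nat.mul_le_mul_left _ h5
  · ext N
    constructor
    · rintro ⟨⟨f, g⟩, rfl⟩
      obtain ⟨f, rfl⟩ := Multiplicative.ofAdd.surjective f
      have hgo : orderOf (g : OGrp S) = orderOf g := Subgroup.orderOf_coe g
      have hpos : 0 < orderOf (g : OGrp S) := orderOf_pos _
      have hd := sd_dvd h2 f g
      by_cases hall : ∀ i, ns (g : OGrp S) (orderOf g) (f i) = 0
      · have h3 := hd.2 hall
        obtain ⟨x, hx⟩ := psp_of_qo (F := F) (δ := False) (n := 4)
          ⟨_, inferInstance, inferInstance, inferInstance, S, (g : OGrp S), hfr, hnd, hts, rfl⟩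
        apply dvd_range (x := x)
        rw [hx, hgo]
        exact h3
      · push Not at hall
        obtain ⟨i, hi⟩ := hall
        rw [← hgo] at hi
        obtain ⟨δ, hδ⟩ := qo_of_ns hnd hfr g.2 hpos hi
        obtain ⟨x, hx⟩ := psp_of_qo hδ
        apply dvd_range (x := x)
        rw [hx, hgo]
        exact hd.1
    · rintro ⟨x, rfl⟩
      obtain ⟨T, hT, hTm⟩ := exists_end_of_psp x
      have hTm' : ∀ m : ℕ, x ^ m = 1 ↔ T ^ m = 1 := by
        intro m
        rw [hTm, neg_one_end, or_self]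
      have hfx : IsOfFinOrder x := isOfFinOrder_of_finite x
      have ho : orderOf x = orderOf T := by
        apply Nat.dvd_antisymm
        · rw [orderOf_dvd_iff_pow_eq_one, hTm']
          exact pow_orderOf_eq_one T
        · rw [orderOf_dvd_iff_pow_eq_one, ← hTm']
          exact pow_orderOf_eq_one x
      have hpos : 0 < orderOf T := by rw [← ho]; exact hfx.orderOf_pos
      obtain ⟨a, m, k, σ, ham, hk, ht, hd⟩ := sp_anal 4 _ (sfB F (Fin 4)) (by
        rw [Module.finrank_fintype_fun_eq_card, Fintype.card_sum, Fintype.card_fin]) sfB_isAlt sfB_nondegenerate T hT hpos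
      rw [← ho] at hd
      have hodd := ht.odd card_even Finite.one_lt_card
      rcases Nat.eq_zero_or_pos k with rfl | hk0
      · rw [pow_zero, one_mul] at hd
        have hq : QO.{u, u} F False 4 σ := by
          rcases Nat.eq_zero_or_pos m with rfl | hm
          · obtain rfl : a = 4 := by omega
            exact ht.qo_four
          · obtain ⟨δ, hδ⟩ := ht.qo
            exact hδ.pad False (by omega)
        obtain ⟨g, hg⟩ := hq.to hnd hfr hts
        have hgc := odd_mem_commutator hnd g (by rw [hg]; exact hodd)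
        have h3 : orderOf (SemidirectProduct.inr (⟨g, hgc⟩ : commutator (OGrp S)) : SD S (M + 1) (commutator (OGrp S))) = σ := by
          rw [orderOf_injective _ SemidirectProduct.inr_injective, ← Subgroup.orderOf_coe]
          exact hg
        apply dvd_range (x := (SemidirectProduct.inr (⟨g, hgc⟩ : commutator (OGrp S)) : SD S (M + 1) (commutator (OGrp S))))
        rw [h3]
        exact hd
      · have hk' : 2 ^ (k - 1) < 2 * m := by omega
        obtain ⟨δ, hδ⟩ := ht.qo
        have h3 := QC.add h2 hδ hodd (qc_pow_two h2 (¬ δ) hk0 hk' (by omega))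
        rw [ham] at h3
        obtain ⟨g, b, hgc, hg, hb⟩ := (h3.congr (ε' := False) (by by_cases h : δ <;> simp [h])).to hnd hfr hts
        set g' : commutator (OGrp S) := ⟨g, hgc⟩ with hg'
        have hgo : orderOf g' = 2 ^ (k - 1) * σ := by
          rw [← Subgroup.orderOf_coe]
          exact hg
        have h4 := sd_dvd_of_ne (M := M + 1) h2 (fun _ => b) g' (i := 0) (by rw [hgo]; exact hb)
        rw [hgo, ← mul_assoc, ← pow_succ', Nat.sub_add_cancel hk0] at h4
        exact dvd_range (hd.trans h4)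


/-- Let F be a finite field of characteristic 2. Then PSp(8,F) is not determined by its set of element orders, not even up to finitely many groups: for every bound there is a finite group of larger order with exactly the same set of element orders as PSp(8,F). -/
theorem result {F : Type*} [Field F] [Fintype F]
    [CharP F 2] (M : ℕ) :
    ∃ (H : Type) (_ : Group H) (_ : Fintype H), M < Fintype.card H ∧ Set.range (orderOf : H → ℕ) = Set.range (orderOf : Cfsg.PSp 4 F → ℕ) := by
  obtain ⟨H, i1, i2, h1, h2⟩ := main (F := F) M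
  haveI : Small.{0} H := ⟨Fin (Nat.card H), ⟨Finite.equivFin H⟩⟩
  haveI : Finite (Shrink.{0} H) := Finite.of_equiv _ (equivShrink H)
  have e' : Shrink.{0} H ≃* H := Shrink.mulEquiv
  refine ⟨Shrink.{0} H, inferInstance, Fintype.ofFinite _, ?_, ?_⟩
  · rwa [Fintype.card_eq_nat_card, Nat.card_congr e'.toEquiv]
  rw [← h2]
  ext N
  constructor
  · rintro ⟨x, rfl⟩
    exact ⟨e' x, MulEquiv.orderOf_eq e' x⟩
  · rintro ⟨x, rfl⟩
    exact ⟨e'.symm x, MulEquiv.orderOf_eq e'.symm x⟩

end Cfsg.Agent.S3590
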