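import Cfsg.Statements.S3668
import Cfsg.Agent.H18.SmallGr
import Cfsg.Agent.H10.Ord
import Cfsg.Agent.C2Ab.L33
import Cfsg.Agent.S0984
import Cfsg.Agent.H18N.N504ns
import Cfsg.Agent.H18N.N360a2
import Cfsg.Agent.H18N.N360b
import Cfsg.Agent.H18N.N360c
import Cfsg.Agent.H18.N2520

set_option autoImplicit false
open Cfsg

namespace Cfsg.Agent.S3668

open Cfsg.Agent.H18.SG Cfsg.Agent.H18.PCl

universe u v

theorem orders {H : Type u} [Group H] [Finite H] [IsSimpleGroup H] (hH : ¬ IsMulCommutative H)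
    (hlt : Nat.card H < 6000) : Nat.card H = 60 ∨ Nat.card H = 168 ∨ Nat.card H = 360 ∨ Nat.card H = 504 ∨
      Nat.card H = 660 ∨ Nat.card H = 1092 ∨ Nat.card H = 2448 ∨ Nat.card H = 2520 ∨ Nat.card H = 3420 ∨
      Nat.card H = 4080 ∨ Nat.card H = 5616 := by
  rcases Nat.lt_or_ge 1092 (Nat.card H) with h1 | h1
  · rcases Nat.lt_or_ge 3640 (Nat.card H) with h2 | h2
    · have := S0983.result hH h2 (by omega)
      omega
    · have := H10.Ord.orders hH h1 h2
      omega
  · have := S0496.result hH h1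
    omega

theorem iso {G : Type u} [Group G] [Finite G] [IsSimpleGroup G] {S : Type v} [Group S] [Finite S] [IsSimpleGroup S]
    (hS : ¬ IsMulCommutative S) (hlt : Nat.card S < 6000) (hcard : Nat.card G = Nat.card S) :
    Nonempty (G ≃* S) := by
  rcases orders hS hlt with h | h | h | h | h | h | h | h | h | h | h <;> rw [h] at hcard
  · exact ⟨(S0494.result hcard).some.trans (S0494.result h).some.symm⟩
  · have hF : Fintype.card (ZMod 7) = 7 := ZMod.card 7
    haveI : Fact (Nat.Prime 7) := ⟨by norm_num⟩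
    exact ⟨(S0495.result hcard hF).some.trans (S0495.result h hF).some.symm⟩
  · exact ⟨(S0497.result hcard).some.trans (S0497.result h).some.symm⟩
  · obtain ⟨F, _, _, hF, -⟩ := exists_field_two 3 (by norm_num)
    norm_num at hF
    exact ⟨(S1011.result hcard hF).some.trans (S1011.result h hF).some.symm⟩
  · haveI : Fact (Nat.Prime 11) := ⟨by norm_num⟩
    have hF : Fintype.card (ZMod 11) = 11 := ZMod.card 11
    exact ⟨(S0498.result 11 (Or.inl rfl) (by rw [hcard]; norm_num) hF).some.trans
      (S0498.result 11 (Or.inl rfl) (by rw [h]; norm_num) hF).some.symm⟩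
  · haveI : Fact (Nat.Prime 13) := ⟨by norm_num⟩
    have hF : Fintype.card (ZMod 13) = 13 := ZMod.card 13
    exact ⟨(S0498.result 13 (Or.inr rfl) (by rw [hcard]; norm_num) hF).some.trans
      (S0498.result 13 (Or.inr rfl) (by rw [h]; norm_num) hF).some.symm⟩
  · haveI : Fact (Nat.Prime 17) := ⟨by norm_num⟩
    have hF : Fintype.card (ZMod 17) = 17 := ZMod.card 17
    exact ⟨(S1020.result hcard hF).some.trans (S1020.result h hF).some.symm⟩
  · exact ⟨(S0984.result hcard).some.trans (S0984.result h).some.symm⟩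
  · haveI : Fact (Nat.Prime 19) := ⟨by norm_num⟩
    have hF : Fintype.card (ZMod 19) = 19 := ZMod.card 19
    exact ⟨(S1021.result hcard hF).some.trans (S1021.result h hF).some.symm⟩
  · obtain ⟨F, _, _, hF, -⟩ := exists_field_two 4 (by norm_num)
    norm_num at hF
    exact ⟨(S0981.result hcard hF).some.trans (S0981.result h hF).some.symm⟩
  · exact ⟨(C2Ab.L33.iso33 hcard).some.trans (C2Ab.L33.iso33 h).some.symm⟩

theorem proper {G : Type u} [Group G] [Finite G] (hlt : Nat.card G < 6000)
    (H : Type u) [Group H] [Finite H] (hs : IsSimpleGroup H) (hH : ¬ IsMulCommutative H)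
    (h1 : Nat.card H < Nat.card G) (h2 : Nat.card H ∣ Nat.card G) :
    Nat.card H = 60 ∨ Nat.card H = 168 ∨ Nat.card H = 360 ∨ Nat.card H = 504 ∨
      Nat.card H = 660 ∨ Nat.card H = 1092 ∨ Nat.card H = 2448 ∨ Nat.card H = 2520 := by
  obtain ⟨k, hk⟩ := h2
  have h3 : 2 ≤ k := by
    rcases k with _ | _ | k
    · rw [mul_zero] at hk; have := Nat.card_pos (α := G); omega
    · omega
    · omega
  have h4 : Nat.card H * 2 ≤ Nat.card G := by rw [hk]; exact Nat.mul_le_mul_left _ h3
  have := orders hH (by omega)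
  omega

/-- closed_Y applied. -/
theorem vert {G : Type u} [Group G] [Finite G] (p : ℕ) (hp : p.Prime) {n : ℕ} (hcard : Nat.card G = n)
    (hlt : n < 6000) (hn : 0 < n) (hp2 : ¬ p ^ 2 ∣ n) (hg : goodB p n = true) (hns : ¬ IsSimpleGroup G)
    (hl : ∀ k ∈ [60, 168, 360, 504, 660, 1092, 2448, 2520], k ∣ n → k < n → ¬ p ∣ k) :
    p ∉ Cfsg.degreePrimes G := by
  haveI : Fact p.Prime := ⟨hp⟩
  obtain ⟨P⟩ : Nonempty (Sylow p G) := inferInstance
  refine not_mem_degreePrimes P (closed_Y (by rw [hcard]; exact hp2) (by rw [hcard]; exact good_of_B hn hg) hns ?_ P)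
    (comm_of_sq P (by rw [hcard]; exact hp2))
  intro H _ _ h1 h2 h3 h4
  have h5 := proper (by rw [hcard]; exact hlt) H h1 h2 h4 h3
  rw [hcard] at h3 h4
  refine hl _ ?_ h3 h4
  simp only [List.mem_cons, List.not_mem_nil, or_false]
  exact h5

theorem solv {G : Type u} [Group G] [Finite G] {n : ℕ} (hcard : Nat.card G = n)
    (hlt : n < 6000) (hns : ¬ IsSimpleGroup G)
    (hl : ∀ k ∈ [60, 168, 360, 504, 660, 1092, 2448, 2520], k ∣ n → k < n → False) :
    Group.IsSolvable G := by
  refine solvable_Z2 hns ?_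
  intro H _ _ h1 h2 h4 h3
  have h5 := proper (by rw [hcard]; exact hlt) H h1 h2 h4 h3
  rw [hcard] at h3 h4
  refine hl _ ?_ h3 h4
  simp only [List.mem_cons, List.not_mem_nil, or_false]
  exact h5

/-- closed_W applied. -/
theorem vertW {G : Type u} [Group G] [Finite G] (p r a : ℕ) (hp : p.Prime) (hr : r.Prime) {n : ℕ}
    (hcard : Nat.card G = n) (hn : 0 < n) (hpr : r ≠ p) (hp2 : ¬ p ^ 2 ∣ n) (hr2 : ¬ r ^ (a + 1) ∣ n)
    (hg : goodWB p (r ^ a) n = true) (hsol : Group.IsSolvable G) :
    p ∉ Cfsg.degreePrimes G ∨ r ∉ Cfsg.degreePrimes G := by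
  haveI : Fact p.Prime := ⟨hp⟩
  haveI : Fact r.Prime := ⟨hr⟩
  exact closed_W hsol hpr (by rw [hcard]; exact hp2) (by rw [hcard]; exact goodW_of_B hn hr hg)
    (by rw [hcard]; exact hr2)

theorem mem_of_deg {S : Type u} [Group S] {p d : ℕ} (hp : p.Prime) (h : d ∈ Cfsg.charDegrees S) (hd : p ∣ d) :
    p ∈ Cfsg.degreePrimes S := ⟨hp, d, h, hd⟩

theorem primes_of {n : ℕ} (hn : n ≠ 0) {a b c : ℕ} (h : n.primeFactors ⊆ {a, b, c}) :
    ∀ p : ℕ, p.Prime → p ∣ n → p = a ∨ p = b ∨ p = c := by
  intro p hp hd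
  have := h (Nat.mem_primeFactors.2 ⟨hp, hd, hn⟩)
  simpa using this

theorem dvd3 {n a b c i j k : ℕ} (ha : a.Prime) (hb : b.Prime) (hc : c.Prime) (h : n = a ^ i * b ^ j * c ^ k) :
    ∀ p : ℕ, p.Prime → p ∣ n → p = a ∨ p = b ∨ p = c := by
  intro p hp hd
  rw [h, hp.dvd_mul, hp.dvd_mul] at hd
  rcases hd with (hd | hd) | hd
  · exact Or.inl ((Nat.prime_dvd_prime_iff_eq hp ha).1 (hp.dvd_of_dvd_pow hd))
  · exact Or.inr (Or.inl ((Nat.prime_dvd_prime_iff_eq hp hb).1 (hp.dvd_of_dvd_pow hd)))
  · exact Or.inr (Or.inr ((Nat.prime_dvd_prime_iff_eq hp hc).1 (hp.dvd_of_dvd_pow hd)))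

theorem ords : Cfsg.Agent.H18.N2520.Ords.{u} := by
  intro H _ _ h1 h2 h3
  haveI := h1
  have := orders h2 (by omega)
  simp only [List.mem_cons, List.not_mem_nil, or_false]
  omega

theorem n360 {G : Type u} [Group G] [Finite G] (hcard : Nat.card G = 360) (hns : ¬ IsSimpleGroup G)
    (h6 : ∀ d ∈ Cfsg.charDegrees G, ¬ 6 ∣ d) (h10 : ∃ d ∈ Cfsg.charDegrees G, 10 ∣ d) : False := by
  by_cases hsol : Group.IsSolvable G
  · exact n360sol hcard hsol h10
  obtain ⟨R, hRn, h | h⟩ := H18N.N360a2.n360a hcard hns hsol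
  · exact H18N.N360c.n360c hcard R h.1 h.2.1 h.2.2 h6 h10
  · obtain ⟨hR, N, hN1, hN2, hN3, hN4⟩ := h
    have hq : Nat.card (G ⧸ R) = 120 := by
      have := Subgroup.card_eq_card_quotient_mul_card_subgroup R
      rw [hcard, hR] at this
      omega
    obtain ⟨d, hd, hd'⟩ := H18N.N360b.n360b hq N hN2 hN3 hN4
    refine h6 d ?_ hd'
    have h7 := (H34.Deg.mem_charDegrees_quot R d).1 hd
    obtain ⟨χ, -, hχ⟩ := h7
    exact ⟨χ, hχ⟩

/-- The character degree graph of a finite group has as vertices the primes dividing some irreducible complex character degree, two distinct primes being joined when their product divides some irreducible character degree; two groups have the same character degree graph when they have the same vertices and the same joined pairs. Let S be a finite non-abelian simple group of order less than 6000. If a finite group G has the same order as S and the same character degree graph as S, then G is isomorphic to S. -/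
theorem result {S : Type*} [Group S] [Finite S] [IsSimpleGroup S] (hS : ¬ IsMulCommutative S)
    (hlt : Nat.card S < 6000) {G : Type*} [Group G] [Finite G] (hcard : Nat.card G = Nat.card S) (hΓ : Cfsg.degreePrimes G = Cfsg.degreePrimes S ∧ Cfsg.degreeGraph G = Cfsg.degreeGraph S) :
    Nonempty (G ≃* S) := by
  by_cases hs : IsSimpleGroup G
  · exact iso hS hlt hcard
  exfalso
  obtain ⟨hV, hE⟩ := hΓ
  have hns := not_solvable hS
  -- edges
  have hedge : ∀ p q : ℕ, p.Prime → q.Prime → p ≠ q → (∃ d ∈ Cfsg.charDegrees S, p * q ∣ d) →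
      ∃ d ∈ Cfsg.charDegrees G, p * q ∣ d := by
    intro p q hp hq hpq hd
    have h1 : (Cfsg.degreeGraph S).Adj p q := ⟨hpq, hp, hq, hd⟩
    rw [← hE] at h1
    exact h1.2.2.2
  have hedge' : ∀ p q : ℕ, p.Prime → q.Prime → p ≠ q → (∃ d ∈ Cfsg.charDegrees G, p * q ∣ d) →
      ∃ d ∈ Cfsg.charDegrees S, p * q ∣ d := by
    intro p q hp hq hpq hd
    have h1 : (Cfsg.degreeGraph G).Adj p q := ⟨hpq, hp, hq, hd⟩
    rw [hE] at h1
    exact h1.2.2.2
  rcases orders hS hlt with h | h | h | h | h | h | h | h | h | h | h <;> rw [h] at hcard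
  · -- 60
    have h5 := (H78.L33V.three hns (a := 2) (b := 3) (c := 5) (dvd3 (i := 2) (j := 1) (k := 1) (by norm_num) (by norm_num) (by norm_num) (by rw [h]; norm_num))).2.2
    rw [← hV] at h5
    exact vert 5 (by norm_num) hcard (by norm_num) (by norm_num) (by norm_num) (by decide +kernel) hs (by decide) h5
  · -- 168
    have h5 := H78.L33V.three hns (a := 2) (b := 3) (c := 7) (dvd3 (i := 3) (j := 1) (k := 1) (by norm_num) (by norm_num) (by norm_num) (by rw [h]; norm_num))
    rw [← hV] at h5
    rcases vertW 7 2 3 (by norm_num) (by norm_num) hcard (by norm_num) (by norm_num) (by norm_num) (by norm_num)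
      (by decide +kernel) (solv hcard (by norm_num) hs (by decide)) with h6 | h6
    · exact h6 h5.2.2
    · exact h6 h5.1
  · -- 360
    obtain ⟨F, _, _, hF⟩ := exists_field_nine
    have e : Nonempty (S ≃* Matrix.ProjectiveSpecialLinearGroup (Fin 2) F) :=
      ⟨(S0497.result h).some.trans (S0254.result hF).some.symm⟩
    have hd := psl_data hF (Or.inl ⟨by decide, by norm_num⟩) e
    have h10 : ∃ d ∈ Cfsg.charDegrees G, 10 ∣ d :=
      hedge 2 5 (by norm_num) (by norm_num) (by norm_num) ⟨10, hd.2 10 (by norm_num), by norm_num⟩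
    refine n360 hcard hs ?_ h10
    intro d hd1 hd2
    obtain ⟨d', hd', hd''⟩ := hedge' 2 3 (by norm_num) (by norm_num) (by norm_num) ⟨d, hd1, hd2⟩
    norm_num at hd''
    rcases hd.1 d' hd' with h1 | h1 | h1 | h1
    · omega
    · omega
    · have := hd''.trans h1; norm_num at this
    · have := hd''.trans h1; norm_num at this
  · -- 504
    obtain ⟨F, _, _, hF, hF2⟩ := exists_field_two 3 (by norm_num)
    norm_num at hF
    have hd := psl_data hF (Or.inr ⟨hF2, by norm_num⟩) (S1011.result h hF)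
    have h5 := H78.L33V.three hns (a := 2) (b := 3) (c := 7) (dvd3 (i := 3) (j := 2) (k := 1) (by norm_num) (by norm_num) (by norm_num) (by rw [h]; norm_num))
    rw [← hV] at h5
    by_cases hsol : Group.IsSolvable G
    · rcases vertW 7 2 3 (by norm_num) (by norm_num) hcard (by norm_num) (by norm_num) (by norm_num) (by norm_num)
        (by decide +kernel) hsol with h6 | h6
      · exact h6 h5.2.2
      · exact h6 h5.1
    · refine H18.N504.n504ns hcard hs hsol ?_
      intro d hd1 hd2
      obtain ⟨d', hd', hd''⟩ := hedge' 2 3 (by norm_num) (by norm_num) (by norm_num) ⟨d, hd1, hd2⟩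
      norm_num at hd''
      rcases hd.1 d' hd' with h1 | h1 | h1 | h1
      · omega
      · omega
      · have := hd''.trans h1; norm_num at this
      · have := hd''.trans h1; norm_num at this
  · -- 660
    haveI : Fact (Nat.Prime 11) := ⟨by norm_num⟩
    have hF : Fintype.card (ZMod 11) = 11 := ZMod.card 11
    have hd := psl_data hF (Or.inl ⟨by decide, by norm_num⟩) (S0498.result 11 (Or.inl rfl) (by rw [h]; norm_num) hF)
    have h5 : 11 ∈ Cfsg.degreePrimes S := mem_of_deg (by norm_num) (hd.2 11 (by norm_num)) (by norm_num)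
    rw [← hV] at h5
    exact vert 11 (by norm_num) hcard (by norm_num) (by norm_num) (by norm_num) (by decide +kernel) hs (by decide) h5
  · -- 1092
    haveI : Fact (Nat.Prime 13) := ⟨by norm_num⟩
    have hF : Fintype.card (ZMod 13) = 13 := ZMod.card 13
    have hd := psl_data hF (Or.inl ⟨by decide, by norm_num⟩) (S0498.result 13 (Or.inr rfl) (by rw [h]; norm_num) hF)
    have h5 : 13 ∈ Cfsg.degreePrimes S := mem_of_deg (by norm_num) (hd.2 13 (by norm_num)) (by norm_num)
    rw [← hV] at h5
    exact vert 13 (by norm_num) hcard (by norm_num) (by norm_num) (by norm_num) (by decide +kernel) hs (by decide) h5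
  · -- 2448
    haveI : Fact (Nat.Prime 17) := ⟨by norm_num⟩
    have hF : Fintype.card (ZMod 17) = 17 := ZMod.card 17
    have hd := psl_data hF (Or.inl ⟨by decide, by norm_num⟩) (S1020.result h hF)
    have h5 : 17 ∈ Cfsg.degreePrimes S := mem_of_deg (by norm_num) (hd.2 17 (by norm_num)) (by norm_num)
    rw [← hV] at h5
    exact vert 17 (by norm_num) hcard (by norm_num) (by norm_num) (by norm_num) (by decide +kernel) hs (by decide) h5
  · -- 2520
    have h5 : 5 ∈ Cfsg.degreePrimes S ∧ 7 ∈ Cfsg.degreePrimes S := by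
      have he := H34.Deg.charDegrees_equiv (S0984.result h).some
      have := H78.A7V.a7v
      unfold Cfsg.degreePrimes at this ⊢
      rw [he]
      exact this
    rw [← hV] at h5
    exact Cfsg.Agent.H18.N2520.n2520' ords hcard hs h5.1 h5.2
  · -- 3420
    haveI : Fact (Nat.Prime 19) := ⟨by norm_num⟩
    have hF : Fintype.card (ZMod 19) = 19 := ZMod.card 19
    have hd := psl_data hF (Or.inl ⟨by decide, by norm_num⟩) (S1021.result h hF)
    have h5 : 19 ∈ Cfsg.degreePrimes S := mem_of_deg (by norm_num) (hd.2 19 (by norm_num)) (by norm_num)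
    rw [← hV] at h5
    exact vert 19 (by norm_num) hcard (by norm_num) (by norm_num) (by norm_num) (by decide +kernel) hs (by decide) h5
  · -- 4080
    obtain ⟨F, _, _, hF, hF2⟩ := exists_field_two 4 (by norm_num)
    norm_num at hF
    have hd := psl_data hF (Or.inr ⟨hF2, by norm_num⟩) (S0981.result h hF)
    have h5 : 17 ∈ Cfsg.degreePrimes S := mem_of_deg (by norm_num) (hd.2 17 (by norm_num)) (by norm_num)
    rw [← hV] at h5
    exact vert 17 (by norm_num) hcard (by norm_num) (by norm_num) (by norm_num) (by decide +kernel) hs (by decide) h5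
  · -- 5616
    have h5 := H78.L33V.v3 hns h
    rw [← hV] at h5
    rcases vertW 13 3 3 (by norm_num) (by norm_num) hcard (by norm_num) (by norm_num) (by norm_num) (by norm_num)
      (by decide +kernel) (solv hcard (by norm_num) hs (by decide)) with h6 | h6
    · exact h6 h5.2
    · exact h6 h5.1

end Cfsg.Agent.S3668
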