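import Cfsg.Statements.S3716
import Cfsg.Agent.S3333
import Cfsg.Agent.S0640
import Cfsg.Agent.H17.Basic

set_option autoImplicit false
open Cfsg

namespace Cfsg.Agent.S3716

/-- Let G be a finite group with an elementary abelian Sylow 3-subgroup M of order 9 which is self-centralizing (C_G(M) = M), let N = N_G(M), and suppose C_G(g) ≤ N for every nonidentity g ∈ M. If the Sylow 2-subgroups of N are dihedral of order 8, then G is not simple. -/
theorem result {G : Type*} [Group G] [Finite G] (M : Sylow 3 G) (hM9 : Nat.card ↥(M : Subgroup G) = 9)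
    (hMel : ∀ m ∈ (M : Subgroup G), m ^ 3 = 1)
    (hCM : Subgroup.centralizer ((M : Subgroup G) : Set G) = (M : Subgroup G))
    (N : Subgroup G) (hN : N = Subgroup.normalizer ((M : Subgroup G) : Set G))
    (hCg : ∀ g ∈ (M : Subgroup G), g ≠ 1 → Subgroup.centralizer ({g} : Set G) ≤ N)
    (hS : ∀ S : Sylow 2 ↥N, Nonempty (↥(S : Subgroup ↥N) ≃* DihedralGroup 4)) :
    ¬ IsSimpleGroup G := by
  intro hsimple
  subst hN
  have f3 : Fact (Nat.Prime 3) := ⟨Nat.prime_three⟩
  have f2 : Fact (Nat.Prime 2) := ⟨Nat.prime_two⟩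
  set N : Subgroup G := Subgroup.normalizer ((M : Subgroup G) : Set G) with hNdef
  have hMN : (M : Subgroup G) ≤ N := Subgroup.le_normalizer
  -- the index of M in N is a power of 2
  have hrel : (M : Subgroup G).relIndex N ∣ Nat.card (MulAut (M : Subgroup G)) := by
    have h := H17.relIndex_dvd_card_mulAut (M : Subgroup G)
    rwa [hCM] at h
  have h3 : ¬ 3 ∣ (M : Subgroup G).relIndex N := by
    intro h
    exact M.not_dvd_index (h.trans (Dvd.intro _ (Subgroup.relIndex_mul_index hMN)))
  have hrank : Cfsg.PRankLE 3 2 (M : Subgroup G) := by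
    intro A _ _
    have h := Subgroup.card_dvd_of_le (le_top : A ≤ ⊤)
    rw [Subgroup.card_top, hM9] at h
    exact Nat.le_of_dvd (by norm_num) h
  have hpow : ∃ k, (M : Subgroup G).relIndex N = 2 ^ k := by
    refine ⟨_, Nat.eq_prime_pow_of_unique_prime_dvd ?_ ?_⟩
    · intro h
      exact h3 (by rw [h]; exact dvd_zero 3)
    intro q hq hqd
    have hq3 : q ≠ 3 := by rintro rfl; exact h3 hqd
    have := S0640.result (R := (M : Subgroup G)) (p := 3) (by norm_num) M.isPGroup' hrank q hq hq3 (hqd.trans hrel)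
    have h2 := hq.two_le
    omega
  obtain ⟨k, hk⟩ := hpow
  have hcardN : Nat.card N = 9 * 2 ^ k := by
    rw [← hM9, ← hk, mul_comm]
    exact (H17.relIndex_mul_card_of_le hMN).symm
  obtain ⟨Q⟩ : Nonempty (Sylow 2 N) := inferInstance
  obtain ⟨eQ⟩ := hS Q
  have hQ8 : Nat.card (Q : Subgroup N) = 8 := by
    rw [Nat.card_congr eQ.toEquiv, Nat.card_eq_fintype_card, DihedralGroup.card]
  have hk3 : k = 3 := by
    have h := Q.card_eq_multiplicity
    rw [hQ8, hcardN] at h
    have h5 : (9 * 2 ^ k).factorization 2 = k := by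
      rw [Nat.factorization_mul (by norm_num) (by positivity), Nat.prime_two.factorization_pow, Finsupp.add_apply,
        Finsupp.single_eq_same, Nat.factorization_eq_zero_of_not_dvd (show ¬ 2 ∣ 9 by norm_num), zero_add]
    rw [h5] at h
    exact (Nat.pow_right_injective (le_refl 2) (show 2 ^ 3 = 2 ^ k by rw [← h])).symm
  subst hk3
  have hcardN' : Nat.card N = 72 := by rw [hcardN]; norm_num
  -- the quotient is isomorphic to `Q`
  set M' : Subgroup N := (M : Subgroup G).subgroupOf N with hM'
  have hM'n : M'.Normal := Subgroup.normal_in_normalizer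
  have hM'9 : Nat.card M' = 9 := by rw [hM', Nat.card_congr (Subgroup.subgroupOfEquivOfLe hMN).toEquiv, hM9]
  have hdisj : (Q : Subgroup N) ⊓ M' = ⊥ := by
    apply disjoint_iff.1
    apply Subgroup.disjoint_of_coprime_natCard
    rw [hQ8, hM'9]; norm_num
  set F : (Q : Subgroup N) →* N ⧸ M' := (QuotientGroup.mk' M').comp (Q : Subgroup N).subtype with hF
  have hFinj : Function.Injective F := by
    rw [injective_iff_map_eq_one]
    intro x hx
    have h5 : (x : N) ∈ M' := (QuotientGroup.eq_one_iff _).1 hx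
    have h6 : (x : N) ∈ (Q : Subgroup N) ⊓ M' := ⟨x.2, h5⟩
    rw [hdisj, Subgroup.mem_bot] at h6
    exact Subtype.ext h6
  have hcardQ : Nat.card (N ⧸ M') = 8 := by
    have h5 := Subgroup.card_eq_card_quotient_mul_card_subgroup M'
    rw [hcardN', hM'9] at h5
    omega
  have hFbij : Function.Bijective F := by
    rw [Nat.bijective_iff_injective_and_card]
    exact ⟨hFinj, by rw [hQ8, hcardQ]⟩
  have eN : N ⧸ M' ≃* DihedralGroup 4 := (MulEquiv.ofBijective F hFbij).symm.trans eQ
  rcases S3333.result M (M : Subgroup G) rfl hM9 hCM eN hCg with h | ⟨⟨e⟩⟩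
  · rcases hsimple.eq_bot_or_eq_top_of_normal _ h with h5 | h5
    · rw [h5, Subgroup.card_bot] at hM9
      omega
    · rw [h5, Subgroup.card_top] at hM9
      have h6 : N = ⊤ := top_le_iff.1 (h5 ▸ hMN)
      rw [h6, Subgroup.card_top] at hcardN'
      omega
  · have h5 : IsSimpleGroup (Equiv.Perm (Fin 6)) := e.symm.isSimpleGroup
    have h6 := two_mul_nat_card_alternatingGroup (α := Fin 6)
    rw [Nat.card_perm, Nat.card_fin] at h6
    have h7 : (6 : ℕ).factorial = 720 := by decide
    rw [h7] at h6
    rcases h5.eq_bot_or_eq_top_of_normal (alternatingGroup (Fin 6)) inferInstance with h8 | h8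
    · rw [h8, Subgroup.card_bot] at h6
      omega
    · rw [h8, Subgroup.card_top, Nat.card_perm, Nat.card_fin, h7] at h6
      omega

end Cfsg.Agent.S3716
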