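import Cfsg.Statements.S3718
import Cfsg.Agent.CIT.OneComp

set_option autoImplicit false
open Cfsg

namespace Cfsg.Agent.S3718

/-- Let G be a finite simple group whose set of element orders contains at most one composite number (at most one element order that is neither 1 nor a prime). Then G is cyclic of prime order, or isomorphic to PSL₂(q) for q ∈ {5, 7, 8, 9, 11, 13, 16}, to PSL₃(4), to the Suzuki group Sz(8), to PSL₂(3ⁿ) with (3ⁿ − 1)/2 and (3ⁿ + 1)/4 both prime, or to PSL₂(2ⁿ) with 2ⁿ − 1 and (2ⁿ + 1)/3 both prime. -/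
theorem result {G : Type*} [Group G] [Finite G] [IsSimpleGroup G]
    (h1 : {n : ℕ | n ∈ Set.range (orderOf : G → ℕ) ∧ 1 < n ∧ ¬ n.Prime}.Subsingleton) :
    (Nat.card G).Prime ∨
    (∃ (F : Type) (_ : Field F) (_ : Fintype F), (Fintype.card F = 5 ∨ Fintype.card F = 7 ∨ Fintype.card F = 8 ∨ Fintype.card F = 9 ∨
        Fintype.card F = 11 ∨ Fintype.card F = 13 ∨ Fintype.card F = 16) ∧ Nonempty (G ≃* Matrix.ProjectiveSpecialLinearGroup (Fin 2) F)) ∨
    (∃ (F : Type) (_ : Field F) (_ : Fintype F), Fintype.card F = 4 ∧ Nonempty (G ≃* Matrix.ProjectiveSpecialLinearGroup (Fin 3) F)) ∨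
    (∃ (F : Type) (_ : Field F) (_ : Fintype F), Fintype.card F = 8 ∧ Nonempty (G ≃* ↥(Cfsg.Lie.Sz F 4))) ∨
    (∃ (F : Type) (_ : Field F) (_ : Fintype F), ∃ n r s : ℕ, r.Prime ∧ s.Prime ∧ 3 ^ n - 1 = 2 * r ∧ 3 ^ n + 1 = 4 * s ∧
        Fintype.card F = 3 ^ n ∧ Nonempty (G ≃* Matrix.ProjectiveSpecialLinearGroup (Fin 2) F)) ∨
    (∃ (F : Type) (_ : Field F) (_ : Fintype F), ∃ n r : ℕ, (2 ^ n - 1).Prime ∧ r.Prime ∧ 2 ^ n + 1 = 3 * r ∧
        Fintype.card F = 2 ^ n ∧ Nonempty (G ≃* Matrix.ProjectiveSpecialLinearGroup (Fin 2) F)) := by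
  by_cases hna : ∃ a b : G, a * b ≠ b * a
  · have hns : ¬ Group.IsSolvable G := JY.not_solvable_of hna
    have hOC : CIT.OneComp.OC G := by
      intro x y hx hx' hy hy'
      exact h1 ⟨⟨x, rfl⟩, hx, hx'⟩ ⟨⟨y, rfl⟩, hy, hy'⟩
    have hfin : CIT.OneComp.L2 G ∨
        (∃ (F : Type) (_ : Field F) (_ : Fintype F), Fintype.card F = 4 ∧
          Nonempty (G ≃* Matrix.ProjectiveSpecialLinearGroup (Fin 3) F)) ∨ Cfsg.Lie.IsoSuzuki G := by
      rcases CIT.OneComp.cit_or hOC with hC | ⟨p, hp⟩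
      · have h2 : 2 ∣ Nat.card G := by
          by_contra h2
          apply hns
          apply FT.solvable_of_odd
          rwa [← Nat.not_even_iff_odd, even_iff_two_dvd]
        rcases CIT.cit_strong hC (fun h => by obtain ⟨a, b, hab⟩ := hna; exact hab (mul_comm' a b)) h2 with h3 | h3 | h3
        · obtain ⟨F, i1, i2, -, h4⟩ := h3
          exact Or.inl (CIT.OneComp.psl2 hns hOC ⟨F, i1, i2, h4⟩)
        · exact Or.inr (Or.inl h3)
        · exact Or.inr (Or.inr h3)
      · exact Or.inl (CIT.OneComp.psl2 hns hOC (CIT.TwoP.main hna hp))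
    rcases hfin with (h2 | h2 | h2) | h2 | h2
    · exact Or.inr (Or.inl h2)
    · exact Or.inr (Or.inr (Or.inr (Or.inr (Or.inl h2))))
    · exact Or.inr (Or.inr (Or.inr (Or.inr (Or.inr h2))))
    · exact Or.inr (Or.inr (Or.inl h2))
    · exact Or.inr (Or.inr (Or.inr (Or.inl (CIT.OneComp.suz hOC h2))))
  · left
    push Not at hna
    letI : CommGroup G := { (inferInstance : Group G) with mul_comm := hna }
    exact IsSimpleGroup.prime_card

end Cfsg.Agent.S3718
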