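import Cfsg.Statements.S3726
import Cfsg.Agent.JY.TTE
import Cfsg.Agent.JY.Cit

set_option autoImplicit false
open Cfsg

namespace Cfsg.Agent.S3726

/-- Let a finite group G act faithfully and 2-transitively on a finite set Ω, and suppose there is an involution t of G, fixing exactly i points, such that every non-identity element of the centralizer of t also fixes exactly i points. Then G is isomorphic to PSL₂(q) for some finite field of order q, or to a Suzuki group Sz(q) (q = 2^(2m+1) ≥ 8), or G has a normal subgroup acting regularly on Ω. -/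
theorem result {G Ω : Type*} [Group G] [Finite G] [Fintype Ω] [MulAction G Ω] [FaithfulSMul G Ω]
    (h2 : MulAction.IsMultiplyPretransitive G Ω 2) (i : ℕ) (t : G) (ht : orderOf t = 2)
    (hti : Nat.card {x : Ω // t • x = x} = i)
    (hC : ∀ g : G, Commute g t → g ≠ 1 → Nat.card {x : Ω // g • x = x} = i) :
    (∃ (F : Type) (_ : Field F) (_ : Fintype F), Nonempty (G ≃* Matrix.ProjectiveSpecialLinearGroup (Fin 2) F)) ∨
    Cfsg.Lie.IsoSuzuki G ∨
    (∃ R : Subgroup G, R.Normal ∧ (∀ x y : Ω, ∃ r ∈ R, r • x = y) ∧ ∀ x : Ω, ∀ r ∈ R, r • x = x → r = 1) := by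
  have hh : JY.TT.Hyp Ω G i t := by
    refine ⟨fun hab hcd => (MulAction.is_two_pretransitive_iff.mp h2) hab hcd, ?_, ?_, ?_, ?_⟩
    · intro g hg
      exact FaithfulSMul.eq_of_smul_eq_smul (α := Ω) (fun x => by rw [hg, one_smul])
    · rw [← pow_two, ← ht, pow_orderOf_eq_one]
    · rintro rfl
      rw [orderOf_one] at ht
      omega
    · intro g hg hg1
      exact hC g hg hg1
  rcases Nat.lt_or_ge 2 i with hi | hi
  · exact hh.big JY.ct JY.os hi
  rcases Nat.lt_or_ge 1 i with hi1 | hi1
  · have : i = 2 := by omega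
    subst this
    rcases hh.two h2 with h | h
    · exact Or.inl h
    · exact Or.inr (Or.inr h)
  · by_cases hR : JY.TT.RegN G Ω
    · exact Or.inr (Or.inr hR)
    · rcases hh.small hi1 JY.os hR JY.ct h2 with h | h
      · exact Or.inl h
      · exact Or.inr (Or.inl h)

end Cfsg.Agent.S3726
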