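import Cfsg.Statements.S3776
import Cfsg.Agent.Suz3.Main
import Cfsg.Agent.Suz3.Coords
import Cfsg.Agent.Suz3.N34
import Cfsg.Agent.Solv.Frattini

set_option autoImplicit false
open Cfsg
open scoped commutatorElement

namespace Cfsg.Agent.S3776

/-- Let G be a finite non-abelian 2-group with more than one involution admitting a solvable group of automorphisms that permutes its involutions transitively. Then the derived subgroup, the Frattini subgroup and the centre of G coincide and consist exactly of the elements x with x² = 1. -/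
theorem result {G : Type*} [Group G] [Finite G] (hG : IsPGroup 2 G) (hna : ¬ IsMulCommutative G) (htwo : ∃ x y : G, x ≠ y ∧ x ≠ 1 ∧ x ^ 2 = 1 ∧ y ≠ 1 ∧ y ^ 2 = 1) (hY : ∃ Y : Subgroup (MulAut G), Group.IsSolvable Y ∧ ∀ x y : G, x ≠ 1 → x ^ 2 = 1 → y ≠ 1 → y ^ 2 = 1 → ∃ a ∈ Y, a x = y) : commutator G = frattini G ∧ frattini G = Subgroup.center G ∧ ∀ x : G, x ∈ Subgroup.center G ↔ x ^ 2 = 1 := by
  classical
  have hf2 : Fact (2 : ℕ).Prime := ⟨Nat.prime_two⟩
  obtain ⟨Y, hsol, hY⟩ := hY
  have h : Cfsg.Agent.Suz3.ST G Y := by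
    refine ⟨inferInstance, hG, ?_, ?_⟩
    · intro x y hx hx2 hy hy2
      obtain ⟨a, ha, hab⟩ := hY x y hx (by rw [pow_two]; exact hx2) hy (by rw [pow_two]; exact hy2)
      exact ⟨⟨a, ha⟩, hab⟩
    · obtain ⟨x, y, hxy, hx, hx2, hy, hy2⟩ := htwo
      exact ⟨x, y, hxy, hx, by rw [← pow_two]; exact hx2, hy, by rw [← pow_two]; exact hy2⟩
  obtain ⟨n, hn, hcE⟩ := h.exists_card_E
  obtain ⟨F, fF, hfF, hchar, π, κ, lam, hcard, hadd, hker, hsurj, hsemi, hlam0, hkap, hord⟩ :=
    Cfsg.Agent.Suz3.coords (P := G) (K := Y) h.E (fun x hx y _ => h.E_comm hx y) (fun x hx => hx)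
      (fun k x hx => h.kinv_E k x hx) (fun x hx y hy hx1 hy1 => h.tr hx hx1 hy hy1) hsol hn hcE
  have c : h.CD π κ lam :=
    { add := hadd, ker := hker, surj := hsurj, semi := hsemi, lam0 := hlam0, kap := hkap
      n3 := Cfsg.Agent.Suz3.n3 hn hcard hlam0 hord
      n4 := Cfsg.Agent.Suz3.n4 hn hcard hlam0 hord
      card := ⟨n, hn, hcard⟩ }
  have hna' : ∃ x y : G, x * y ≠ y * x := by
    by_contra hcon
    push Not at hcon
    exact hna ⟨⟨hcon⟩⟩
  have hEn := h.E_normal
  have hcen := h.center_eq c hna'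
  -- the commutator subgroup lies in `E`
  have hcomE : commutator G ≤ h.E := by
    rw [commutator_def, Subgroup.commutator_le]
    intro x _ y _
    have h1 := h.comm_mem c hna' x⁻¹ y⁻¹
    rw [inv_inv, inv_inv] at h1
    rw [commutatorElement_def]
    exact h1
  have hne : commutator G ≠ ⊥ := by
    intro hb
    obtain ⟨x, y, hxy⟩ := hna'
    apply hxy
    have h1 : (⁅x, y⁆ : G) ∈ commutator G :=
      Subgroup.commutator_mem_commutator (Subgroup.mem_top x) (Subgroup.mem_top y)
    rw [hb, Subgroup.mem_bot, commutatorElement_eq_one_iff_mul_comm] at h1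
    exact h1
  have hEcom : h.E ≤ commutator G := by
    apply h.E_le _ hne
    intro k x hx
    have h1 : (commutator G).map (k : MulAut G).toMonoidHom = commutator G :=
      Subgroup.characteristic_iff_map_eq.1 inferInstance _
    rw [← h1]
    exact ⟨x, hx, rfl⟩
  have hfE : frattini G ≤ h.E :=
    Cfsg.Agent.Solv.frattini_le_of_elementary_quotient (p := 2) h.E hcomE
      (fun x => by rw [pow_two]; exact h.sq_mem c hna' x)
  have hnil : Group.IsNilpotent G := hG.isNilpotent
  have hcf : commutator G ≤ frattini G :=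
    Cfsg.Agent.Solv.commutator_le_frattini_of_pGroup (p := 2) hG
  refine ⟨le_antisymm hcf (hfE.trans hEcom), ?_, ?_⟩
  · rw [hcen]
    exact le_antisymm hfE (hEcom.trans hcf)
  · intro x
    rw [hcen, h.mem_E, pow_two]

end Cfsg.Agent.S3776
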