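import Cfsg.Statements.S3806
import Cfsg.Agent.H72.MC8


set_option autoImplicit false
open Cfsg

namespace Cfsg.Agent.S3806

open Subgroup Cfsg.Agent.H72.MC
open scoped commutatorElement

theorem K_comm_self {G : Type*} [Group G] [Finite G] {p n : ℕ} [hp : Fact p.Prime] (h : Max G p n) {k : ℕ} (hk : 2 ≤ k)
    (hkn : k < n) : ⁅K G k, K G k⁆ ≤ K G (2 * k + 1) := by
  obtain ⟨x, hx, hx'⟩ := SetLike.exists_of_lt (h.K_lt (by omega) hk hkn)
  have h1 := h.zpowers_sup (by omega) hk hkn hx hx'
  have key : ⁅zpowers x ⊔ K G (k + 1), zpowers x ⊔ K G (k + 1)⁆ ≤ K G (2 * k + 1) := by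
    have h2 : ∀ y ∈ zpowers x ⊔ K G (k + 1), zpowers x ⊔ K G (k + 1) ≤ Cs (K G (2 * k + 1)) y := by
      have h3 : zpowers x ⊔ K G (k + 1) ≤ Cs (K G (2 * k + 1)) x := by
        refine sup_le ((zpowers_le).2 (Cs_self x)) ?_
        intro z hz
        exact K_anti (by omega) (K_comm k (k + 1) (commutator_mem_commutator hx hz))
      intro y hy
      refine sup_le ((zpowers_le).2 (Cs_swap (h3 hy))) ?_
      intro z hz
      rw [h1] at hy
      exact K_anti (by omega) (K_comm k (k + 1) (commutator_mem_commutator hy hz))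
    rw [commutator_le]
    intro a ha b hb
    exact mem_Cs.1 (h2 a ha hb)
  rwa [h1] at key

theorem cyc_of_eq {G : Type*} [Group G] {A B : Subgroup G} [hA : A.Normal] [hB : B.Normal] (h : A = B) (hc : IsCyclic (G ⧸ A)) :
    IsCyclic (G ⧸ B) := by
  subst h
  exact hc

theorem not_rank {G : Type*} [Group G] [Finite G] {p k m : ℕ} [hp : Fact p.Prime] (hr : Cfsg.SectionalPRankLE p k G) (H N : Subgroup G) (hNn : N.Normal)
    (hNH : N ≤ H) (hc : ⁅H, H⁆ ≤ N) (hpw : ∀ x ∈ H, x ^ p ∈ N) (hcard : Nat.card H = p ^ m * Nat.card N) : m ≤ k := by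
  have h1 := hr H (N.subgroupOf H) ⊤ ?_ ?_
  · rw [Nat.card_congr (Subgroup.topEquiv).toEquiv] at h1
    have h2 := Subgroup.card_eq_card_quotient_mul_card_subgroup (N.subgroupOf H)
    rw [Nat.card_congr (subgroupOfEquivOfLe hNH).toEquiv, hcard] at h2
    have h3 := Nat.eq_of_mul_eq_mul_right (Nat.card_pos (α := N)) h2
    rw [← h3] at h1
    exact (Nat.pow_le_pow_iff_right hp.out.one_lt).1 h1
  · refine ⟨⟨?_⟩⟩
    rintro ⟨a, -⟩ ⟨b, -⟩
    obtain ⟨a, rfl⟩ := QuotientGroup.mk_surjective a
    obtain ⟨b, rfl⟩ := QuotientGroup.mk_surjective b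
    apply Subtype.ext
    show (a : H ⧸ N.subgroupOf H) * b = b * a
    rw [← QuotientGroup.mk_mul, ← QuotientGroup.mk_mul, QuotientGroup.eq, mem_subgroupOf]
    have h2 := hc (commutator_mem_commutator (inv_mem b.2) (inv_mem a.2))
    rw [commutatorElement_def, inv_inv, inv_inv] at h2
    have h3 : (((a * b)⁻¹ * (b * a) : H) : G) = (b : G)⁻¹ * (a : G)⁻¹ * b * a := by
      push_cast; group
    rw [h3]
    exact h2
  · intro a _
    obtain ⟨a, rfl⟩ := QuotientGroup.mk_surjective a
    rw [← QuotientGroup.mk_pow, QuotientGroup.eq_one_iff, mem_subgroupOf]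
    exact hpw _ a.2

/-- Let p be a prime and S a finite p-group of order pⁿ (n ≥ 2) of maximal nilpotency class n − 1 whose sectional p-rank is exactly k (every section has p-rank at most k, and some section has p-rank k). If p ≥ k + 2 then the order of S is at most p^(2k). -/
theorem result {S : Type*} [Group S] [Finite S] (p : ℕ) [Fact p.Prime] (hS : IsPGroup p S) [Group.IsNilpotent S]
    (n : ℕ) (hn : 2 ≤ n) (hcard : Nat.card S = p ^ n) (hmax : Group.nilpotencyClass S = n - 1)
    (k : ℕ) (hk : 1 ≤ k) (hsr : Cfsg.SectionalPRankLE p k S ∧ ¬ Cfsg.SectionalPRankLE p (k - 1) S)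
    (hpk : k + 2 ≤ p) : Nat.card S ≤ p ^ (2 * k) := by
  have hp2 : p ≠ 2 := by omega
  by_contra hcon
  rw [hcard] at hcon
  have hkn : 2 * k + 1 ≤ n := by
    by_contra hlt
    exact hcon (Nat.pow_le_pow_right (by omega) (by omega))
  have hM : Max S p n := max_of_nilpotencyClass hn hcard hmax
  rcases Nat.lt_or_ge k 2 with hk2 | hk2
  · obtain rfl : k = 1 := by omega
    have h1 := not_rank (m := 2) hsr.1 ⊤ (K S 2) inferInstance le_top (by rw [K_two]) ?_ ?_
    · omega
    · intro x _
      have hi := hM.index_K (by omega) (i := 2) le_rfl (by omega)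
      have hexp : ∀ y : S ⧸ K S 2, y ^ p = 1 := by
        by_contra hne
        push Not at hne
        obtain ⟨y, hy⟩ := hne
        have hq : Nat.card (S ⧸ K S 2) = p ^ 2 := by rw [← index_eq_card, hi]
        have hcyc : IsCyclic (S ⧸ K S 2) := by
          have h2 := orderOf_dvd_natCard y
          rw [hq] at h2
          obtain ⟨j, hj, hj'⟩ := (Nat.dvd_prime_pow (Fact.out (p := p.Prime))).1 h2
          have h3 : j = 2 := by
            by_contra h3
            apply hy
            rw [← orderOf_dvd_iff_pow_eq_one, hj']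
            have : j ≤ 1 := by omega
            exact (pow_dvd_pow p this).trans (by rw [pow_one])
          subst h3
          exact isCyclic_of_orderOf_eq_card y (by rw [hj', hq])
        have hcyc' : IsCyclic (S ⧸ commutator S) := by
          exact cyc_of_eq K_two hcyc
        have h4 : (commutator S : Subgroup S) = ⊥ :=
          MaxClass.commutator_eq_bot_of_isCyclic_quotient hcyc'
        have h5 := hM.K_ne (i := 2) (by omega)
        exact h5 (by rw [K_two]; exact h4)
      have := hexp (x : S ⧸ K S 2)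
      rwa [← QuotientGroup.mk_pow, QuotientGroup.eq_one_iff] at this
    · rw [Nat.card_congr (Subgroup.topEquiv).toEquiv, ← hM.index_K (by omega) (i := 2) le_rfl (by omega), mul_comm, card_mul_index]
  · have h1 := not_rank (m := k + 1) hsr.1 (K S k) (K S (2 * k + 1)) inferInstance (K_anti (by omega))
      (K_comm_self hM hk2 (by omega)) ?_ ?_
    · omega
    · intro x hx
      exact K_anti (by omega) (hM.pow_mem hp2 (by omega) hk2 hx)
    · rw [hM.card_K (by omega) hk2 (by omega), hM.card_K (by omega) (by omega) hkn, ← pow_add]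
      congr 1
      omega

end Cfsg.Agent.S3806
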