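import Cfsg.Statements.S3807
import Cfsg.Agent.H63.IndexP

set_option autoImplicit false
open Cfsg

namespace Cfsg.Agent.S3807


open scoped commutatorElement in
theorem card_facts {S : Type*} [Group S] [Finite S] (p : ℕ) [Fact p.Prime] (hS : IsPGroup p S)
    (hna : ¬ IsMulCommutative S) (A : Subgroup S) (hA : IsMulCommutative ↥A) (hAi : A.index = p) :
    (Subgroup.center S).index = p * Nat.card (commutator S) ∧ Subgroup.center S ≤ A := by
  have hp : p.Prime := Fact.out
  have hAn : A.Normal := Cfsg.Agent.H63.normal_of_index_prime hS hAi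
  have hAc : ∀ a ∈ A, ∀ b ∈ A, a * b = b * a := by
    intro a ha b hb
    have := hA.is_comm.comm ⟨a, ha⟩ ⟨b, hb⟩
    exact congrArg Subtype.val this
  have hZA : Subgroup.center S ≤ A := by
    intro z hz
    by_contra hzA
    apply hna
    exact Cfsg.Agent.H63.comm_of_sup_zpowers hA (Cfsg.Agent.H63.sup_zpowers_eq_top hp hAi hzA)
      (fun a _ => (Subgroup.mem_center_iff.1 hz a).symm)
  have hAtop : A ≠ ⊤ := by
    rintro rfl
    rw [Subgroup.index_top] at hAi
    exact hp.one_lt.ne hAi
  obtain ⟨s, hs⟩ : ∃ s, s ∉ A := by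
    by_contra h
    push Not at h
    exact hAtop ((Subgroup.eq_top_iff' A).2 h)
  have htop := Cfsg.Agent.H63.sup_zpowers_eq_top hp hAi hs
  -- the commutator homomorphism
  let φ : A →* S :=
    { toFun := fun a => (a : S) * s * (a : S)⁻¹ * s⁻¹
      map_one' := by simp
      map_mul' := by
        intro a b
        have h1 : s * (a : S)⁻¹ * s⁻¹ ∈ A := hAn.conj_mem _ (A.inv_mem a.2) s
        have h2 : (b : S) * s * (b : S)⁻¹ * s⁻¹ ∈ A := by
          have := A.mul_mem b.2 (hAn.conj_mem _ (A.inv_mem b.2) s)
          simpa [mul_assoc] using this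
        have h3 := hAc _ h1 _ h2
        rw [Subgroup.coe_mul]
        calc (a : S) * b * s * (a * b : S)⁻¹ * s⁻¹
            = a * (((b : S) * s * (b : S)⁻¹ * s⁻¹) * (s * (a : S)⁻¹ * s⁻¹)) := by group
          _ = a * ((s * (a : S)⁻¹ * s⁻¹) * ((b : S) * s * (b : S)⁻¹ * s⁻¹)) := by rw [h3]
          _ = _ := by group }
  have hφ : ∀ a : A, φ a = (a : S) * s * (a : S)⁻¹ * s⁻¹ := fun _ => rfl
  have hφA : ∀ a : A, φ a ∈ A := by
    intro a
    have := A.mul_mem a.2 (hAn.conj_mem _ (A.inv_mem a.2) s)
    rw [hφ]
    simpa [mul_assoc] using this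
  have hker : φ.ker = (Subgroup.center S).subgroupOf A := by
    ext a
    rw [MonoidHom.mem_ker, Subgroup.mem_subgroupOf, hφ]
    constructor
    · intro h
      have h1 : (a : S) * s = s * a := by
        have h2 := mul_inv_eq_one.1 h
        exact mul_inv_eq_iff_eq_mul.1 h2
      have h3 : A ⊔ Subgroup.zpowers s ≤ Subgroup.centralizer ({(a : S)} : Set S) := by
        apply sup_le
        · intro b hb
          rw [Subgroup.mem_centralizer_singleton_iff]
          exact hAc _ hb _ a.2
        · rw [Subgroup.zpowers_le, Subgroup.mem_centralizer_singleton_iff]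
          exact h1.symm
      rw [Subgroup.mem_center_iff]
      intro g
      exact Subgroup.mem_centralizer_singleton_iff.1 (h3 (htop ▸ Subgroup.mem_top g))
    · intro h
      rw [← Subgroup.mem_center_iff.1 h s]; group
  have hrange : φ.range = commutator S := by
    have hRn : φ.range.Normal := by
      rw [← Subgroup.normalizer_eq_top_iff, eq_top_iff, ← htop]
      have hRA : φ.range ≤ A := by
        rintro _ ⟨a, rfl⟩; exact hφA a
      apply sup_le
      · intro b hb
        rw [Subgroup.mem_normalizer_iff]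
        intro y
        constructor
        · intro hy
          rw [hAc b hb y (hRA hy), mul_inv_cancel_right]; exact hy
        · intro hy
          have hyA := hRA hy
          have h1 : y ∈ A := by
            have := A.mul_mem (A.mul_mem (A.inv_mem hb) hyA) hb
            simpa [mul_assoc] using this
          rwa [hAc b hb y h1, mul_inv_cancel_right] at hy
      · rw [Subgroup.zpowers_le, Subgroup.mem_normalizer_iff]
        intro y
        have e1 : ∀ a : A, s * φ a * s⁻¹ = φ ⟨s * a * s⁻¹, hAn.conj_mem _ a.2 s⟩ := by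
          intro a; rw [hφ, hφ]; simp only []; group
        have e2 : ∀ a : A, s⁻¹ * φ a * s = φ ⟨s⁻¹ * a * s⁻¹⁻¹, hAn.conj_mem _ a.2 s⁻¹⟩ := by
          intro a; rw [hφ, hφ]; simp only []; group
        constructor
        · rintro ⟨a, rfl⟩
          rw [e1]; exact ⟨_, rfl⟩
        · rintro ⟨a, ha⟩
          have : y = s⁻¹ * φ a * s := by rw [ha]; group
          rw [this, e2]; exact ⟨_, rfl⟩
    apply le_antisymm
    · rintro _ ⟨a, rfl⟩
      rw [hφ, commutator_def]
      exact Subgroup.commutator_mem_commutator (Subgroup.mem_top _) (Subgroup.mem_top _)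
    · -- S / range is abelian
      rw [commutator_def, Subgroup.commutator_le]
      intro x _ y _
      have hcomm : IsMulCommutative (S ⧸ φ.range) := by
        have hAb : IsMulCommutative ↥(A.map (QuotientGroup.mk' φ.range)) := by
          refine ⟨⟨?_⟩⟩
          rintro ⟨_, a, ha, rfl⟩ ⟨_, b, hb, rfl⟩
          ext
          simp only [Subgroup.coe_mul, ← map_mul, hAc a ha b hb]
        refine Cfsg.Agent.H63.comm_of_sup_zpowers hAb (x := QuotientGroup.mk' φ.range s) ?_ ?_
        · rw [← MonoidHom.map_zpowers, ← Subgroup.map_sup, htop]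
          exact Subgroup.map_top_of_surjective _ (QuotientGroup.mk'_surjective _)
        · rintro _ ⟨a, ha, rfl⟩
          rw [← map_mul, ← map_mul]
          apply QuotientGroup.eq.2
          refine ⟨⟨s⁻¹ * a * s⁻¹⁻¹, hAn.conj_mem _ ha s⁻¹⟩, ?_⟩
          rw [hφ]
          have h5 := hAc _ (hAn.conj_mem _ ha s⁻¹) _ (A.inv_mem ha)
          calc (s⁻¹ * a * s⁻¹⁻¹ : S) * s * (s⁻¹ * a * s⁻¹⁻¹)⁻¹ * s⁻¹ = (s⁻¹ * a * s⁻¹⁻¹) * a⁻¹ := by group
            _ = a⁻¹ * (s⁻¹ * a * s⁻¹⁻¹) := h5
            _ = (s * a)⁻¹ * (a * s) := by group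
      have h1 := hcomm.is_comm.comm (QuotientGroup.mk' φ.range x) (QuotientGroup.mk' φ.range y)
      rw [← QuotientGroup.ker_mk' φ.range, MonoidHom.mem_ker, commutatorElement_def]
      rw [map_mul, map_mul, map_mul, h1, map_inv, map_inv]; group
  refine ⟨?_, hZA⟩
  have h1 : Nat.card φ.ker * Nat.card φ.range = Nat.card A := by
    rw [← Subgroup.index_ker, Subgroup.card_mul_index]
  have h2 : Nat.card φ.ker = Nat.card (Subgroup.center S) := by
    rw [hker]
    exact Nat.card_congr (Subgroup.subgroupOfEquivOfLe hZA).toEquiv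
  rw [h2, hrange] at h1
  have h3 := Subgroup.card_mul_index A
  have h4 := Subgroup.card_mul_index (Subgroup.center S)
  rw [hAi] at h3
  have hpos : 0 < Nat.card (Subgroup.center S) := Nat.card_pos
  apply Nat.eq_of_mul_eq_mul_left hpos
  rw [h4, ← h3, ← h1]; ring

/-- Let S be a non-abelian finite p-group with an abelian subgroup A of index p. Then [S : Z(S)] = p·#[S,S], and either [S,S] has order p, S/Z(S) is elementary abelian of order p², and S has exactly p + 1 abelian subgroups of index p; or [S,S] has order at least p² and A is the only abelian subgroup of index p in S. -/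
theorem result {S : Type*} [Group S] [Finite S] (p : ℕ) [Fact p.Prime] (hS : IsPGroup p S) (hna : ¬ IsMulCommutative S)
    (A : Subgroup S) (hA : IsMulCommutative ↥A) (hAi : A.index = p) :
    (Subgroup.center S).index = p * Nat.card (commutator S) ∧
      ((Nat.card (commutator S) = p ∧ Cfsg.IsElementaryAbelian p (⊤ : Subgroup (S ⧸ Subgroup.center S)) ∧
          Nat.card (S ⧸ Subgroup.center S) = p ^ 2 ∧
          Nat.card {B : Subgroup S // IsMulCommutative ↥B ∧ B.index = p} = p + 1) ∨
        (p ^ 2 ≤ Nat.card (commutator S) ∧ ∀ B : Subgroup S, IsMulCommutative ↥B → B.index = p → B = A)) := by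
  have hp : p.Prime := Fact.out
  obtain ⟨hidx, hZA⟩ := card_facts p hS hna A hA hAi
  refine ⟨hidx, ?_⟩
  have hcyc : ¬ IsCyclic (S ⧸ Subgroup.center S) := by
    intro h
    exact hna (isMulCommutative_of_isCyclic_quotient_center_self S)
  have hcommne : Nat.card (commutator S) ≠ 1 := by
    intro h
    rw [Subgroup.card_eq_one, commutator_def, Subgroup.commutator_self_eq_bot_iff] at h
    apply hna
    refine ⟨⟨fun a b => ?_⟩⟩
    have := h.is_comm.comm ⟨a, Subgroup.mem_top a⟩ ⟨b, Subgroup.mem_top b⟩
    exact congrArg Subtype.val this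
  obtain ⟨k, hk⟩ := IsPGroup.iff_card.1 (hS.to_subgroup (commutator S))
  have hk0 : k ≠ 0 := by rintro rfl; exact hcommne (by rw [hk, pow_zero])
  by_cases hk1 : k = 1
  · left
    subst hk1
    rw [pow_one] at hk
    have hQcard : Nat.card (S ⧸ Subgroup.center S) = p ^ 2 := by
      rw [← Subgroup.index_eq_card, hidx, hk]; ring
    have hQcomm : IsMulCommutative (S ⧸ Subgroup.center S) :=
      IsPGroup.isMulCommutative_of_card_eq_prime_sq hQcard
    have hQexp : ∀ x : S ⧸ Subgroup.center S, x ^ p = 1 := by
      intro x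
      have h1 : orderOf x ∣ p ^ 2 := hQcard ▸ orderOf_dvd_natCard x
      obtain ⟨j, hj, hj'⟩ := (Nat.dvd_prime_pow hp).1 h1
      have hj2 : j ≠ 2 := by
        rintro rfl
        exact hcyc (isCyclic_of_orderOf_eq_card x (by rw [hj', hQcard]))
      have hj1 : j ≤ 1 := by omega
      apply orderOf_dvd_iff_pow_eq_one.1
      rw [hj']
      exact (pow_dvd_pow p hj1).trans (by rw [pow_one])
    refine ⟨hk, ⟨⟨⟨fun a b => ?_⟩⟩, fun a _ => hQexp a⟩, hQcard, ?_⟩
    · ext
      exact hQcomm.is_comm.comm (a : S ⧸ Subgroup.center S) b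
    · rw [← Cfsg.Agent.H63.card_subgroups_of_card_sq hp hQcard hQexp]
      have hsurj := QuotientGroup.mk'_surjective (Subgroup.center S)
      have hker : (QuotientGroup.mk' (Subgroup.center S)).ker = Subgroup.center S := QuotientGroup.ker_mk' _
      have hidxmap : ∀ L : Subgroup (S ⧸ Subgroup.center S),
          (L.comap (QuotientGroup.mk' (Subgroup.center S))).index = L.index := fun L =>
        Subgroup.index_comap_of_surjective L hsurj
      have hcardidx : ∀ L : Subgroup (S ⧸ Subgroup.center S), Nat.card L = p ↔ L.index = p := by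
        intro L
        have h1 := Subgroup.card_mul_index L
        rw [hQcard, pow_two] at h1
        constructor
        · intro h2
          rw [h2] at h1
          exact Nat.eq_of_mul_eq_mul_left hp.pos h1
        · intro h2
          rw [h2] at h1
          exact Nat.eq_of_mul_eq_mul_right hp.pos h1
      apply Nat.card_congr
      refine ⟨fun B => ⟨(B : Subgroup S).map (QuotientGroup.mk' (Subgroup.center S)), ?_⟩,
        fun L => ⟨(L : Subgroup (S ⧸ Subgroup.center S)).comap (QuotientGroup.mk' (Subgroup.center S)), ?_, ?_⟩,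
        ?_, ?_⟩
      · obtain ⟨B, hB, hBi⟩ := B
        have hZB := (card_facts p hS hna B hB hBi).2
        rw [hcardidx, ← hidxmap, Subgroup.comap_map_eq_self (by rw [hker]; exact hZB)]
        exact hBi
      · obtain ⟨L, hL⟩ := L
        have hLne : ∃ x ∈ L, x ≠ 1 := by
          by_contra h
          push Not at h
          have : L = ⊥ := (Subgroup.eq_bot_iff_forall L).2 h
          rw [this, Subgroup.card_bot] at hL
          exact hp.one_lt.ne hL
        obtain ⟨x, hxL, hx1⟩ := hLne
        have hzp : Subgroup.zpowers x = L := by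
          apply Subgroup.eq_of_le_of_card_ge (Subgroup.zpowers_le.2 hxL)
          rw [hL, Nat.card_zpowers]
          exact (orderOf_eq_prime (hQexp x) hx1).ge
        obtain ⟨y, rfl⟩ := hsurj x
        refine ⟨⟨?_⟩⟩
        rintro ⟨a, ha⟩ ⟨b, hb⟩
        ext
        show a * b = b * a
        have hcen : ∀ c, c ∈ L.comap (QuotientGroup.mk' (Subgroup.center S)) →
            c ∈ Subgroup.zpowers y ⊔ Subgroup.center S := by
          intro c hc
          have hc' : QuotientGroup.mk' (Subgroup.center S) c ∈ Subgroup.zpowers (QuotientGroup.mk' (Subgroup.center S) y) := by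
            rw [hzp]; exact hc
          obtain ⟨n, hn⟩ := Subgroup.mem_zpowers_iff.1 hc'
          have h2 : (y ^ n)⁻¹ * c ∈ Subgroup.center S := by
            rw [← QuotientGroup.eq]
            exact hn
          have h3 : c = y ^ n * ((y ^ n)⁻¹ * c) := by group
          rw [h3]
          exact Subgroup.mul_mem_sup (Subgroup.zpow_mem_zpowers y n) h2
        obtain ⟨y1, hy1, z1, hz1, rfl⟩ := Subgroup.mem_sup_of_normal_right.1 (hcen a ha)
        obtain ⟨y2, hy2, z2, hz2, rfl⟩ := Subgroup.mem_sup_of_normal_right.1 (hcen b hb)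
        obtain ⟨n1, rfl⟩ := Subgroup.mem_zpowers_iff.1 hy1
        obtain ⟨n2, rfl⟩ := Subgroup.mem_zpowers_iff.1 hy2
        have e1 := Subgroup.mem_center_iff.1 hz1
        have e2 := Subgroup.mem_center_iff.1 hz2
        calc y ^ n1 * z1 * (y ^ n2 * z2) = y ^ n1 * (y ^ n2 * z1) * z2 := by rw [e1 (y ^ n2)]; group
          _ = y ^ n2 * (y ^ n1 * (z1 * z2)) := by group
          _ = y ^ n2 * (y ^ n1 * (z2 * z1)) := by rw [e2 z1]
          _ = y ^ n2 * (y ^ n1 * z2) * z1 := by group
          _ = y ^ n2 * (z2 * y ^ n1) * z1 := by rw [e2 (y ^ n1)]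
          _ = _ := by group
      · obtain ⟨L, hL⟩ := L
        show (L.comap (QuotientGroup.mk' (Subgroup.center S))).index = p
        rw [hidxmap]
        exact (hcardidx L).1 hL
      · rintro ⟨B, hB, hBi⟩
        have hZB := (card_facts p hS hna B hB hBi).2
        apply Subtype.ext
        exact Subgroup.comap_map_eq_self (by rw [hker]; exact hZB)
      · rintro ⟨L, hL⟩
        apply Subtype.ext
        exact Subgroup.map_comap_eq_self_of_surjective hsurj L
  · right
    have hk2 : 2 ≤ k := by omega
    refine ⟨by rw [hk]; exact Nat.pow_le_pow_right hp.pos hk2, ?_⟩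
    intro B hB hBi
    by_contra hne
    -- A ⊓ B is central
    have hsup : B ⊔ A = ⊤ := by
      apply (Cfsg.Agent.H63.isCoatom_of_index_prime hp hBi).2
      refine lt_of_le_of_ne le_sup_left ?_
      intro h
      have hAB : A ≤ B := by rw [h]; exact le_sup_right
      apply hne
      symm
      by_contra hne2
      have h2 := (Cfsg.Agent.H63.isCoatom_of_index_prime hp hAi).2 B (lt_of_le_of_ne hAB hne2)
      rw [h2, Subgroup.index_top] at hBi
      exact hp.one_lt.ne hBi
    have hcen : B ⊓ A ≤ Subgroup.center S := by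
      intro x hx
      rw [Subgroup.mem_center_iff]
      intro g
      have h1 : B ⊔ A ≤ Subgroup.centralizer ({x} : Set S) := by
        apply sup_le
        · intro b hb
          rw [Subgroup.mem_centralizer_singleton_iff]
          exact congrArg Subtype.val (hB.is_comm.comm ⟨b, hb⟩ ⟨x, hx.1⟩)
        · intro b hb
          rw [Subgroup.mem_centralizer_singleton_iff]
          exact congrArg Subtype.val (hA.is_comm.comm ⟨b, hb⟩ ⟨x, hx.2⟩)
      exact Subgroup.mem_centralizer_singleton_iff.1 (h1 (hsup ▸ Subgroup.mem_top g))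
    have h1 : (Subgroup.center S).index ≤ (B ⊓ A).index := by
      apply Nat.le_of_dvd
      · exact Nat.pos_of_ne_zero Subgroup.FiniteIndex.index_ne_zero
      · exact Subgroup.index_dvd_of_le hcen
    have h2 : (B ⊓ A).index ≤ B.index * A.index := Subgroup.index_inf_le
    rw [hBi, hAi] at h2
    rw [hidx, hk] at h1
    have h3 : p * p ^ 2 ≤ p * p ^ k := Nat.mul_le_mul_left _ (Nat.pow_le_pow_right hp.pos hk2)
    have h4 : p * p ^ 2 ≤ p * p := h3.trans (h1.trans h2)
    have h5 : p ^ 2 ≤ p := Nat.le_of_mul_le_mul_left h4 hp.pos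
    have := hp.one_lt
    nlinarith

end Cfsg.Agent.S3807
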