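import Cfsg.Statements.S3808
import Cfsg.Agent.H63.PG

set_option autoImplicit false
open Cfsg

namespace Cfsg.Agent.S3808

/-- Let S be a finite p-group with an extraspecial subgroup Q of index p. Then either Z(S) = Z(Q), or S = Q·Z(S) and Z(S) has order p². -/
theorem result {S : Type*} [Group S] [Finite S] (p : ℕ) [Fact p.Prime] (hS : IsPGroup p S) (Q : Subgroup S) (hQ : Cfsg.IsExtraspecial p ↥Q) (hQi : Q.index = p) :
    Subgroup.center S = (Subgroup.center ↥Q).map Q.subtype ∨
      (Q ⊔ Subgroup.center S = ⊤ ∧ Nat.card (Subgroup.center S) = p ^ 2) := by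
  have hp : p.Prime := Fact.out
  have hQn : Q.Normal := Cfsg.Agent.H63.normal_of_index_prime hS hQi
  have hZn : ((Subgroup.center ↥Q).map Q.subtype).Normal := by
    refine ⟨?_⟩
    rintro _ ⟨z, hz, rfl⟩ g
    refine ⟨MulAut.conjNormal g z, ?_, by simp⟩
    have hc : (Subgroup.center ↥Q).Characteristic := inferInstance
    have := (Subgroup.characteristic_iff_le_comap.1 hc) (MulAut.conjNormal g) hz
    simpa using this
  have hcard : Nat.card ((Subgroup.center ↥Q).map Q.subtype) = p := by
    rw [Subgroup.card_map_of_injective (Subgroup.subtype_injective _)]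
    exact hQ.2
  have hZQ : ((Subgroup.center ↥Q).map Q.subtype) ≤ Subgroup.center S :=
    Cfsg.Agent.H63.le_center_of_card_eq_prime hS _ hcard
  have hinf : Q ⊓ Subgroup.center S = (Subgroup.center ↥Q).map Q.subtype := by
    apply le_antisymm
    · rintro x ⟨hx, hxc⟩
      refine ⟨⟨x, hx⟩, ?_, rfl⟩
      rw [SetLike.mem_coe, Subgroup.mem_center_iff]
      intro y
      ext
      exact Subgroup.mem_center_iff.1 hxc y
    · apply le_inf _ hZQ
      rintro _ ⟨z, _, rfl⟩
      exact z.2
  by_cases hle : Subgroup.center S ≤ Q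
  · left
    rw [← hinf, inf_eq_right.2 hle]
  · right
    have htop : Q ⊔ Subgroup.center S = ⊤ := by
      have h1 : Q < Q ⊔ Subgroup.center S := lt_of_le_of_ne le_sup_left (fun h => hle (h ▸ le_sup_right))
      have h2 : (Q ⊔ Subgroup.center S).index ∣ p := hQi ▸ Subgroup.index_dvd_of_le h1.le
      rcases (Nat.dvd_prime hp).1 h2 with h3 | h3
      · exact Subgroup.index_eq_one.1 h3
      · exfalso
        have h4 := Subgroup.relIndex_mul_index h1.le
        rw [h3, hQi] at h4
        have h5 : Q.relIndex (Q ⊔ Subgroup.center S) = 1 := by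
          have := hp.pos
          exact Nat.eq_of_mul_eq_mul_right this (by rw [h4, one_mul])
        exact absurd (Subgroup.relIndex_eq_one.1 h5) (not_le_of_gt h1)
    refine ⟨htop, ?_⟩
    have h1 : Q.relIndex (Subgroup.center S) = p := by
      rw [← Subgroup.relIndex_sup_left, htop, Subgroup.relIndex_top_right, hQi]
    have h2 : (Q ⊓ Subgroup.center S).relIndex (Subgroup.center S) = p := by
      rw [Subgroup.inf_relIndex_right, h1]
    have h3 := Cfsg.Agent.H63.card_mul_relIndex (inf_le_right : Q ⊓ Subgroup.center S ≤ Subgroup.center S)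
    rw [h2, hinf, hcard] at h3
    rw [← h3, pow_two]

end Cfsg.Agent.S3808
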