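import Cfsg.Statements.S3809
import Cfsg.Agent.H63.MaxAb
import Cfsg.Agent.Extra.Basic
import Cfsg.Agent.H48.Extraspecial

set_option autoImplicit false
open Cfsg

namespace Cfsg.Agent.S3809

/-- Let S be a finite p-group with an extraspecial subgroup of index p. Then S has order p^(2+2n) for some n ≥ 1, derived length at most 3, and exponent dividing p³. -/
theorem result {S : Type*} [Group S] [Finite S] (p : ℕ) [Fact p.Prime] (hS : IsPGroup p S) (Q : Subgroup S) (hQ : Cfsg.IsExtraspecial p ↥Q) (hQi : Q.index = p) :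
    (∃ n : ℕ, 1 ≤ n ∧ Nat.card S = p ^ (2 + 2 * n)) ∧ derivedSeries S 3 = ⊥ ∧ ∀ x : S, x ^ (p ^ 3) = 1 := by
  have hpp : p.Prime := Fact.out
  obtain ⟨n, hn1, hn⟩ := Extra.card_of_isExtraspecial hQ
  have hcardS := Subgroup.card_mul_index Q
  haveI : Q.Normal := H63.normal_of_index_prime hS hQi
  have hZ : ∀ a b : Q, a * b * a⁻¹ * b⁻¹ ∈ Subgroup.center Q := H48.comm_mem_center_of_isExtraspecial hQ
  refine ⟨⟨n, hn1, ?_⟩, ?_, ?_⟩
  · rw [← hcardS, hn, hQi]; ring
  · have h1 : derivedSeries S 1 ≤ Q := by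
      have hcomm : ∀ a b : S ⧸ Q, a * b = b * a := by
        haveI : IsCyclic (S ⧸ Q) := isCyclic_of_prime_card (p := p) (by
          rw [← Subgroup.index_eq_card, hQi])
        intro a b
        exact (IsCyclic.commGroup (α := S ⧸ Q)).mul_comm a b
      rw [derivedSeries_succ, derivedSeries_zero, Subgroup.commutator_le]
      intro a _ b _
      rw [← QuotientGroup.eq_one_iff]
      have := hcomm (a : S ⧸ Q) (b : S ⧸ Q)
      change ((a : S ⧸ Q) * (b : S ⧸ Q) * (a : S ⧸ Q)⁻¹ * (b : S ⧸ Q)⁻¹) = 1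
      rw [this]; group
    have h2 : derivedSeries S 2 ≤ (Subgroup.center Q).map Q.subtype := by
      rw [derivedSeries_succ, Subgroup.commutator_le]
      intro a ha b hb
      exact ⟨_, hZ ⟨a, h1 ha⟩ ⟨b, h1 hb⟩, rfl⟩
    rw [derivedSeries_succ, eq_bot_iff, Subgroup.commutator_le]
    intro a ha b hb
    obtain ⟨a', ha', rfl⟩ := h2 ha
    obtain ⟨b', hb', rfl⟩ := h2 hb
    rw [Subgroup.mem_bot, commutatorElement_eq_one_iff_mul_comm, ← map_mul, ← map_mul,
      Subgroup.mem_center_iff.1 hb' a']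
  · intro x
    have h1 : x ^ p ∈ Q := by
      rw [← hQi]
      exact Subgroup.pow_index_mem (H := Q) x
    have h2 : (⟨x ^ p, h1⟩ : Q) ^ p ∈ Subgroup.center Q := H48.pow_mem_center hQ.2 hZ _
    have h3 : ((⟨x ^ p, h1⟩ : Q) ^ p) ^ p = 1 := by
      have := pow_card_eq_one' (x := (⟨(⟨x ^ p, h1⟩ : Q) ^ p, h2⟩ : Subgroup.center Q))
      rw [hQ.2] at this
      exact congrArg Subtype.val this
    have h4 := congrArg Subtype.val h3
    have h5 : ((x ^ p) ^ p) ^ p = 1 := h4
    rw [pow_succ, pow_two, pow_mul, pow_mul]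
    exact h5

end Cfsg.Agent.S3809
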