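import Cfsg.Statements.S3810
import Cfsg.Agent.H63.MaxAb
import Cfsg.Agent.Extra.Basic
import Cfsg.Agent.H48.Extraspecial

set_option autoImplicit false
open Cfsg

namespace Cfsg.Agent.S3810

/-- Let S be a finite p-group with an extraspecial subgroup of index p. Then S has an abelian subgroup of index p if and only if S has order p⁴. -/
theorem result {S : Type*} [Group S] [Finite S] (p : ℕ) [Fact p.Prime] (hS : IsPGroup p S) (Q : Subgroup S) (hQ : Cfsg.IsExtraspecial p ↥Q) (hQi : Q.index = p) :
    (∃ A : Subgroup S, IsMulCommutative ↥A ∧ A.index = p) ↔ Nat.card S = p ^ 4 := by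
  have hpp : p.Prime := Fact.out
  obtain ⟨n, hn1, hn⟩ := Extra.card_of_isExtraspecial hQ
  have hcardS := Subgroup.card_mul_index Q
  constructor
  · rintro ⟨A, hAc, hAi⟩
    -- B = A ∩ Q inside Q
    set B : Subgroup Q := A.subgroupOf Q with hB
    have hBi : B.index ≤ p := by
      have h1 : A.relIndex Q ≤ A.index := by
        rw [← Subgroup.relIndex_top_right]
        exact Subgroup.relIndex_le_of_le_right le_top (by rw [Subgroup.relIndex_top_right, hAi]; exact hpp.ne_zero)
      rw [hAi] at h1
      exact h1
    have hBc : B ≤ Subgroup.centralizer (B : Set Q) := by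
      intro x hx
      rw [Subgroup.mem_centralizer_iff]
      intro y hy
      have hx' : (x : S) ∈ A := hx
      have hy' : (y : S) ∈ A := hy
      have := hAc.is_comm.comm ⟨(y : S), hy'⟩ ⟨(x : S), hx'⟩
      apply Subtype.ext
      exact (congrArg Subtype.val this : (y : S) * x = x * y)
    have h2 := H48.card_mul_card_centralizer hQ.2 (H48.comm_mem_center_of_isExtraspecial hQ) B
    have h3 : Nat.card B * Nat.card B ≤ Nat.card Q * p := by
      calc Nat.card B * Nat.card B ≤ Nat.card B * Nat.card (Subgroup.centralizer (B : Set Q)) :=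
            Nat.mul_le_mul_left _ (Subgroup.card_le_of_le hBc)
        _ = _ := h2
        _ ≤ Nat.card Q * Nat.card (Subgroup.center Q) :=
            Nat.mul_le_mul_left _ (Subgroup.card_le_of_le inf_le_right)
        _ = _ := by rw [hQ.2]
    have h4 := Subgroup.card_mul_index B
    have h5 : Nat.card Q ≤ Nat.card B * p := by
      rw [← h4]; exact Nat.mul_le_mul_left _ hBi
    have h6 : Nat.card Q * Nat.card Q ≤ Nat.card Q * p ^ 3 := by
      calc Nat.card Q * Nat.card Q ≤ (Nat.card B * p) * (Nat.card B * p) := Nat.mul_le_mul h5 h5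
        _ = (Nat.card B * Nat.card B) * p ^ 2 := by ring
        _ ≤ (Nat.card Q * p) * p ^ 2 := Nat.mul_le_mul_right _ h3
        _ = _ := by ring
    have h7 : Nat.card Q ≤ p ^ 3 := Nat.le_of_mul_le_mul_left h6 Nat.card_pos
    rw [hn] at h7
    have h8 := (Nat.pow_le_pow_iff_right hpp.one_lt).1 h7
    have h9 : n = 1 := by omega
    rw [← hcardS, hn, hQi, h9]
    ring
  · intro h4
    obtain ⟨A, hAn, hAc, hAcent⟩ := H23.exists_normal_abelian_self_centralizing hS
    obtain ⟨k, hk⟩ := IsPGroup.iff_card.1 (hS.to_subgroup A)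
    have hmul := Subgroup.card_mul_index A
    have hA1 : A ≠ ⊤ := by
      rintro rfl
      apply Extra.center_ne_top_of_isExtraspecial hQ
      rw [Subgroup.eq_top_iff']
      intro x
      rw [Subgroup.mem_center_iff]
      intro y
      apply Subtype.ext
      have := hAc.is_comm.comm ⟨(y : S), Subgroup.mem_top _⟩ ⟨(x : S), Subgroup.mem_top _⟩
      exact (congrArg Subtype.val this : (y : S) * x = x * y)
    have hk4 : k ≤ 3 := by
      by_contra hcon
      apply hA1
      apply Subgroup.eq_top_of_le_card
      rw [hk, h4]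
      exact Nat.pow_le_pow_right hpp.pos (by omega)
    have hZ : ¬ A ≤ Subgroup.center S := by
      intro hZ
      apply hA1
      rw [← hAcent, Subgroup.centralizer_eq_top_iff_subset]
      exact hZ
    have hk3 : k = 3 := by
      by_contra hne
      have hk2 : k ≤ 2 := by omega
      interval_cases k
      · apply hZ
        have : A = ⊥ := Subgroup.card_eq_one.1 (by simpa using hk)
        rw [this]; exact bot_le
      · exact hZ (H63.le_center_of_card_eq_prime hS A (by simpa using hk))
      · have h2 := H63.index_centralizer_le_of_card_sq hS A hk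
        rw [hAcent] at h2
        rw [hk, h4] at hmul
        have h5 : p ^ 2 * A.index = p ^ 2 * p ^ 2 := by rw [hmul]; ring
        have h6 := Nat.eq_of_mul_eq_mul_left (pow_pos hpp.pos 2) h5
        rw [h6] at h2
        have := hpp.one_lt
        nlinarith
    refine ⟨A, hAc, ?_⟩
    subst hk3
    rw [hk, h4] at hmul
    exact Nat.eq_of_mul_eq_mul_left (pow_pos hpp.pos 3) (by rw [hmul]; ring)

end Cfsg.Agent.S3810
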