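import Cfsg.Statements.S3811
import Cfsg.Agent.H73.Soft2

set_option autoImplicit false
open Cfsg

namespace Cfsg.Agent.S3811

/-- Let P be a finite p-group and E an abelian subgroup of P that contains its centralizer, has index p in its normalizer, and has index at least p² in P. Then the subgroups of P containing E are totally ordered by inclusion, each proper one has index p in its normalizer (so they form the normalizer tower of E, with all steps of index p), and the i-th member of the tower above E has nilpotency class i + 1 whenever it is a proper subgroup of P. -/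
theorem result {P : Type*} [Group P] [Finite P] (p : ℕ) [Fact p.Prime] (hP : IsPGroup p P)
    (E : Subgroup P) (hEab : IsMulCommutative ↥E) (hC : Subgroup.centralizer (E : Set P) ≤ E)
    (hN : (E.subgroupOf (Subgroup.normalizer (E : Set P))).index = p) (hidx : p ^ 2 ≤ E.index) :
    (∀ K L : Subgroup P, E ≤ K → E ≤ L → K ≤ L ∨ L ≤ K) ∧
      (∀ K : Subgroup P, E ≤ K → K ≠ ⊤ → (K.subgroupOf (Subgroup.normalizer (K : Set P))).index = p) ∧
      ∀ (i : ℕ) (K : Subgroup P) [Group.IsNilpotent ↥K], E ≤ K → K ≠ ⊤ → K.index * p ^ i = E.index →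
        Group.nilpotencyClass ↥K = i + 1 := by
  have hp : p.Prime := Fact.out
  have hE : Cfsg.Agent.H73.Soft.Soft p E :=
    ⟨fun a ha b hb => congrArg Subtype.val (hEab.1.1 ⟨a, ha⟩ ⟨b, hb⟩), hC, hN⟩
  have hM := Cfsg.Agent.H73.Soft.main hp _ P rfl hP E hE hidx
  refine ⟨hM.chain, hM.rel, ?_⟩
  intro i K _ hEK hKt hi
  have hrelK : E.relIndex K = p ^ i := by
    have h1 := Subgroup.relIndex_mul_index hEK
    rw [← hi, mul_comm] at h1
    exact Nat.eq_of_mul_eq_mul_left (Nat.pos_of_ne_zero K.index_ne_zero_of_finite) h1
  rcases Nat.eq_zero_or_pos i with h0 | h0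
  · subst h0
    rw [pow_zero, Subgroup.relIndex_eq_one] at hrelK
    have hKE : K = E := le_antisymm hrelK hEK
    subst hKE
    have h1 : Group.nilpotencyClass ↥K ≤ 1 := Group.IsNilpotent.nilpotencyClass_le_one_iff.mpr hEab
    have h2 : Group.nilpotencyClass ↥K ≠ 0 := by
      intro h
      rw [Group.nilpotencyClass_zero_iff_subsingleton] at h
      apply hKt
      rw [eq_top_iff]
      refine le_trans ?_ hC
      intro x _
      rw [Subgroup.mem_centralizer_iff]
      intro y hy
      have : y = 1 := congrArg Subtype.val (Subsingleton.elim (⟨y, hy⟩ : ↥K) 1)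
      rw [this, one_mul, mul_one]
    omega
  · have hKM : K ≤ Subgroup.normalizer (K : Set P) := Subgroup.le_normalizer
    have hNM : Subgroup.normalizer (E : Set P) ≤ Subgroup.normalizer (K : Set P) := by
      rcases Cfsg.Agent.H73.Soft.overE hp hP hE hEK with h | h
      · rw [h]
      · exact h.trans hKM
    have hS := Cfsg.Agent.H73.Soft.soft_restrict hE hNM
    have hrelKM := hM.rel K hEK hKt
    have hidx2 : (E.subgroupOf (Subgroup.normalizer (K : Set P))).index = p ^ (i + 1) := by
      show E.relIndex (Subgroup.normalizer (K : Set P)) = _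
      rw [← Subgroup.relIndex_mul_relIndex E K _ hEK hKM, hrelK, hrelKM, pow_succ]
    have hMM := Cfsg.Agent.H73.Soft.main hp _ ↥(Subgroup.normalizer (K : Set P)) rfl (hP.to_subgroup _) _ hS
      (by rw [hidx2]; exact Nat.pow_le_pow_right hp.pos (by omega))
    have h1 := hMM.cls (K.subgroupOf (Subgroup.normalizer (K : Set P)))
      (fun x hx => hEK hx) hrelKM (i + 1) hidx2
    rw [← h1]
    have hn2 : Group.IsNilpotent ↥(K.subgroupOf (Subgroup.normalizer (K : Set P))) :=
      ((hP.to_subgroup _).to_subgroup _).isNilpotent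
    exact Cfsg.Agent.H73.Soft.class_congr (Subgroup.subgroupOfEquivOfLe hKM).symm

end Cfsg.Agent.S3811
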