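import Cfsg.Statements.S3814
import Cfsg.Agent.H24J.B

set_option autoImplicit false
open Cfsg

namespace Cfsg.Agent.S3814

/-- A criterion for nonsolvability from element orders: let G be a finite group and σ a set of at least four primes such that for all distinct p, q ∈ σ the product pq is the order of some element of G, while for all pairwise distinct p, q, r ∈ σ no element of G has order pqr. Then G is not solvable. -/
theorem result {G : Type*} [Group G] [Finite G]
    (σ : Finset ℕ) (hσ : 4 ≤ σ.card) (hprime : ∀ p ∈ σ, p.Prime)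
    (h2 : ∀ p ∈ σ, ∀ q ∈ σ, p ≠ q → ∃ g : G, orderOf g = p * q)
    (h3 : ∀ p ∈ σ, ∀ q ∈ σ, ∀ r ∈ σ, p ≠ q → q ≠ r → p ≠ r → ∀ g : G, orderOf g ≠ p * q * r) :
    ¬ Group.IsSolvable G := by
  classical
  intro hsolv
  haveI := hsolv
  obtain ⟨τ, hτσ, hτ⟩ := Finset.exists_subset_card_eq hσ
  obtain ⟨H, hH⟩ := Cfsg.Agent.BG.exists_isPiHall (G := G) (τ : Set ℕ)
  have hF : Cfsg.Agent.H24J.Four (G := H) τ :=
    { sol := inferInstance
      card := hτ
      prime := fun p hp => hprime p (hτσ hp)
      sub := fun t ht htd => hH.1 t ht htd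
      edge := by
        intro p hp q hq hpq
        obtain ⟨g, hg⟩ := h2 p (hτσ hp) q (hτσ hq) hpq
        obtain ⟨x, hx⟩ := Cfsg.Agent.BG.IsPiHall.exists_conj_ge (G := G) hH (K := Subgroup.zpowers g) (by
          intro t ht htd
          rw [Nat.card_zpowers, hg] at htd
          rcases (ht.dvd_mul).1 htd with h | h
          · rw [(Nat.prime_dvd_prime_iff_eq ht (hprime p (hτσ hp))).1 h]; exact hp
          · rw [(Nat.prime_dvd_prime_iff_eq ht (hprime q (hτσ hq))).1 h]; exact hq)
        obtain ⟨w, hw, hwg⟩ := hx (Subgroup.mem_zpowers g)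
        refine ⟨⟨w, hw⟩, ?_⟩
        rw [← Subgroup.orderOf_coe, ← hg, ← hwg]
        exact (orderOf_injective (MulAut.conj x).toMonoidHom (MulAut.conj x).injective w).symm
      tri := by
        intro p hp q hq r hr hpq hqr hpr g hg
        exact h3 p (hτσ hp) q (hτσ hq) r (hτσ hr) hpq hqr hpr (g : G) (by rw [Subgroup.orderOf_coe]; exact hg) }
  exact hF.false

end Cfsg.Agent.S3814
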