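import Cfsg.Statements.S3824
import Cfsg.Agent.H72.Kazarin

set_option autoImplicit false
open Cfsg

namespace Cfsg.Agent.S3824
open Cfsg.Agent.H72 Subgroup

/-- Every finite group having an abelian subgroup whose index is a power of 2 is solvable. -/
theorem result {G : Type*} [Group G] [Finite G]
    (A : Subgroup G) (hA : IsMulCommutative A) (hidx : ∃ k : ℕ, A.index = 2 ^ k) : Group.IsSolvable G := by
  obtain ⟨k, hk⟩ := hidx
  obtain ⟨R, hR, hRs, hmax⟩ := exists_solvable_radical G
  have hAR : A ≤ R := by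
    intro x hx
    have h1 : (Subgroup.centralizer ({x} : Set G)).index ∣ 2 ^ k := by
      rw [← hk]
      apply Subgroup.index_dvd_of_le
      intro y hy
      rw [Subgroup.mem_centralizer_singleton_iff]
      have := hA.is_comm.comm (⟨y, hy⟩ : A) ⟨x, hx⟩
      exact congrArg Subtype.val this
    obtain ⟨b, -, hb⟩ := (Nat.dvd_prime_pow Nat.prime_two).1 h1
    obtain ⟨M, hM, hMs, hxM⟩ := exists_solvable_of_primePow_class Nat.prime_two x ⟨b, hb⟩
    exact hmax M hM hMs hxM
  have hidx : Nat.card (G ⧸ R) ∣ 2 ^ k := by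
    rw [← hk]
    exact Subgroup.index_dvd_of_le hAR
  obtain ⟨b, -, hb⟩ := (Nat.dvd_prime_pow Nat.prime_two).1 hidx
  have hp : IsPGroup 2 (G ⧸ R) := IsPGroup.of_card hb
  have hfact : Fact (Nat.Prime 2) := ⟨Nat.prime_two⟩
  have hnil : Group.IsNilpotent (G ⧸ R) := hp.isNilpotent
  have hq : Group.IsSolvable (G ⧸ R) := inferInstance
  exact Group.isSolvable_of_ker_le_range R.subtype (QuotientGroup.mk' R) (by simp)

end Cfsg.Agent.S3824
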