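import Cfsg.Statements.S3870
import Cfsg.Agent.H64.Basic

set_option autoImplicit false
open Cfsg

namespace Cfsg.Agent.S3870

open Cfsg.Agent.H64

/-- Let G be a finite simple group whose Sylow p-subgroups are not normal but such that every proper subgroup of G has a normal Sylow p-subgroup. Then any two distinct Sylow p-subgroups of G intersect trivially, and for every Sylow p-subgroup P the normalizer of every non-identity subgroup of P lies in the normalizer of P. -/
theorem result {G : Type*} [Group G] [Finite G] [IsSimpleGroup G] {p : ℕ} [Fact p.Prime]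
    (hnc : ¬ Cfsg.IsPClosed p G) (hsub : ∀ H : Subgroup G, H ≠ ⊤ → Cfsg.IsPClosed p ↥H) :
    (∀ P Q : Sylow p G, P ≠ Q → (P : Subgroup G) ⊓ (Q : Subgroup G) = ⊥) ∧
      ∀ (P : Sylow p G) (R : Subgroup G), R ≤ P → R ≠ ⊥ →
        Subgroup.normalizer (R : Set G) ≤ Subgroup.normalizer ((P : Subgroup G) : Set G) := by
  have hNt : ∀ (P : Sylow p G) (R : Subgroup G), R ≤ P → R ≠ ⊥ → Subgroup.normalizer (R : Set G) ≠ ⊤ := by
    intro P R hRP hR h
    have hRn : R.Normal := Subgroup.normalizer_eq_top_iff.1 h
    rcases hRn.eq_bot_or_eq_top with h1 | h1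
    · exact hR h1
    · have hP : (P : Subgroup G) = ⊤ := top_le_iff.1 (h1 ▸ hRP)
      apply hnc
      intro Q
      have hQ : (Q : Subgroup G) = ⊤ := by
        have hc : Nat.card (Q : Subgroup G) = Nat.card (P : Subgroup G) := by
          rw [Q.card_eq_multiplicity, P.card_eq_multiplicity]
        apply Subgroup.eq_top_of_card_eq
        rw [hc, hP]; exact Subgroup.card_top
      rw [hQ]; infer_instance
  -- main claim by strong downward induction on the order of the intersection
  have main : ∀ n : ℕ, ∀ P Q : Sylow p G, P ≠ Q →
      Nat.card G - Nat.card ((P : Subgroup G) ⊓ (Q : Subgroup G) : Subgroup G) = n →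
      (P : Subgroup G) ⊓ (Q : Subgroup G) = ⊥ := by
    intro n
    induction n using Nat.strong_induction_on with
    | _ n ih =>
      intro P Q hPQ hn
      by_contra hne
      set R := (P : Subgroup G) ⊓ (Q : Subgroup G) with hR
      set N := Subgroup.normalizer (R : Set G) with hNdef
      have hN : N ≠ ⊤ := hNt P R inf_le_left hne
      have hcl := hsub N hN
      obtain ⟨S⟩ : Nonempty (Sylow p N) := inferInstance
      have hSn := hcl S
      have hSp : IsPGroup p ((S : Subgroup N).map N.subtype) := S.2.map _
      obtain ⟨T, hT⟩ := hSp.exists_le_sylow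
      -- for each Sylow P' containing R properly, P' = T
      have key : ∀ P' : Sylow p G, R < (P' : Subgroup G) → P' = T := by
        intro P' hRP'
        by_contra hne'
        have h1 : (P' : Subgroup G) ⊓ N ≤ (T : Subgroup G) := by
          intro x hx
          have hx2 : x ∈ N := hx.2
          have hpg : IsPGroup p ((P' : Subgroup G).subgroupOf N) :=
            IsPGroup.comap_of_injective P'.2 N.subtype N.subtype_injective
          obtain ⟨S', hS'⟩ := hpg.exists_le_sylow
          have hSS' : S' = S := by
            haveI := hSn
            have := Sylow.unique_of_normal S hSn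
            exact Subsingleton.elim _ _
          have h3 : (⟨x, hx2⟩ : N) ∈ (S : Subgroup N) := by
            rw [← hSS']; exact hS' (by rw [Subgroup.mem_subgroupOf]; exact hx.1)
          exact hT ⟨⟨x, hx2⟩, h3, rfl⟩
        have h2 : R < (P' : Subgroup G) ⊓ N := by
          -- normalizers grow in p-groups
          have hnil : Group.IsNilpotent (P' : Subgroup G) := P'.2.isNilpotent
          have hlt : R.subgroupOf (P' : Subgroup G) < ⊤ := by
            rw [lt_top_iff_ne_top, Ne, Subgroup.subgroupOf_eq_top]
            exact not_le_of_gt hRP'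
          have hnc := Group.normalizerCondition_of_isNilpotent (G := (P' : Subgroup G)) _ hlt
          obtain ⟨y, hy, hyR⟩ := SetLike.exists_of_lt hnc
          refine lt_of_le_of_ne (le_inf hRP'.le Subgroup.le_normalizer) ?_
          intro heq
          apply hyR
          rw [Subgroup.mem_subgroupOf]
          rw [heq]
          refine ⟨y.2, ?_⟩
          show (y : G) ∈ Subgroup.normalizer (R : Set G)
          rw [Subgroup.mem_normalizer_iff]
          rw [Subgroup.mem_normalizer_iff] at hy
          intro h
          constructor
          · intro hh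
            have := (hy ⟨h, hRP'.le hh⟩).1 (by rw [Subgroup.mem_subgroupOf]; exact hh)
            simpa [Subgroup.mem_subgroupOf] using this
          · intro hh
            have hhP : h ∈ (P' : Subgroup G) := by
              have h5 := hRP'.le hh
              have := (P' : Subgroup G).mul_mem ((P' : Subgroup G).mul_mem ((P' : Subgroup G).inv_mem y.2) h5) y.2
              simpa [mul_assoc] using this
            have := (hy ⟨h, hhP⟩).2 (by rw [Subgroup.mem_subgroupOf]; simpa using hh)
            simpa [Subgroup.mem_subgroupOf] using this
        have h3 : R < (P' : Subgroup G) ⊓ (T : Subgroup G) :=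
          lt_of_lt_of_le h2 (le_inf inf_le_left h1)
        have h4 : Nat.card R < Nat.card ((P' : Subgroup G) ⊓ (T : Subgroup G) : Subgroup G) := by
          exact card_lt_of_lt h3
        have h5 := ih (Nat.card G - Nat.card ((P' : Subgroup G) ⊓ (T : Subgroup G) : Subgroup G)) (by
            have := Subgroup.card_le_card_group ((P' : Subgroup G) ⊓ (T : Subgroup G))
            omega) P' T hne' rfl
        rw [h5] at h3
        exact not_lt_bot h3
      have hRP : R < (P : Subgroup G) := by
        refine lt_of_le_of_ne inf_le_left ?_
        intro h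
        apply hPQ
        have : (P : Subgroup G) ≤ Q := by rw [← h]; exact inf_le_right
        exact Sylow.ext (P.3 Q.2 this).symm
      have hRQ : R < (Q : Subgroup G) := by
        refine lt_of_le_of_ne inf_le_right ?_
        intro h
        apply hPQ
        have : (Q : Subgroup G) ≤ P := by rw [← h]; exact inf_le_left
        exact Sylow.ext (Q.3 P.2 this)
      exact hPQ ((key P hRP).trans (key Q hRQ).symm)
  have hTI : ∀ P Q : Sylow p G, P ≠ Q → (P : Subgroup G) ⊓ (Q : Subgroup G) = ⊥ :=
    fun P Q h => main _ P Q h rfl
  refine ⟨hTI, ?_⟩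
  intro P R hRP hR g hg
  by_contra hcon
  have h1 : g • P ≠ P := by
    intro h
    exact hcon (Sylow.smul_eq_iff_mem_normalizer.1 h)
  have h2 := hTI _ _ h1
  apply hR
  rw [eq_bot_iff, ← h2]
  refine le_inf ?_ hRP
  have h3 : R.map (MulAut.conj g).toMonoidHom = R := map_conj_eq_self_iff.2 hg
  rw [← h3]
  exact map_conj_mono hRP g

end Cfsg.Agent.S3870
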