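import Cfsg.Statements.S3872
import Cfsg.Agent.S4209
import Cfsg.Agent.S4225
import Cfsg.Agent.Frob.Action
import Cfsg.Agent.MaxClass.Taussky

set_option autoImplicit false
open Cfsg

namespace Cfsg.Agent.S3872

/-- the closed property -/
theorem closed_of_mul {K : Type*} [Group K] {p : ℕ} (h : ∀ x y : K, x ^ p = 1 → y ^ p = 1 → (x * y) ^ p = 1) :
    ∃ H : Subgroup K, (H : Set K) = {g : K | g ^ p = 1} :=
  ⟨{ carrier := {g : K | g ^ p = 1}
     mul_mem' := fun {a b} ha hb => h a b ha hb
     one_mem' := one_pow _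
     inv_mem' := fun {a} ha => by
      have ha' : a ^ p = 1 := ha
      change (a⁻¹) ^ p = 1
      rw [inv_pow, ha', inv_one] }, rfl⟩

theorem mul_of_closed {K : Type*} [Group K] {p : ℕ} (h : ∃ H : Subgroup K, (H : Set K) = {g : K | g ^ p = 1})
    {x y : K} (hx : x ^ p = 1) (hy : y ^ p = 1) : (x * y) ^ p = 1 := by
  obtain ⟨H, hH⟩ := h
  have hx' : x ∈ (H : Set K) := by rw [hH]; exact hx
  have hy' : y ∈ (H : Set K) := by rw [hH]; exact hy
  have : x * y ∈ (H : Set K) := H.mul_mem hx' hy'
  rw [hH] at this
  exact this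



/-- Say that a finite group is p-exponent closed when its elements of order dividing p form a subgroup. Let G be a finite p-group that is not p-exponent closed, but all of whose proper subgroups and proper quotients are. Then G is generated by two elements, has nilpotency class at least p, has exponent p², has cyclic center, and has order at least p^(p+1). -/
theorem result {G : Type*} [Group G] [Finite G] {p : ℕ} [Fact p.Prime] (hG : IsPGroup p G)
    (hnc : ¬ (∃ H : Subgroup G, (H : Set G) = {g : G | g ^ p = 1})) (hsub : ∀ K : Subgroup G, K ≠ ⊤ → (∃ H : Subgroup ↥K, (H : Set ↥K) = {g : ↥K | g ^ p = 1}))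
    (hquo : ∀ (N : Subgroup G) [N.Normal], N ≠ ⊥ → (∃ H : Subgroup (G ⧸ N), (H : Set (G ⧸ N)) = {g : (G ⧸ N) | g ^ p = 1})) :
    (∃ x y : G, Subgroup.closure ({x, y} : Set G) = ⊤) ∧ (⊤ : Subgroup G).lowerCentralSeries (p - 1) ≠ ⊥ ∧
      Monoid.exponent G = p ^ 2 ∧ IsCyclic ↥(Subgroup.center G) ∧ p ^ (p + 1) ≤ Nat.card G := by
  have hpp : p.Prime := Fact.out
  obtain ⟨x, y, hx, hy, hxy⟩ : ∃ x y : G, x ^ p = 1 ∧ y ^ p = 1 ∧ (x * y) ^ p ≠ 1 := by
    by_contra hcon
    push Not at hcon
    exact hnc (closed_of_mul hcon)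
  have htop : Subgroup.closure ({x, y} : Set G) = ⊤ := by
    by_contra hne
    have h1 := mul_of_closed (hsub _ hne) (x := ⟨x, Subgroup.subset_closure (Set.mem_insert _ _)⟩)
      (y := ⟨y, Subgroup.subset_closure (Set.mem_insert_of_mem _ rfl)⟩) (Subtype.ext hx) (Subtype.ext hy)
    exact hxy (congrArg Subtype.val h1)
  have hN : ∀ (N : Subgroup G) [N.Normal], N ≠ ⊥ → ∀ g : G, g ^ p ∈ N := by
    intro N _ hN1 g
    obtain ⟨H, hH⟩ := hquo N hN1
    have hHtop : H = ⊤ := by
      have h1 : Subgroup.closure ({x, y} : Set G) ≤ H.comap (QuotientGroup.mk' N) := by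
        rw [Subgroup.closure_le]
        have hmem : ∀ z : G, z ^ p = 1 → QuotientGroup.mk' N z ∈ H := by
          intro z hz
          have : QuotientGroup.mk' N z ∈ (H : Set (G ⧸ N)) := by
            rw [hH]
            change (QuotientGroup.mk' N z) ^ p = 1
            rw [← map_pow, hz, map_one]
          exact this
        rintro z (rfl | hz)
        · exact hmem _ hx
        · rw [Set.mem_singleton_iff] at hz
          subst hz
          exact hmem _ hy
      rw [htop] at h1
      rw [eq_top_iff]
      intro v _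
      obtain ⟨w, rfl⟩ := QuotientGroup.mk'_surjective N v
      exact h1 (Subgroup.mem_top w)
    have h1 : QuotientGroup.mk' N g ∈ (H : Set (G ⧸ N)) := by rw [hHtop]; trivial
    rw [hH] at h1
    have h2 : (QuotientGroup.mk' N g) ^ p = 1 := h1
    rw [← map_pow] at h2
    exact (QuotientGroup.eq_one_iff _).1 h2
  -- the central element
  haveI : Nontrivial G := ⟨(x * y) ^ p, 1, hxy⟩
  haveI := hG.center_nontrivial
  have hpc : p ∣ Nat.card (Subgroup.center G) := by
    obtain ⟨k, hk⟩ := IsPGroup.iff_card.1 (hG.to_subgroup (Subgroup.center G))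
    rw [hk]
    apply dvd_pow_self
    rintro rfl
    rw [pow_zero] at hk
    have := (Subgroup.card_eq_one.1 hk)
    exact (Subgroup.nontrivial_iff_ne_bot _).1 inferInstance this
  obtain ⟨z, hz⟩ := exists_prime_orderOf_dvd_card' p hpc
  have hzc : ∀ w : Subgroup.center G, w ≠ 1 → ∀ g : G, g ^ p ∈ Subgroup.zpowers (w : G) := by
    intro w hw g
    haveI : (Subgroup.zpowers (w : G)).Normal := by
      constructor
      rintro _ ⟨i, rfl⟩ k
      have : (k : G) * (w : G) ^ i * k⁻¹ = (w : G) ^ i := by
        have h1 := (Subgroup.mem_center_iff.1 (Subgroup.zpow_mem _ w.2 i)) k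
        rw [h1, mul_inv_cancel_right]
      change k * (w : G) ^ i * k⁻¹ ∈ _
      rw [this]
      exact ⟨i, rfl⟩
    refine hN _ ?_ g
    intro hb
    apply hw
    have h1 : (w : G) ∈ Subgroup.zpowers (w : G) := Subgroup.mem_zpowers _
    rw [hb, Subgroup.mem_bot] at h1
    exact Subtype.ext h1
  have hz1 : z ≠ 1 := by
    intro h1
    rw [h1, orderOf_one] at hz
    exact hpp.one_lt.ne hz
  have hzG : orderOf (z : G) = p := by rw [Subgroup.orderOf_coe, hz]
  have hexp2 : ∀ g : G, g ^ p ^ 2 = 1 := by
    intro g
    rw [pow_two, pow_mul]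
    have h1 := hzc z hz1 g
    have h2 := (Subgroup.zpowers (z : G)).orderOf_dvd_natCard h1
    rw [Nat.card_zpowers, hzG] at h2
    exact orderOf_dvd_iff_pow_eq_one.1 h2
  refine ⟨⟨x, y, htop⟩, ?_, ?_, ?_, ?_⟩
  · intro hcl
    have h1 := S4209.result hG hcl
    obtain ⟨H, -, hH⟩ := S4225.result h1 1
    rw [pow_one] at hH
    exact hnc ⟨H, hH⟩
  · have h1 : Monoid.exponent G ∣ p ^ 2 := Monoid.exponent_dvd_of_forall_pow_eq_one hexp2
    obtain ⟨k, hk, hk'⟩ := (Nat.dvd_prime_pow hpp).1 h1
    rw [hk']
    congr 1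
    by_contra hne
    have hk1 : k ≤ 1 := by omega
    apply hxy
    have h2 : Monoid.exponent G ∣ p := by
      rw [hk']
      calc p ^ k ∣ p ^ 1 := pow_dvd_pow p hk1
        _ = p := pow_one p
    exact orderOf_dvd_iff_pow_eq_one.1 ((Monoid.order_dvd_exponent _).trans h2)
  · haveI : IsMulCommutative (Subgroup.center G) := inferInstance
    apply Frob.isCyclic_of_isMulCommutative_of_sq
    intro q hq B hB
    haveI : Fact q.Prime := ⟨hq⟩
    have hqp : q = p := by
      obtain ⟨k, hk⟩ := IsPGroup.iff_card.1 ((hG.to_subgroup (Subgroup.center G)).to_subgroup B)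
      have h1 : q ∣ p ^ k := by rw [← hk, hB]; exact dvd_mul_right q q
      exact (Nat.prime_dvd_prime_iff_eq hq hpp).1 (hq.dvd_of_dvd_pow h1)
    subst hqp
    by_contra hnc'
    -- all elements have order dividing q
    have hBe : ∀ b : B, b ^ q = 1 := by
      intro b
      have h1 : orderOf b ∣ q ^ 2 := by rw [pow_two, ← hB]; exact orderOf_dvd_natCard b
      obtain ⟨k, hk, hk'⟩ := (Nat.dvd_prime_pow hq).1 h1
      have h2 : k ≠ 2 := by
        rintro rfl
        apply hnc'
        exact isCyclic_of_orderOf_eq_card b (by rw [hk', hB, pow_two])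
      apply orderOf_dvd_iff_pow_eq_one.1
      rw [hk']
      calc q ^ k ∣ q ^ 1 := pow_dvd_pow q (by omega)
        _ = q := pow_one q
    set w : G := (x * y) ^ q with hw
    have hBw : ∀ b : B, ((b : Subgroup.center G) : G) ∈ Subgroup.zpowers w := by
      intro b
      by_cases hb : b = 1
      · rw [hb]; exact one_mem _
      · have hb1 : (b : Subgroup.center G) ≠ 1 := fun h => hb (Subtype.ext h)
        have h1 : w ∈ Subgroup.zpowers ((b : Subgroup.center G) : G) := hzc _ hb1 _
        have h2 : orderOf ((b : Subgroup.center G) : G) = q := by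
          rw [Subgroup.orderOf_coe, Subgroup.orderOf_coe]
          exact orderOf_eq_prime (hBe b) hb
        have h3 : Subgroup.zpowers w = Subgroup.zpowers ((b : Subgroup.center G) : G) := by
          apply Subgroup.eq_of_le_of_card_ge (by rwa [Subgroup.zpowers_le])
          rw [Nat.card_zpowers, Nat.card_zpowers, h2]
          have h4 : orderOf w ∣ q := by
            have h6 := (Subgroup.zpowers ((b : Subgroup.center G) : G)).orderOf_dvd_natCard h1
            rwa [Nat.card_zpowers, h2] at h6
          rcases (Nat.dvd_prime hq).1 h4 with h5 | h5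
          · exact absurd (orderOf_eq_one_iff.1 h5) hxy
          · rw [h5]
        rw [h3]
        exact Subgroup.mem_zpowers _
    have hwq : orderOf w ∣ q := by
      apply orderOf_dvd_of_pow_eq_one
      rw [hw, ← pow_mul, ← pow_two]
      exact hexp2 _
    have hcard : Nat.card B ≤ Nat.card (Subgroup.zpowers w) := by
      apply Nat.card_le_card_of_injective (fun b : B => (⟨_, hBw b⟩ : Subgroup.zpowers w))
      intro a b hab
      have : ((a : Subgroup.center G) : G) = ((b : Subgroup.center G) : G) := congrArg (fun t : Subgroup.zpowers w => (t : G)) hab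
      exact Subtype.ext (Subtype.ext this)
    rw [hB, Nat.card_zpowers] at hcard
    have h1 := Nat.le_of_dvd hq.pos hwq
    have h2 : q * 1 < q * q := Nat.mul_lt_mul_of_pos_left hq.one_lt hq.pos
    omega
  · obtain ⟨n, hn⟩ := IsPGroup.iff_card.1 hG
    rw [hn]
    apply Nat.pow_le_pow_right hpp.pos
    by_contra hlt
    push Not at hlt
    have hcl : (⊤ : Subgroup G).lowerCentralSeries (p - 1) = ⊥ := by
      haveI : Group.IsNilpotent G := hG.isNilpotent
      rcases Nat.lt_or_ge n 2 with hn2 | hn2
      · -- order at most p: abelian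
        have hcomm : ∀ a b : G, a * b = b * a := by
          have hcyc : IsCyclic G := by
            interval_cases n
            · have : Subsingleton G := (Nat.card_eq_one_iff_unique.1 (by rw [hn, pow_zero])).1
              infer_instance
            · exact isCyclic_of_prime_card (p := p) (by rw [hn, pow_one])
          intro a b
          exact (IsCyclic.commGroup (α := G)).mul_comm a b
        have h1 : (⊤ : Subgroup G).lowerCentralSeries 1 = ⊥ := by
          rw [Subgroup.top_lowerCentralSeries_one]
          exact MaxClass.commutator_eq_bot_of_comm hcomm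
        exact le_bot_iff.1 ((Subgroup.lowerCentralSeries_antitone _ (by have := hpp.two_le; omega)).trans h1.le)
      · have h1 := MaxClass.class_le_of_card hn2 hn
        exact Subgroup.lowerCentralSeries_eq_bot_iff_nilpotencyClass_le.2 (by omega)
    have h1 := S4209.result hG hcl
    obtain ⟨H, -, hH⟩ := S4225.result h1 1
    rw [pow_one] at hH
    exact hnc ⟨H, hH⟩

end Cfsg.Agent.S3872
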