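import Cfsg.Statements.S3873
import Cfsg.Agent.S3868

set_option autoImplicit false
open Cfsg

namespace Cfsg.Agent.S3873

open Cfsg.Agent.H64

/-- Elements of order dividing `p` form a subgroup. -/
def ExpClosed (p : ℕ) (G : Type*) [Group G] : Prop := ∃ H : Subgroup G, (H : Set G) = {g : G | g ^ p = 1}

theorem expClosed_of_closure {G : Type*} [Group G] {p : ℕ} (K : Subgroup G) (hK : ExpClosed p K)
    (h : ∀ g : G, g ^ p = 1 → g ∈ K) : ExpClosed p G := by
  obtain ⟨H, hH⟩ := hK
  refine ⟨H.map K.subtype, ?_⟩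
  ext g
  constructor
  · rintro ⟨x, hx, rfl⟩
    have : x ∈ (H : Set K) := hx
    rw [hH] at this
    exact congrArg Subtype.val this
  · intro hg
    have hg' : g ^ p = 1 := hg
    refine ⟨⟨g, h g hg'⟩, ?_, rfl⟩
    have : (⟨g, h g hg'⟩ : K) ∈ (H : Set K) := by
      rw [hH]; exact Subtype.ext hg'
    exact this

/-- If `G` is exp-closed and generated by elements of order dividing `p`, every element has order dividing `p`. -/
theorem pow_eq_one_of_closure {G : Type*} [Group G] {p : ℕ} (hG : ExpClosed p G)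
    (h : Subgroup.closure {g : G | g ^ p = 1} = ⊤) (g : G) : g ^ p = 1 := by
  obtain ⟨H, hH⟩ := hG
  have h1 : Subgroup.closure {g : G | g ^ p = 1} ≤ H := by
    rw [Subgroup.closure_le, hH]
  rw [h] at h1
  have : g ∈ (H : Set G) := h1 (Subgroup.mem_top g)
  rw [hH] at this
  exact this

/-- Say that a finite group is p-exponent closed when its elements of order dividing p form a subgroup. Let G be a finite group that is not p-exponent closed, but all of whose proper subgroups and proper quotients are, and suppose G is neither simple nor a p-group. Then there is a prime q ≠ p such that G has order p · q^e, where e is the multiplicative order of q modulo p, and G has a normal elementary abelian subgroup of order q^e that is a minimal normal subgroup of G. -/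
theorem result {G : Type*} [Group G] [Finite G] {p : ℕ} [Fact p.Prime]
    (hnc : ¬ (∃ H : Subgroup G, (H : Set G) = {g : G | g ^ p = 1})) (hsub : ∀ K : Subgroup G, K ≠ ⊤ → (∃ H : Subgroup ↥K, (H : Set ↥K) = {g : ↥K | g ^ p = 1}))
    (hquo : ∀ (N : Subgroup G) [N.Normal], N ≠ ⊥ → (∃ H : Subgroup (G ⧸ N), (H : Set (G ⧸ N)) = {g : (G ⧸ N) | g ^ p = 1}))
    (hns : ¬ IsSimpleGroup G) (hnp : ¬ IsPGroup p G) :
    ∃ q : ℕ, q.Prime ∧ q ≠ p ∧ Nat.card G = p * q ^ orderOf (q : ZMod p) ∧
      ∃ A : Subgroup G, A.Normal ∧ Nat.card ↥A = q ^ orderOf (q : ZMod p) ∧ Cfsg.IsElementaryAbelian q A ∧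
        ∀ B : Subgroup G, B.Normal → B ≤ A → B = ⊥ ∨ B = A := by
  have hp : p.Prime := Fact.out
  have hnt : Nontrivial G := by
    by_contra h
    rw [not_nontrivial_iff_subsingleton] at h
    apply hnp
    intro x
    exact ⟨0, Subsingleton.elim _ _⟩
  obtain ⟨N, hN, hN1, hNt⟩ : ∃ N : Subgroup G, N.Normal ∧ N ≠ ⊥ ∧ N ≠ ⊤ := by
    by_contra hcon
    push Not at hcon
    apply hns
    refine { toNontrivial := hnt, eq_bot_or_eq_top_of_normal := ?_ }
    intro H hH
    by_cases h : H = ⊥
    · exact Or.inl h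
    · exact Or.inr (hcon H hH h)
  obtain ⟨A, hAn, hAN, hA1, hmin⟩ := Solv.exists_minimal_normal N hN hN1
  have hAt : A ≠ ⊤ := fun h => hNt (top_le_iff.1 (h ▸ hAN))
  -- G is generated by elements with g ^ p = 1
  have hgen : Subgroup.closure {g : G | g ^ p = 1} = ⊤ := by
    by_contra h
    exact hnc (expClosed_of_closure _ (hsub _ h) (fun g hg => Subgroup.subset_closure hg))
  have hexpQ : ∀ (M : Subgroup G) [M.Normal], M ≠ ⊥ → ∀ x : G ⧸ M, x ^ p = 1 := by
    intro M hM hM1
    apply pow_eq_one_of_closure (hquo M hM1)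
    rw [eq_top_iff]
    have h1 : (⊤ : Subgroup (G ⧸ M)) = (⊤ : Subgroup G).map (QuotientGroup.mk' M) :=
      (Subgroup.map_top_of_surjective _ (QuotientGroup.mk'_surjective M)).symm
    rw [h1, ← hgen, MonoidHom.map_closure, Subgroup.closure_le]
    rintro _ ⟨g, hg, rfl⟩
    apply Subgroup.subset_closure
    have hg' : g ^ p = 1 := hg
    show (QuotientGroup.mk' M g) ^ p = 1
    rw [← map_pow, hg', map_one]
  have hpgQ : ∀ (M : Subgroup G) [M.Normal], M ≠ ⊥ → IsPGroup p (G ⧸ M) := by
    intro M hM hM1 x
    exact ⟨1, by rw [pow_one]; exact hexpQ M hM1 x⟩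
  -- A is a p'-group
  have hAone : ∀ a ∈ A, a ^ p = 1 → a = 1 := by
    obtain ⟨B, hB⟩ := hsub A hAt
    have hBc : B.Characteristic := by
      rw [Subgroup.characteristic_iff_comap_eq]
      intro φ
      ext x
      rw [Subgroup.mem_comap]
      have h1 : ∀ y, y ∈ B ↔ y ^ p = 1 := by
        intro y
        have : y ∈ (B : Set A) ↔ y ^ p = 1 := by rw [hB]; rfl
        exact this
      rw [h1, h1]
      have h2 : φ.toMonoidHom x = φ x := rfl
      rw [h2, ← map_pow, map_eq_one_iff φ φ.injective]
    have hBn : (B.map A.subtype).Normal := ConjAct.normal_of_characteristic_of_normal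
    have hmem : ∀ a (ha : a ∈ A), a ^ p = 1 → (⟨a, ha⟩ : A) ∈ B := by
      intro a ha h
      have : (⟨a, ha⟩ : A) ∈ (B : Set A) := by rw [hB]; exact Subtype.ext h
      exact this
    rcases hmin _ hBn (Subgroup.map_subtype_le _) with h | h
    · intro a ha hap
      rw [Subgroup.map_eq_bot_iff_of_injective _ A.subtype_injective] at h
      have := hmem a ha hap
      rw [h, Subgroup.mem_bot] at this
      exact congrArg Subtype.val this
    · exfalso
      apply hnp
      have hAp : ∀ a ∈ A, a ^ p = 1 := by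
        intro a ha
        rw [← h] at ha
        obtain ⟨b, hb, rfl⟩ := ha
        have : b ∈ (B : Set A) := hb
        rw [hB] at this
        exact congrArg Subtype.val this
      intro g
      refine ⟨2, ?_⟩
      have h1 : g ^ p ∈ A := by
        rw [← QuotientGroup.eq_one_iff, QuotientGroup.mk_pow]
        exact hexpQ A hA1 _
      rw [pow_two, pow_mul]
      exact hAp _ h1
  -- a p-subgroup has exponent p
  have hexpP : ∀ P : Subgroup G, IsPGroup p P → ∀ x ∈ P, x ^ p = 1 := by
    intro P hP x hx
    have h1 : x ^ p ∈ A := by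
      rw [← QuotientGroup.eq_one_iff, QuotientGroup.mk_pow]
      exact hexpQ A hA1 _
    obtain ⟨k, hk⟩ := hP ⟨x, hx⟩
    have hk' : x ^ p ^ k = 1 := congrArg Subtype.val hk
    -- y = x^p ∈ A is a p-element
    have key : ∀ j : ℕ, ∀ y ∈ A, y ^ p ^ j = 1 → y = 1 := by
      intro j
      induction j with
      | zero => intro y _ hy; simpa using hy
      | succ j ih =>
        intro y hy h
        rw [pow_succ', pow_mul] at h
        exact hAone y hy (ih _ (A.pow_mem hy p) h)
    refine key k _ h1 ?_
    rw [← pow_mul, mul_comm, pow_mul, hk', one_pow]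
  apply S3868.result (p := p)
  · intro hcl
    apply hnc
    obtain ⟨P⟩ : Nonempty (Sylow p G) := inferInstance
    have hPn := hcl P
    refine ⟨P, ?_⟩
    ext g
    constructor
    · intro hg
      exact hexpP P P.2 g hg
    · intro hg
      have hg' : g ^ p = 1 := hg
      have hz : IsPGroup p (Subgroup.zpowers g) := by
        intro y
        obtain ⟨n, hn⟩ := Subgroup.mem_zpowers_iff.1 y.2
        refine ⟨1, Subtype.ext ?_⟩
        rw [pow_one, Subgroup.coe_pow, ← hn, ← zpow_natCast, ← zpow_mul, mul_comm, zpow_mul, zpow_natCast, hg',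
          one_zpow, Subgroup.coe_one]
      obtain ⟨Q, hQ⟩ := hz.exists_le_sylow
      have hQP : Q = P := by
        have := Sylow.unique_of_normal P hPn
        exact Subsingleton.elim _ _
      rw [← hQP]
      exact hQ (Subgroup.mem_zpowers g)
  · intro K hK
    obtain ⟨B, hB⟩ := hsub K hK
    have h1 : ∀ y, y ∈ B ↔ y ^ p = 1 := by
      intro y
      have : y ∈ (B : Set K) ↔ y ^ p = 1 := by rw [hB]; rfl
      exact this
    have hBn : B.Normal := by
      refine ⟨fun x hx g => ?_⟩
      rw [h1] at hx ⊢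
      rw [conj_pow, hx]; group
    have hBp : IsPGroup p B := by
      intro x
      exact ⟨1, by rw [pow_one]; exact Subtype.ext ((h1 _).1 x.2)⟩
    obtain ⟨Q, hQ⟩ := hBp.exists_le_sylow
    have hQB : (Q : Subgroup K) = B := by
      apply le_antisymm _ hQ
      intro x hx
      rw [h1]
      apply Subtype.ext
      exact hexpP ((Q : Subgroup K).map K.subtype) (Q.2.map _) x ⟨x, hx, rfl⟩
    apply isPClosed_of_normal Q
    rw [hQB]; exact hBn
  · intro M hM hM1
    exact isPClosed_of_isPGroup (hpgQ M hM1)
  · exact hns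

end Cfsg.Agent.S3873
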