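import Cfsg.Statements.S3875
import Cfsg.Agent.BR.PClosed

set_option autoImplicit false
open Cfsg

namespace Cfsg.Agent.S3875

/-- Let p be an odd prime and let m be the least prime power congruent to 1 modulo p. Then the least order of a finite group whose Sylow p-subgroups are not normal is the smaller of p · m and p(p² − 1)/2: every finite group whose Sylow p-subgroups are not normal has at least that order, and some group of exactly that order has non-normal Sylow p-subgroups. -/
theorem result (p : ℕ) [Fact p.Prime] (hp : p ≠ 2) (m : ℕ) (hm : IsPrimePow m) (hm1 : m % p = 1)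
    (hleast : ∀ k : ℕ, IsPrimePow k → k % p = 1 → m ≤ k) :
    (∀ (H : Type) [Group H] [Finite H], ¬ Cfsg.IsPClosed p H → min (p * m) (p * (p ^ 2 - 1) / 2) ≤ Nat.card H) ∧
      ∃ (H : Type) (_ : Group H) (_ : Finite H), Nat.card H = min (p * m) (p * (p ^ 2 - 1) / 2) ∧ ¬ Cfsg.IsPClosed p H := by
  classical
  have hpp : p.Prime := Fact.out
  have hp1 := hpp.one_lt
  have hodd : Odd p := hpp.odd_of_ne_two hp
  refine ⟨fun H _ _ hH => BR.lower hp hleast _ H rfl hH, ?_⟩
  by_cases hle : p * m ≤ p * (p ^ 2 - 1) / 2
  · -- the affine group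
    obtain ⟨q, k, hq, hk, hqk⟩ := (isPrimePow_nat_iff _).mp hm
    have : Fact q.Prime := ⟨hq⟩
    let F := GaloisField q k
    have hF : Nat.card F = m := by rw [GaloisField.card q k hk.ne', hqk]
    have hdvd : p ∣ Nat.card Fˣ := by
      rw [Nat.card_units, hF]
      have h1 : 1 ≤ m := hm.pos
      exact (Nat.modEq_iff_dvd' h1).mp (by
        change 1 % p = m % p
        rw [hm1, Nat.mod_eq_of_lt hp1])
    obtain ⟨c, hc⟩ := exists_prime_orderOf_dvd_card' p hdvd
    refine ⟨Multiplicative F ⋊[BR.actF (Subgroup.zpowers c)] (Subgroup.zpowers c), inferInstance,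
      ?_, ?_, ?_⟩
    · refine Nat.finite_of_card_ne_zero ?_
      rw [SemidirectProduct.card]
      have h1 : 0 < Nat.card (Multiplicative F) := Nat.card_pos
      have h2 : 0 < Nat.card (Subgroup.zpowers c) := Nat.card_pos
      positivity
    · rw [SemidirectProduct.card, Nat.card_zpowers, hc, min_eq_left hle]
      have h1 : Nat.card (Multiplicative F) = m := hF
      rw [h1, mul_comm]
    · exact BR.affine_not_closed _ (by rw [Nat.card_zpowers, hc]) (by rw [hF]; exact hm1)
  · push Not at hle
    -- `PSL(2, p)`
    have hp3 : p ≠ 3 := by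
      rintro rfl
      have h4 : IsPrimePow 4 := (isPrimePow_nat_iff _).mpr ⟨2, 2, Nat.prime_two, by norm_num, by norm_num⟩
      have := hleast 4 h4 (by norm_num)
      omega
    have hp5 : 5 ≤ p := by
      have h4 : p ≠ 4 := by
        rintro rfl
        exact absurd hpp (by decide)
      omega
    have hs : IsSimpleGroup (Matrix.ProjectiveSpecialLinearGroup (Fin 2) (ZMod p)) := by
      refine S2540.psl_simple 2 le_rfl ?_
      rintro ⟨-, h⟩
      rw [ZMod.card] at h
      omega
    have hc : 2 * Nat.card (Matrix.ProjectiveSpecialLinearGroup (Fin 2) (ZMod p)) =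
        p * ((p - 1) * (p + 1)) := by
      rw [H14.SubField.card_PSL2_odd (by rw [ZMod.card]; exact hodd), ZMod.card]
    have hpos : 0 < p * ((p - 1) * (p + 1)) := by
      have : 0 < p - 1 := by omega
      positivity
    have hfin : Finite (Matrix.ProjectiveSpecialLinearGroup (Fin 2) (ZMod p)) := by
      refine Nat.finite_of_card_ne_zero ?_
      omega
    refine ⟨Matrix.ProjectiveSpecialLinearGroup (Fin 2) (ZMod p), inferInstance, hfin, ?_, ?_⟩
    · rw [min_eq_right hle.le]
      have h5 : p ^ 2 - 1 = (p - 1) * (p + 1) := by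
        obtain ⟨q, rfl⟩ : ∃ q, p = q + 1 := ⟨p - 1, by omega⟩
        have : (q + 1) ^ 2 = q * (q + 1 + 1) + 1 := by ring
        rw [this]; simp
      rw [h5, ← hc]
      omega
    · intro hcl
      obtain ⟨P⟩ : Nonempty (Sylow p (Matrix.ProjectiveSpecialLinearGroup (Fin 2) (ZMod p))) :=
        inferInstance
      have hdvd : p ∣ Nat.card (Matrix.ProjectiveSpecialLinearGroup (Fin 2) (ZMod p)) := by
        have h1 : p ∣ 2 * Nat.card (Matrix.ProjectiveSpecialLinearGroup (Fin 2) (ZMod p)) := by
          rw [hc]; exact Dvd.intro _ rfl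
        rcases hpp.dvd_mul.mp h1 with h | h
        · exact absurd ((Nat.prime_dvd_prime_iff_eq hpp Nat.prime_two).mp h) hp
        · exact h
      rcases (hcl P).eq_bot_or_eq_top with h1 | h1
      · have h2 := P.not_dvd_index
        rw [h1, Subgroup.index_bot] at h2
        exact h2 hdvd
      · -- a `p`-group has order prime to `p + 1`
        have h2 : IsPGroup p (Matrix.ProjectiveSpecialLinearGroup (Fin 2) (ZMod p)) := by
          have := P.2
          rw [h1] at this
          exact this.of_equiv Subgroup.topEquiv
        obtain ⟨k, hk⟩ := (IsPGroup.iff_card (p := p)).mp h2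
        rw [hk] at hc
        obtain ⟨r, hr, hrd⟩ := Nat.exists_prime_and_dvd (n := (p - 1) * (p + 1) / 4) (by
          obtain ⟨q, hq⟩ := hodd
          have e1 : p - 1 = 2 * q := by omega
          have e2 : p + 1 = 2 * (q + 1) := by omega
          rw [e1, e2]
          have : 2 * q * (2 * (q + 1)) = 4 * (q * (q + 1)) := by ring
          rw [this, Nat.mul_div_cancel_left _ (by norm_num)]
          have : 2 ≤ q := by omega
          nlinarith)
        have h4 : (p - 1) * (p + 1) / 4 * 4 = (p - 1) * (p + 1) := by
          apply Nat.div_mul_cancel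
          obtain ⟨q, hq⟩ := hodd
          have e1 : p - 1 = 2 * q := by omega
          have e2 : p + 1 = 2 * (q + 1) := by omega
          rw [e1, e2]
          exact ⟨q * (q + 1), by ring⟩
        have h5 : r ∣ (p - 1) * (p + 1) := by
          rw [← h4]; exact hrd.mul_right 4
        have h6 : 2 * r ∣ 2 * p ^ k := by
          rw [hc, ← h4]
          refine Dvd.dvd.mul_left ?_ p
          have : 2 * r ∣ 4 * ((p - 1) * (p + 1) / 4) :=
            mul_dvd_mul (by norm_num) hrd
          rwa [mul_comm 4] at this
        have h7 : r ∣ p ^ k := Nat.dvd_of_mul_dvd_mul_left (by norm_num) h6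
        have h8 : r = p := (Nat.prime_dvd_prime_iff_eq hr hpp).mp (hr.dvd_of_dvd_pow h7)
        rw [h8] at h5
        rcases hpp.dvd_mul.mp h5 with h | h
        · have := Nat.le_of_dvd (by omega) h
          omega
        · have h9 : p ∣ p + 1 - p := Nat.dvd_sub h dvd_rfl
          have : p + 1 - p = 1 := by omega
          rw [this] at h9
          exact hp1.ne' (Nat.dvd_one.mp h9)

end Cfsg.Agent.S3875
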