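import Cfsg.Statements.S3883
import Cfsg.Agent.H65.MetaP
import Cfsg.Agent.Solv.Frattini


set_option autoImplicit false
open Cfsg

namespace Cfsg.Agent.S3883

open Cfsg.Agent.H65
open scoped commutatorElement


/-- Let p be an odd prime and G a finite metacyclic p-group (G has a cyclic normal subgroup with cyclic quotient). Suppose G is non-abelian. Then an element g of G lies outside the Frattini subgroup if and only if its centralizer C_G(g) is abelian. -/
theorem result {G : Type*} [Group G] [Finite G] {p : ℕ} [Fact p.Prime] (hp : p ≠ 2) (hG : IsPGroup p G) (hmc : Cfsg.IsMetacyclic G) (hna : ¬ IsMulCommutative G) (g : G) :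
    g ∉ frattini G ↔ IsMulCommutative ↥(Subgroup.centralizer ({g} : Set G)) := by
  have hpp : p.Prime := Fact.out
  obtain ⟨γ, hg⟩ := (IsPGroup.iff_card).1 hG
  obtain ⟨n, hn⟩ := (IsPGroup.iff_card).1 (hG.to_subgroup (commutator G))
  have hn1 : 1 ≤ n := by
    by_contra hcon
    have : n = 0 := by omega
    rw [this, pow_zero, Subgroup.card_eq_one] at hn
    apply hna
    refine ⟨⟨fun a b => ?_⟩⟩
    have h1 : ⁅a, b⁆ ∈ commutator G := Subgroup.commutator_mem_commutator (Subgroup.mem_top _) (Subgroup.mem_top _)
    rw [hn, Subgroup.mem_bot, commutatorElement_eq_one_iff_mul_comm] at h1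
    exact h1
  have hfr : frattini G = Subgroup.closure {x : G | ∃ y : G, y ^ p ^ 1 = x} := by
    apply le_antisymm
    · have hN : (Subgroup.closure {x : G | ∃ y : G, y ^ p ^ 1 = x}).Normal := normal_closure_pow _
      apply Solv.frattini_le_of_elementary_quotient (p := p)
      · rw [pow_one] at hN
        have h1 := index_closure_pow_le (p := p) hmc 1
        rw [pow_one] at h1 ⊢
        have h2 : Nat.card (G ⧸ Subgroup.closure {x : G | ∃ y : G, y ^ p = x}) ≤ p ^ 2 := h1
        obtain ⟨k, hk⟩ := (IsPGroup.iff_card).1 (hG.to_quotient (Subgroup.closure {x : G | ∃ y : G, y ^ p = x}))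
        have h3 : k ≤ 2 := by
          rw [hk] at h2
          exact (Nat.pow_le_pow_iff_right hpp.one_lt).1 h2
        have h4 : IsMulCommutative (G ⧸ Subgroup.closure {x : G | ∃ y : G, y ^ p = x}) := by
          interval_cases k
          · have := (Nat.card_eq_one_iff_unique.mp (by rw [hk, pow_zero])).1
            exact ⟨⟨fun a b => Subsingleton.elim _ _⟩⟩
          · rw [pow_one] at hk
            exact (isCyclic_of_prime_card hk).isMulCommutative
          · exact IsPGroup.isMulCommutative_of_card_eq_prime_sq hk
        rw [commutator_def, Subgroup.commutator_le]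
        intro a _ b _
        rw [← QuotientGroup.eq_one_iff]
        have h5 : (a : G ⧸ Subgroup.closure {x : G | ∃ y : G, y ^ p = x}) * b = b * a := h4.is_comm.comm _ _
        rw [commutatorElement_def, QuotientGroup.mk_mul, QuotientGroup.mk_mul, QuotientGroup.mk_mul,
          QuotientGroup.mk_inv, QuotientGroup.mk_inv, h5]
        group
      · intro x
        exact Subgroup.subset_closure ⟨x, by rw [pow_one]⟩
    · rw [Subgroup.closure_le]
      rintro _ ⟨y, rfl⟩
      rw [pow_one]
      exact Solv.pow_mem_frattini_of_pGroup hG y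
  rw [hfr, mem_agemo_iff hp hG hmc n hn 1 hn1 g, (S3880.result hp hG hmc _).1]
  have h1 := (Subgroup.centralizer ({g} : Set G)).card_mul_index
  have h2 := (commutator G).card_mul_index
  have h3 := class_le hp hG hmc g
  obtain ⟨k, -, hk⟩ := (Nat.dvd_prime_pow hpp).1 (hg ▸ (Subgroup.centralizer ({g} : Set G)).index_dvd_card : (Subgroup.centralizer ({g} : Set G)).index ∣ p ^ γ)
  rw [hn] at h3 h2
  rw [hk] at h1 h3 ⊢
  rw [Nat.pow_le_pow_iff_right hpp.one_lt] at h3
  rw [Nat.pow_le_pow_iff_right hpp.one_lt]
  constructor
  · intro h4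
    have h5 : k = n := by omega
    rw [h5] at h1
    have h6 : Nat.card (Subgroup.centralizer ({g} : Set G)) * p ^ n = (commutator G).index * p ^ n := by
      rw [h1, ← h2, mul_comm]
    exact (Nat.eq_of_mul_eq_mul_right (pow_pos hpp.pos n) h6).le
  · intro h4 h5
    have h6 : Nat.card G < Nat.card G := by
      calc Nat.card G = Nat.card (Subgroup.centralizer ({g} : Set G)) * p ^ k := h1.symm
        _ ≤ (commutator G).index * p ^ k := Nat.mul_le_mul_right _ h4
        _ < (commutator G).index * p ^ n := by
          apply Nat.mul_lt_mul_of_pos_left (Nat.pow_lt_pow_right hpp.one_lt (by omega))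
          exact Nat.pos_of_ne_zero Subgroup.index_ne_zero_of_finite
        _ = Nat.card G := by rw [← h2, mul_comm]
    exact lt_irrefl _ h6

end Cfsg.Agent.S3883
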