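import Cfsg.Statements.S3884
import Cfsg.Agent.H65.RegP


set_option autoImplicit false
open Cfsg

namespace Cfsg.Agent.S3884

open Cfsg.Agent.H65


/-- Let p be an odd prime and G a finite metacyclic p-group (G has a cyclic normal subgroup with cyclic quotient). Then G is the product of two cyclic subgroups with trivial intersection: there are cyclic subgroups A and B with A ∩ B = 1 and |A| · |B| = |G|. -/
theorem result {G : Type*} [Group G] [Finite G] {p : ℕ} [Fact p.Prime] (hp : p ≠ 2) (hG : IsPGroup p G) (hmc : Cfsg.IsMetacyclic G) : ∃ A B : Subgroup G, IsCyclic ↥A ∧ IsCyclic ↥B ∧ A ⊓ B = ⊥ ∧ Nat.card ↥A * Nat.card ↥B = Nat.card G := by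
  classical
  have hpp : p.Prime := Fact.out
  have hc := isCyclic_commutator_of_metacyclic hmc
  obtain ⟨a, b, hab⟩ : ∃ a b : G, Subgroup.closure ({a, b} : Set G) = ⊤ := by
    obtain ⟨N, hNn, hN, hQ⟩ := hmc
    obtain ⟨b, hb⟩ := H64.exists_generator_mod hQ
    obtain ⟨⟨a, haN⟩, ha⟩ := hN.exists_generator
    refine ⟨a, b, ?_⟩
    rw [eq_top_iff, ← hb]
    apply sup_le
    · intro x hx
      obtain ⟨k, hk⟩ := Subgroup.mem_zpowers_iff.1 (ha ⟨x, hx⟩)
      have h1 : a ^ k = x := congrArg Subtype.val hk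
      rw [← h1]
      exact zpow_mem (Subgroup.subset_closure (by simp)) k
    · rw [Subgroup.zpowers_le]
      exact Subgroup.subset_closure (by simp)
  obtain ⟨⟨x, y⟩, ⟨hxy, hyx⟩, hmin⟩ := Set.exists_min_image
    {q : G × G | Subgroup.closure ({q.1, q.2} : Set G) = ⊤ ∧ orderOf q.2 ≤ orderOf q.1} (fun q => orderOf q.1 + orderOf q.2)
    (Set.toFinite _) (by
      by_cases h : orderOf b ≤ orderOf a
      · exact ⟨(a, b), hab, h⟩
      · exact ⟨(b, a), by rw [Set.pair_comm] at hab; exact hab, (not_le.1 h).le⟩)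
  simp only at hxy hyx hmin
  have hinf : Subgroup.zpowers x ⊓ Subgroup.zpowers y = ⊥ := by
    by_contra hne
    obtain ⟨e, he⟩ := (IsPGroup.iff_orderOf.1 hG) x
    obtain ⟨c, hcy⟩ := (IsPGroup.iff_orderOf.1 hG) y
    have hce : c ≤ e := by rw [he, hcy] at hyx; exact (Nat.pow_le_pow_iff_right hpp.one_lt).1 hyx
    have hc0 : c ≠ 0 := by
      rintro rfl
      rw [pow_zero, orderOf_eq_one_iff] at hcy
      apply hne
      rw [hcy, Subgroup.zpowers_one_eq_bot, inf_bot_eq]
    have hord : ∀ (z : G) (m : ℕ), m ≠ 0 → orderOf z = p ^ m → orderOf (z ^ p ^ (m - 1)) = p := by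
      intro z m hm hz
      rw [orderOf_pow_of_dvd (pow_pos hpp.pos _).ne' (by rw [hz]; exact pow_dvd_pow p (Nat.sub_le _ _)), hz,
        Nat.pow_div (Nat.sub_le _ _) hpp.pos]
      have : m - (m - 1) = 1 := by omega
      rw [this, pow_one]
    have hpK : p ∣ Nat.card ↥(Subgroup.zpowers x ⊓ Subgroup.zpowers y) := by
      obtain ⟨k, hk⟩ := (IsPGroup.iff_card).1 (hG.to_subgroup (Subgroup.zpowers x ⊓ Subgroup.zpowers y))
      rw [hk]
      apply dvd_pow_self
      rintro rfl
      rw [pow_zero, Subgroup.card_eq_one] at hk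
      exact hne hk
    have h1 : y ^ p ^ (c - 1) ∈ Subgroup.zpowers x ⊓ Subgroup.zpowers y := by
      rw [H64.mem_iff_orderOf_dvd_of_cyclic (N := Subgroup.zpowers y) inferInstance inf_le_right
        (pow_mem (Subgroup.mem_zpowers y) _), hord y c hc0 hcy]
      exact hpK
    have h2 : y ^ p ^ (c - 1) ∈ Subgroup.zpowers (x ^ p ^ (e - 1)) := by
      rw [H64.mem_iff_orderOf_dvd_of_cyclic (N := Subgroup.zpowers x) inferInstance
        (Subgroup.zpowers_le.2 (pow_mem (Subgroup.mem_zpowers x) _)) h1.1, hord y c hc0 hcy, Nat.card_zpowers,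
        hord x e (by omega) he]
    obtain ⟨l, hl⟩ := Subgroup.mem_zpowers_iff.1 h2
    set X : G := (x ^ p ^ (e - c)) ^ l with hX
    have h3 : X ^ p ^ (c - 1) = y ^ p ^ (c - 1) := by
      rw [← hl, hX, ← zpow_natCast, ← zpow_mul, mul_comm, zpow_mul, zpow_natCast, ← pow_mul, ← pow_add]
      congr 3
      omega
    have h4 := (pow_eq_pow_iff_of_cyclic hp hG hc (c - 1) X y).1 h3
    have h5 : orderOf (X⁻¹ * y) < orderOf y := by
      rw [hcy]
      refine lt_of_le_of_lt (Nat.le_of_dvd (pow_pos hpp.pos _) (orderOf_dvd_of_pow_eq_one h4)) ?_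
      exact Nat.pow_lt_pow_right hpp.one_lt (by omega)
    have hXx : X ∈ Subgroup.zpowers x := zpow_mem (pow_mem (Subgroup.mem_zpowers x) _) _
    have h6 : Subgroup.closure ({x, X⁻¹ * y} : Set G) = ⊤ := by
      rw [eq_top_iff, ← hxy, Subgroup.closure_le]
      have hx' : x ∈ Subgroup.closure ({x, X⁻¹ * y} : Set G) := Subgroup.subset_closure (by simp)
      rintro z (rfl | hz)
      · exact hx'
      · rw [Set.mem_singleton_iff] at hz
        subst hz
        have h7 : X * (X⁻¹ * z) ∈ Subgroup.closure ({x, X⁻¹ * z} : Set G) :=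
          mul_mem ((Subgroup.zpowers_le.2 hx') hXx) (Subgroup.subset_closure (by simp))
        rwa [mul_inv_cancel_left] at h7
    have h7 := hmin (x, X⁻¹ * y) ⟨h6, by simp only; omega⟩
    simp only at h7
    omega
  refine ⟨Subgroup.zpowers x, Subgroup.zpowers y, inferInstance, inferInstance, hinf, ?_⟩
  apply le_antisymm
  · rw [← Nat.card_prod]
    refine Nat.card_le_card_of_injective (fun q : Subgroup.zpowers x × Subgroup.zpowers y => (q.1 : G) * q.2) ?_
    exact Subgroup.mul_injective_of_disjoint (disjoint_iff.2 hinf)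
  · rw [Nat.card_zpowers, Nat.card_zpowers]
    exact card_le_of_gen hp hG hmc hxy hyx

end Cfsg.Agent.S3884
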