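import Cfsg.Statements.S3886
import Cfsg.Agent.H65.MetaP


set_option autoImplicit false
open Cfsg

namespace Cfsg.Agent.S3886

open Cfsg.Agent.H65


/-- Let p be an odd prime and G a finite metacyclic p-group (G has a cyclic normal subgroup with cyclic quotient). Then the largest value of |R| · |Z(R)| over subgroups R of G is |G : G'|², and the subgroups attaining it (the centrally large subgroups) are exactly the non-abelian subgroups together with the maximal abelian subgroups of G. -/
theorem result {G : Type*} [Group G] [Finite G] {p : ℕ} [Fact p.Prime] (hp : p ≠ 2) (hG : IsPGroup p G) (hmc : Cfsg.IsMetacyclic G) : Cfsg.maxCentralProduct G = (commutator G).index ^ 2 ∧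
    ∀ R : Subgroup G, Cfsg.IsCentrallyLarge R ↔ (¬ IsMulCommutative ↥R ∨ Maximal (fun K : Subgroup G => IsMulCommutative ↥K) R) := by
  have hpp : p.Prime := Fact.out
  obtain ⟨γ, hg⟩ := (IsPGroup.iff_card).1 hG
  have key : ∀ R : Subgroup G, Nat.card ↥R * Nat.card ↥(Subgroup.center ↥R) = (commutator ↥R).index ^ 2 := by
    intro R
    have h1 := S3879.result hp (hG.to_subgroup R) (isMetacyclic_subgroup hmc R)
    have h2 := (commutator R).card_mul_index
    have h3 := (Subgroup.center R).card_mul_index
    rw [h1] at h3
    have h4 : Nat.card (commutator R) ≠ 0 := Nat.card_pos.ne'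
    have h5 : Nat.card (commutator R) ^ 2 * (Nat.card ↥R * Nat.card ↥(Subgroup.center ↥R)) =
        Nat.card (commutator R) ^ 2 * (commutator ↥R).index ^ 2 := by
      calc _ = Nat.card R * (Nat.card ↥(Subgroup.center ↥R) * Nat.card (commutator R) ^ 2) := by ring
        _ = Nat.card R * Nat.card R := by rw [h3]
        _ = (Nat.card (commutator R) * (commutator R).index) ^ 2 := by rw [h2]; ring
        _ = _ := by ring
    exact Nat.eq_of_mul_eq_mul_left (pow_pos (Nat.pos_of_ne_zero h4) 2) h5
  have hsub : ∀ (R : Subgroup G) (L : Subgroup R), IsMulCommutative L → Nat.card L ≤ (commutator G).index := by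
    intro R L hL
    rw [Nat.card_congr (L.equivMapOfInjective R.subtype R.subtype_injective).toEquiv,
      ← (S3880.result hp hG hmc _).1]
    infer_instance
  have hnon : ∀ R : Subgroup G, ¬ IsMulCommutative ↥R → (commutator ↥R).index = (commutator G).index := by
    intro R hR
    have hmR := isMetacyclic_subgroup hmc R
    have hpR := hG.to_subgroup R
    rw [(S3880.result hp hG hmc R).1, not_le] at hR
    obtain ⟨r, hr⟩ := (IsPGroup.iff_card).1 hpR
    obtain ⟨i, -, hi⟩ := (Nat.dvd_prime_pow hpp).1 (hg ▸ (commutator G).index_dvd_card : (commutator G).index ∣ p ^ γ)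
    obtain ⟨j, -, hj⟩ := (Nat.dvd_prime_pow hpp).1 (hr ▸ (commutator R).index_dvd_card : (commutator R).index ∣ p ^ _)
    apply le_antisymm
    · obtain ⟨L, hL⟩ := Sylow.exists_subgroup_card_pow_prime (G := R) p (n := j) (by
        rw [← hj]; exact (commutator R).index_dvd_card)
      rw [hj, ← hL]
      apply hsub
      rw [(S3880.result hp hpR hmR _).1, hL, hj]
    · obtain ⟨L, hL⟩ := Sylow.exists_subgroup_card_pow_prime (G := R) p (n := i) (by
        rw [hr]; apply pow_dvd_pow
        rw [hi, hr, Nat.pow_lt_pow_iff_right hpp.one_lt] at hR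
        exact hR.le)
      rw [hi, ← hL, ← (S3880.result hp hpR hmR _).1]
      have h1 : IsMulCommutative (L.map R.subtype) := by
        rw [(S3880.result hp hG hmc _).1, hi, ← hL]
        exact (Nat.card_congr (L.equivMapOfInjective R.subtype R.subtype_injective).toEquiv).ge
      refine ⟨⟨fun a b => ?_⟩⟩
      have := h1.is_comm.comm ⟨(a : R), ⟨a, a.2, rfl⟩⟩ ⟨(b : R), ⟨b, b.2, rfl⟩⟩
      apply Subtype.ext
      apply Subtype.ext
      exact congrArg (fun z => (z.1 : G)) this
  have hab : ∀ R : Subgroup G, IsMulCommutative ↥R → (commutator ↥R).index = Nat.card R := by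
    intro R hR
    have h1 : commutator R = ⊥ := by
      rw [commutator_def, Subgroup.commutator_eq_bot_iff_le_centralizer]
      intro x _
      rw [Subgroup.mem_centralizer_iff]
      intro y _
      exact hR.is_comm.comm y x
    rw [h1, Subgroup.index_bot]
  have hle : ∀ R : Subgroup G, Nat.card ↥R * Nat.card ↥(Subgroup.center ↥R) ≤ (commutator G).index ^ 2 := by
    intro R
    rw [key]
    apply Nat.pow_le_pow_left
    by_cases hR : IsMulCommutative R
    · rw [hab R hR, ← (S3880.result hp hG hmc R).1]; exact hR
    · exact (hnon R hR).le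
  obtain ⟨A, hA⟩ : ∃ A : Subgroup G, Nat.card A = (commutator G).index := by
    obtain ⟨i, -, hi⟩ := (Nat.dvd_prime_pow hpp).1 (hg ▸ (commutator G).index_dvd_card : (commutator G).index ∣ p ^ γ)
    rw [hi]
    exact Sylow.exists_subgroup_card_pow_prime p (hi ▸ (commutator G).index_dvd_card)
  have hmax : Cfsg.maxCentralProduct G = (commutator G).index ^ 2 := by
    rw [Cfsg.maxCentralProduct]
    apply le_antisymm
    · refine csSup_le ⟨_, (⊥ : Subgroup G), rfl⟩ ?_
      rintro _ ⟨R, rfl⟩
      exact hle R
    · apply le_csSup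
      · refine ⟨(commutator G).index ^ 2, ?_⟩
        rintro _ ⟨R, rfl⟩
        exact hle R
      · refine ⟨A, ?_⟩
        have hAc : IsMulCommutative A := by rw [(S3880.result hp hG hmc A).1, hA]
        rw [key, hab A hAc, hA]
  refine ⟨hmax, fun R => ?_⟩
  rw [Cfsg.IsCentrallyLarge, hmax, key]
  by_cases hR : IsMulCommutative R
  · rw [hab R hR, (S3880.result hp hG hmc R).2]
    constructor
    · intro h
      exact Or.inr (Nat.pow_left_injective two_ne_zero h)
    · rintro (h | h)
      · exact absurd hR h
      · rw [h]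
  · rw [hnon R hR]
    exact ⟨fun _ => Or.inl hR, fun _ => rfl⟩

end Cfsg.Agent.S3886
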