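import Cfsg.Statements.S3887
import Cfsg.Agent.H65.MetaP


set_option autoImplicit false
open Cfsg

namespace Cfsg.Agent.S3887

open Cfsg.Agent.H65


/-- Let p be an odd prime and G a finite metacyclic p-group (G has a cyclic normal subgroup with cyclic quotient). Then a subgroup R of G maximizes |R| · |C_G(R)| over all subgroups of G if and only if R contains the center of G. -/
theorem result {G : Type*} [Group G] [Finite G] {p : ℕ} [Fact p.Prime] (hp : p ≠ 2) (hG : IsPGroup p G) (hmc : Cfsg.IsMetacyclic G) (R : Subgroup G) : Cfsg.IsCentralizerLarge R ↔ Subgroup.center G ≤ R := by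
  have hc := isCyclic_commutator_of_metacyclic hmc
  rw [Cfsg.IsCentralizerLarge, ← card_mul_card_centralizer_eq_iff hp hG hc]
  have h1 : Cfsg.maxCentralizerProduct G = Nat.card G * Nat.card (Subgroup.center G) := by
    rw [Cfsg.maxCentralizerProduct]
    apply le_antisymm
    · refine csSup_le ⟨_, (⊥ : Subgroup G), rfl⟩ ?_
      rintro _ ⟨R, rfl⟩
      exact card_mul_card_centralizer_le hp hG hc R
    · apply le_csSup
      · refine ⟨Nat.card G * Nat.card (Subgroup.center G), ?_⟩
        rintro _ ⟨R, rfl⟩
        exact card_mul_card_centralizer_le hp hG hc R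
      · exact ⟨⊤, card_mul_card_centralizer_eq hp hG hc le_top⟩
  rw [h1]

end Cfsg.Agent.S3887
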