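import Cfsg.Statements.S3888
import Cfsg.Agent.H65.RankTwoW


set_option autoImplicit false
open Cfsg

namespace Cfsg.Agent.S3888

open Cfsg.Agent.H65


/-- The classification of the p-groups of rank at most two for odd p. Let p be an odd prime and G a group of order p^n with no elementary abelian subgroup of order p³. Then one of the following holds: G is metacyclic; n ≥ 3 and G is generated by elements x, y, z with x^p = y^p = z^(p^(n−2)) = 1, z commuting with x and y, and x⁻¹yx = y z^(p^(n−3)); n ≥ 4 and G is generated by elements x, y, z with x^p = y^p = z^(p^(n−2)) = 1, yz = zy, x⁻¹yx = y z^(s p^(n−3)) and x⁻¹zx = yz, where s = 1 or s is a quadratic non-residue modulo p; or p = 3 and G has maximal class (nilpotency class n − 1). -/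
theorem result {G : Type*} [Group G] [Finite G] {p : ℕ} [Fact p.Prime] (hp : p ≠ 2) (n : ℕ) (hG : Nat.card G = p ^ n)
    (hrk : Cfsg.PRankLE p 2 G) :
    Cfsg.IsMetacyclic G ∨
    (3 ≤ n ∧ ∃ x y z : G, Subgroup.closure ({x, y, z} : Set G) = ⊤ ∧ x ^ p = 1 ∧ y ^ p = 1 ∧ z ^ p ^ (n - 2) = 1 ∧
        x * z = z * x ∧ y * z = z * y ∧ x⁻¹ * y * x = y * z ^ p ^ (n - 3)) ∨
    (4 ≤ n ∧ ∃ (s : ℕ) (x y z : G), (s = 1 ∨ ¬ IsSquare (s : ZMod p)) ∧ Subgroup.closure ({x, y, z} : Set G) = ⊤ ∧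
        x ^ p = 1 ∧ y ^ p = 1 ∧ z ^ p ^ (n - 2) = 1 ∧ y * z = z * y ∧ x⁻¹ * y * x = y * z ^ (s * p ^ (n - 3)) ∧
        x⁻¹ * z * x = y * z) ∨
    (p = 3 ∧ 2 ≤ n ∧ (⊤ : Subgroup G).lowerCentralSeries (n - 2) ≠ ⊥) := by
  have hpp : p.Prime := Fact.out
  have hGp : IsPGroup p G := IsPGroup.of_card hG
  by_cases hcyc : IsCyclic G
  · exact Or.inl (isMetacyclic_of_isCyclic hcyc)
  obtain ⟨N, -, hNn, hNe, hNc⟩ := OddP.exists_sq_of_not_cyclic hp hGp ⊤ inferInstance (fun hc => hcyc
    (isCyclic_of_surjective (Subgroup.topEquiv (G := G)) (Subgroup.topEquiv (G := G)).surjective))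
  have hNcomm : ∀ a ∈ N, ∀ b ∈ N, a * b = b * a := fun a ha b hb =>
    congrArg Subtype.val (hNe.1.is_comm.comm ⟨a, ha⟩ ⟨b, hb⟩)
  have hC : ∀ c ∈ Subgroup.centralizer (N : Set G), c ^ p = 1 → c ∈ N := by
    intro c hc hcp
    have hcomm : ∀ a ∈ N ⊔ Subgroup.zpowers c, ∃ n ∈ N, ∃ k : ℤ, a = n * c ^ k := by
      intro a ha
      rw [Subgroup.mem_sup_of_normal_left] at ha
      obtain ⟨n, hn, z, hz, haz⟩ := ha
      obtain ⟨k, rfl⟩ := Subgroup.mem_zpowers_iff.1 hz
      exact ⟨n, hn, k, haz.symm⟩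
    have hnc : ∀ n ∈ N, Commute n c := fun n hn => Subgroup.mem_centralizer_iff.1 hc n hn
    have h1 := hrk (N ⊔ Subgroup.zpowers c) (by
      refine ⟨⟨?_⟩⟩
      rintro ⟨a, ha⟩ ⟨b, hb⟩
      obtain ⟨n, hn, k, rfl⟩ := hcomm a ha
      obtain ⟨m, hm, l, rfl⟩ := hcomm b hb
      apply Subtype.ext
      have c1 : Commute n m := hNcomm n hn m hm
      exact (((c1.mul_right ((hnc n hn).zpow_right l))).mul_left
        (((hnc m hm).symm.zpow_left k).mul_right ((Commute.refl c).zpow_zpow k l))).eq) (by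
      intro a ha
      obtain ⟨n, hn, k, rfl⟩ := hcomm a ha
      rw [((hnc n hn).zpow_right k).mul_pow, hNe.2 n hn, one_mul, ← zpow_natCast, ← zpow_mul, mul_comm, zpow_mul,
        zpow_natCast, hcp, one_zpow])
    have h2 : N = N ⊔ Subgroup.zpowers c := Subgroup.eq_of_le_of_card_ge le_sup_left (by rw [hNc]; exact h1)
    rw [h2]
    exact (le_sup_right : Subgroup.zpowers c ≤ _) (Subgroup.mem_zpowers c)
  by_cases htop : Subgroup.centralizer (N : Set G) = ⊤
  · left
    have hpc : BG.PCentral p G := by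
      intro x hx
      have hxN := hC x (htop ▸ Subgroup.mem_top x) hx
      rw [Subgroup.mem_center_iff]
      intro g
      exact (Subgroup.mem_centralizer_iff.1 (htop ▸ Subgroup.mem_top g : g ∈ Subgroup.centralizer (N : Set G)) x hxN).symm
    apply isMetacyclic_of_index_le hp hGp
    refine (hpc.index_closure_pow_le hp hGp).trans ?_
    rw [← hNc]
    apply Subgroup.card_le_of_le
    intro x hx
    exact hC x (htop ▸ Subgroup.mem_top x) (hpc.mem_omegaZ_iff.1 hx)
  have h : RSet p G N := ⟨hp, hGp, hNn, hNc, hNe.2, hC, htop⟩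
  have hCc : Nat.card (Subgroup.centralizer (N : Set G)) * p = p ^ n := by
    rw [← hG, ← h.index_C]; exact (Subgroup.centralizer (N : Set G)).card_mul_index
  obtain ⟨m, hm⟩ := (IsPGroup.iff_card).1 h.pGroup_C
  have hm2 : 2 ≤ m := by
    have h1 : p ^ 2 ≤ p ^ m := by rw [← hm, ← hNc]; exact Subgroup.card_le_of_le h.le_C
    exact (Nat.pow_le_pow_iff_right hpp.one_lt).1 h1
  have hnm : n = m + 1 := by
    rw [hm, ← pow_succ] at hCc
    exact (Nat.pow_right_injective hpp.two_le hCc).symm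
  rcases h.exists_U with ⟨w, hwC, hw⟩ | ⟨U, hU⟩
  · obtain ⟨l, rfl⟩ : ∃ l, m = 2 + l := ⟨m - 2, by omega⟩
    rcases l with _ | l
    · have hW : RW p G N w 0 := ⟨hwC, hw, hm⟩
      have e : n = 3 := by omega
      rw [e]
      exact hW.fam_zero h
    · have hW : RW p G N w (l + 1) := ⟨hwC, hw, hm⟩
      have e : n = l + 4 := by omega
      rw [e]
      by_cases hno : ∃ x : G, x ∉ Subgroup.centralizer (N : Set G) ∧ x ^ p = 1
      · obtain ⟨x, hx, hxp⟩ := hno
        exact Or.inr (hW.fam_of_exists h hx hxp)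
      · push Not at hno
        exact hW.fam_of_not_exists h hno
  · rcases Nat.lt_or_ge 3 p with h3 | h3
    · exact Or.inl (hU.metacyclic_of_gt h h3)
    · have hp3 : p = 3 := by
        have := hpp.two_le
        omega
      subst hp3
      by_cases hcond : ∀ g : G, ∀ u ∈ U, Commute u (g ^ 3)
      · right; right; right
        exact ⟨rfl, by omega, max_class_aux n G N U hG h hU hcond⟩
      · push Not at hcond
        obtain ⟨g, u, hu, hgu⟩ := hcond
        exact Or.inl (hU.metacyclic h hu hgu)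

end Cfsg.Agent.S3888
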