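import Cfsg.Statements.S3890
import Cfsg.Agent.H65.NilCover

set_option autoImplicit false
open Cfsg

namespace Cfsg.Agent.S3890

open Subgroup Cfsg.Agent.H65 Cfsg.Agent.Transfer
open scoped Pointwise

theorem main {G : Type*} [Group G] [Finite G] (hZ : Subgroup.center G = ⊥) (𝓐 : Finset (Subgroup G))
    (h𝓐 : NMC 𝓐) {p : ℕ} [Fact p.Prime] (P : Sylow p G) (hab : IsMulCommutative ↥(P : Subgroup G))
    (hnn : ¬ (P : Subgroup G).Normal) :
    (Cfsg.IsElementaryAbelian p (P : Subgroup G) ∧ p < Nat.card ↥(P : Subgroup G)) ∨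
    (centralizer (P : Set G) ∈ 𝓐 ∧ (P : Subgroup G) ≤ centralizer (P : Set G) ∧
      (∀ M : Subgroup G, M ≠ ⊤ → centralizer (P : Set G) ≤ M → M ≤ normalizer (P : Set G)) ∧
      (∀ Q : Sylow p G, centralizer (Q : Set G) ∈ 𝓐)) := by
  have hab' : ∀ Q : Sylow p G, IsMulCommutative Q := isMulCommutative_sylow_of_one hab
  have hnn' : ∀ Q : Sylow p G, ¬ (Q : Subgroup G).Normal := by
    intro Q hQ
    apply hnn
    obtain ⟨g, hg⟩ := MulAction.exists_smul_eq G Q P
    rw [← hg, Sylow.smul_eq_of_normal]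
    exact hQ
  by_cases hall : ∀ P : Sylow p G, ∃ A ∈ 𝓐, (P : Subgroup G) ≤ A
  · right
    obtain ⟨h1, h2⟩ := h𝓐.of_le hZ hab' hnn' hall P
    refine ⟨h1, ?_, h2, fun Q => (h𝓐.of_le hZ hab' hnn' hall Q).1⟩
    intro y hy
    rw [mem_centralizer_iff]
    intro z hz
    exact congrArg Subtype.val (mul_comm' (⟨z, hz⟩ : P) ⟨y, hy⟩)
  · left
    push Not at hall
    obtain ⟨Q, hQ⟩ := hall
    obtain ⟨h1, h2⟩ := h𝓐.elementary_of_not_le hZ hab' Q hQ
    refine ⟨⟨hab, ?_⟩, ?_⟩
    · intro a ha
      have h3 := h1 (P.equiv Q ⟨a, ha⟩) (P.equiv Q ⟨a, ha⟩).2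
      have h4 : (P.equiv Q ⟨a, ha⟩) ^ p = 1 := Subtype.ext h3
      rw [← map_pow] at h4
      have h5 : (⟨a, ha⟩ : P) ^ p = 1 := (map_eq_one_iff _ (P.equiv Q).injective).mp h4
      exact congrArg Subtype.val h5
    · have h3 : Nat.card P = Nat.card Q := Nat.card_congr (P.equiv Q).toEquiv
      exact h3.symm ▸ h2

/-- A cover of a group is a finite set of proper subgroups whose union is the whole group; it is minimal when no cover has fewer members, and nilpotent when all its members are nilpotent. Let G be a finite group with trivial center admitting a nilpotent minimal cover 𝓐, and let P be an abelian Sylow p-subgroup of G that is not normal. Then either P is elementary abelian of order greater than p, or P is a Sylow p-subgroup of some member A of 𝓐, the normalizer N of P is a maximal subgroup of G, N meets each of its conjugates by elements outside N in a subgroup of order prime to p, and the centralizer of P equals A. -/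
theorem result {G : Type*} [Group G] [Finite G] (hZ : Subgroup.center G = ⊥) (𝓐 : Finset (Subgroup G))
    (h𝓐 : ((∀ A ∈ 𝓐, A ≠ ⊤) ∧ (∀ g : G, ∃ A ∈ 𝓐, g ∈ A)) ∧ (∀ 𝓑 : Finset (Subgroup G), (∀ A ∈ 𝓑, A ≠ ⊤) ∧ (∀ g : G, ∃ A ∈ 𝓑, g ∈ A) → 𝓐.card ≤ 𝓑.card) ∧ (∀ A ∈ 𝓐, Group.IsNilpotent ↥A)) {p : ℕ} [Fact p.Prime] (P : Sylow p G) (hab : IsMulCommutative ↥(P : Subgroup G))
    (hnn : ¬ (P : Subgroup G).Normal) :
    (Cfsg.IsElementaryAbelian p (P : Subgroup G) ∧ p < Nat.card ↥(P : Subgroup G)) ∨
    (∃ A ∈ 𝓐, (P : Subgroup G) ≤ A ∧ ¬ p ∣ ((P : Subgroup G).subgroupOf A).index ∧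
      IsCoatom (Subgroup.normalizer ((P : Subgroup G) : Set G)) ∧
      (∀ g : G, g ∉ Subgroup.normalizer ((P : Subgroup G) : Set G) →
        ¬ p ∣ Nat.card ↥(Subgroup.normalizer ((P : Subgroup G) : Set G) ⊓
          (Subgroup.normalizer ((P : Subgroup G) : Set G)).map (MulAut.conj g).toMonoidHom)) ∧
      Subgroup.centralizer ((P : Subgroup G) : Set G) = A) := by
  have hp : p.Prime := Fact.out
  rcases main hZ 𝓐 h𝓐 P hab hnn with h | ⟨hC, hPC, hM, hall⟩
  · exact Or.inl h
  · right
    refine ⟨_, hC, hPC, ?_, ⟨?_, ?_⟩, ?_, rfl⟩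
    · intro hd
      apply P.not_dvd_index
      have : ((P : Subgroup G).relIndex (centralizer (P : Set G))) ∣ (P : Subgroup G).index :=
        relIndex_dvd_index_of_le hPC
      exact hd.trans this
    · intro h
      exact hnn (normalizer_eq_top_iff.mp h)
    · intro M hNM
      by_contra hMt
      exact absurd (hM M hMt ((Subgroup.centralizer_le_normalizer _).trans hNM.le)) (not_le_of_gt hNM)
    · intro g hg hd
      obtain ⟨⟨y, hy⟩, hyo⟩ := exists_prime_orderOf_dvd_card' p hd
      rw [Subgroup.orderOf_mk] at hyo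
      obtain ⟨hy1, hy2⟩ := Subgroup.mem_inf.mp hy
      have hyp : y ^ p ^ 1 = 1 := by rw [pow_one, ← hyo, pow_orderOf_eq_one]
      have hyP : y ∈ P := mem_sylow_of_mem_normalizer hy1 hyp
      have hyP2 : y ∈ (g • P : Sylow p G) := by
        obtain ⟨z, hz, hzy⟩ := hy2
        have hzy' : g * z * g⁻¹ = y := hzy
        have hzP : z ∈ P := by
          apply mem_sylow_of_mem_normalizer hz (k := 1)
          have : z = g⁻¹ * y * g := by rw [← hzy']; group
          rw [this]
          have e : (g⁻¹ * y * g) ^ p ^ 1 = g⁻¹ * y ^ p ^ 1 * g := by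
            have := conj_pow (i := p ^ 1) (a := g⁻¹) (b := y)
            rw [inv_inv] at this
            exact this
          rw [e, hyp]; group
        exact ⟨z, hzP, hzy'⟩
      have hab2 := isMulCommutative_sylow_of_one hab (g • P)
      have hy1' : y ≠ 1 := by
        intro h
        rw [h, orderOf_one] at hyo
        exact hp.one_lt.ne hyo
      have hcc : ∀ Q : Sylow p G, y ∈ Q → centralizer (Q : Set G) ≤ centralizer ({y} : Set G) := by
        intro Q hyQ
        exact centralizer_le (by rwa [Set.singleton_subset_iff])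
      have heq := NMC.merge (𝓐 := 𝓐) h𝓐 (hall P) (hall (g • P)) (centralizer_ne_top hZ hy1')
        (hcc P hyP) (hcc _ hyP2)
      -- g • P ≤ N(P)
      apply hg
      have hle : ((g • P : Sylow p G) : Subgroup G) ≤ P := by
        intro z hz
        obtain ⟨k, hk⟩ := exists_orderOf_eq_pow (g • P) hz
        refine mem_sylow_of_mem_normalizer (k := k) ?_ (by rw [← hk, pow_orderOf_eq_one])
        apply Subgroup.centralizer_le_normalizer
        rw [heq, mem_centralizer_iff]
        intro w hw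
        exact congrArg Subtype.val (mul_comm' (⟨w, hw⟩ : (g • P : Sylow p G)) ⟨z, hz⟩)
      have h9 := Sylow.ext ((g • P).3 P.2 hle)
      exact Sylow.smul_eq_iff_mem_normalizer.mp h9.symm

end Cfsg.Agent.S3890
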