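import Cfsg.Statements.S3892
import Cfsg.Agent.S3890

set_option autoImplicit false
open Cfsg

namespace Cfsg.Agent.S3892

open Subgroup Cfsg.Agent.H65 Cfsg.Agent.Transfer
open scoped Pointwise
open Equiv

/-- no nilpotent minimal cover if a cyclic Sylow subgroup of prime order has centralizer in a proper
subgroup not normalizing it. -/
theorem no_cover_of {G : Type*} [Group G] [Finite G] (hZ : Subgroup.center G = ⊥) {p : ℕ}
    [Fact p.Prime] (c : G) (hc : orderOf c = p) (hp2 : ¬ p ^ 2 ∣ Nat.card G) (M : Subgroup G)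
    (hM : M ≠ ⊤) (hCM : centralizer ({c} : Set G) ≤ M) (t : G) (htM : t ∈ M)
    (ht : t * c * t⁻¹ ∉ zpowers c) : ¬ ∃ 𝓐 : Finset (Subgroup G), NMC 𝓐 := by
  have hp : p.Prime := Fact.out
  rintro ⟨𝓐, h𝓐⟩
  have hcp : IsPGroup p (zpowers c) := by
    apply IsPGroup.of_card (n := 1)
    rw [Nat.card_zpowers, hc, pow_one]
  obtain ⟨P, hP⟩ := hcp.exists_le_sylow
  have hPcard : Nat.card P = p := by
    obtain ⟨k, hk⟩ := IsPGroup.iff_card.mp P.2
    have h1 : Nat.card (zpowers c) ∣ Nat.card P := Subgroup.card_dvd_of_le hP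
    rw [Nat.card_zpowers, hc] at h1
    have hk' : Nat.card P = p ^ k := hk
    have hk1 : k < 2 := by
      by_contra hk2
      push Not at hk2
      apply hp2
      exact (pow_dvd_pow p hk2).trans (hk ▸ Subgroup.card_subgroup_dvd_card _)
    have hk0 : k ≠ 0 := by
      rintro rfl
      rw [hk', pow_zero, Nat.dvd_one] at h1
      exact hp.one_lt.ne' h1
    have : k = 1 := by omega
    rw [hk', this, pow_one]
  have hPc : zpowers c = P := by
    apply Subgroup.eq_of_le_of_card_ge hP
    rw [Nat.card_zpowers, hc]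
    exact hPcard.le
  have htN : t ∉ normalizer (P : Set G) := by
    intro h
    apply ht
    rw [hPc]
    exact (mem_normalizer_iff.mp h c).mp (hP (mem_zpowers c))
  have hnn : ¬ (P : Subgroup G).Normal := by
    intro h
    apply htN
    have h2 : normalizer ((P : Subgroup G) : Set G) = ⊤ := normalizer_eq_top_iff.mpr h
    have h3 : t ∈ normalizer ((P : Subgroup G) : Set G) := h2 ▸ mem_top t
    exact h3
  have hcyc : IsCyclic (P : Subgroup G) := isCyclic_of_prime_card (p := p) hPcard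
  rcases S3890.main hZ 𝓐 h𝓐 P inferInstance hnn with ⟨h1, h2⟩ | ⟨hC, hPC, hMM, hall⟩
  · exact absurd h2 (by rw [show Nat.card (P : Subgroup G) = p from hPcard]; exact lt_irrefl p)
  · apply htN
    apply hMM M hM _ htM
    refine le_trans (centralizer_le ?_) hCM
    rw [Set.singleton_subset_iff]
    exact hP (mem_zpowers c)

theorem exists_two_other {n : ℕ} (hn : 4 ≤ n) (a b : Fin n) : ∃ c d : Fin n, c ≠ a ∧ c ≠ b ∧ d ≠ a ∧ d ≠ b ∧ c ≠ d := by
  have h1 : ∃ c : Fin n, c ∉ ({a, b} : Finset (Fin n)) := by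
    by_contra h
    push Not at h
    have : (Finset.univ : Finset (Fin n)) ⊆ {a, b} := fun x _ => h x
    have := Finset.card_le_card this
    have h2 := Finset.card_le_two (a := a) (b := b)
    rw [Finset.card_univ, Fintype.card_fin] at this
    omega
  obtain ⟨c, hc⟩ := h1
  have h2 : ∃ d : Fin n, d ∉ ({a, b, c} : Finset (Fin n)) := by
    by_contra h
    push Not at h
    have : (Finset.univ : Finset (Fin n)) ⊆ {a, b, c} := fun x _ => h x
    have := Finset.card_le_card this
    have h2 := Finset.card_le_three (a := a) (b := b) (c := c)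
    rw [Finset.card_univ, Fintype.card_fin] at this
    omega
  obtain ⟨d, hd⟩ := h2
  simp only [Finset.mem_insert, Finset.mem_singleton, not_or] at hc hd
  exact ⟨c, d, hc.1, hc.2, hd.1, hd.2.1, fun h => hd.2.2 h.symm⟩

/-- the 3-cycle a → b → c → a -/
theorem threeCycle {n : ℕ} {a b c : Fin n} (hab : a ≠ b) (hac : a ≠ c) (hbc : b ≠ c) :
    ∃ t ∈ alternatingGroup (Fin n), t a = b ∧ t b = c ∧ t c = a ∧
      ∀ x, x ≠ a → x ≠ b → x ≠ c → t x = x := by
  refine ⟨swap a b * swap b c, ?_, ?_, ?_, ?_, ?_⟩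
  · rw [Equiv.Perm.mem_alternatingGroup, map_mul, Equiv.Perm.sign_swap hab, Equiv.Perm.sign_swap hbc]
    rfl
  · rw [Perm.mul_apply, swap_apply_of_ne_of_ne hab hac, swap_apply_left]
  · rw [Perm.mul_apply, swap_apply_left, swap_apply_of_ne_of_ne hac.symm hbc.symm]
  · rw [Perm.mul_apply, swap_apply_right, swap_apply_right]
  · intro x h1 h2 h3
    rw [Perm.mul_apply, swap_apply_of_ne_of_ne h2 h3, swap_apply_of_ne_of_ne h1 h2]

theorem center_eq_bot {n : ℕ} (hn : 4 ≤ n) {G : Type*} [Group G]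
    (φ : G →* Perm (Fin n)) (hφ : Function.Injective φ) (hr : alternatingGroup (Fin n) ≤ φ.range) :
    Subgroup.center G = ⊥ := by
  rw [Subgroup.eq_bot_iff_forall]
  intro z hz
  rw [mem_center_iff] at hz
  apply hφ
  rw [map_one]
  by_contra hne
  obtain ⟨a, ha⟩ : ∃ a, φ z a ≠ a := by
    by_contra h
    push Not at h
    exact hne (Perm.ext h)
  obtain ⟨c, d, h1, h2, h3, h4, h5⟩ := exists_two_other hn a (φ z a)
  obtain ⟨t, ht, ht1, ht2, ht3, ht4⟩ := threeCycle (n := n) (a := a) (b := c) (c := d) h1.symm h3.symm h5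
  obtain ⟨g, rfl⟩ := hr ht
  have hcomm := hz g
  have e : φ g (φ z a) = φ z (φ g a) := by
    rw [← Perm.mul_apply, ← Perm.mul_apply, ← map_mul, ← map_mul, hcomm]
  rw [ht1, ht4 _ ha h2.symm h4.symm] at e
  exact h1 ((φ z).injective e).symm

theorem fixes_of_pow {n p : ℕ} (hp : p.Prime) {c : Perm (Fin n)} (hc : orderOf c = p) {j : ℤ}
    {y : Fin n} (hy : c y ≠ y) (hj : (c ^ j) y = y) : c ^ j = 1 := by
  by_cases hd : (p : ℤ) ∣ j
  · obtain ⟨k, rfl⟩ := hd
    rw [zpow_mul, zpow_natCast, ← hc, pow_orderOf_eq_one, one_zpow]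
  · exfalso
    apply hy
    have hcop : IsCoprime (p : ℤ) j := (Nat.prime_iff_prime_int.mp hp).coprime_iff_not_dvd.mpr hd
    obtain ⟨u, v, huv⟩ := hcop
    have h1 : c = (c ^ j) ^ v := by
      have h3 : (c ^ (p : ℤ)) = 1 := by rw [zpow_natCast, ← hc, pow_orderOf_eq_one]
      calc c = c ^ (1 : ℤ) := (zpow_one c).symm
        _ = c ^ (u * p + v * j) := by rw [huv]
        _ = (c ^ (p : ℤ)) ^ u * (c ^ j) ^ v := by
            rw [zpow_add, mul_comm u, mul_comm v, zpow_mul, zpow_mul]
        _ = (c ^ j) ^ v := by rw [h3, one_zpow, one_mul]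
    rw [h1]
    have h2 : ∀ d : Perm (Fin n), d y = y → ∀ v : ℤ, (d ^ v) y = y := by
      intro d hd v
      exact Perm.zpow_apply_eq_self_of_apply_eq_self hd v
    exact h2 _ hj v

/-- a 3-cycle x → cx → c²x does not normalize ⟨c⟩ when p ≥ 5 -/
theorem threeCycle_not_normalize {n p : ℕ} (hp : p.Prime) (hp5 : 5 ≤ p) {c : Perm (Fin n)}
    (hc : orderOf c = p) {x : Fin n} (hx : c x ≠ x) :
    ∃ t ∈ alternatingGroup (Fin n), (∀ y, c y = y → t y = y) ∧ t * c * t⁻¹ ∉ zpowers c := by
  have hpow : ∀ i j : ℕ, i < 5 → j < 5 → i ≠ j → (c ^ i) x ≠ (c ^ j) x := by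
    intro i j hi hj hij h
    have h1 : (c ^ ((i : ℤ) - j)) x = x := by
      have h2 : (c ^ (j : ℤ)) ((c ^ ((i : ℤ) - j)) x) = (c ^ (j : ℤ)) x := by
        rw [← Perm.mul_apply, ← zpow_add, zpow_natCast]
        have : (j : ℤ) + (i - j) = (i : ℤ) := by ring
        rw [this, zpow_natCast]
        exact h
      exact (c ^ (j : ℤ)).injective h2
    have h3 := fixes_of_pow hp hc hx h1
    rw [← orderOf_dvd_iff_zpow_eq_one, hc] at h3
    obtain ⟨k, hk⟩ := h3
    have h4 : |(i : ℤ) - j| < p := by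
      rw [abs_lt]; constructor <;> omega
    have h5 := Int.eq_zero_of_abs_lt_dvd ⟨k, hk⟩ h4
    omega
  have h01 : x ≠ c x := hx.symm
  have h02 : x ≠ c (c x) := by
    have := hpow 0 2 (by norm_num) (by norm_num) (by norm_num)
    rwa [pow_zero, Perm.one_apply, pow_succ, pow_one, Perm.mul_apply] at this
  have h12 : c x ≠ c (c x) := fun h => h01 (c.injective h)
  have h03 : x ≠ c (c (c x)) := by
    have := hpow 0 3 (by norm_num) (by norm_num) (by norm_num)
    rwa [pow_zero, Perm.one_apply, pow_succ, pow_succ, pow_one, Perm.mul_apply,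
      Perm.mul_apply] at this
  have h04 : x ≠ c (c (c (c x))) := by
    have := hpow 0 4 (by norm_num) (by norm_num) (by norm_num)
    rwa [pow_zero, Perm.one_apply, pow_succ, pow_succ, pow_succ, pow_one, Perm.mul_apply,
      Perm.mul_apply, Perm.mul_apply] at this
  have h13 : c x ≠ c (c (c x)) := fun h => h02 (c.injective h)
  have h14 : c x ≠ c (c (c (c x))) := fun h => h03 (c.injective h)
  have h23 : c (c x) ≠ c (c (c x)) := fun h => h12 (c.injective h)
  have h24 : c (c x) ≠ c (c (c (c x))) := fun h => h13 (c.injective h)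
  obtain ⟨t, ht, t1, t2, t3, t4⟩ := threeCycle h01 h02 h12
  refine ⟨t, ht, ?_, ?_⟩
  · intro y hy
    apply t4
    · rintro rfl; exact h01 hy.symm
    · rintro rfl; exact h12 hy.symm
    · rintro rfl; exact h23 hy.symm
  · intro hmem
    obtain ⟨k, hk⟩ := mem_zpowers_iff.mp hmem
    have t5 : t (c (c (c x))) = c (c (c x)) := t4 _ h03.symm h13.symm h23.symm
    have t6 : t (c (c (c (c x)))) = c (c (c (c x))) := t4 _ h04.symm h14.symm h24.symm
    have e1 : (t * c * t⁻¹) (c (c (c x))) = c (c (c (c x))) := by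
      have : t⁻¹ (c (c (c x))) = c (c (c x)) := by
        rw [Perm.inv_eq_iff_eq]; exact t5.symm
      rw [Perm.mul_apply, Perm.mul_apply, this, t6]
    rw [← hk] at e1
    -- c^(k-1) fixes c^3 x
    have e2 : (c ^ (k - 1)) (c (c (c x))) = c (c (c x)) := by
      apply c.injective
      rw [← Perm.mul_apply, ← zpow_one_add]
      have : 1 + (k - 1) = k := by ring
      rw [this]
      exact e1
    have e3 := fixes_of_pow hp hc (y := c (c (c x))) (fun h => hx (c.injective (c.injective (c.injective h)))) e2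
    have e4 : c ^ k = c := by
      have : c ^ k = c ^ (k - 1) * c := by rw [← zpow_add_one]; congr 1; ring
      rw [this, e3, one_mul]
    rw [e4] at hk
    have e5 : t * c = c * t := by
      conv_rhs => rw [hk]
      group
    have e6 : t (c (c (c x))) = c (t (c (c x))) := by
      rw [← Perm.mul_apply, e5, Perm.mul_apply]
    rw [t5, t3] at e6
    exact h13 e6.symm

/-- the general case `n ≥ 6` -/
theorem no_cover_general {n : ℕ} (hn : 6 ≤ n) {G : Type*} [Group G] [Finite G]
    (φ : G →* Perm (Fin n)) (hφ : Function.Injective φ) (hr : alternatingGroup (Fin n) ≤ φ.range) :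
    ¬ ∃ 𝓐 : Finset (Subgroup G), NMC 𝓐 := by
  obtain ⟨p, hp, hp1, hp2⟩ := Nat.exists_prime_lt_and_le_two_mul (n / 2) (by omega)
  have hp5 : 5 ≤ p := by
    have : p ≠ 4 := by rintro rfl; revert hp; decide
    omega
  have hpn : p < n := by
    rcases Nat.even_or_odd' n with ⟨m, rfl | rfl⟩
    · have h1 : p ≠ 2 * m := by
        rintro rfl
        have := (Nat.prime_mul_iff.mp hp)
        omega
      omega
    · omega
  have hn2p : n < 2 * p := by omega
  have : Fact p.Prime := ⟨hp⟩
  have hcard : Nat.card G ∣ n.factorial := by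
    have h1 : Nat.card G = Nat.card φ.range := Nat.card_congr (MonoidHom.ofInjective hφ).toEquiv
    rw [h1]
    have h2 := Subgroup.card_subgroup_dvd_card φ.range
    rwa [Nat.card_perm, Nat.card_fin] at h2
  have hcard2 : n.factorial ∣ 2 * Nat.card G := by
    have : Nontrivial (Fin n) := Fin.nontrivial_iff_two_le.mpr (by omega)
    have h1 := two_mul_nat_card_alternatingGroup (α := Fin n)
    rw [Nat.card_perm, Nat.card_fin] at h1
    rw [← h1]
    apply Nat.mul_dvd_mul_left
    have h2 : Nat.card G = Nat.card φ.range := Nat.card_congr (MonoidHom.ofInjective hφ).toEquiv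
    rw [h2]
    exact Subgroup.card_dvd_of_le hr
  have hpG : p ∣ Nat.card G := by
    have h1 : p ∣ 2 * Nat.card G := (Nat.dvd_factorial hp.pos hpn.le).trans hcard2
    rcases (Nat.Prime.dvd_mul hp).mp h1 with h2 | h2
    · have := Nat.le_of_dvd (by norm_num) h2
      omega
    · exact h2
  have hp2G : ¬ p ^ 2 ∣ Nat.card G := by
    intro h
    have h1 : p ^ 2 ∣ n.factorial := h.trans hcard
    rw [Nat.Prime.pow_dvd_factorial_iff hp (b := 2) (by
      apply Nat.log_lt_of_lt_pow (by omega)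
      nlinarith)] at h1
    have h2 : ∑ i ∈ Finset.Ico 1 2, n / p ^ i = n / p := by simp
    rw [h2] at h1
    have : n / p < 2 := Nat.div_lt_of_lt_mul (by omega)
    omega
  obtain ⟨c, hc⟩ := exists_prime_orderOf_dvd_card' p hpG
  have hφc : orderOf (φ c) = p := by rw [orderOf_injective φ hφ, hc]
  have hx : ∃ x, φ c x ≠ x := by
    by_contra h
    push Not at h
    have : φ c = 1 := Perm.ext h
    rw [this, orderOf_one] at hφc
    exact hp.one_lt.ne hφc
  obtain ⟨x, hx⟩ := hx
  obtain ⟨y, hy⟩ : ∃ y, φ c y = y := by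
    apply Equiv.Perm.exists_fixed_point_of_prime (p := p) (n := 1)
    · rw [Fintype.card_fin]
      intro hd
      obtain ⟨k, rfl⟩ := hd
      have : 1 < k := by
        by_contra hk
        have : p * k ≤ p * 1 := Nat.mul_le_mul_left _ (by omega)
        omega
      have : p * 2 ≤ p * k := Nat.mul_le_mul_left _ (by omega)
      omega
    · rw [pow_one, ← hφc, pow_orderOf_eq_one]
  -- the setwise stabilizer of the fixed point set
  let M : Subgroup G :=
    { carrier := {g | ∀ z, φ c z = z ↔ φ c (φ g z) = φ g z}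
      mul_mem' := by
        intro a b ha hb z
        rw [map_mul, Perm.mul_apply]
        exact (hb z).trans (ha (φ b z))
      one_mem' := by intro z; simp
      inv_mem' := by
        intro a ha z
        have e : φ a (φ a⁻¹ z) = z := by
          rw [← Perm.mul_apply, ← map_mul, mul_inv_cancel, map_one, Perm.one_apply]
        have := ha (φ a⁻¹ z)
        rw [e] at this
        exact this.symm }
  obtain ⟨t, ht, ht1, ht2⟩ := threeCycle_not_normalize hp hp5 hφc hx
  obtain ⟨t', rfl⟩ := hr ht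
  refine no_cover_of (center_eq_bot (by omega) φ hφ hr) c hc hp2G M ?_ ?_ t' ?_ ?_
  · intro htop
    -- a 3-cycle moving x to y
    obtain ⟨d, -, h1, h2, -⟩ := exists_two_other (n := n) (by omega) x y
    have hxy : x ≠ y := by rintro rfl; exact hx hy
    obtain ⟨s, hs, hs1, -⟩ := threeCycle (a := x) (b := y) (c := d) hxy h1.symm h2.symm
    obtain ⟨s', rfl⟩ := hr hs
    have : s' ∈ M := htop ▸ mem_top s'
    have h3 := (this x).mpr (by rw [hs1]; exact hy)
    exact hx h3
  · intro g hg z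
    have hcomm : c * g = g * c := (mem_centralizer_singleton_iff.mp hg).symm
    have : φ c (φ g z) = φ g (φ c z) := by
      rw [← Perm.mul_apply, ← Perm.mul_apply, ← map_mul, ← map_mul, hcomm]
    rw [this]
    exact (φ g).injective.eq_iff.symm
  · intro z
    constructor
    · intro hz
      rw [ht1 z hz]; exact hz
    · intro hz
      by_contra hne
      have h1 := ht1 _ hz
      have h2 : φ t' z = z := (φ t').injective h1
      rw [h2] at hz
      exact hne hz
  · intro hmem
    apply ht2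
    obtain ⟨k, hk⟩ := mem_zpowers_iff.mp hmem
    rw [← map_inv, ← map_mul, ← map_mul, ← hk, map_zpow]
    exact zpow_mem (mem_zpowers _) k

theorem alt5 : ¬ ∃ 𝓐 : Finset (Subgroup (alternatingGroup (Fin 5))), NMC 𝓐 := by
  have hZ : Subgroup.center (alternatingGroup (Fin 5)) = ⊥ :=
    center_eq_bot (n := 5) (by norm_num) (alternatingGroup (Fin 5)).subtype
      (Subgroup.subtype_injective _) (by rw [Subgroup.range_subtype])
  have : Fact (Nat.Prime 3) := ⟨Nat.prime_three⟩
  have hcard : Nat.card (alternatingGroup (Fin 5)) = 60 := by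
    rw [nat_card_alternatingGroup, Nat.card_fin]; rfl
  let c0 : Perm (Fin 5) := swap 0 1 * swap 1 2
  have hc0 : c0 ∈ alternatingGroup (Fin 5) := Perm.mem_alternatingGroup.mpr (by decide)
  let t0 : Perm (Fin 5) := swap 0 1 * swap 1 3
  have ht0 : t0 ∈ alternatingGroup (Fin 5) := Perm.mem_alternatingGroup.mpr (by decide)
  let M : Subgroup (alternatingGroup (Fin 5)) :=
    { carrier := {g | (g : Perm (Fin 5)) 4 = 4}
      mul_mem' := by
        intro a b ha hb
        show ((a * b : alternatingGroup (Fin 5)) : Perm (Fin 5)) 4 = 4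
        rw [Subgroup.coe_mul, Perm.mul_apply, hb, ha]
      one_mem' := rfl
      inv_mem' := by
        intro a ha
        show ((a⁻¹ : alternatingGroup (Fin 5)) : Perm (Fin 5)) 4 = 4
        rw [Subgroup.coe_inv, Perm.inv_eq_iff_eq]
        exact ha.symm }
  refine no_cover_of hZ (p := 3) ⟨c0, hc0⟩ ?_ ?_ M ?_ ?_ ⟨t0, ht0⟩ ?_ ?_
  · rw [Subgroup.orderOf_mk]
    apply orderOf_eq_prime
    · decide
    · decide
  · rw [hcard]; norm_num
  · intro h
    have h1 : (⟨swap 0 1 * swap 1 4, Perm.mem_alternatingGroup.mpr (by decide)⟩ :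
      alternatingGroup (Fin 5)) ∈ M := h ▸ mem_top _
    have h2 : (swap 0 1 * swap 1 4 : Perm (Fin 5)) 4 = 4 := h1
    revert h2
    decide
  · intro g hg
    have hcomm : (g : Perm (Fin 5)) * c0 = c0 * g :=
      congrArg Subtype.val (mem_centralizer_singleton_iff.mp hg)
    show (g : Perm (Fin 5)) 4 = 4
    obtain ⟨g, hg'⟩ := g
    have hs := Perm.mem_alternatingGroup.mp hg'
    simp only at hcomm ⊢
    clear hg hg'
    have key : ∀ g : Perm (Fin 5), Perm.sign g = 1 →
      g * (swap 0 1 * swap 1 2) = (swap 0 1 * swap 1 2) * g → g 4 = 4 := by decide +kernel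
    exact key g hs hcomm
  · show t0 4 = 4
    decide
  · intro h
    obtain ⟨k, hk⟩ := mem_zpowers_iff.mp h
    have h1 : ((⟨c0, hc0⟩ : alternatingGroup (Fin 5)) ^ k : alternatingGroup (Fin 5)) * ⟨c0, hc0⟩ =
      ⟨c0, hc0⟩ * (⟨c0, hc0⟩ ^ k : alternatingGroup (Fin 5)) := by group
    rw [hk] at h1
    have h2 : (t0 * c0 * t0⁻¹) * c0 = c0 * (t0 * c0 * t0⁻¹) := congrArg Subtype.val h1
    revert h2
    decide

theorem sym5 : ¬ ∃ 𝓐 : Finset (Subgroup (Perm (Fin 5))), NMC 𝓐 := by
  have hZ : Subgroup.center (Perm (Fin 5)) = ⊥ :=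
    center_eq_bot (n := 5) (by norm_num) (MonoidHom.id _) (fun _ _ h => h)
      (by rw [MonoidHom.range_eq_top.mpr (fun x => ⟨x, rfl⟩)]; exact le_top)
  have : Fact (Nat.Prime 5) := ⟨Nat.prime_five⟩
  have hcard : Nat.card (Perm (Fin 5)) = 120 := by
    rw [Nat.card_perm, Nat.card_fin]; rfl
  let c0 : Perm (Fin 5) := swap 0 1 * swap 1 2 * swap 2 3 * swap 3 4
  let t0 : Perm (Fin 5) := swap 0 1 * swap 1 3
  refine no_cover_of hZ (p := 5) c0 ?_ ?_ (alternatingGroup (Fin 5)) ?_ ?_ t0 ?_ ?_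
  · apply orderOf_eq_prime
    · decide
    · decide
  · rw [hcard]; norm_num
  · intro h
    have h1 : (swap 0 1 : Perm (Fin 5)) ∈ alternatingGroup (Fin 5) := h ▸ mem_top _
    have h2 := Perm.mem_alternatingGroup.mp h1
    revert h2
    decide
  · intro g hg
    have hcomm : (g : Perm (Fin 5)) * c0 = c0 * g := mem_centralizer_singleton_iff.mp hg
    rw [Perm.mem_alternatingGroup]
    have key : ∀ g : Perm (Fin 5), 
      g * (swap 0 1 * swap 1 2 * swap 2 3 * swap 3 4) = 
        (swap 0 1 * swap 1 2 * swap 2 3 * swap 3 4) * g → Perm.sign g = 1 := by decide +kernel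
    exact key g hcomm
  · rw [Perm.mem_alternatingGroup]
    decide
  · intro h
    obtain ⟨k, hk⟩ := mem_zpowers_iff.mp h
    have h1 : (c0 ^ k) * c0 = c0 * (c0 ^ k) := by group
    rw [hk] at h1
    revert h1
    decide

theorem sym4 : ¬ ∃ 𝓐 : Finset (Subgroup (Perm (Fin 4))), NMC 𝓐 := by
  have hZ : Subgroup.center (Perm (Fin 4)) = ⊥ :=
    center_eq_bot (n := 4) (by norm_num) (MonoidHom.id _) (fun _ _ h => h)
      (by rw [MonoidHom.range_eq_top.mpr (fun x => ⟨x, rfl⟩)]; exact le_top)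
  have : Fact (Nat.Prime 3) := ⟨Nat.prime_three⟩
  have hcard : Nat.card (Perm (Fin 4)) = 24 := by
    rw [Nat.card_perm, Nat.card_fin]; rfl
  let c0 : Perm (Fin 4) := swap 0 1 * swap 1 2
  let t0 : Perm (Fin 4) := swap 0 1 * swap 1 3
  refine no_cover_of hZ (p := 3) c0 ?_ ?_ (alternatingGroup (Fin 4)) ?_ ?_ t0 ?_ ?_
  · apply orderOf_eq_prime
    · decide
    · decide
  · rw [hcard]; norm_num
  · intro h
    have h1 : (swap 0 1 : Perm (Fin 4)) ∈ alternatingGroup (Fin 4) := h ▸ mem_top _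
    have h2 := Perm.mem_alternatingGroup.mp h1
    revert h2
    decide
  · intro g hg
    have hcomm : (g : Perm (Fin 4)) * c0 = c0 * g := mem_centralizer_singleton_iff.mp hg
    rw [Perm.mem_alternatingGroup]
    have key : ∀ g : Perm (Fin 4), 
      g * (swap 0 1 * swap 1 2) = (swap 0 1 * swap 1 2) * g → Perm.sign g = 1 := by decide +kernel
    exact key g hcomm
  · rw [Perm.mem_alternatingGroup]
    decide
  · intro h
    obtain ⟨k, hk⟩ := mem_zpowers_iff.mp h
    have h1 : (c0 ^ k) * c0 = c0 * (c0 ^ k) := by group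
    rw [hk] at h1
    revert h1
    decide

/-- A cover of a group is a finite set of proper subgroups whose union is the whole group; it is minimal when no cover has fewer members, and nilpotent when all its members are nilpotent. The alternating groups of degree at least 5 and the symmetric groups of degree at least 4 have no nilpotent minimal cover. -/
theorem result (n : ℕ) :
    (5 ≤ n → ¬ ∃ 𝓐 : Finset (Subgroup ↥(alternatingGroup (Fin n))), ((∀ A ∈ 𝓐, A ≠ ⊤) ∧ (∀ g : ↥(alternatingGroup (Fin n)), ∃ A ∈ 𝓐, g ∈ A)) ∧ (∀ 𝓑 : Finset (Subgroup ↥(alternatingGroup (Fin n))), (∀ A ∈ 𝓑, A ≠ ⊤) ∧ (∀ g : ↥(alternatingGroup (Fin n)), ∃ A ∈ 𝓑, g ∈ A) → 𝓐.card ≤ 𝓑.card) ∧ (∀ A ∈ 𝓐, Group.IsNilpotent ↥A)) ∧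
    (4 ≤ n → ¬ ∃ 𝓐 : Finset (Subgroup (Equiv.Perm (Fin n))), ((∀ A ∈ 𝓐, A ≠ ⊤) ∧ (∀ g : (Equiv.Perm (Fin n)), ∃ A ∈ 𝓐, g ∈ A)) ∧ (∀ 𝓑 : Finset (Subgroup (Equiv.Perm (Fin n))), (∀ A ∈ 𝓑, A ≠ ⊤) ∧ (∀ g : (Equiv.Perm (Fin n)), ∃ A ∈ 𝓑, g ∈ A) → 𝓐.card ≤ 𝓑.card) ∧ (∀ A ∈ 𝓐, Group.IsNilpotent ↥A)) := by
  constructor
  · intro hn
    rcases Nat.lt_or_ge n 6 with h | h
    · obtain rfl : n = 5 := by omega
      exact alt5
    · exact no_cover_general h (alternatingGroup (Fin n)).subtype (Subgroup.subtype_injective _)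
        (by rw [Subgroup.range_subtype])
  · intro hn
    rcases Nat.lt_or_ge n 6 with h | h
    · obtain rfl | rfl : n = 4 ∨ n = 5 := by omega
      · exact sym4
      · exact sym5
    · exact no_cover_general h (MonoidHom.id _) (fun _ _ h => h)
        (by rw [MonoidHom.range_eq_top.mpr (fun x => ⟨x, rfl⟩)]; exact le_top)

end Cfsg.Agent.S3892
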