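import Cfsg.Statements.S3894
import Cfsg.Agent.H65.CoverPGL
import Cfsg.Agent.H65.CoverTwo
import Cfsg.Agent.S3892
import Cfsg.Agent.ClassBase.SimpleSmall
import Cfsg.Agent.H81.SL2Card

set_option autoImplicit false
open Cfsg

namespace Cfsg.Agent.S3894

open Subgroup Cfsg.Agent.H65

theorem not_nmc_of_mulEquiv {G H : Type*} [Group G] [Group H] (e : G ≃* H)
    (h : ¬ ∃ 𝓐 : Finset (Subgroup H), NMC 𝓐) : ¬ ∃ 𝓐 : Finset (Subgroup G), NMC 𝓐 := by
  rintro ⟨𝓐, ⟨h1, h2⟩, h3, h4⟩
  apply h
  have htop : ∀ A : Subgroup G, A.map e.toMonoidHom = ⊤ → A = ⊤ := by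
    intro A hA
    rw [eq_top_iff]
    intro x _
    have : e x ∈ A.map e.toMonoidHom := hA ▸ mem_top _
    obtain ⟨y, hy, hyx⟩ := this
    have : y = x := e.injective hyx
    rwa [← this]
  have htop' : ∀ A : Subgroup H, A.map e.symm.toMonoidHom = ⊤ → A = ⊤ := by
    intro A hA
    rw [eq_top_iff]
    intro x _
    have : e.symm x ∈ A.map e.symm.toMonoidHom := hA ▸ mem_top _
    obtain ⟨y, hy, hyx⟩ := this
    have : y = x := e.symm.injective hyx
    rwa [← this]
  classical
  have hinj : Function.Injective (fun A : Subgroup G => A.map e.toMonoidHom) :=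
    Subgroup.map_injective e.injective
  have hinj' : Function.Injective (fun A : Subgroup H => A.map e.symm.toMonoidHom) :=
    Subgroup.map_injective e.symm.injective
  refine ⟨𝓐.image (fun A => A.map e.toMonoidHom), ⟨?_, ?_⟩, ?_, ?_⟩
  · intro B hB
    obtain ⟨A, hA, rfl⟩ := Finset.mem_image.mp hB
    exact fun ht => h1 A hA (htop A ht)
  · intro g
    obtain ⟨A, hA, hgA⟩ := h2 (e.symm g)
    exact ⟨_, Finset.mem_image_of_mem _ hA, ⟨_, hgA, by simp⟩⟩
  · rintro 𝓑 ⟨h5, h6⟩
    rw [Finset.card_image_of_injective _ hinj, ← Finset.card_image_of_injective 𝓑 hinj']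
    apply h3
    constructor
    · intro B hB
      obtain ⟨A, hA, rfl⟩ := Finset.mem_image.mp hB
      exact fun ht => h5 A hA (htop' A ht)
    · intro g
      obtain ⟨A, hA, hgA⟩ := h6 (e g)
      exact ⟨_, Finset.mem_image_of_mem _ hA, ⟨_, hgA, by simp⟩⟩
  · intro B hB
    obtain ⟨A, hA, rfl⟩ := Finset.mem_image.mp hB
    have := h4 A hA
    exact Group.nilpotent_of_mulEquiv (A.equivMapOfInjective e.toMonoidHom e.injective)

theorem big {F : Type*} [Field F] [Fintype F] (n : ℕ) (hn : 3 ≤ n)
    (G : Subgroup (GL (Fin n) F ⧸ Subgroup.center (GL (Fin n) F)))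
    (hG : ∀ g : GL (Fin n) F, g.1.det = 1 → QuotientGroup.mk' (Subgroup.center (GL (Fin n) F)) g ∈ G) :
    ¬ ∃ 𝓐 : Finset (Subgroup G), NMC 𝓐 := by
  obtain ⟨p, hp⟩ := CharP.exists F
  have hpp : p.Prime := (CharP.char_is_prime_or_zero F p).resolve_right (CharP.char_ne_zero_of_finite F p)
  have : Fact p.Prime := ⟨hpp⟩
  have : NeZero (n - 1) := ⟨by omega⟩
  have hfr : Module.finrank F (FiniteField.Extension F p (n - 1)) = n - 1 :=
    FiniteField.finrank_extension F p (n - 1)
  have hfin : Module.Finite F (FiniteField.Extension F p (n - 1)) := inferInstance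
  have hfrV : Module.finrank F (FiniteField.Extension F p (n - 1) × F) = n := by
    rw [Module.finrank_prod, hfr, Module.finrank_self]; omega
  let b := Module.finBasisOfFinrankEq F (FiniteField.Extension F p (n - 1) × F) hfrV
  let e : LinearMap.GeneralLinearGroup F (FiniteField.Extension F p (n - 1) × F) ≃* GL (Fin n) F :=
    Units.mapEquiv (LinearMap.toMatrixAlgEquiv b).toMulEquiv
  refine core_big (F := F) (K := FiniteField.Extension F p (n - 1)) (by rw [hfr]; omega)
    ((QuotientGroup.mk' (Subgroup.center (GL (Fin n) F))).comp e.toMonoidHom)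
    ((QuotientGroup.mk'_surjective _).comp e.surjective) ?_ G ?_
  · intro z hz
    rw [MonoidHom.mem_ker] at hz
    have h1 : e z ∈ Subgroup.center (GL (Fin n) F) := (QuotientGroup.eq_one_iff _).mp hz
    rw [mem_center_iff] at h1 ⊢
    intro g
    apply e.injective
    rw [map_mul, map_mul]
    exact h1 (e g)
  · intro g hg
    apply hG
    show (LinearMap.toMatrix b b (g : _ →ₗ[F] _)).det = 1
    rw [LinearMap.det_toMatrix, hg]

theorem two {F : Type*} [Field F] [Fintype F] (hq : 4 ≤ Fintype.card F)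
    (G : Subgroup (GL (Fin 2) F ⧸ Subgroup.center (GL (Fin 2) F)))
    (hG : ∀ g : GL (Fin 2) F, g.1.det = 1 → QuotientGroup.mk' (Subgroup.center (GL (Fin 2) F)) g ∈ G) :
    ¬ ∃ 𝓐 : Finset (Subgroup G), NMC 𝓐 := by
  classical
  have hq' : 4 ≤ Nat.card F := by rw [Nat.card_eq_fintype_card]; exact hq
  let dd : Fˣ → Fˣ → GL (Fin 2) F := fun a b =>
    Matrix.GeneralLinearGroup.mkOfDetNeZero (Matrix.diagonal ![(a : F), (b : F)]) (by
      rw [Matrix.det_diagonal]
      simp)
  have hdd : ∀ a b : Fˣ, (dd a b).1 = Matrix.diagonal ![(a : F), (b : F)] := fun a b => rfl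
  have hdet : ∀ a b : Fˣ, (dd a b).1.det = a * b := by
    intro a b
    rw [hdd, Matrix.det_diagonal]
    simp
  have main : ∀ a b : Fˣ, mkP (dd a b) ∈ G → (a : F) ^ 2 ≠ (b : F) ^ 2 → ¬ ∃ 𝓐 : Finset (Subgroup G), NMC 𝓐 := by
    intro a b hab hne
    refine core_two hq' G hG (dd a b) hab ?_ ?_ ?_
    · rw [hdd]; simp
    · rw [hdd]; simp
    · rw [hdd]; simpa using hne
  obtain ⟨y, hy⟩ := (inferInstance : IsCyclic Fˣ).exists_generator
  have hyo : orderOf y = Fintype.card F - 1 := by
    rw [orderOf_eq_card_of_forall_mem_zpowers hy, Nat.card_units, Nat.card_eq_fintype_card]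
  by_cases hy4 : y ^ 4 = 1
  · -- q = 5
    have h1 : Fintype.card F - 1 ∣ 4 := hyo ▸ orderOf_dvd_of_pow_eq_one hy4
    have hq5 : Fintype.card F = 5 := by
      have h2 := Nat.le_of_dvd (by norm_num) h1
      have h3 : Fintype.card F - 1 = 3 ∨ Fintype.card F - 1 = 4 := by omega
      rcases h3 with h3 | h3
      · rw [h3] at h1
        exact absurd h1 (by norm_num)
      · omega
    by_cases hex : ∃ g : GL (Fin 2) F, mkP g ∈ G ∧ g.1.det ^ 2 ≠ 1
    · obtain ⟨g, hg, hgd⟩ := hex
      let δ : Fˣ := Matrix.GeneralLinearGroup.det g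
      have hδ : (δ : F) = g.1.det := rfl
      refine main δ 1 ?_ ?_
      · -- dd δ 1 = g * s
        have h2 : dd δ 1 = g * (g⁻¹ * dd δ 1) := by group
        rw [h2, mkP_mul]
        refine G.mul_mem hg (hG _ ?_)
        rw [Units.val_mul, Matrix.det_mul, hdet]
        have h3 : (g⁻¹ : GL (Fin 2) F).1.det = ((δ⁻¹ : Fˣ) : F) := by
          have : Matrix.GeneralLinearGroup.det g⁻¹ = δ⁻¹ := map_inv _ g
          rw [← this]; rfl
        rw [h3]
        simp
      · rw [hδ]; simpa using hgd
    · push Not at hex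
      -- G is the image of SL₂
      have hy2 : (y : F) ^ 2 = -1 := by
        have h2 : ((y : F) ^ 2 - 1) * ((y : F) ^ 2 + 1) = 0 := by
          have : (y : F) ^ 4 = 1 := by
            have := congrArg Units.val hy4
            simpa using this
          linear_combination this
        rcases mul_eq_zero.mp h2 with h3 | h3
        · exfalso
          have h4 : y ^ 2 = 1 := Units.ext (by
            rw [Units.val_pow_eq_pow_val, Units.val_one]; linear_combination h3)
          have h5 := Nat.le_of_dvd (by norm_num) (orderOf_dvd_of_pow_eq_one h4)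
          omega
        · linear_combination h3
      let ψ : Matrix.SpecialLinearGroup (Fin 2) F →* GL (Fin 2) F ⧸ Subgroup.center (GL (Fin 2) F) :=
        (QuotientGroup.mk' _).comp Matrix.SpecialLinearGroup.toGL
      have hψ : ψ.range = G := by
        apply le_antisymm
        · rintro _ ⟨g, rfl⟩
          exact hG _ g.2
        · intro x hx
          obtain ⟨g, rfl⟩ := QuotientGroup.mk'_surjective _ x
          have h2 := hex g hx
          have h3 : g.1.det = 1 ∨ g.1.det = -1 := by
            have : (g.1.det - 1) * (g.1.det + 1) = 0 := by linear_combination h2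
            rcases mul_eq_zero.mp this with h4 | h4
            · left; linear_combination h4
            · right; linear_combination h4
          rcases h3 with h3 | h3
          · have e0 : Matrix.SpecialLinearGroup.toGL (⟨g.1, h3⟩ : Matrix.SpecialLinearGroup (Fin 2) F) = g :=
              Units.ext rfl
            refine ⟨⟨g.1, h3⟩, ?_⟩
            show QuotientGroup.mk' _ (Matrix.SpecialLinearGroup.toGL _) = _
            rw [e0]
          · -- multiply by the scalar y
            have hsc : Matrix.GeneralLinearGroup.scalar (Fin 2) y ∈ Subgroup.center (GL (Fin 2) F) := by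
              rw [Matrix.GeneralLinearGroup.center_eq_range_scalar]
              exact ⟨y, rfl⟩
            have h4 : (g * Matrix.GeneralLinearGroup.scalar (Fin 2) y).1.det = 1 := by
              rw [Units.val_mul, Matrix.det_mul, h3]
              have : (Matrix.GeneralLinearGroup.scalar (Fin 2) y).1.det = (y : F) ^ 2 := by
                simp [Matrix.GeneralLinearGroup.scalar]
              rw [this, hy2]
              ring
            refine ⟨⟨_, h4⟩, ?_⟩
            have h5 : ψ ⟨_, h4⟩ = mkP (g * Matrix.GeneralLinearGroup.scalar (Fin 2) y) := by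
              have e0 : Matrix.SpecialLinearGroup.toGL (⟨_, h4⟩ : Matrix.SpecialLinearGroup (Fin 2) F) =
                g * Matrix.GeneralLinearGroup.scalar (Fin 2) y := Units.ext rfl
              show mkP (Matrix.SpecialLinearGroup.toGL _) = mkP _
              rw [e0]
            rw [h5, mkP_mul]
            have h6 : mkP (Matrix.GeneralLinearGroup.scalar (Fin 2) y) = 1 :=
              (QuotientGroup.eq_one_iff _).mpr hsc
            rw [h6, mul_one]
      have hker : ψ.ker = Subgroup.center (Matrix.SpecialLinearGroup (Fin 2) F) :=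
        Matrix.SpecialLinearGroup.toPGL_ker
      have e1 : Matrix.ProjectiveSpecialLinearGroup (Fin 2) F ≃* G :=
        (QuotientGroup.quotientMulEquivOfEq hker.symm).trans
          ((QuotientGroup.quotientKerEquivRange ψ).trans (MulEquiv.subgroupCongr hψ))
      have hsimple : IsSimpleGroup (Matrix.ProjectiveSpecialLinearGroup (Fin 2) F) :=
        Matrix.ProjectiveSpecialLinearGroup.rank_two_simple hq'
      have hcard : Nat.card (Matrix.ProjectiveSpecialLinearGroup (Fin 2) F) = 60 := by
        have h2 := (Subgroup.center (Matrix.SpecialLinearGroup (Fin 2) F)).card_mul_index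
        have h2ne : (2 : F) ≠ 0 := by
          intro h0
          have h3 : ((Fintype.card F : ℕ) : F) = 0 := FiniteField.cast_card_eq_zero F
          rw [hq5] at h3
          push_cast at h3
          have : (1 : F) = 0 := by linear_combination h3 - 2 * h0
          exact one_ne_zero this
        rw [H81.card_center_sl2 h2ne, H81.card_sl2, hq5, Subgroup.index_eq_card] at h2
        have : Nat.card (Matrix.ProjectiveSpecialLinearGroup (Fin 2) F) =
          Nat.card (Matrix.SpecialLinearGroup (Fin 2) F ⧸ Subgroup.center (Matrix.SpecialLinearGroup (Fin 2) F)) := rfl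
        rw [this]
        omega
      obtain ⟨e2⟩ := ClassBase.simple_sixty hcard
      exact not_nmc_of_mulEquiv (e1.symm.trans e2) S3892.alt5
  · refine main y y⁻¹ (hG _ (by rw [hdet]; simp)) ?_
    intro h
    apply hy4
    apply Units.ext
    rw [Units.val_pow_eq_pow_val, Units.val_one]
    have h2 : (y : F) ≠ 0 := y.ne_zero
    have h3 : ((y⁻¹ : Fˣ) : F) = (y : F)⁻¹ := Units.val_inv_eq_inv_val y
    rw [h3] at h
    calc (y : F) ^ 4 = (y : F) ^ 2 * (y : F) ^ 2 := by ring
      _ = (y : F) ^ 2 * ((y : F)⁻¹) ^ 2 := by rw [h]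
      _ = 1 := by rw [← mul_pow, mul_inv_cancel₀ h2, one_pow]


/-- A cover of a group is a finite set of proper subgroups whose union is the whole group; it is minimal when no cover has fewer members, and nilpotent when all its members are nilpotent. Let F be a finite field with q elements and n ≥ 3, or n = 2 and q ≥ 4. Then no subgroup of PGL_n(F) = GL_n(F)/Z(GL_n(F)) containing the image of SL_n(F) has a nilpotent minimal cover. -/
theorem result {F : Type*} [Field F] [Fintype F] (n : ℕ) (hn : 3 ≤ n ∨ (n = 2 ∧ 4 ≤ Fintype.card F))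
    (G : Subgroup (GL (Fin n) F ⧸ Subgroup.center (GL (Fin n) F)))
    (hG : ((Matrix.SpecialLinearGroup.toGL : Matrix.SpecialLinearGroup (Fin n) F →* GL (Fin n) F).range).map
      (QuotientGroup.mk' (Subgroup.center (GL (Fin n) F))) ≤ G) :
    ¬ ∃ 𝓐 : Finset (Subgroup ↥G), ((∀ A ∈ 𝓐, A ≠ ⊤) ∧ (∀ g : ↥G, ∃ A ∈ 𝓐, g ∈ A)) ∧ (∀ 𝓑 : Finset (Subgroup ↥G), (∀ A ∈ 𝓑, A ≠ ⊤) ∧ (∀ g : ↥G, ∃ A ∈ 𝓑, g ∈ A) → 𝓐.card ≤ 𝓑.card) ∧ (∀ A ∈ 𝓐, Group.IsNilpotent ↥A) := by
  have hG' : ∀ g : GL (Fin n) F, g.1.det = 1 →
      QuotientGroup.mk' (Subgroup.center (GL (Fin n) F)) g ∈ G := by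
    intro g hg
    apply hG
    refine ⟨g, ⟨⟨g.1, hg⟩, ?_⟩, rfl⟩
    apply Units.ext
    rfl
  rcases hn with hn | ⟨rfl, hq⟩
  · exact big n hn G hG'
  · exact two hq G hG'

end Cfsg.Agent.S3894
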