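import Cfsg.Statements.S3921
import Cfsg.Agent.H65.SelfCentC
import Cfsg.Agent.H65.SelfCentD
import Cfsg.Agent.S0250
import Cfsg.Agent.S0252
import Cfsg.Agent.S0253
import Cfsg.Agent.S0493

set_option autoImplicit false
open Cfsg

namespace Cfsg.Agent.S3921

open Subgroup Cfsg.Agent.H65

/-- transport of the property -/
theorem sc_congr {G H : Type*} [Group G] [Group H] (e : G ≃* H) (h : SC H) : SC G := by
  intro K hK x hx
  have h1 : ¬ IsCyclic (K.map e.toMonoidHom) := by
    intro hc
    apply hK
    exact isCyclic_of_surjective (Subgroup.equivMapOfInjective K e.toMonoidHom e.injective).symm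
      (MulEquiv.surjective _)
  have h2 : e x ∈ centralizer ((K.map e.toMonoidHom : Subgroup H) : Set H) := by
    rw [mem_centralizer_iff]
    rintro _ ⟨k, hk, rfl⟩
    have := mem_centralizer_iff.1 hx k hk
    show e k * e x = e x * e k
    rw [← map_mul, this, map_mul]
  obtain ⟨k, hk, hkx⟩ := h _ h1 h2
  have : k = x := e.injective hkx
  rwa [← this]

/-- Say that a group has self-centralizing non-cyclic subgroups when every non-cyclic subgroup H satisfies C_G(H) ≤ H. A non-abelian finite simple group has self-centralizing non-cyclic subgroups if and only if it is isomorphic to PSL₂(q) with q = 4, q = 9, or q a prime of the form 2^k + 1 or 2^k − 1. -/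
theorem result {G : Type*} [Group G] [Finite G] [IsSimpleGroup G] (hna : ¬ IsMulCommutative G) :
    (∀ H : Subgroup G, ¬ IsCyclic ↥H → Subgroup.centralizer (H : Set G) ≤ H) ↔ ∃ (F : Type) (_ : Field F) (_ : Fintype F),
      (Fintype.card F = 4 ∨ Fintype.card F = 9 ∨ ((Fintype.card F).Prime ∧ ∃ k : ℕ, Fintype.card F = 2 ^ k + 1 ∨ Fintype.card F = 2 ^ k - 1)) ∧
      Nonempty (G ≃* Matrix.ProjectiveSpecialLinearGroup (Fin 2) F) := by
  constructor
  · intro hG
    obtain ⟨⟨F, i1, i2, hodd, ⟨e⟩⟩, z, hz, hC⟩ := exists_psl_of_selfCent hna hG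
    refine ⟨F, i1, i2, ?_, ⟨e⟩⟩
    have h1 : orderOf (e z) = 2 := by rw [MulEquiv.orderOf_eq, hz]
    have h2 : IsPGroup 2 (centralizer ({e z} : Set (Matrix.ProjectiveSpecialLinearGroup (Fin 2) F))) := by
      rintro ⟨y, hy⟩
      have hy' := mem_centralizer_singleton_iff.1 hy
      obtain ⟨x, rfl⟩ := e.surjective y
      have hx : x ∈ centralizer ({z} : Set G) := by
        rw [mem_centralizer_singleton_iff]
        apply e.injective
        rw [map_mul, map_mul, hy']
      obtain ⟨k, hk⟩ := hC ⟨x, hx⟩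
      refine ⟨k, Subtype.ext ?_⟩
      have hk' : x ^ 2 ^ k = 1 := congrArg Subtype.val hk
      show e x ^ 2 ^ k = 1
      rw [← map_pow, hk', map_one]
    rcases qCond_of_two_centralizer hodd h1 h2 with h3 | h3
    · exact Or.inr (Or.inl h3)
    · exact Or.inr (Or.inr h3)
  · rintro ⟨F, i1, i2, hF, ⟨e⟩⟩
    rcases hF with h4 | hF
    · haveI : Fact (Nat.Prime 5) := ⟨by norm_num⟩
      obtain ⟨e4⟩ := Cfsg.Agent.S0252.result h4
      obtain ⟨e5⟩ := Cfsg.Agent.S0253.result (F := ZMod 5) (ZMod.card 5)
      refine sc_congr (e.trans (e4.trans e5.symm)) (sc_psl (by rw [ZMod.card]; decide) ?_)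
      rw [ZMod.card]
      exact Or.inr ⟨by norm_num, 2, Or.inl (by norm_num)⟩
    · refine sc_congr e (sc_psl ?_ hF)
      rcases hF with h9 | ⟨hp, -⟩
      · rw [h9]; decide
      · apply hp.odd_of_ne_two
        intro h2
        obtain ⟨e2⟩ := Cfsg.Agent.S0250.result h2
        haveI : Finite (Matrix.SpecialLinearGroup (Fin 2) F) := Finite.of_equiv _ e2.symm.toEquiv
        have hc : Nat.card (Matrix.SpecialLinearGroup (Fin 2) F) = 6 := by
          rw [Nat.card_congr e2.toEquiv, Nat.card_perm, Nat.card_fin]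
          rfl
        have h6 : Nat.card G ≤ 6 := by
          rw [← hc, Nat.card_congr e.toEquiv]
          exact Nat.card_le_card_of_surjective _ (QuotientGroup.mk_surjective)
        have := Cfsg.Agent.S0493.result (not_cyclic_of_na hna) (by omega)
        omega

end Cfsg.Agent.S3921
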