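import Cfsg.Statements.S3930
import Cfsg.Agent.H62.Pyr5
import Cfsg.Agent.H29.PyrMain
import Cfsg.Agent.H6.PyrNA

set_option autoImplicit false
open Cfsg

namespace Cfsg.Agent.S3930

/-- Call a finite group m-pyramidal when it has exactly m involutions and they form a single conjugacy class. Let p be an odd prime and k ≥ 1. Then every p^k-pyramidal finite group is solvable if and only if k is odd or p^k = 9. -/
theorem result (p k : ℕ) (hp : p.Prime) (hp2 : p ≠ 2) (hk : 1 ≤ k) :
    (∀ (G : Type) [Group G] [Finite G], Nat.card {x : G // orderOf x = 2} = p ^ k →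
      (∀ x y : G, orderOf x = 2 → orderOf y = 2 → ∃ g : G, g * x * g⁻¹ = y) → Group.IsSolvable G) ↔ (Odd k ∨ p ^ k = 9) :=
  Cfsg.Agent.H62.Pyr.final
    (fun E _ hE _ _ hp hm hcard hpm htr => Cfsg.Agent.H29.Pyr.csol E hE hp hm hcard hpm htr)
    (fun E _ hE h8 hQ hA hna => Cfsg.Agent.H6.PyrNA.na E hE h8 hQ hA hna)
    p k hp hp2 hk

end Cfsg.Agent.S3930
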