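import Cfsg.Statements.S3941
import Cfsg.Agent.S3892

set_option autoImplicit false
open Cfsg

namespace Cfsg.Agent.S3941

open Subgroup Cfsg.Agent.H65 Cfsg.Agent.S3892
open Equiv

theorem inv_selfx {α : Type*} (c : Perm α) (x : α) : c⁻¹ (c x) = x := by
  rw [Perm.inv_eq_iff_eq]

theorem self_invx {α : Type*} (c : Perm α) (x : α) : c (c⁻¹ x) = x := by
  rw [← Perm.mul_apply, mul_inv_cancel, Perm.one_apply]


/-- Let n ≥ 5 and p an odd prime with p ≤ n, and suppose that every proper subgroup of the alternating group of degree n whose order is divisible by p has a normal Sylow p-subgroup. Then n = p. -/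
theorem result (n p : ℕ) (hn : 5 ≤ n) [Fact p.Prime] (hp : p ≠ 2) (hpn : p ≤ n)
    (h : ∀ H : Subgroup ↥(alternatingGroup (Fin n)), H ≠ ⊤ → p ∣ Nat.card ↥H → Cfsg.IsPClosed p ↥H) : n = p := by
  have hpp : p.Prime := Fact.out
  by_contra hne
  have hlt : p < n := by omega
  have hp3 : 3 ≤ p := by
    have := hpp.two_le
    omega
  let e : Fin n := ⟨n - 1, by omega⟩
  -- the point stabilizer
  let H : Subgroup ↥(alternatingGroup (Fin n)) :=
    { carrier := {g | (g : Perm (Fin n)) e = e}
      mul_mem' := by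
        intro a b ha hb
        show ((a * b : alternatingGroup (Fin n)) : Perm (Fin n)) e = e
        rw [Subgroup.coe_mul, Perm.mul_apply, hb, ha]
      one_mem' := rfl
      inv_mem' := by
        intro a ha
        show ((a⁻¹ : alternatingGroup (Fin n)) : Perm (Fin n)) e = e
        rw [Subgroup.coe_inv, Perm.inv_eq_iff_eq]
        exact ha.symm }
  have hHtop : H ≠ ⊤ := by
    intro htop
    obtain ⟨a, b, h1, -, h2, -, h3⟩ := exists_two_other (n := n) (by omega) e e
    obtain ⟨t, ht, t1, -⟩ := threeCycle (a := e) (b := a) (c := b) h1.symm h2.symm h3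
    have h4 : (⟨t, ht⟩ : alternatingGroup (Fin n)) ∈ H := htop ▸ mem_top _
    have h5 : t e = e := h4
    rw [t1] at h5
    exact h1 h5
  -- an element of order p in H
  obtain ⟨c, hce, hcp⟩ : ∃ c : Perm (Fin n), c e = e ∧ orderOf c = p := by
    have h1 := MulAction.index_stabilizer_of_transitive (Perm (Fin n)) e
    rw [Nat.card_fin] at h1
    have h2 := (MulAction.stabilizer (Perm (Fin n)) e).card_mul_index
    rw [h1, Nat.card_perm, Nat.card_fin] at h2
    have h3 : n.factorial = (n - 1).factorial * n := by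
      rw [mul_comm]; exact (Nat.mul_factorial_pred (by omega)).symm
    rw [h3] at h2
    have h4 := Nat.eq_of_mul_eq_mul_right (by omega) h2
    have h5 : p ∣ Nat.card (MulAction.stabilizer (Perm (Fin n)) e) := by
      rw [h4]
      exact Nat.dvd_factorial hpp.pos (by omega)
    obtain ⟨c, hc⟩ := exists_prime_orderOf_dvd_card' p h5
    exact ⟨c, c.2, by rw [Subgroup.orderOf_coe]; exact hc⟩
  have hodd : Odd p := hpp.odd_of_ne_two hp
  have hcA : c ∈ alternatingGroup (Fin n) := by
    rw [Perm.mem_alternatingGroup]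
    have h1 : Perm.sign c ^ p = 1 := by rw [← map_pow, ← hcp, pow_orderOf_eq_one, map_one]
    obtain ⟨k, hk⟩ := hodd
    rw [hk, pow_succ, pow_mul, Int.units_sq, one_pow, one_mul] at h1
    exact h1
  have hcH : (⟨c, hcA⟩ : alternatingGroup (Fin n)) ∈ H := hce
  have hdvd : p ∣ Nat.card H := by
    rw [← hcp, ← Subgroup.orderOf_mk c hcA, ← Subgroup.orderOf_mk _ hcH]
    exact orderOf_dvd_natCard _
  have hcl := h H hHtop hdvd
  obtain ⟨P⟩ : Nonempty (Sylow p H) := inferInstance
  have hPn := hcl P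
  -- all p-elements of H lie in P
  have hall : ∀ x : H, orderOf x = p → x ∈ P := by
    intro x hx
    have h1 : IsPGroup p (zpowers x) := by
      apply IsPGroup.of_card (n := 1)
      rw [Nat.card_zpowers, hx, pow_one]
    obtain ⟨Q, hQ⟩ := h1.exists_le_sylow
    obtain ⟨g, rfl⟩ := MulAction.exists_smul_eq H P Q
    have : g • P = P := Sylow.smul_eq_of_normal
    rw [this] at hQ
    exact hQ (mem_zpowers x)
  -- no nontrivial p'-element in P
  have hnot : ∀ (x : H) (q : ℕ), x ∈ P → q.Coprime p → x ^ q = 1 → x = 1 := by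
    intro x q hx hq hxq
    obtain ⟨k, hk⟩ := IsPGroup.iff_orderOf.mp P.2 ⟨x, hx⟩
    rw [Subgroup.orderOf_mk] at hk
    have h1 := orderOf_dvd_of_pow_eq_one hxq
    rw [hk] at h1
    have h2 : p ^ k ∣ 1 := by
      have : Nat.Coprime (p ^ k) q := (hq.symm).pow_left k
      rw [← Nat.Coprime.gcd_eq_one this]
      exact Nat.dvd_gcd dvd_rfl h1
    rw [Nat.dvd_one] at h2
    rw [h2] at hk
    exact orderOf_eq_one_iff.mp hk
  rcases Nat.lt_or_ge p 5 with hp5 | hp5
  · -- p = 3
    obtain rfl : p = 3 := by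
      have : p ≠ 4 := by rintro rfl; revert hpp; decide
      omega
    let a : Fin n := ⟨0, by omega⟩
    let b : Fin n := ⟨1, by omega⟩
    let x : Fin n := ⟨2, by omega⟩
    let y : Fin n := ⟨3, by omega⟩
    have hab : a ≠ b := by simp [a, b, Fin.ext_iff]
    have hax : a ≠ x := by simp [a, x, Fin.ext_iff]
    have hay : a ≠ y := by simp [a, y, Fin.ext_iff]
    have hbx : b ≠ x := by simp [b, x, Fin.ext_iff]
    have hby : b ≠ y := by simp [b, y, Fin.ext_iff]
    have hxy : x ≠ y := by simp [x, y, Fin.ext_iff]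
    have hae : e ≠ a := by simp [a, e, Fin.ext_iff]; omega
    have hbe : e ≠ b := by simp [b, e, Fin.ext_iff]; omega
    have hxe : e ≠ x := by simp [x, e, Fin.ext_iff]; omega
    have hye : e ≠ y := by simp [y, e, Fin.ext_iff]; omega
    obtain ⟨s, hs, s1, s2, s3, s4⟩ := threeCycle (a := a) (b := b) (c := x) hab hax hbx
    obtain ⟨t, ht, t1, t2, t3, t4⟩ := threeCycle (a := b) (b := x) (c := y) hbx hby hxy
    have ord3 : ∀ (s : Perm (Fin n)) (a b x : Fin n), a ≠ b → s a = b → s b = x → s x = a →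
        (∀ z, z ≠ a → z ≠ b → z ≠ x → s z = z) → orderOf s = 3 := by
      intro s a b x hab s1 s2 s3 s4
      apply orderOf_eq_prime
      · ext z
        by_cases h1 : z = a
        · rw [h1, pow_succ, sq, Perm.mul_apply, Perm.mul_apply, s1, s2, s3]; rfl
        by_cases h2 : z = b
        · rw [h2, pow_succ, sq, Perm.mul_apply, Perm.mul_apply, s2, s3, s1]; rfl
        by_cases h3 : z = x
        · rw [h3, pow_succ, sq, Perm.mul_apply, Perm.mul_apply, s3, s1, s2]; rfl
        · have := s4 z h1 h2 h3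
          rw [pow_succ, sq, Perm.mul_apply, Perm.mul_apply, this, this, this]; rfl
      · intro h
        rw [h, Perm.one_apply] at s1
        exact hab s1
    have hsH : (⟨s, hs⟩ : alternatingGroup (Fin n)) ∈ H := s4 e hae hbe hxe
    have htH : (⟨t, ht⟩ : alternatingGroup (Fin n)) ∈ H := t4 e hbe hxe hye
    have h1 := hall ⟨_, hsH⟩ (by
      rw [Subgroup.orderOf_mk, Subgroup.orderOf_mk]
      exact ord3 s a b x hab s1 s2 s3 s4)
    have h2 := hall ⟨_, htH⟩ (by
      rw [Subgroup.orderOf_mk, Subgroup.orderOf_mk]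
      exact ord3 t b x y hbx t1 t2 t3 t4)
    have h3 := hnot _ 2 (mul_mem h1 h2) (by decide) (by
      apply Subtype.ext
      apply Subtype.ext
      show (s * t) ^ 2 = 1
      ext z
      rw [sq, Perm.mul_apply, Perm.mul_apply, Perm.mul_apply]
      by_cases h1 : z = a
      · rw [h1, t4 a hab hax hay, s1, t1, s3]; rfl
      by_cases h2 : z = b
      · rw [h2, t1, s3, t4 a hab hax hay, s1]; rfl
      by_cases h3 : z = x
      · rw [h3, t2, s4 y hay.symm hby.symm hxy.symm, t3, s2]; rfl
      by_cases h4 : z = y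
      · rw [h4, t3, s2, t2, s4 y hay.symm hby.symm hxy.symm]; rfl
      · rw [t4 z h2 h3 h4, s4 z h1 h2 h3, t4 z h2 h3 h4, s4 z h1 h2 h3]; rfl)
    have h4 : s * t = 1 := congrArg (fun w : H => ((w : alternatingGroup (Fin n)) : Perm (Fin n))) h3
    have h5 : (s * t) a = a := by rw [h4]; rfl
    rw [Perm.mul_apply, t4 a hab hax hay, s1] at h5
    exact hab h5.symm
  · have hx : ∃ x, c x ≠ x := by
      by_contra h
      push Not at h
      have : c = 1 := Perm.ext h
      rw [this, orderOf_one] at hcp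
      exact hpp.one_lt.ne hcp
    obtain ⟨x, hx⟩ := hx
    have hpow : ∀ i j : ℕ, i < 5 → j < 5 → i ≠ j → (c ^ i) x ≠ (c ^ j) x := by
      intro i j hi hj hij h
      have h1 : (c ^ ((i : ℤ) - j)) x = x := by
        have h2 : (c ^ (j : ℤ)) ((c ^ ((i : ℤ) - j)) x) = (c ^ (j : ℤ)) x := by
          rw [← Perm.mul_apply, ← zpow_add, zpow_natCast]
          have : (j : ℤ) + (i - j) = (i : ℤ) := by ring
          rw [this, zpow_natCast]
          exact h
        exact (c ^ (j : ℤ)).injective h2
      have h3 := fixes_of_pow hpp hcp hx h1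
      rw [← orderOf_dvd_iff_zpow_eq_one, hcp] at h3
      obtain ⟨k, hk⟩ := h3
      have h4 : |(i : ℤ) - j| < p := by
        rw [abs_lt]; constructor <;> omega
      have h5 := Int.eq_zero_of_abs_lt_dvd ⟨k, hk⟩ h4
      omega
    have h01 : x ≠ c x := hx.symm
    have h02 : x ≠ c (c x) := by
      have := hpow 0 2 (by norm_num) (by norm_num) (by norm_num)
      rwa [pow_zero, Perm.one_apply, pow_succ, pow_one, Perm.mul_apply] at this
    have h12 : c x ≠ c (c x) := fun h => h01 (c.injective h)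
    have h03 : x ≠ c (c (c x)) := by
      have := hpow 0 3 (by norm_num) (by norm_num) (by norm_num)
      rwa [pow_zero, Perm.one_apply, pow_succ, pow_succ, pow_one, Perm.mul_apply,
        Perm.mul_apply] at this
    have h13 : c x ≠ c (c (c x)) := fun h => h02 (c.injective h)
    have h23 : c (c x) ≠ c (c (c x)) := fun h => h12 (c.injective h)
    obtain ⟨t, ht, t1, t2, t3, t4⟩ := threeCycle h01 h02 h12
    have hex : e ≠ x := by rintro h; rw [← h] at hx; exact hx hce
    have hecx : e ≠ c x := fun h => hex (c.injective (hce.trans h))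
    have heccx : e ≠ c (c x) := fun h => hecx (c.injective (hce.trans h))
    have htH : (⟨t, ht⟩ : alternatingGroup (Fin n)) ∈ H := t4 e hex hecx heccx
    have h1 := hall ⟨_, hcH⟩ (by
      rw [Subgroup.orderOf_mk, Subgroup.orderOf_mk]
      exact hcp)
    have h2 := hPn.conj_mem _ (inv_mem h1) ⟨_, htH⟩
    have h3 := mul_mem h1 h2
    -- action of w
    have i1 : t⁻¹ x = c (c x) := by rw [Perm.inv_eq_iff_eq]; exact t3.symm
    have i2 : t⁻¹ (c x) = x := by rw [Perm.inv_eq_iff_eq]; exact t1.symm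
    have i3 : t⁻¹ (c (c x)) = c x := by rw [Perm.inv_eq_iff_eq]; exact t2.symm
    have i4 : ∀ z, z ≠ x → z ≠ c x → z ≠ c (c x) → t⁻¹ z = z := by
      intro z h1 h2 h3
      rw [Perm.inv_eq_iff_eq]; exact (t4 z h1 h2 h3).symm
    have w1 : (c * (t * c⁻¹ * t⁻¹)) x = c (c (c x)) := by
      rw [Perm.mul_apply, Perm.mul_apply, Perm.mul_apply, i1, inv_selfx, t2]
    have w2 : (c * (t * c⁻¹ * t⁻¹)) (c (c (c x))) = c x := by
      rw [Perm.mul_apply, Perm.mul_apply, Perm.mul_apply, i4 _ h03.symm h13.symm h23.symm,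
        inv_selfx, t3]
    have w3 : (c * (t * c⁻¹ * t⁻¹)) (c x) = x := by
      have : c⁻¹ x ≠ x := fun h => hx (by rw [Perm.inv_eq_iff_eq] at h; exact h.symm)
      rw [Perm.mul_apply, Perm.mul_apply, Perm.mul_apply, i2, t4, self_invx]
      · exact this
      · intro h
        rw [Perm.inv_eq_iff_eq] at h
        exact h02 h
      · intro h
        rw [Perm.inv_eq_iff_eq] at h
        exact h03 h
    have w4 : (c * (t * c⁻¹ * t⁻¹)) (c (c x)) = c (c x) := by
      rw [Perm.mul_apply, Perm.mul_apply, Perm.mul_apply, i3, inv_selfx, t1]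
    have w5 : ∀ z, z ≠ x → z ≠ c x → z ≠ c (c x) → z ≠ c (c (c x)) →
        (c * (t * c⁻¹ * t⁻¹)) z = z := by
      intro z z1 z2 z3 z4
      rw [Perm.mul_apply, Perm.mul_apply, Perm.mul_apply, i4 z z1 z2 z3, t4, self_invx]
      · intro h
        rw [Perm.inv_eq_iff_eq] at h
        exact z2 h
      · intro h
        rw [Perm.inv_eq_iff_eq] at h
        exact z3 h
      · intro h
        rw [Perm.inv_eq_iff_eq] at h
        exact z4 h
    have h4 := hnot _ 3 h3 (by
      rw [Nat.coprime_primes Nat.prime_three hpp]; omega) (by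
      apply Subtype.ext
      apply Subtype.ext
      show (c * (t * c⁻¹ * t⁻¹)) ^ 3 = 1
      ext z
      rw [pow_succ, sq, Perm.mul_apply, Perm.mul_apply]
      by_cases z1 : z = x
      · rw [z1, w1, w2, w3]; rfl
      by_cases z2 : z = c x
      · rw [z2, w3, w1, w2]; rfl
      by_cases z3 : z = c (c x)
      · rw [z3, w4, w4, w4]; rfl
      by_cases z4 : z = c (c (c x))
      · rw [z4, w2, w3, w1]; rfl
      · rw [w5 z z1 z2 z3 z4, w5 z z1 z2 z3 z4, w5 z z1 z2 z3 z4]; rfl)
    have h5 : c * (t * c⁻¹ * t⁻¹) = 1 :=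
      congrArg (fun w : H => ((w : alternatingGroup (Fin n)) : Perm (Fin n))) h4
    rw [h5, Perm.one_apply] at w1
    exact h03 w1

end Cfsg.Agent.S3941
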