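import Cfsg.Statements.S3989
import Cfsg.Agent.Fus.PSol1
import Cfsg.Agent.H33.CycPSolv
import Cfsg.Agent.H65.Enlarge

set_option autoImplicit false
open Cfsg

namespace Cfsg.Agent.S3989

open Subgroup

universe u

theorem exists_pow_fix {G : Type u} [Group G] [Finite G] {p : ℕ} (hp : p.Prime) (N : Subgroup G) [N.Normal]
    (x : G ⧸ N) {a : ℕ} (hx : orderOf x = p ^ a) : ∃ y : G, (∃ c : ℕ, orderOf y = p ^ c) ∧
      (QuotientGroup.mk' N) y = x := by
  haveI : Fact p.Prime := ⟨hp⟩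
  obtain ⟨g, rfl⟩ := QuotientGroup.mk'_surjective N x
  obtain ⟨i, j, hij, ⟨k, hk⟩, hj⟩ := Transfer.exists_pow_decomp p g (orderOf_pos g).ne'
  refine ⟨g ^ i, ?_, ?_⟩
  · obtain ⟨c, -, hc⟩ := (Nat.dvd_prime_pow hp).1 (hk ▸ dvd_rfl : orderOf (g ^ i) ∣ p ^ k)
    exact ⟨c, hc⟩
  · have h1 : (QuotientGroup.mk' N) (g ^ j) = 1 := by
      apply Cfsg.Agent.H65.eq_one_of_coprime_of_pow (p := p) (k := a)
      · exact Nat.Coprime.coprime_dvd_left (orderOf_map_dvd _ _) hj
      · rw [map_pow, ← hx]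
        exact orderOf_pow_dvd _
    conv_rhs => rw [hij]
    rw [map_mul, h1, mul_one]

def HH (p : ℕ) (G : Type u) [Group G] : Prop :=
  ∀ x y : G, (∃ a : ℕ, orderOf x = p ^ a) → (∃ q b : ℕ, q.Prime ∧ q ≠ p ∧ orderOf y = q ^ b) →
    ∀ a b : G, IsConj (x * y) (a * x * a⁻¹ * (b * y * b⁻¹))

theorem HH.quot {p : ℕ} [hp : Fact p.Prime] {G : Type u} [Group G] [Finite G] (h : HH p G)
    (N : Subgroup G) [N.Normal] : HH p (G ⧸ N) := by
  rintro x y ⟨a, ha⟩ ⟨q, b, hq, hqp, hb⟩ c d
  obtain ⟨x', hx', rfl⟩ := exists_pow_fix hp.out N x ha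
  obtain ⟨y', ⟨b', hy'⟩, rfl⟩ := exists_pow_fix hq N y hb
  obtain ⟨c', rfl⟩ := QuotientGroup.mk'_surjective N c
  obtain ⟨d', rfl⟩ := QuotientGroup.mk'_surjective N d
  have h1 := h x' y' hx' ⟨q, b', hq, hqp, hy'⟩ c' d'
  have h2 := (QuotientGroup.mk' N).map_isConj h1
  simpa using h2

/-- the key step -/
theorem key {p : ℕ} [hp : Fact p.Prime] {G : Type u} [Group G] [Finite G] (h : HH p G)
    {u g : G} (hu : ∃ a : ℕ, orderOf (u⁻¹ * (g * u * g⁻¹)) = p ^ a)
    (hg : ∃ q b : ℕ, q.Prime ∧ q ≠ p ∧ orderOf g = q ^ b) :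
    ∀ n ∈ normalClosure ({u⁻¹ * (g * u * g⁻¹)} : Set G), ∀ g' : G, IsConj g g' → IsConj g (n * g') := by
  set x := u⁻¹ * (g * u * g⁻¹) with hx
  have hxg : IsConj g (x * g) := by
    rw [isConj_iff]
    exact ⟨u⁻¹, by rw [hx]; group⟩
  intro n hn
  rw [normalClosure] at hn
  induction hn using closure_induction with
  | mem y hy =>
    intro g' hg'
    rw [Group.mem_conjugatesOfSet_iff] at hy
    obtain ⟨x', hx', hxy⟩ := hy
    rw [Set.mem_singleton_iff] at hx'
    subst hx'
    obtain ⟨a, rfl⟩ := isConj_iff.1 hxy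
    obtain ⟨b, rfl⟩ := isConj_iff.1 hg'
    exact hxg.trans (h x g hu hg a b)
  | one => intro g' hg'; simpa using hg'
  | mul y z _ _ hy hz =>
    intro g' hg'
    rw [mul_assoc]
    exact hy _ (hz _ hg')
  | inv y _ hy =>
    intro g' hg'
    -- finite order: the inverse is a power
    have hpow : ∀ m : ℕ, IsConj g (y ^ m * g') := by
      intro m
      induction m with
      | zero => simpa using hg'
      | succ m ih =>
        rw [pow_succ', mul_assoc]
        exact hy _ ih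
    have h1 : y⁻¹ = y ^ (orderOf y - 1) := by
      rw [inv_eq_iff_mul_eq_one, ← pow_succ', Nat.sub_add_cancel (orderOf_pos y), pow_orderOf_eq_one]
    rw [h1]
    exact hpow _

theorem main (n : ℕ) : ∀ {p : ℕ} [Fact p.Prime] {G : Type u} [Group G] [Finite G], Nat.card G = n → HH p G →
    IsPSolvable p G := by
  induction n using Nat.strong_induction_on with
  | _ n ih =>
    intro p hp G _ _ hc h
    by_cases ht : Subsingleton G
    · exact Fus.PSol.isPSolvable_of_coprime (by rw [Nat.card_of_subsingleton (1 : G)]; exact Nat.coprime_one_left p)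
    rw [not_subsingleton_iff_nontrivial] at ht
    obtain ⟨N, ⟨hN, hNb⟩, hmin⟩ := Set.exists_min_image {N : Subgroup G | N.Normal ∧ N ≠ ⊥}
      (fun N => Nat.card N) (Set.toFinite _) ⟨⊤, inferInstance, top_ne_bot⟩
    have hmin' : ∀ M : Subgroup G, M.Normal → M ≤ N → M ≠ ⊥ → M = N := by
      intro M hM hMN hMb
      exact Subgroup.eq_of_le_of_card_ge hMN (hmin M ⟨hM, hMb⟩)
    have hq : IsPSolvable p (G ⧸ N) := by
      refine ih _ ?_ rfl (h.quot N)
      rw [← Subgroup.index_eq_card, ← hc]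
      have h1 := N.card_mul_index
      have h2 : 1 < Nat.card N := by
        rw [Finite.one_lt_card_iff_nontrivial, Subgroup.nontrivial_iff_ne_bot]
        exact hNb
      have h3 : 0 < N.index := Nat.pos_of_ne_zero Subgroup.index_ne_zero_of_finite
      rw [← h1]
      exact lt_mul_of_one_lt_left h3 h2
    by_cases hnpc : Cfsg.HasNormalPComplement p N
    · exact Fus.PSol.isPSolvable_ext _ N rfl (H33.isPSolvable_of_npc hnpc) hq
    exfalso
    obtain ⟨P, Q, A, r, hr, hrp, -, hQP, hAN, hAr, hAC, -⟩ := H65.exists_frobenius_witness hnpc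
    obtain ⟨g, hgA, hgC⟩ := SetLike.not_le_iff_exists.1 hAC
    rw [mem_centralizer_iff] at hgC
    push Not at hgC
    obtain ⟨u, huQ, hug⟩ := hgC
    have hgN := mem_normalizer_iff.1 (hAN hgA) u
    have hguQ : g * u * g⁻¹ ∈ Q := hgN.1 huQ
    have hxQ : u⁻¹ * (g * u * g⁻¹) ∈ Q := mul_mem (inv_mem huQ) hguQ
    have hxo : ∃ a : ℕ, orderOf (u⁻¹ * (g * u * g⁻¹)) = p ^ a := by
      obtain ⟨k, hk⟩ := IsPGroup.iff_orderOf.1 P.2 ⟨_, hQP hxQ⟩
      exact ⟨k, by rw [← hk]; exact (Subgroup.orderOf_mk _ (hQP hxQ)).symm⟩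
    have hgo : ∃ b : ℕ, orderOf g = r ^ b := by
      haveI : Fact r.Prime := ⟨hr⟩
      obtain ⟨k, hk⟩ := IsPGroup.iff_orderOf.1 hAr ⟨_, hgA⟩
      exact ⟨k, by rw [← hk]; exact (Subgroup.orderOf_mk g hgA).symm⟩
    have hx1 : u⁻¹ * (g * u * g⁻¹) ≠ 1 := by
      intro h1
      apply hug
      rw [inv_mul_eq_one] at h1
      calc u * g = (g * u * g⁻¹) * g := by rw [← h1]
        _ = g * u := by group
    have hk := key h (u := (u : G)) (g := (g : G))
      (by obtain ⟨a, ha⟩ := hxo; exact ⟨a, by rw [← ha, ← Subgroup.orderOf_coe]; rfl⟩)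
      (by obtain ⟨b, hb⟩ := hgo; exact ⟨r, b, hr, hrp, by rw [← hb, Subgroup.orderOf_coe]⟩)
    set x : G := (u : G)⁻¹ * ((g : G) * u * (g : G)⁻¹) with hx
    have hxN : x ∈ N := (u⁻¹ * (g * u * g⁻¹)).2
    have hxne : x ≠ 1 := by
      intro h1
      exact hx1 (Subtype.ext h1)
    have hcl : normalClosure ({x} : Set G) = N := by
      apply hmin' _ normalClosure_normal
      · exact normalClosure_le_normal (by simpa using hxN)
      · intro h1
        apply hxne
        have : x ∈ normalClosure ({x} : Set G) := subset_normalClosure rfl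
        rw [h1] at this
        exact mem_bot.1 this
    have h2 := hk ((g : G)⁻¹) (by rw [hcl]; exact inv_mem g.2) g (IsConj.refl _)
    rw [inv_mul_cancel] at h2
    have h3 : (g : G) = 1 := isConj_one_left.1 h2
    apply hug
    have h4 : g = 1 := Subtype.ext h3
    rw [h4, mul_one, one_mul]

/-- Let p be a prime and G a finite group such that for every element x of p-power order and every element y whose order is a power of a prime other than p, the conjugacy class of x y is the set of all products of a conjugate of x with a conjugate of y. Then G is p-solvable. -/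
theorem result {G : Type*} [Group G] [Finite G] (p : ℕ) [Fact p.Prime] (h : ∀ x y : G, (∃ a : ℕ, orderOf x = p ^ a) → (∃ q b : ℕ, q.Prime ∧ q ≠ p ∧ orderOf y = q ^ b) → ∀ z : G, IsConj (x * y) z ↔ ∃ a b : G, z = a * x * a⁻¹ * (b * y * b⁻¹)) : Cfsg.IsPSolvable p G := by
  refine main _ rfl ?_
  intro x y hx hy a b
  exact (h x y hx hy _).2 ⟨a, b, rfl⟩

end Cfsg.Agent.S3989
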