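import Cfsg.Statements.S4016
import Cfsg.Agent.H70.CycP3
import Cfsg.Agent.FT.Base

set_option autoImplicit false
open Cfsg

namespace Cfsg.Agent.S4016

open Cfsg.Agent.H70 Cfsg.Agent.H70.AbPP Cfsg.Agent.SigF Subgroup

universe u

/-- cyclic Sylow subgroups and abelian `p'`-subgroups: solvability -/
theorem solv (p : ℕ) [hpf : Fact p.Prime] (hp2 : p ≠ 2) : ∀ (n : ℕ) (G : Type u) [Group G] [Finite G], Nat.card G = n →
    AbP p G → (∀ P : Sylow p G, IsCyclic P) → Group.IsSolvable G := by
  intro n
  induction n using Nat.strong_induction_on with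
  | _ n ih =>
  intro G _ _ hn h hcyc
  by_contra hns
  have hsub : ∀ X : Subgroup G, X ≠ ⊤ → Group.IsSolvable X := by
    intro X hX
    refine ih (Nat.card X) ?_ X rfl (h.subgroup X) ?_
    · rw [← hn]
      have h1 : X < ⊤ := lt_top_iff_ne_top.2 hX
      refine lt_of_le_of_ne (card_le_card_group X) fun he => hX (eq_top_of_card_eq X he)
    · intro P
      obtain ⟨Q, hQ⟩ := P.exists_comap_subtype_eq
      have := hcyc Q
      let f : ↥(P : Subgroup X) →* ↥(Q : Subgroup G) :=
        { toFun := fun x => ⟨((x : X) : G), by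
            have : (x : X) ∈ (Q : Subgroup G).comap X.subtype := by rw [hQ]; exact x.2
            exact this⟩
          map_one' := rfl
          map_mul' := fun _ _ => rfl }
      have hf : Function.Injective f := by
        intro a b hab
        have := congrArg (fun z : ↥(Q : Subgroup G) => (z : G)) hab
        exact Subtype.ext (Subtype.ext this)
      exact isCyclic_of_injective f hf
  have hnt : Nontrivial G := by
    by_contra hcon
    rw [not_nontrivial_iff_subsingleton] at hcon
    exact hns inferInstance
  have hsimple : IsSimpleGroup G := by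
    refine ⟨fun N hN => ?_⟩
    by_contra hcon
    push Not at hcon
    have hNs : Group.IsSolvable N := hsub N hcon.2
    obtain ⟨M, hM, hMN⟩ := Cfsg.Agent.H10.exists_isMinNormal_le N hcon.1
    have hMs : Group.IsSolvable M := hsub M (fun h1 => hcon.2 (eq_top_iff.2 (h1 ▸ hMN)))
    obtain ⟨q, hq, -, hMq, -⟩ := hM.elementary hMs
    have : Fact q.Prime := ⟨hq⟩
    have hMn := hM.1
    have h2 : Group.IsSolvable (G ⧸ M) := by
      refine ih (Nat.card (G ⧸ M)) ?_ (G ⧸ M) rfl (h.quot M hMq) ?_
      · rw [← hn, ← index_eq_card]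
        have h3 := card_mul_index M
        have h4 : 1 < Nat.card M := by
          have : Nontrivial M := (nontrivial_iff_ne_bot M).2 hM.2.1
          exact Finite.one_lt_card
        have h5 : 0 < M.index := Nat.pos_of_ne_zero M.index_ne_zero_of_finite
        nlinarith
      · intro P
        obtain ⟨Q, hQ⟩ := Sylow.mapSurjective_surjective (QuotientGroup.mk'_surjective M) p P
        have := hcyc Q
        have h3 : (P : Subgroup (G ⧸ M)) = (Q : Subgroup G).map (QuotientGroup.mk' M) := by rw [← hQ]; rfl
        have h4 := isCyclic_of_surjective ((QuotientGroup.mk' M).subgroupMap (Q : Subgroup G))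
          ((QuotientGroup.mk' M).subgroupMap_surjective (Q : Subgroup G))
        rw [← h3] at h4
        exact h4
    exact hns ((Group.isSolvable_iff_subgroup_quotient M).mpr ⟨hMs, h2⟩)
  have c : Ctx p G := ⟨h, hp2, hsimple, hns, hsub⟩
  have h2 : 2 ∣ Nat.card G := Cfsg.Agent.FT.even_of_not_solvable hns
  exact (CycP.Cx.mk c hcyc h2).false

/-- Let G be a finite group and p a prime such that a Sylow p-subgroup P of G is cyclic and every subgroup of G of order prime to p is abelian. Then G has a normal p-complement or P is normal in G. -/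
theorem result {G : Type*} [Group G] [Finite G] {p : ℕ}
    [Fact p.Prime] (P : Sylow p G) (hcyc : IsCyclic P)
    (hab : ∀ H : Subgroup G, ¬ p ∣ Nat.card H → IsMulCommutative H) :
    Cfsg.HasNormalPComplement p G ∨ (P : Subgroup G).Normal := by
  by_cases hp2 : p = 2
  · -- Burnside
    subst hp2
    left
    refine Cfsg.Agent.Transfer.hasNPC_of_normalizer_le_centralizer P ?_
    by_cases h2 : 2 ∣ Nat.card G
    · exact hcyc.normalizer_le_centralizer ((Nat.minFac_eq_two_iff _).2 h2)
    · have h3 : (P : Subgroup G) = ⊥ := by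
        apply Subgroup.card_eq_one.1
        obtain ⟨k, hk⟩ := IsPGroup.iff_card.1 P.2
        rw [hk]
        by_contra h4
        apply h2
        have h5 : k ≠ 0 := by rintro rfl; exact h4 (pow_zero 2)
        have h6 : 2 ∣ Nat.card (P : Subgroup G) := by rw [hk]; exact dvd_pow_self 2 h5
        exact h6.trans (Subgroup.card_subgroup_dvd_card _)
      intro g _
      rw [mem_centralizer_iff]
      intro y hy
      have h4 : y ∈ (P : Subgroup G) := hy
      rw [h3, mem_bot] at h4
      rw [h4, one_mul, mul_one]
  have hab' : AbP p G := hab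
  have hcyc' : ∀ Q : Sylow p G, IsCyclic Q := by
    intro Q
    exact isCyclic_of_surjective (P.equiv Q) (P.equiv Q).surjective
  have hsol := solv p hp2 _ G rfl hab' hcyc'
  by_cases hC : ∀ h ∈ normalizer ((P : Subgroup G) : Set G), ¬ p ∣ orderOf h → h ∈ centralizer ((P : Subgroup G) : Set G)
  · left
    refine Cfsg.Agent.Transfer.hasNPC_of_normalizer_le_centralizer P ?_
    intro g hg
    obtain ⟨a, b, hab, ⟨k, hk⟩, hb⟩ := Cfsg.Agent.Transfer.exists_pow_decomp p g (orderOf_pos g).ne'
    rw [hab]
    refine mul_mem ?_ (hC _ (pow_mem hg _) ((Nat.Prime.coprime_iff_not_dvd Fact.out).1 hb.symm))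
    have h1 : g ^ a ∈ P := Cfsg.Agent.Transfer.mem_sylow_of_mem_normalizer (k := k) (pow_mem hg _)
      (by rw [← hk, pow_orderOf_eq_one])
    rw [mem_centralizer_iff]
    intro y hy
    exact congrArg Subtype.val ((CycP.comm_of_cyc P hcyc).is_comm.comm ⟨y, hy⟩ ⟨_, h1⟩)
  · right
    push Not at hC
    obtain ⟨h, hN, hp, hC⟩ := hC
    have h1 : (⊤ : Subgroup G) ≤ normalizer ((P : Subgroup G) : Set G) :=
      CycP.le_norm hab' P hcyc (X := ⊤) inferInstance le_top (mem_top h) hp hN hC
    exact normalizer_eq_top_iff.1 (top_le_iff.1 h1)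

end Cfsg.Agent.S4016
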