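import Cfsg.Statements.S4017
import Cfsg.Agent.H71.TwoMix7
import Cfsg.Agent.S0105

set_option autoImplicit false
set_option linter.unusedSectionVars false
open Cfsg

namespace Cfsg.Agent.S4017

open Subgroup
open Cfsg.Agent.H71 Cfsg.Agent.H71.TwoMix

theorem cop_cent {G : Type*} [Group G] [Finite G] {p q : ℕ} (hp : p.Prime) (hq : q.Prime) (hpq : p ≠ q)
    (hM : Mix G p q) {T0 : Subgroup G} (hT0 : IsPGroup q T0) {g : G}
    (hg : g ∈ normalizer (T0 : Set G)) (hgo : Nat.Coprime (orderOf g) q)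
    (hsm : ∀ z : G, PEl p z → z ∈ normalizer (T0 : Set G) → ∀ w ∈ T0, z * w = w * z) : ∀ w ∈ T0, g * w = w * g := by
  by_contra hcon
  push Not at hcon
  obtain ⟨w, hw, hgw⟩ := hcon
  haveI : ((centralizer (T0 : Set G)).subgroupOf (normalizer (T0 : Set G))).Normal := by
    infer_instance
  have hnot : (⟨g, hg⟩ : normalizer (T0 : Set G)) ∉ (centralizer (T0 : Set G)).subgroupOf (normalizer (T0 : Set G)) := by
    intro hh
    rw [mem_subgroupOf, mem_centralizer_iff] at hh
    exact hgw (hh w hw).symm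
  obtain ⟨r, a, k, hr, hna, hord⟩ := exists_primary_not_mem _ hnot
  have hcoe : (((⟨g, hg⟩ : normalizer (T0 : Set G)) ^ a : normalizer (T0 : Set G)) : G) = g ^ a := rfl
  have hord' : orderOf (g ^ a) = r ^ k := by
    rw [← hord, ← hcoe, Subgroup.orderOf_coe]
  have hrel : PEl r (g ^ a) := ⟨k, by rw [← hord', pow_orderOf_eq_one]⟩
  have hne : g ^ a ≠ 1 := by
    intro hh
    apply hna
    have : (⟨g, hg⟩ : normalizer (T0 : Set G)) ^ a = 1 := Subtype.ext hh
    rw [this]
    exact one_mem _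
  by_cases hr2 : r = q
  · subst hr2
    have h1 : (g ^ a) ^ (orderOf g) = 1 := by
      rw [← pow_mul, mul_comm, pow_mul, pow_orderOf_eq_one, one_pow]
    exact hne (hrel.eq_one h1 hgo.symm)
  by_cases hrp : r = p
  · subst hrp
    apply hna
    rw [mem_subgroupOf, mem_centralizer_iff]
    intro v hv
    exact (hsm _ hrel (pow_mem hg a) v hv).symm
  · have hT1 : T0 ≠ ⊥ := by
      rintro rfl
      rw [mem_bot] at hw
      exact hgw (by rw [hw, mul_one, one_mul])
    have h1 := pair hp hq hr hpq hrp hr2 hM hrel.zpowers hT0 hT1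
      (Or.inl (by rw [zpowers_le]; exact pow_mem hg a))
    rw [zpowers_eq_bot] at h1
    exact hne h1

/-- `p`-elements centralise the `q`-subgroups they normalise -/
theorem of_small {G : Type*} [Group G] [Finite G] {p q : ℕ} (hp : p.Prime) (hq : q.Prime) (hpq : p ≠ q)
    (hM : Mix G p q) (hqG : q ∣ Nat.card G) (Q : Sylow q G)
    (hsm : ∀ T0 : Subgroup G, T0 ≤ Q → ∀ z : G, PEl p z → z ∈ normalizer (T0 : Set G) → ∀ w ∈ T0, z * w = w * z) :
    ∀ r : ℕ, r.Prime → r ∣ Nat.card G → r = p ∨ r = q := by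
  haveI : Fact q.Prime := ⟨hq⟩
  obtain ⟨N, hN, hNc⟩ := (S0071.result Q).2 (by
    intro T0 hT0 g hg hcop
    rw [mem_centralizer_iff]
    intro s hs
    exact (cop_cent hp hq hpq hM (Q.isPGroup'.to_le hT0) hg hcop (hsm T0 hT0) s hs).symm)
  have h1 : Nat.card N = (Q : Subgroup G).index := hNc.index_eq_card.symm
  have h2 : ¬ q ∣ Nat.card N := by rw [h1]; exact Q.not_dvd_index
  obtain ⟨t, ht⟩ := exists_prime_orderOf_dvd_card' q hqG
  have ht1 : t ≠ 1 := by
    rintro rfl
    rw [orderOf_one] at ht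
    exact hq.ne_one ht.symm
  have h3 : IsPGroup p N := prime_of_norm hp hq hpq hM h2 (pel_of_order_prime ht) ht1 (by
    haveI := hN
    rw [Subgroup.normalizer_eq_top]; exact mem_top _)
  intro r hr hrG
  have h4 := Subgroup.index_mul_card (Q : Subgroup G)
  rw [← h1] at h4
  rw [← h4] at hrG
  rcases hr.dvd_mul.1 hrG with h5 | h5
  · left; exact prime_dvd_of_isPGroup hp hr h3 h5
  · right; exact prime_dvd_of_isPGroup hq hr Q.isPGroup' h5

theorem mix_sub {G : Type*} [Group G] {p q : ℕ} (hM : Mix G p q) (N : Subgroup G) : Mix N p q := by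
  intro H h1 h2
  have h3 : Nat.card (H.map N.subtype) = Nat.card H := Subgroup.card_map_of_injective N.subtype_injective
  have h4 := hM (H.map N.subtype) (by rwa [h3]) (by rwa [h3])
  exact h4.of_equiv (H.equivMapOfInjective N.subtype N.subtype_injective).symm

universe u

theorem main2 {p : ℕ} (hp : p.Prime) (hp2 : p ≠ 2) : ∀ n : ℕ, ∀ (G : Type u) [Group G] [Finite G], Nat.card G = n →
    Mix G p 2 → (∀ X : Subgroup G, IsPGroup p X → ∀ x ∈ X, ∀ y ∈ X, x * y = y * x) →
    (∀ Q : Sylow 2 G, Nat.card Q = p + 1) → p ∣ Nat.card G →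
    ∀ r : ℕ, r.Prime → r ∣ Nat.card G → r = p ∨ r = 2 := by
  intro n
  induction n using Nat.strong_induction_on with
  | _ n ih =>
  intro G _ _ hcard hM hab hQ hpG
  haveI : Fact p.Prime := ⟨hp⟩
  haveI : Fact (Nat.Prime 2) := ⟨Nat.prime_two⟩
  obtain ⟨Q0⟩ : Nonempty (Sylow 2 G) := inferInstance
  have h2p : 2 ∣ p + 1 := by
    have := hp.eq_two_or_odd
    omega
  have h2Q : ∀ Q : Sylow 2 G, 2 ∣ Nat.card (Q : Subgroup G) := by
    intro Q
    have h1 : Nat.card (Q : Subgroup G) = p + 1 := hQ Q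
    rw [h1]; exact h2p
  have h2G : 2 ∣ Nat.card G := (h2Q Q0).trans (Subgroup.card_subgroup_dvd_card _)
  by_cases hN : ∃ (Q : Sylow 2 G) (x w : G), x ∈ normalizer ((Q : Subgroup G) : Set G) ∧ PEl p x ∧ w ∈ Q ∧ x * w ≠ w * x
  swap
  · push Not at hN
    refine of_small hp Nat.prime_two hp2 hM h2G Q0 ?_
    intro T0 hT0 z hz hzN w hw
    by_contra hzw
    obtain ⟨h1, -⟩ := act hp hz hzN hw hzw
    have h3 : T0 = Q0 := by
      apply Subgroup.eq_of_le_of_card_ge hT0
      exact (hQ Q0).le.trans h1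
    subst h3
    exact hzw (hN Q0 z w hzN hz hw)
  obtain ⟨Q, x, w, hxQ, hx, hw, hxw⟩ := hN
  have htrw := (act hp hx hxQ hw hxw).2 (hQ Q)
  by_cases htt : ∀ P : Sylow p G, ∀ v ∈ P, (∀ g ∈ normalizer ((P : Subgroup G) : Set G), g * v = v * g) → v = 1
  · -- the hypotheses are satisfied
    have htrQ : ∀ s ∈ Q, ∀ t ∈ Q, s ≠ 1 → t ≠ 1 → ∃ j : ℤ, x ^ j * s * (x ^ j)⁻¹ = t := by
      intro s hs t ht hs1 ht1
      obtain ⟨j1, h1⟩ := htrw s hs hs1
      obtain ⟨j2, h2⟩ := htrw t ht ht1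
      refine ⟨j2 - j1, ?_⟩
      rw [← h1, ← h2, zpow_sub]
      group
    have hab2Q : ∀ s ∈ Q, s * s = 1 := by
      intro s hs
      by_cases hs1 : s = 1
      · rw [hs1, one_mul]
      obtain ⟨⟨t, ht⟩, hto⟩ := exists_prime_orderOf_dvd_card' 2 (h2Q Q)
      rw [Subgroup.orderOf_mk] at hto
      have ht1 : t ≠ 1 := by
        rintro rfl
        rw [orderOf_one] at hto
        omega
      obtain ⟨j, hj⟩ := htrQ t ht s hs ht1 hs1
      have htt : t * t = 1 := by
        have := pow_orderOf_eq_one t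
        rwa [hto, pow_two] at this
      rw [← hj]
      have : x ^ j * t * (x ^ j)⁻¹ * (x ^ j * t * (x ^ j)⁻¹) = x ^ j * (t * t) * (x ^ j)⁻¹ := by group
      rw [this, htt, mul_one, mul_inv_cancel]
    have hab2 : ∀ X : Subgroup G, IsPGroup 2 X → ∀ x ∈ X, x * x = 1 := by
      intro X hX s hs
      obtain ⟨Q', hQ'⟩ := hX.exists_le_sylow
      obtain ⟨g, hg⟩ := MulAction.exists_smul_eq G Q Q'
      have h1 : s ∈ ((g • Q : Sylow 2 G) : Subgroup G) := by rw [hg]; exact hQ' hs
      rw [mem_smul_syl] at h1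
      have h2 := hab2Q _ h1
      calc s * s = g * (g⁻¹ * s * g * (g⁻¹ * s * g)) * g⁻¹ := by group
        _ = 1 := by rw [h2]; group
    have hyp : Hyp G p := by
      refine ⟨hp, hp2, hM, hab, hab2, hQ, ?_, htt, hpG⟩
      intro Q'
      obtain ⟨g, hg⟩ := MulAction.exists_smul_eq G Q Q'
      have hmem : ∀ s : G, s ∈ Q' ↔ g⁻¹ * s * g ∈ (Q : Subgroup G) := by
        intro s
        rw [← mem_smul_syl, hg]
        rfl
      refine ⟨g * x * g⁻¹, ?_, hx.conj g, ⟨g * w * g⁻¹, ?_, ?_⟩, ?_⟩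
      · have := mem_norm_smul_syl g Q x hxQ
        rwa [hg] at this
      · rw [hmem]
        have : g⁻¹ * (g * w * g⁻¹) * g = w := by group
        rw [this]; exact hw
      · intro hh
        apply hxw
        calc x * w = g⁻¹ * (g * x * g⁻¹ * (g * w * g⁻¹)) * g := by group
          _ = w * x := by rw [hh]; group
      · intro s hs t ht hs1 ht1
        rw [hmem] at hs ht
        obtain ⟨j, hj⟩ := htrQ _ hs _ ht (C3.conj_ne hs1) (C3.conj_ne ht1)
        refine ⟨j, ?_⟩
        rw [conj_zpow]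
        calc g * x ^ j * g⁻¹ * s * (g * x ^ j * g⁻¹)⁻¹ = g * (x ^ j * (g⁻¹ * s * g) * (x ^ j)⁻¹) * g⁻¹ := by group
          _ = t := by rw [hj]; group
    exact hyp.final
  · push Not at htt
    obtain ⟨P, v, hvP, hvN, hv1⟩ := htt
    have hPab : IsMulCommutative P := ⟨⟨fun a b => Subtype.ext (hab _ P.isPGroup' a a.2 b b.2)⟩⟩
    obtain ⟨N, hN, ⟨e⟩⟩ := S0105.result P hPab
    have hidx : N.index = Nat.card ((P : Subgroup G) ⊓ centralizer (normalizer ((P : Subgroup G) : Set G) : Set G) : Subgroup G) := by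
      rw [Subgroup.index]
      exact Nat.card_congr e.toEquiv
    have hpg : IsPGroup p ((P : Subgroup G) ⊓ centralizer (normalizer ((P : Subgroup G) : Set G) : Set G) : Subgroup G) :=
      P.isPGroup'.to_le inf_le_left
    have hne : ((P : Subgroup G) ⊓ centralizer (normalizer ((P : Subgroup G) : Set G) : Set G) : Subgroup G) ≠ ⊥ := by
      intro hh
      have : v ∈ ((P : Subgroup G) ⊓ centralizer (normalizer ((P : Subgroup G) : Set G) : Set G) : Subgroup G) := by
        refine Subgroup.mem_inf.2 ⟨hvP, ?_⟩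
        rw [mem_centralizer_iff]
        intro g hg
        exact hvN g hg
      rw [hh, mem_bot] at this
      exact hv1 this
    obtain ⟨m, hm⟩ := hpg.exists_card_eq
    rw [← hidx] at hm
    have hm0 : m ≠ 0 := by
      rintro rfl
      rw [pow_zero, hidx] at hm
      exact hne (Subgroup.eq_bot_of_card_eq _ hm)
    have hcN := Subgroup.index_mul_card N
    rw [hm] at hcN
    have hNlt : Nat.card N < n := by
      rw [← hcard, ← hcN]
      have h1 : 1 < p ^ m := Nat.one_lt_pow hm0 hp.one_lt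
      have h2 : 0 < Nat.card N := Nat.card_pos
      nlinarith
    have h2N : 2 ∣ Nat.card N := by
      rw [← hcN] at h2G
      rcases Nat.prime_two.dvd_mul.1 h2G with h1 | h1
      · exact absurd ((Nat.prime_dvd_prime_iff_eq Nat.prime_two hp).1 (Nat.prime_two.dvd_of_dvd_pow h1)) hp2.symm
      · exact h1
    intro r hr hrG
    have hrN : r = p ∨ r ∣ Nat.card N := by
      rw [← hcN] at hrG
      rcases hr.dvd_mul.1 hrG with h1 | h1
      · left; exact (Nat.prime_dvd_prime_iff_eq hr hp).1 (hr.dvd_of_dvd_pow h1)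
      · right; exact h1
    rcases hrN with h1 | h1
    · left; exact h1
    by_cases hpN : p ∣ Nat.card N
    · refine ih (Nat.card N) hNlt N rfl (mix_sub hM N) ?_ ?_ hpN r hr h1
      · intro X hX a ha b hb
        have h3 := hab (X.map N.subtype) (hX.map _) a ⟨a, ha, rfl⟩ b ⟨b, hb, rfl⟩
        exact Subtype.ext h3
      · intro QN
        rw [QN.card_eq_multiplicity, ← hQ Q0, Q0.card_eq_multiplicity]
        congr 1
        rw [← hcN, Nat.factorization_mul (pow_ne_zero _ hp.ne_zero) Nat.card_pos.ne', Finsupp.add_apply,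
          hp.factorization_pow, Finsupp.single_apply, if_neg hp2, zero_add]
    · right
      exact prime_dvd_of_isPGroup Nat.prime_two hr (hM N h2N hpN) h1

theorem result {G : Type*} [Group G] [Finite G]
    {p q : ℕ} (hp : p.Prime) (hq : q.Prime) (hpq : p ≠ q) (hp2 : p ≠ 2)
    (hpG : p ∣ Nat.card G) (hqG : q ∣ Nat.card G)
    (hmix : ∀ H : Subgroup G, H ≠ ⊤ → ¬ IsPGroup q H → q ∣ Nat.card H → p ∣ Nat.card H)
    (hlarge : q ^ (Nat.card G).factorization q - 1 < p ∨
      (p = q ^ (Nat.card G).factorization q - 1 ∧ ∀ P : Sylow p G, IsMulCommutative P)) :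
    ∀ r : ℕ, r.Prime → r ∣ Nat.card G → r = p ∨ r = q := by
  haveI : Fact p.Prime := ⟨hp⟩
  haveI : Fact q.Prime := ⟨hq⟩
  have hM : Mix G p q := by
    intro H h1 h2
    by_contra h3
    by_cases hH : H = ⊤
    · rw [hH, Subgroup.card_top] at h2
      exact h2 hpG
    · exact h2 (hmix H hH h3 h1)
  obtain ⟨Q⟩ : Nonempty (Sylow q G) := inferInstance
  rcases hlarge with h1 | ⟨h1, h2⟩
  · refine of_small hp hq hpq hM hqG Q ?_
    intro T0 hT0 z hz hzN w hw
    by_contra hzw
    obtain ⟨h3, -⟩ := act hp hz hzN hw hzw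
    have h4 := Subgroup.card_le_of_le hT0
    have h5 : Nat.card (Q : Subgroup G) = q ^ (Nat.card G).factorization q := Q.card_eq_multiplicity
    rw [h5] at h4
    omega
  · have h3 : q ^ (Nat.card G).factorization q = p + 1 := by
      have := hp.pos
      omega
    have hq2 : q = 2 := by
      have h4 : 2 ∣ q ^ (Nat.card G).factorization q := by
        rw [h3]
        have := hp.eq_two_or_odd
        omega
      exact ((Nat.prime_dvd_prime_iff_eq Nat.prime_two hq).1 (Nat.prime_two.dvd_of_dvd_pow h4)).symm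
    subst hq2
    refine main2 hp hp2 _ G rfl hM ?_ ?_ hpG
    · intro X hX x hx y hy
      obtain ⟨P, hP⟩ := hX.exists_le_sylow
      have := (h2 P).is_comm.comm ⟨x, hP hx⟩ ⟨y, hP hy⟩
      exact congrArg Subtype.val this
    · intro Q'
      rw [Q'.card_eq_multiplicity, h3]

end Cfsg.Agent.S4017
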