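import Cfsg.Statements.S4079
import Cfsg.Agent.H11.MA3

set_option autoImplicit false
open Cfsg

namespace Cfsg.Agent.S4079

/-- Let p be an odd prime and L a finite metacyclic p-group with no cyclic subgroup of index p, and let a be an automorphism of L of order p. Then a moves some element of order p of L if and only if p = 3 and the semidirect product L ⋊ ⟨a⟩ (of order 3·#L) has maximal class, i.e. nilpotency class m where #L = 3^m. -/
theorem result {L : Type*} [Group L] [Finite L] {p : ℕ} [Fact p.Prime]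
    (hp : p ≠ 2) (hL : IsPGroup p L) (hmc : Cfsg.IsMetacyclic L) (hnc : ∀ C : Subgroup L, IsCyclic C → C.index ≠ p)
    (a : MulAut L) (ha : orderOf a = p) (m : ℕ) (hm : Nat.card L = p ^ m) :
    (∃ x : L, orderOf x = p ∧ a x ≠ x) ↔
    (p = 3 ∧ Group.nilpotencyClass (SemidirectProduct L ↥(Subgroup.zpowers a) (Subgroup.zpowers a).subtype) = m) := by

  have hpr : p.Prime := Fact.out
  have ha1 : a ^ p = 1 := by rw [← ha]; exact pow_orderOf_eq_one a
  have hnt : Nontrivial L := by
    by_contra hn
    rw [not_nontrivial_iff_subsingleton] at hn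
    have h1 : a = 1 := by
      apply MulEquiv.ext
      intro x
      exact Subsingleton.elim _ _
    rw [h1, orderOf_one] at ha
    exact hpr.one_lt.ne ha
  have c : Cfsg.Agent.H11.MA.Ctx L p := ⟨hp, hL, hmc, hnt, hnc⟩
  constructor
  · rintro ⟨x, hx, hax⟩
    have hxV : x ∈ c.V := by
      rw [c.mem_V, ← hx]
      exact pow_orderOf_eq_one x
    obtain ⟨h3, hfix⟩ := c.main_calc a ha1 ⟨x, hxV, hax⟩
    exact ⟨h3, Cfsg.Agent.H11.MA.class_of_fix a ha hfix m hm⟩
  · rintro ⟨h3, hcl⟩
    by_contra hcon
    push Not at hcon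
    refine c.converse h3 a ha m hm hcl ?_
    intro x hx
    by_cases hx1 : x = 1
    · rw [hx1, map_one]
    · exact hcon x (orderOf_eq_prime (c.mem_V.1 hx) hx1)

end Cfsg.Agent.S4079
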