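import Cfsg.Statements.S4083
import Cfsg.Agent.H65.DihSub
import Cfsg.Agent.H65.SelfCentB
import Cfsg.Agent.H80.Order12

set_option autoImplicit false
open Cfsg

namespace Cfsg.Agent.S4083


open Subgroup Cfsg.Agent.H65.PCyc Cfsg.Agent.H65.DihSub Cfsg.Agent.Transfer DihedralGroup

variable {G : Type*} [Group G] [Finite G]

theorem fact2 : Fact (Nat.Prime 2) := ⟨Nat.prime_two⟩

theorem klein_all (P : Sylow 2 G)
    (hK : ∀ K : Subgroup G, K ≤ P → Nat.card K = 4 → (∀ k ∈ K, k ^ 2 = 1) → centralizer (K : Set G) = K)
    (K : Subgroup G) (hKc : Nat.card K = 4) (hKe : ∀ k ∈ K, k ^ 2 = 1) {x : G}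
    (hx : x ∈ centralizer (K : Set G)) : x ∈ K := by
  have h1 : IsPGroup 2 K := IsPGroup.of_card (n := 2) (by rw [hKc]; norm_num)
  obtain ⟨P', hP'⟩ := h1.exists_le_sylow
  obtain ⟨g, hg⟩ := MulAction.exists_smul_eq G P' P
  set K' : Subgroup G := K.map (MulAut.conj g).toMonoidHom with hK'
  have hmem' : ∀ x, g * x * g⁻¹ ∈ K' → x ∈ K := by
    rintro x ⟨y, hy, hxy⟩
    have e : g * y * g⁻¹ = g * x * g⁻¹ := hxy
    have : y = x := by simpa using e
    rwa [← this]
  have hKP : K' ≤ P := by
    rintro _ ⟨x, hx, rfl⟩
    rw [← hg]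
    exact Subgroup.smul_mem_pointwise_smul x (MulAut.conj g) _ (hP' hx)
  have hc' : Nat.card K' = 4 := by
    rw [← hKc]
    exact (Nat.card_congr (K.equivMapOfInjective _ (MulAut.conj g).injective).toEquiv).symm
  have he' : ∀ k ∈ K', k ^ 2 = 1 := by
    rintro _ ⟨k, hk, rfl⟩
    rw [← map_pow, hKe k hk, map_one]
  have h2 := hK K' hKP hc' he'
  apply hmem'
  rw [← h2, mem_centralizer_iff]
  rintro _ ⟨y, hy, rfl⟩
  have := mem_centralizer_iff.1 hx y hy
  change (g * y * g⁻¹) * (g * x * g⁻¹) = (g * x * g⁻¹) * (g * y * g⁻¹)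
  calc _ = g * (y * x) * g⁻¹ := by group
    _ = g * (x * y) * g⁻¹ := by rw [this]
    _ = _ := by group

theorem card_klein {z t : G} (hz : z * z = 1) (ht : t * t = 1) (hc : z * t = t * z) (hz1 : z ≠ 1) (ht1 : t ≠ 1)
    (hzt : z ≠ t) : Nat.card (Cfsg.Agent.H65.kleinSub z t hz ht hc) = 4 := by
  classical
  have h1 : ((Cfsg.Agent.H65.kleinSub z t hz ht hc : Subgroup G) : Set G) = (({1, z, t, z * t} : Finset G) : Set G) := by
    ext x
    simp only [Finset.coe_insert, Finset.coe_singleton, Set.mem_insert_iff, Set.mem_singleton_iff]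
    exact Iff.rfl
  have h2 : Nat.card (Cfsg.Agent.H65.kleinSub z t hz ht hc) = ((({1, z, t, z * t} : Finset G) : Set G)).ncard := by
    rw [← h1]; rfl
  rw [h2, Set.ncard_coe_finset]
  have e1 : z * t ≠ 1 := by
    intro h
    apply hzt
    have : z * t = z * z := by rw [h, hz]
    exact (mul_left_cancel this).symm
  have e2 : z * t ≠ z := by simpa using ht1
  have e3 : z * t ≠ t := by simpa using hz1
  rw [Finset.card_insert_of_notMem, Finset.card_insert_of_notMem, Finset.card_insert_of_notMem, Finset.card_singleton]
  · simp [e3.symm]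
  · simp [hzt, e2.symm]
  · simp [hz1.symm, ht1.symm, e1.symm]

theorem bwd (P : Sylow 2 G) (n : ℕ) (e : (P : Subgroup G) ≃* DihedralGroup (2 ^ n))
    (hK : ∀ K : Subgroup G, K ≤ P → Nat.card K = 4 → (∀ k ∈ K, k ^ 2 = 1) → centralizer (K : Set G) = K)
    (H : Subgroup G) (h1 : ∀ S : Sylow 2 ↥H, (S : Subgroup ↥H).Normal)
    (h2 : ∀ (S : Sylow 2 ↥H) [(S : Subgroup ↥H).Normal], IsCyclic (↥H ⧸ (S : Subgroup ↥H))) :
    IsCyclic H ∨ (∃ n : ℕ, Nonempty (H ≃* DihedralGroup (2 ^ n))) ∨ Nonempty (H ≃* alternatingGroup (Fin 4)) := by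
  have := fact2
  have S : Sylow 2 H := default
  have hSn := h1 S
  have hSc := h2 S
  have hNZ : NeZero (2 ^ n) := ⟨by positivity⟩
  -- embedding of `S` in the dihedral group
  have hS2 : IsPGroup 2 ((S : Subgroup H).map H.subtype) := S.2.map _
  obtain ⟨P', hP'⟩ := hS2.exists_le_sylow
  let f : (S : Subgroup H) →* DihedralGroup (2 ^ n) :=
    (e.toMonoidHom.comp (Sylow.equiv P' P).toMonoidHom).comp
      ((Subgroup.inclusion hP').comp ((S : Subgroup H).equivMapOfInjective H.subtype H.subtype_injective).toMonoidHom)
  have hf : Function.Injective f := by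
    refine (e.injective.comp (Sylow.equiv P' P).injective).comp ((Subgroup.inclusion_injective hP').comp ?_)
    exact ((S : Subgroup H).equivMapOfInjective H.subtype H.subtype_injective).injective
  have eS : (S : Subgroup H) ≃* f.range := MonoidHom.ofInjective hf
  have hcyc : IsCyclic S → IsCyclic H := fun h =>
    isCyclic_of_hasNPC S hSn h hSc (hasNPC_two_of_cyclic S h)
  rcases sub_dihedral f.range with hc | ⟨k, hk, ⟨e'⟩⟩
  · left
    apply hcyc
    exact isCyclic_of_injective eS.toMonoidHom eS.injective
  obtain ⟨m, _, rfl⟩ := (Nat.dvd_prime_pow Nat.prime_two).1 hk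
  set eD : (S : Subgroup H) ≃* DihedralGroup (2 ^ m) := eS.trans e' with heD
  have hNZ2 : NeZero (2 ^ m) := ⟨by positivity⟩
  rcases Nat.eq_zero_or_pos m with hm0 | hm0
  · left
    apply hcyc
    have h3 : IsCyclic (DihedralGroup (2 ^ m)) := by
      rw [DihedralGroup.isCyclic_iff, hm0, pow_zero]
    exact isCyclic_of_injective eD.toMonoidHom eD.injective
  have hcardS : Nat.card (S : Subgroup H) = 2 * 2 ^ m := by
    rw [Nat.card_congr eD.toEquiv, DihedralGroup.nat_card]
  right
  rcases Nat.lt_or_ge m 2 with hm1 | hm2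
  · -- Klein four
    have hm : m = 1 := by omega
    subst hm
    have hcS : Nat.card (S : Subgroup H) = 4 := by rw [hcardS]; norm_num
    have hexp : ∀ s ∈ (S : Subgroup H), s ^ 2 = 1 := by
      intro s hs
      have h3 : ∀ x : DihedralGroup (2 ^ 1), x ^ 2 = 1 := by decide
      have h4 : (eD ⟨s, hs⟩) ^ 2 = 1 := h3 _
      rw [← map_pow] at h4
      have h5 : (⟨s, hs⟩ : (S : Subgroup H)) ^ 2 = 1 := eD.injective (by rw [h4, map_one])
      exact congrArg Subtype.val h5
    set K := (S : Subgroup H).map H.subtype with hKdef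
    have hKc : Nat.card K = 4 := by
      rw [← hcS]
      exact (Nat.card_congr ((S : Subgroup H).equivMapOfInjective _ H.subtype_injective).toEquiv).symm
    have hKe : ∀ k ∈ K, k ^ 2 = 1 := by
      rintro _ ⟨k, hk, rfl⟩
      rw [← map_pow, hexp k hk, map_one]
    -- `C_H(S) = S`
    have hCS : ∀ x : H, (∀ s ∈ (S : Subgroup H), s * x = x * s) → x ∈ (S : Subgroup H) := by
      intro x hx
      have h3 : (x : G) ∈ centralizer (K : Set G) := by
        rw [mem_centralizer_iff]
        rintro _ ⟨s, hs, rfl⟩
        exact congrArg Subtype.val (hx s hs)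
      obtain ⟨s, hs, hsx⟩ := klein_all P hK K hKc hKe h3
      have : s = x := Subtype.ext hsx
      rwa [← this]
    -- 6th powers
    have h6 : ∀ y : H, y ^ 6 ∈ (S : Subgroup H) := by
      classical
      intro y
      let X := {s : H // s ∈ (S : Subgroup H) ∧ s ≠ 1}
      have hX : Nat.card X = 3 := by
        have h3 : Nat.card X = (((S : Subgroup H) : Set H) \ {1}).ncard := by
          rw [← Nat.card_coe_set_eq]
          exact Nat.card_congr (Equiv.refl _)
        rw [h3, Set.ncard_sdiff_singleton_of_mem (one_mem (S : Subgroup H))]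
        have h4 : ((S : Subgroup H) : Set H).ncard = 4 := hcS
        rw [h4]
      let φ : H → Equiv.Perm X := fun y =>
        { toFun := fun s => ⟨y * s * y⁻¹, hSn.conj_mem _ s.2.1 y, fun h => s.2.2 (by simpa using h)⟩
          invFun := fun s => ⟨y⁻¹ * s * y, by simpa using hSn.conj_mem _ s.2.1 y⁻¹, fun h => s.2.2 (by
            have : y * (y⁻¹ * s * y) * y⁻¹ = y * 1 * y⁻¹ := by rw [h]
            simpa [mul_assoc] using this)⟩
          left_inv := fun s => Subtype.ext (by simp [mul_assoc])
          right_inv := fun s => Subtype.ext (by simp [mul_assoc]) }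
      have hφ : ∀ j : ℕ, ∀ s : X, ((φ y ^ j) s : H) = y ^ j * s * (y ^ j)⁻¹ := by
        intro j
        induction j with
        | zero => intro s; simp
        | succ j ih =>
          intro s
          rw [pow_succ']
          change y * ((φ y ^ j) s : H) * y⁻¹ = _
          rw [ih]
          rw [pow_succ']; group
      have : Fintype X := Fintype.ofFinite X
      have h7 : φ y ^ 6 = 1 := by
        have h8 : Fintype.card (Equiv.Perm X) = 6 := by
          rw [Fintype.card_perm, ← Nat.card_eq_fintype_card, hX]; rfl
        rw [← h8]; exact pow_card_eq_one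
      apply hCS
      intro s hs
      by_cases hs1 : s = 1
      · rw [hs1]; simp
      · have h8 := hφ 6 ⟨s, hs, hs1⟩
        rw [h7] at h8
        change s = y ^ 6 * s * (y ^ 6)⁻¹ at h8
        calc s * y ^ 6 = (y ^ 6 * s * (y ^ 6)⁻¹) * y ^ 6 := by rw [← h8]
          _ = _ := by group
    -- the index divides 3
    have hidx : (S : Subgroup H).index ∣ 3 := by
      obtain ⟨g, hg⟩ := hSc
      obtain ⟨y, rfl⟩ := QuotientGroup.mk_surjective g
      have h7 : orderOf (y : H ⧸ (S : Subgroup H)) = (S : Subgroup H).index := by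
        rw [orderOf_eq_card_of_forall_mem_zpowers hg, Subgroup.index_eq_card]
      have h8 : (S : Subgroup H).index ∣ 6 := by
        rw [← h7]
        refine orderOf_dvd_of_pow_eq_one ?_
        rw [← QuotientGroup.mk_pow, QuotientGroup.eq_one_iff]
        exact h6 y
      have h9 : (S : Subgroup H).index.Coprime 2 := by
        rw [Nat.coprime_comm, Nat.prime_two.coprime_iff_not_dvd]
        exact S.not_dvd_index
      exact Nat.Coprime.dvd_of_dvd_mul_right h9 (by norm_num; exact h8)
    have hcH := Subgroup.card_mul_index (S : Subgroup H)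
    rw [hcS] at hcH
    rcases (Nat.dvd_prime Nat.prime_three).1 hidx with hi | hi
    · left
      rw [hi] at hcH
      refine ⟨1, ⟨?_⟩⟩
      have htop : (S : Subgroup H) = ⊤ := Subgroup.index_eq_one.1 hi
      exact (Subgroup.topEquiv.symm.trans (MulEquiv.subgroupCongr htop.symm)).trans eD
    · right
      rw [hi] at hcH
      refine Cfsg.Agent.H80.order_twelve hcH.symm ?_
      intro z hz hzc
      -- `z ∈ S`
      have hzS : z ∈ (S : Subgroup H) := by
        refine mem_sylow_of_mem_normalizer (P := S) (k := 1) ?_ (by rw [pow_one, ← hz, pow_orderOf_eq_one])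
        change z ∈ normalizer ((S : Subgroup H) : Set H)
        rw [Subgroup.normalizer_eq_top_iff.2 hSn]; trivial
      have hz1 : z ≠ 1 := by rintro rfl; rw [orderOf_one] at hz; omega
      -- an element of order 3
      obtain ⟨y, hy⟩ := exists_prime_orderOf_dvd_card' (G := H) 3 (hp := ⟨Nat.prime_three⟩) (by rw [← hcH]; norm_num)
      have hyS : y ∉ (S : Subgroup H) := by
        intro h
        have h3 := hexp y h
        have h4 : orderOf y ∣ 2 := orderOf_dvd_of_pow_eq_one h3
        rw [hy] at h4
        omega
      apply hyS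
      apply hCS
      have hzy : ∀ w : H, w * z = z * w := fun w => (mem_center_iff.1 hzc w)
      have hy3 : y ^ 3 = 1 := by rw [← hy, pow_orderOf_eq_one]
      have hcl : ∀ u ∈ (S : Subgroup H), u ≠ 1 → u ≠ z → ∀ v ∈ (S : Subgroup H), v = 1 ∨ v = z ∨ v = u ∨ v = z * u := by
        intro u hu hu1 huz v hv
        have e1 : z * z = 1 := by rw [← sq]; exact hexp z hzS
        have e2 : u * u = 1 := by rw [← sq]; exact hexp u hu
        have e3 : z * u = u * z := (hzy u).symm
        have h3 : Cfsg.Agent.H65.kleinSub z u e1 e2 e3 ≤ (S : Subgroup H) := by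
          rintro x (rfl | rfl | rfl | rfl)
          · exact one_mem _
          · exact hzS
          · exact hu
          · exact mul_mem hzS hu
        have h4 := Subgroup.eq_of_le_of_card_ge h3 (by rw [card_klein e1 e2 e3 hz1 hu1 huz.symm, hcS])
        rw [← h4] at hv
        exact hv
      intro s hs
      by_cases hs1 : s = 1
      · rw [hs1]; simp
      by_cases hsz : s = z
      · rw [hsz]; exact (hzy y).symm
      have h3 : y * s * y⁻¹ ∈ (S : Subgroup H) := hSn.conj_mem s hs y
      rcases hcl s hs hs1 hsz _ h3 with h | h | h | h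
      · exact absurd (by simpa using h) hs1
      · exfalso
        apply hsz
        have : s = y⁻¹ * z * y := by rw [← h]; group
        rw [this, hzy y⁻¹]; group
      · calc s * y = (y * s * y⁻¹) * y := by rw [h]
          _ = _ := by group
      · exfalso
        have e1 : z * z = 1 := by rw [← sq]; exact hexp z hzS
        have h4 : y ^ 2 * s * (y ^ 2)⁻¹ = s := by
          calc y ^ 2 * s * (y ^ 2)⁻¹ = y * (y * s * y⁻¹) * y⁻¹ := by rw [sq]; group
            _ = (y * z) * s * y⁻¹ := by rw [h]; group
            _ = z * (y * s * y⁻¹) := by rw [hzy y]; group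
            _ = s := by rw [h, ← mul_assoc, e1, one_mul]
        have h5 : y ^ 3 * s * (y ^ 3)⁻¹ = z * s := by
          calc y ^ 3 * s * (y ^ 3)⁻¹ = y * (y ^ 2 * s * (y ^ 2)⁻¹) * y⁻¹ := by rw [pow_succ']; group
            _ = z * s := by rw [h4, h]
        rw [hy3] at h5
        apply hz1
        have : z * s = 1 * s := by rw [← h5]; group
        exact mul_right_cancel this
  · -- dihedral of order ≥ 8
    left
    have hodd : ∀ y : H, Odd (orderOf y) → y = 1 := by
      intro y hy
      have hcen := cent_of_odd_dihedral (S := (S : Subgroup H)) hm2 eD hy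
      -- a Klein four subgroup
      set t : ℕ := 2 ^ (m - 1) with ht
      have htt : 2 * t = 2 ^ m := by rw [ht, ← pow_succ']; congr 1; omega
      have ht0 : 0 < t := by positivity
      set z : (S : Subgroup H) := eD.symm (r (t : ZMod (2 ^ m))) with hz
      set b : (S : Subgroup H) := eD.symm (sr 0) with hb
      have htz : ((t : ZMod (2 ^ m)) + t) = 0 := by
        rw [← Nat.cast_add, ZMod.natCast_eq_zero_iff]
        exact ⟨1, by omega⟩
      have e1 : z * z = 1 := by
        rw [hz, ← map_mul, r_mul_r, htz, r_zero, map_one]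
      have e2 : b * b = 1 := by rw [hb, ← map_mul, sr_mul_self, map_one]
      have e3 : z * b = b * z := by
        rw [hz, hb, ← map_mul, ← map_mul, r_mul_sr, sr_mul_r, zero_sub, zero_add]
        congr 2
        rw [neg_eq_iff_add_eq_zero]; exact htz
      have n1 : z ≠ 1 := by
        intro h
        have h3 : r (t : ZMod (2 ^ m)) = 1 := by
          have := congrArg eD h
          rwa [hz, MulEquiv.apply_symm_apply, map_one] at this
        rw [one_def, r.injEq, ZMod.natCast_eq_zero_iff] at h3
        have := Nat.le_of_dvd ht0 h3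
        omega
      have n2 : b ≠ 1 := by
        intro h
        have := congrArg eD h
        rw [hb, MulEquiv.apply_symm_apply, map_one, one_def] at this
        cases this
      have n3 : z ≠ b := by
        intro h
        have := congrArg eD h
        rw [hz, hb, MulEquiv.apply_symm_apply, MulEquiv.apply_symm_apply] at this
        exact absurd this (by simp)
      have E1 : ((z : H) : G) * z = 1 := by exact_mod_cast congrArg (fun x : (S : Subgroup H) => ((x : H) : G)) e1
      have E2 : ((b : H) : G) * b = 1 := by exact_mod_cast congrArg (fun x : (S : Subgroup H) => ((x : H) : G)) e2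
      have E3 : ((z : H) : G) * b = b * z := by exact_mod_cast congrArg (fun x : (S : Subgroup H) => ((x : H) : G)) e3
      have N1 : ((z : H) : G) ≠ 1 := fun h => n1 (Subtype.ext (Subtype.ext h))
      have N2 : ((b : H) : G) ≠ 1 := fun h => n2 (Subtype.ext (Subtype.ext h))
      have N3 : ((z : H) : G) ≠ b := fun h => n3 (Subtype.ext (Subtype.ext h))
      have hyz : ∀ s : (S : Subgroup H), ((s : H) : G) * y = y * s := by
        intro s
        have h3 := hcen s s.2
        have h4 : (s : H) * y = y * s := by
          calc (s : H) * y = (y * s * y⁻¹) * y := by rw [h3]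
            _ = _ := by group
        exact congrArg Subtype.val h4
      have hyK : (y : G) ∈ Cfsg.Agent.H65.kleinSub ((z : H) : G) ((b : H) : G) E1 E2 E3 := by
        refine klein_all P hK _ (card_klein E1 E2 E3 N1 N2 N3) ?_ ?_
        · intro k hk
          rw [sq]
          exact Cfsg.Agent.H65.klein_sq E1 E2 E3 hk
        · rw [mem_centralizer_iff]
          rintro x (rfl | rfl | rfl | rfl)
          · simp
          · exact hyz z
          · exact hyz b
          · rw [mul_assoc, hyz b, ← mul_assoc, hyz z, mul_assoc]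
      have h5 : (y : G) * y = 1 := Cfsg.Agent.H65.klein_sq E1 E2 E3 hyK
      have h6 : y ^ 2 = 1 := by rw [sq]; exact Subtype.ext h5
      have h7 : orderOf y ∣ 2 := orderOf_dvd_of_pow_eq_one h6
      rcases (Nat.dvd_prime Nat.prime_two).1 h7 with h8 | h8
      · exact orderOf_eq_one_iff.1 h8
      · rw [h8] at hy
        exact absurd hy (by decide)
    have htop : (S : Subgroup H) = ⊤ := by
      rw [eq_top_iff]
      intro x _
      obtain ⟨a, b, hab, ⟨k, hk⟩, hb⟩ := exists_pow_decomp 2 x (orderOf_pos x).ne'
      have h3 : x ^ b = 1 := hodd _ (by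
        rw [← Nat.coprime_two_left]
        exact hb.symm)
      have h4 : x ^ a ∈ (S : Subgroup H) := by
        refine mem_sylow_of_mem_normalizer (P := S) (k := k) ?_ (by rw [← hk, pow_orderOf_eq_one])
        change x ^ a ∈ normalizer ((S : Subgroup H) : Set H)
        rw [Subgroup.normalizer_eq_top_iff.2 hSn]; trivial
      rw [hab, h3, mul_one]
      exact h4
    exact ⟨m, ⟨(Subgroup.topEquiv.symm.trans (MulEquiv.subgroupCongr htop.symm)).trans eD⟩⟩

/-- Let G be a finite group with Sylow 2-subgroup P. Every subgroup H of G whose Sylow 2-subgroup is normal in H with cyclic quotient is cyclic, dihedral of 2-power order, or isomorphic to the alternating group of degree 4, if and only if either P is cyclic, or P is dihedral (of order at least 4) and every elementary abelian subgroup K of order 4 of P satisfies C_G(K) = K. -/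
theorem result {G : Type*} [Group G] [Finite G] (P : Sylow 2 G) :
    (∀ H : Subgroup G, (∀ S : Sylow 2 ↥H, (S : Subgroup ↥H).Normal) →
        (∀ (S : Sylow 2 ↥H) [(S : Subgroup ↥H).Normal], IsCyclic (↥H ⧸ (S : Subgroup ↥H))) →
        IsCyclic H ∨ (∃ n : ℕ, Nonempty (H ≃* DihedralGroup (2 ^ n))) ∨ Nonempty (H ≃* alternatingGroup (Fin 4))) ↔
    (IsCyclic P ∨
      ((∃ n : ℕ, 1 ≤ n ∧ Nonempty ((P : Subgroup G) ≃* DihedralGroup (2 ^ n))) ∧
        ∀ K : Subgroup G, K ≤ P → Nat.card K = 4 → (∀ k ∈ K, k ^ 2 = 1) → Subgroup.centralizer (K : Set G) = K)) := by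

  have := fact2
  constructor
  · intro h
    have hsub : Subsingleton ((P : Subgroup G) ⧸ (⊤ : Subgroup (P : Subgroup G))) := QuotientGroup.subsingleton_quotient_top
    have h0 := sylow_of_quotient_cyclic (H := (P : Subgroup G)) (p := 2) ⊤ (P.2.to_subgroup ⊤) isCyclic_of_subsingleton
    rcases h (P : Subgroup G) h0.1 h0.2 with h1 | ⟨n, ⟨e⟩⟩ | ⟨⟨e⟩⟩
    · exact Or.inl h1
    · rcases Nat.eq_zero_or_pos n with hn | hn
      · left
        have h3 : IsCyclic (DihedralGroup (2 ^ n)) := by
          rw [DihedralGroup.isCyclic_iff, hn, pow_zero]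
        exact isCyclic_of_injective e.toMonoidHom e.injective
      · right
        refine ⟨⟨n, hn, ⟨e⟩⟩, ?_⟩
        intro K hKP hKc hKe
        have hKcomm : ∀ a ∈ K, ∀ b ∈ K, a * b = b * a := by
          intro a ha b hb
          have e1 := hKe a ha
          have e2 := hKe b hb
          have e3 := hKe (a * b) (mul_mem ha hb)
          rw [sq] at e1 e2 e3
          have f1 : a⁻¹ = a := inv_eq_of_mul_eq_one_left e1
          have f2 : b⁻¹ = b := inv_eq_of_mul_eq_one_left e2
          have f3 : (a * b)⁻¹ = a * b := inv_eq_of_mul_eq_one_left e3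
          rw [mul_inv_rev, f1, f2] at f3
          exact f3.symm
        apply le_antisymm
        · intro x hx
          have hK2 : IsPGroup 2 K := P.2.to_le hKP
          have hxN : x ∈ normalizer (K : Set G) := centralizer_le_normalizer _ hx
          obtain ⟨g1, g2⟩ := sylow_sup_zpowers hK2 hxN
          have hKH : K ≤ K ⊔ zpowers x := le_sup_left
          have hxH : x ∈ K ⊔ zpowers x := mem_sup_right (mem_zpowers x)
          have hncyc : ¬ IsCyclic K := by
            intro hc
            obtain ⟨g, hg⟩ := hc
            have h3 := orderOf_eq_card_of_forall_mem_zpowers hg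
            rw [hKc] at h3
            have h4 : g ^ 2 = 1 := Subtype.ext (hKe g g.2)
            have h5 := orderOf_dvd_of_pow_eq_one h4
            rw [h3] at h5
            omega
          have hcommH : IsMulCommutative ↥(K ⊔ zpowers x) := by
            have h3 : ∀ a ∈ (K : Set G) ∪ {x}, ∀ b ∈ (K : Set G) ∪ {x}, a * b = b * a := by
              rintro a (ha | rfl) b (hb | rfl)
              · exact hKcomm a ha b hb
              · exact mem_centralizer_iff.1 hx a ha
              · exact (mem_centralizer_iff.1 hx b hb).symm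
              · rfl
            have h4 : K ⊔ zpowers x = closure ((K : Set G) ∪ {x}) := by
              rw [Subgroup.closure_union, Subgroup.closure_eq, zpowers_eq_closure]
            rw [h4]
            exact Subgroup.isMulCommutative_closure h3
          rcases h (K ⊔ zpowers x) g1 g2 with c1 | ⟨j, ⟨c2⟩⟩ | ⟨⟨c3⟩⟩
          · exfalso
            exact hncyc (isCyclic_of_injective (Subgroup.inclusion hKH) (Subgroup.inclusion_injective hKH))
          · have h5 : IsMulCommutative (DihedralGroup (2 ^ j)) := ⟨⟨fun a b => by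
              have h6 := hcommH.is_comm.comm (c2.symm a) (c2.symm b)
              have h7 := congrArg c2 h6
              simpa using h7⟩⟩
            rw [DihedralGroup.commutative_iff] at h5
            have h8 := Nat.card_congr c2.toEquiv
            rw [DihedralGroup.nat_card] at h8
            have h9 : Nat.card ↥(K ⊔ zpowers x) ≤ Nat.card K := by
              rw [h8, hKc]
              rcases h5 with h5 | h5 <;> rw [h5] <;> norm_num
            have h10 := Subgroup.eq_of_le_of_card_ge hKH h9
            rw [h10]; exact hxH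
          · exfalso
            have h6 := hcommH.is_comm.comm (c3.symm ⟨Equiv.swap 0 1 * Equiv.swap 1 2, Equiv.Perm.mem_alternatingGroup.2 (by decide)⟩) (c3.symm ⟨Equiv.swap 0 1 * Equiv.swap 2 3, Equiv.Perm.mem_alternatingGroup.2 (by decide)⟩)
            have h7 := congrArg c3 h6
            simp only [map_mul, MulEquiv.apply_symm_apply] at h7
            have h8 := congrArg Subtype.val h7
            revert h8
            decide
        · intro a ha
          rw [mem_centralizer_iff]
          intro b hb
          exact hKcomm b hb a ha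
    · exfalso
      obtain ⟨k, hk⟩ := IsPGroup.iff_card.1 P.2
      have h2 := Nat.card_congr e.toEquiv
      have h3 : Nat.card (alternatingGroup (Fin 4)) = 12 := by
        rw [nat_card_alternatingGroup]; simp; rfl
      have hk' : Nat.card (P : Subgroup G) = 2 ^ k := hk
      rw [hk', h3] at h2
      have h4 : 3 ∣ 2 ^ k := ⟨4, h2⟩
      have h5 := Nat.prime_three.dvd_of_dvd_pow h4
      omega
  · rintro (hPc | ⟨⟨n, _, ⟨e⟩⟩, hK⟩) H h1 h2
    · left
      have S : Sylow 2 H := default
      have hSn := h1 S
      have hS : IsCyclic S := by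
        have hS2 : IsPGroup 2 ((S : Subgroup H).map H.subtype) := S.2.map _
        obtain ⟨P', hP'⟩ := hS2.exists_le_sylow
        have c1 : IsCyclic P' := isCyclic_of_injective (Sylow.equiv P' P).toMonoidHom (Sylow.equiv P' P).injective
        have c2 : IsCyclic ((S : Subgroup H).map H.subtype) :=
          isCyclic_of_injective (Subgroup.inclusion hP') (Subgroup.inclusion_injective hP')
        have e := (S : Subgroup H).equivMapOfInjective H.subtype H.subtype_injective
        exact isCyclic_of_injective e.toMonoidHom e.injective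
      exact isCyclic_of_hasNPC S hSn hS (h2 S) (hasNPC_two_of_cyclic S hS)
    · exact bwd P n e hK H h1 h2

end Cfsg.Agent.S4083
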