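import Cfsg.Statements.S4113
import Mathlib.Data.Fintype.EquivFin

set_option autoImplicit false
open Cfsg

namespace Cfsg.Agent.S4113

open Subgroup

/-- Let G be a finite group, M ≤ N non-trivial proper normal subgroups, and H a subgroup with HM = G and H ∩ M = 1. Then every element of G outside N acts fixed-point-freely on M (C_G(x) ≤ N for every x ∈ M, x ≠ 1) if and only if H ∩ gHg⁻¹ ≤ H ∩ N for every g outside H, with H proper and non-trivial and H ∩ N proper in H. -/
theorem result {G : Type*} [Group G] [Finite G] (N M : Subgroup G) [N.Normal] [M.Normal] (hMN : M ≤ N) (hM1 : M ≠ ⊥) (hN2 : N ≠ ⊤)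
    (H : Subgroup G) (hHM : H ⊔ M = ⊤) (hHM' : H ⊓ M = ⊥) :
    (∀ x ∈ M, x ≠ 1 → Subgroup.centralizer ({x} : Set G) ≤ N) ↔
      (H ≠ ⊥ ∧ H ≠ ⊤ ∧ H ⊓ N < H ∧ ∀ g : G, g ∉ H → H ⊓ H.map (MulAut.conj g).toMonoidHom ≤ N) := by
  have hH1 : H ≠ ⊥ := by
    rintro rfl
    rw [bot_sup_eq] at hHM
    exact hN2 (top_le_iff.1 (hHM ▸ hMN))
  have hH2 : H ≠ ⊤ := by
    rintro rfl
    rw [top_inf_eq] at hHM'
    exact hM1 hHM'
  have hH3 : H ⊓ N < H := by
    refine lt_of_le_of_ne inf_le_left ?_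
    intro h
    have : H ≤ N := inf_eq_left.1 h
    exact hN2 (top_le_iff.1 (hHM ▸ sup_le this hMN))
  have hdec : ∀ g : G, ∃ h ∈ H, ∃ m ∈ M, g = h * m := by
    intro g
    have : g ∈ H ⊔ M := hHM ▸ mem_top g
    obtain ⟨h, hh, m, hm, rfl⟩ := Subgroup.mem_sup_of_normal_right.1 this
    exact ⟨h, hh, m, hm, rfl⟩
  constructor
  · intro h
    refine ⟨hH1, hH2, hH3, ?_⟩
    intro g hg y hy
    obtain ⟨hyH, hy2⟩ := hy
    obtain ⟨y', hy'H, hy'⟩ := hy2
    have hy'' : g * y' * g⁻¹ = y := hy'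
    -- write g⁻¹ = h * m
    obtain ⟨k, hk, m, hm, hgm⟩ := hdec g⁻¹
    have hg' : g = m⁻¹ * k⁻¹ := by
      have : g = (g⁻¹)⁻¹ := (inv_inv g).symm
      rw [this, hgm]; group
    have hm1 : m ≠ 1 := by
      rintro rfl
      apply hg
      rw [hg']
      simpa using hk
    -- y = m⁻¹ (k⁻¹ y' k) m
    set w := k⁻¹ * y' * k with hw
    have hwH : w ∈ H := mul_mem (mul_mem (inv_mem hk) hy'H) hk
    have hyw : y = m⁻¹ * w * m := by
      rw [← hy'', hg', hw]; group
    have hM : w⁻¹ * y ∈ M := by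
      have : w⁻¹ * y = (w⁻¹ * m⁻¹ * w) * m := by rw [hyw]; group
      rw [this]
      refine mul_mem ?_ hm
      have := ‹M.Normal›.conj_mem m⁻¹ (inv_mem hm) w⁻¹
      simpa using this
    have hH : w⁻¹ * y ∈ H := mul_mem (inv_mem hwH) hyH
    have h1 : w⁻¹ * y = 1 := by
      have : w⁻¹ * y ∈ H ⊓ M := ⟨hH, hM⟩
      rw [hHM'] at this
      exact Subgroup.mem_bot.1 this
    have hwy : w = y := (inv_mul_eq_one.1 h1)
    apply h m hm hm1
    rw [mem_centralizer_iff]
    intro a ha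
    rw [Set.mem_singleton_iff] at ha
    rw [ha]
    rw [hwy] at hyw
    calc m * y = m * (m⁻¹ * y * m) := by rw [← hyw]
      _ = y * m := by group
  · rintro ⟨-, -, -, h⟩ x hx hx1 g hg
    obtain ⟨k, hk, m, hm, rfl⟩ := hdec g
    refine mul_mem ?_ (hMN hm)
    by_contra hkN
    -- `k` acts fixed point freely on `M`
    have hfpf : ∀ u ∈ M, k * u = u * k → u = 1 := by
      intro u hu huk
      by_contra hu1
      apply hkN
      apply h u
      · intro huH
        have : u ∈ H ⊓ M := ⟨huH, hu⟩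
        rw [hHM'] at this
        exact hu1 (Subgroup.mem_bot.1 this)
      · refine ⟨hk, ⟨k, hk, ?_⟩⟩
        show u * k * u⁻¹ = k
        rw [← huk]; group
    -- the map `u ↦ k⁻¹ u k u⁻¹` is injective on `M`, hence surjective
    let f : M → M := fun u => ⟨k⁻¹ * u * k * (u : G)⁻¹, by
      refine mul_mem ?_ (inv_mem u.2)
      simpa using ‹M.Normal›.conj_mem u u.2 k⁻¹⟩
    have hf : Function.Injective f := by
      intro u v huv
      have h1 : k⁻¹ * u * k * (u : G)⁻¹ = k⁻¹ * v * k * (v : G)⁻¹ := congrArg Subtype.val huv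
      have h2 : ((v : G)⁻¹ * u) = 1 := by
        apply hfpf _ (mul_mem (inv_mem v.2) u.2)
        have h3 : (u : G) * k * (u : G)⁻¹ = v * k * (v : G)⁻¹ := by
          have := congrArg (fun t => k * t) h1
          simpa [mul_assoc] using this
        calc k * ((v : G)⁻¹ * u) = (v : G)⁻¹ * (v * k * (v : G)⁻¹) * u := by group
          _ = (v : G)⁻¹ * ((u : G) * k * (u : G)⁻¹) * u := by rw [h3]
          _ = (v : G)⁻¹ * u * k := by group
      ext
      exact (inv_mul_eq_one.1 h2).symm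
    have hsurj : Function.Surjective f := Finite.surjective_of_injective hf
    obtain ⟨u, hu⟩ := hsurj ⟨m, hm⟩
    have hu' : k⁻¹ * u * k * (u : G)⁻¹ = m := congrArg Subtype.val hu
    -- so `k m = u k u⁻¹` centralizes `x`
    have hkm : k * m = u * k * (u : G)⁻¹ := by rw [← hu']; group
    rw [mem_centralizer_iff] at hg
    have hgx := hg x rfl
    rw [hkm] at hgx
    have h3 : (u : G)⁻¹ * x * u = 1 := by
      apply hfpf
      · simpa using ‹M.Normal›.conj_mem x hx (u : G)⁻¹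
      · calc k * ((u : G)⁻¹ * x * u) = (u : G)⁻¹ * ((u * k * (u : G)⁻¹) * x) * u := by group
          _ = (u : G)⁻¹ * (x * (u * k * (u : G)⁻¹)) * u := by rw [hgx]
          _ = (u : G)⁻¹ * x * u * k := by group
    apply hx1
    calc x = u * ((u : G)⁻¹ * x * u) * (u : G)⁻¹ := by group
      _ = 1 := by rw [h3]; group

end Cfsg.Agent.S4113
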