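import Cfsg.Statements.S4144
import Cfsg.Agent.H38.MCSq
import Cfsg.Agent.MaxClass.TwoGroups

set_option autoImplicit false
set_option linter.style.haveILetI false
open Cfsg

namespace Cfsg.Agent.S4144

open Subgroup Cfsg.Agent.H72.MC

/-- Let X be a finite p-group of order p^n, n ≥ 2, of nilpotency class n − 1 (maximal class), and H any subgroup of X. Then the index in H of the subgroup generated by the p-th powers of elements of H is at most p^p. -/
theorem result {X : Type*} [Group X] [Finite X] {p : ℕ} [Fact p.Prime] (n : ℕ) (hn : 2 ≤ n) (hX : Nat.card X = p ^ n)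
    (hmax : Group.nilpotencyClass X = n - 1) (H : Subgroup X) :
    (Subgroup.closure {y : X | ∃ h ∈ H, y = h ^ p}).relIndex H ≤ p ^ p := by
  have hp : p.Prime := Fact.out
  show (Pw p H).relIndex H ≤ p ^ p
  have hM : Max X p n := max_of_nilpotencyClass hn hX hmax
  have hle : Pw p H ≤ H := Pw_le
  have hcm : Nat.card (Pw p H) * (Pw p H).relIndex H = Nat.card H := by
    have h4 := card_mul_index ((Pw p H).subgroupOf H)
    rw [Nat.card_congr (subgroupOfEquivOfLe hle).toEquiv] at h4
    exact h4
  have hpos : 0 < Nat.card (Pw p H) := Nat.card_pos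
  have key : Nat.card H ≤ p ^ p * Nat.card (Pw p H) → (Pw p H).relIndex H ≤ p ^ p := by
    intro h
    rw [← hcm, mul_comm (p ^ p)] at h
    exact Nat.le_of_mul_le_mul_left h hpos
  apply key
  by_cases hH : Nat.card H ≤ p ^ p
  · exact hH.trans (Nat.le_mul_of_pos_right _ hpos)
  push Not at hH
  rcases eq_or_ne p 2 with rfl | hp2
  · -- `p = 2`
    have hidx := MaxClass.index_commutator_of_maxClass hn hX hmax
    obtain ⟨C, hC, hCi⟩ := MaxClass.exists_cyclic_index_two_of_taussky n hn X hX hidx
    have h1 : Nat.card H ≤ 2 * Nat.card (H ⊓ C : Subgroup X) := by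
      have h4 := card_mul_index ((H ⊓ C).subgroupOf H)
      rw [Nat.card_congr (subgroupOfEquivOfLe (inf_le_left : H ⊓ C ≤ H)).toEquiv] at h4
      have h5 : ((H ⊓ C).subgroupOf H).index ≤ 2 := by
        have h6 : (H ⊓ C).relIndex H = C.relIndex H := by rw [inf_relIndex_left]
        show (H ⊓ C).relIndex H ≤ 2
        rw [h6]
        have h7 := relIndex_le_of_le_right (H := C) (le_top : H ≤ ⊤) (by rw [relIndex_top_right, hCi]; norm_num)
        rwa [relIndex_top_right, hCi] at h7
      rw [← h4, mul_comm]
      exact Nat.mul_le_mul_right _ h5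
    have hcyc : IsCyclic (H ⊓ C : Subgroup X) := isCyclic_of_injective (inclusion inf_le_right) (inclusion_injective _)
    obtain ⟨⟨c, hc⟩, hcg⟩ := hcyc.exists_generator
    have h2 : (H ⊓ C : Subgroup X) = zpowers c := by
      apply le_antisymm
      · intro x hx
        obtain ⟨k, hk⟩ := hcg ⟨x, hx⟩
        exact ⟨k, congrArg Subtype.val hk⟩
      · rw [zpowers_le]; exact hc
    have h3 : Nat.card (H ⊓ C : Subgroup X) ≤ 2 * Nat.card (Pw 2 H) := by
      rw [h2, Nat.card_zpowers]
      have h4 : zpowers (c ^ 2) ≤ Pw 2 H := by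
        rw [zpowers_le]; exact pow_mem_Pw hc.1
      have h5 := card_le_of_le h4
      rw [Nat.card_zpowers] at h5
      have h6 : orderOf c ≤ 2 * orderOf (c ^ 2) := by
        apply orderOf_le_of_pow_eq_one
        · have := orderOf_pos (c ^ 2); omega
        · rw [pow_mul, pow_orderOf_eq_one]
      omega
    calc Nat.card H ≤ 2 * Nat.card (H ⊓ C : Subgroup X) := h1
      _ ≤ 2 * (2 * Nat.card (Pw 2 H)) := Nat.mul_le_mul_left _ h3
      _ = 2 ^ 2 * Nat.card (Pw 2 H) := by ring
  · rcases Nat.lt_or_ge n (p + 2) with hnp | hnp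
    · -- `n = p + 1`
      have hHX : Nat.card H ≤ p ^ n := by
        rw [← hX]; exact Subgroup.card_le_card_group H
      have hn1 : n = p + 1 := by
        by_contra hne
        have : p ^ n ≤ p ^ p := Nat.pow_le_pow_right hp.pos (by omega)
        omega
      subst hn1
      obtain ⟨k, hk⟩ := (IsPGroup.iff_card.1 (hM.isPGroup.to_subgroup H))
      have hk1 : p < k := by
        rw [hk] at hH
        exact (Nat.pow_lt_pow_iff_right hp.one_lt).1 hH
      have hHtop : H = ⊤ := by
        apply Subgroup.eq_top_of_card_eq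
        rw [hX, hk]
        apply le_antisymm
        · rw [← hk]; exact hHX
        · exact Nat.pow_le_pow_right hp.pos hk1
      obtain ⟨x, hx⟩ := H38.MCSq.exists_pow_ne_one hM hp2
      have h1 : Pw p H ≠ ⊥ := by
        intro h2
        apply hx
        have h3 : x ^ p ∈ Pw p H := pow_mem_Pw (by rw [hHtop]; exact mem_top x)
        rw [h2, mem_bot] at h3
        exact h3
      have h2 : p ≤ Nat.card (Pw p H) := by
        obtain ⟨l, hl⟩ := (IsPGroup.iff_card.1 (hM.isPGroup.to_subgroup (Pw p H)))
        rw [hl]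
        have hl0 : l ≠ 0 := by
          rintro rfl
          rw [pow_zero] at hl
          exact h1 (Subgroup.eq_bot_of_card_eq _ hl)
        calc p = p ^ 1 := (pow_one p).symm
          _ ≤ p ^ l := Nat.pow_le_pow_right hp.pos (by omega)
      calc Nat.card H ≤ p ^ (p + 1) := hHX
        _ = p ^ p * p := pow_succ p p
        _ ≤ _ := Nat.mul_le_mul_left _ h2
    · exact hM.card_le_Pw' hp2 hnp H

end Cfsg.Agent.S4144
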