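import Cfsg.Statements.S4172
import Cfsg.Agent.H65.BQuot
import Cfsg.Agent.H49.Core
import Cfsg.Agent.Transfer.Tate
import Cfsg.Agent.Bal.PQ
import Cfsg.Agent.Bal.Core
import Cfsg.Agent.H10.Frat
import Cfsg.Agent.H47.FrP
import Cfsg.Agent.Hall.Gaschutz
import Cfsg.Agent.FStar.CompAct
import Cfsg.Agent.FStar.Layer

set_option autoImplicit false
open Cfsg

namespace Cfsg.Agent.S4172


open Subgroup Cfsg.Agent.Transfer Cfsg.Agent.FStar

section General

variable {G : Type*} [Group G] [Finite G] {p : ℕ} [hp : Fact p.Prime]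

/-- If `N` is not inside the Frattini subgroup of a 2-generator Sylow subgroup `P`, then `P N / N` is cyclic. -/
theorem exists_gen (P : Sylow p G) (hgen : (frattini ↥(P : Subgroup G)).index = p ^ 2) (N : Subgroup G) [N.Normal]
    (hN : ¬ N ⊓ (P : Subgroup G) ≤ (frattini ↥(P : Subgroup G)).map (P : Subgroup G).subtype) :
    ∃ x ∈ (P : Subgroup G), (P : Subgroup G) ≤ zpowers x ⊔ N := by
  set Q : Subgroup P := N.subgroupOf (P : Subgroup G) with hQ
  have hQ1 : ¬ Q ≤ frattini ↥(P : Subgroup G) := by
    intro h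
    apply hN
    rintro x ⟨hx1, hx2⟩
    exact ⟨⟨x, hx2⟩, h (show (⟨x, hx2⟩ : P) ∈ Q from hx1), rfl⟩
  set D : Subgroup P := Q ⊔ frattini ↥(P : Subgroup G) with hD
  have h1 : frattini ↥(P : Subgroup G) < D :=
    lt_of_le_of_ne le_sup_right (fun h => hQ1 (by rw [h]; exact le_sup_left))
  have h2 : D.index ∣ p ^ 2 := by rw [← hgen]; exact index_dvd_of_le h1.le
  have h3 : D.index ≠ p ^ 2 := by
    intro h
    have h4 := relIndex_mul_index h1.le
    rw [hgen, h] at h4
    have h5 : (frattini ↥(P : Subgroup G)).relIndex D = 1 :=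
      Nat.eq_of_mul_eq_mul_right (pow_pos hp.out.pos 2) (by rw [h4, one_mul])
    rw [relIndex_eq_one] at h5
    exact absurd h5 (not_le_of_gt h1)
  have h4 : ∃ x : P, zpowers x ⊔ D = ⊤ := by
    obtain ⟨j, hj, hj'⟩ := (Nat.dvd_prime_pow hp.out).1 h2
    interval_cases j
    · rw [pow_zero, index_eq_one] at hj'
      exact ⟨1, by rw [hj']; simp⟩
    · rw [pow_one] at hj'
      have h5 : D ≠ ⊤ := by
        intro h; rw [h, index_top] at hj'
        exact hp.out.one_lt.ne hj'
      obtain ⟨x, hx⟩ : ∃ x, x ∉ D := by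
        by_contra hcon
        push Not at hcon
        exact h5 (eq_top_iff.2 fun x _ => hcon x)
      refine ⟨x, ?_⟩
      have h6 : (zpowers x ⊔ D).index ∣ p := (index_dvd_of_le le_sup_right).trans (dvd_of_eq hj')
      rcases (Nat.dvd_prime hp.out).1 h6 with h | h
      · exact index_eq_one.1 h
      · exfalso
        have h7 := relIndex_mul_index (le_sup_right : D ≤ zpowers x ⊔ D)
        rw [hj', h] at h7
        have h8 : D.relIndex (zpowers x ⊔ D) = 1 :=
          Nat.eq_of_mul_eq_mul_right hp.out.pos (by rw [h7, one_mul])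
        rw [relIndex_eq_one] at h8
        exact hx (h8 (mem_sup_left (mem_zpowers x)))
    · exact absurd hj' h3
  obtain ⟨x, hx⟩ := h4
  have h5 : (zpowers x ⊔ Q) ⊔ frattini ↥(P : Subgroup G) = ⊤ := by rw [sup_assoc, ← hD, hx]
  have h6 : zpowers x ⊔ Q = ⊤ := frattini_nongenerating h5
  refine ⟨x, x.2, ?_⟩
  have h7 : (zpowers x ⊔ Q).map (P : Subgroup G).subtype = (P : Subgroup G) := by
    rw [h6, ← MonoidHom.range_eq_map, range_subtype]
  calc (P : Subgroup G) = (zpowers x ⊔ Q).map (P : Subgroup G).subtype := h7.symm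
    _ = zpowers (x : G) ⊔ Q.map (P : Subgroup G).subtype := by rw [Subgroup.map_sup, MonoidHom.map_zpowers]; rfl
    _ ≤ zpowers (x : G) ⊔ N := sup_le_sup_left (by
      rintro _ ⟨y, hy, rfl⟩; exact hy) _

omit [Finite G] hp in
theorem comm_mem {P N : Subgroup G} [N.Normal] {x : G} (h : P ≤ zpowers x ⊔ N) {a b : G}
    (ha : a ∈ P) (hb : b ∈ P) : a * b * a⁻¹ * b⁻¹ ∈ N := by
  have key : ∀ a ∈ P, (QuotientGroup.mk' N a) ∈ zpowers (QuotientGroup.mk' N x) := by
    intro a ha
    have h1 : (zpowers x ⊔ N).map (QuotientGroup.mk' N) = zpowers (QuotientGroup.mk' N x) := by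
      rw [Subgroup.map_sup, MonoidHom.map_zpowers, QuotientGroup.map_mk'_self, sup_bot_eq]
    rw [← h1]
    exact mem_map_of_mem _ (h ha)
  rw [← QuotientGroup.eq_one_iff]
  change QuotientGroup.mk' N (a * b * a⁻¹ * b⁻¹) = 1
  obtain ⟨i, hi⟩ := key a ha
  obtain ⟨j, hj⟩ := key b hb
  simp only [map_mul, map_inv]
  have h2 : QuotientGroup.mk' N a * QuotientGroup.mk' N b = QuotientGroup.mk' N b * QuotientGroup.mk' N a := by
    rw [← hi, ← hj]
    change (QuotientGroup.mk' N x) ^ i * (QuotientGroup.mk' N x) ^ j = (QuotientGroup.mk' N x) ^ j * (QuotientGroup.mk' N x) ^ i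
    rw [← zpow_add, ← zpow_add, add_comm]
  rw [h2]; group

/-- Tate for a subgroup normalized by `P`. -/
theorem comm_mem_of_normalized (P : Sylow p G) (hgen : (frattini ↥(P : Subgroup G)).index = p ^ 2) (N : Subgroup G)
    (hPN : (P : Subgroup G) ≤ normalizer (N : Set G)) (hN : ¬ Cfsg.HasNormalPComplement p N) {a b : G}
    (ha : a ∈ (P : Subgroup G)) (hb : b ∈ (P : Subgroup G)) : a * b * a⁻¹ * b⁻¹ ∈ N := by
  set M : Subgroup G := normalizer (N : Set G) with hM
  let P' : Sylow p M := P.subtype hPN
  have hP' : (P' : Subgroup M) = (P : Subgroup G).subgroupOf M := rfl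
  let e : ↥(P' : Subgroup M) ≃* ↥(P : Subgroup G) := subgroupOfEquivOfLe hPN
  have hgen' : (frattini ↥(P' : Subgroup M)).index = p ^ 2 := by
    rw [← hgen, ← Cfsg.Agent.H47.frattini_map_equiv e, index_map_of_bijective e.bijective]
  have hN' : (N.subgroupOf M).Normal := by
    rw [hM]; infer_instance
  have hNM : N ≤ M := le_normalizer
  have hnpc : ¬ Cfsg.HasNormalPComplement p (N.subgroupOf M) := by
    rw [hasNPC_congr (subgroupOfEquivOfLe hNM)]
    exact hN
  have h1 : ¬ N.subgroupOf M ⊓ (P' : Subgroup M) ≤ (frattini ↥(P' : Subgroup M)).map (P' : Subgroup M).subtype :=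
    fun h => hnpc (hasNPC_of_inf_le_frattini P' (N.subgroupOf M) h)
  obtain ⟨x, hx, hx'⟩ := exists_gen P' hgen' (N.subgroupOf M) h1
  have h2 := comm_mem hx' (a := ⟨a, hPN ha⟩) (b := ⟨b, hPN hb⟩) ha hb
  exact h2

/-- Central elements of an abelian Sylow subgroup of a perfect group. -/
theorem center_inf (P : Sylow p G) (hab : ∀ a ∈ (P : Subgroup G), ∀ b ∈ (P : Subgroup G), a * b = b * a)
    (hperf : commutator G = ⊤) {z : G} (hz : z ∈ center G) (hzP : z ∈ (P : Subgroup G)) : z = 1 := by
  have hcomm : IsMulCommutative (P : Subgroup G) := ⟨⟨fun a b => Subtype.ext (hab a a.2 b b.2)⟩⟩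
  let _ : CommGroup (P : Subgroup G) := { (inferInstance : Group (P : Subgroup G)) with
    mul_comm := fun a b => Subtype.ext (hab a a.2 b b.2) }
  let V : G →* (P : Subgroup G) := MonoidHom.transfer (MonoidHom.id (P : Subgroup G))
  have h1 : V z = 1 := by
    have h2 : commutator G ≤ V.ker := Abelianization.commutator_subset_ker V
    rw [hperf] at h2
    exact h2 (mem_top z)
  have h3 : V z = ⟨z ^ (P : Subgroup G).index, MonoidHom.transfer_eq_pow_aux z (fun k g₀ _ => by
      have := mem_center_iff.1 (pow_mem hz k) g₀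
      rw [mul_assoc, ← this, ← mul_assoc, inv_mul_cancel, one_mul])⟩ :=
    MonoidHom.transfer_eq_pow (MonoidHom.id (P : Subgroup G)) z (fun k g₀ _ => by
      have := mem_center_iff.1 (pow_mem hz k) g₀
      rw [mul_assoc, ← this, ← mul_assoc, inv_mul_cancel, one_mul])
  have h4 : z ^ (P : Subgroup G).index = 1 := by
    rw [h1] at h3
    exact (congrArg Subtype.val h3).symm
  obtain ⟨k, hk⟩ := P.isPGroup' ⟨z, hzP⟩
  have h5 : z ^ p ^ k = 1 := congrArg Subtype.val hk
  have h6 : Nat.Coprime (P : Subgroup G).index (p ^ k) :=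
    (Nat.Coprime.pow_left _ ((Nat.Prime.coprime_iff_not_dvd hp.out).2 P.not_dvd_index)).symm
  have h7 : orderOf z ∣ Nat.gcd (P : Subgroup G).index (p ^ k) :=
    Nat.dvd_gcd (orderOf_dvd_of_pow_eq_one h4) (orderOf_dvd_of_pow_eq_one h5)
  rw [h6] at h7
  exact orderOf_eq_one_iff.1 (Nat.dvd_one.1 h7)

/-- Components are not `p`-nilpotent if `O_{p'} = 1`. -/
theorem component_not_npc (hcore : Cfsg.pPrimeCore p G = ⊥) {K : Subgroup G} (hK : Cfsg.IsComponent K) :
    ¬ Cfsg.HasNormalPComplement p K := by
  intro h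
  obtain ⟨N, hN, h1, k, h2⟩ := hasNPC_iff_exists.1 h
  have hperf := commutator_top_eq_top hK.2
  have hNt : N = ⊤ := by
    have h3 : IsPGroup p (K ⧸ N) := IsPGroup.of_card (n := k) (by rw [← h2]; rfl)
    have h4 : Group.IsNilpotent (K ⧸ N) := h3.isNilpotent
    by_contra hne
    have : Nontrivial (K ⧸ N) := QuotientGroup.nontrivial_iff.2 hne
    have h5 : commutator (K ⧸ N) < ⊤ := by
      have := Group.IsSolvable.commutator_lt_top_of_nontrivial (K ⧸ N)
      exact this
    apply h5.ne
    have h6 : (commutator K).map (QuotientGroup.mk' N) = commutator (K ⧸ N) := by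
      rw [commutator_def, commutator_def, map_commutator, map_top_of_surjective _ (QuotientGroup.mk'_surjective N)]
    rw [← h6, commutator_def, hperf, map_top_of_surjective _ (QuotientGroup.mk'_surjective N)]
  have h3 : (Nat.card K).Coprime p := by
    rw [hNt] at h1
    rwa [card_top] at h1
  have h4 := le_pPrimeCore_of_isSubnormal hK.1 h3
  rw [hcore, le_bot_iff] at h4
  exact ne_bot hK.2 h4

theorem le_of_normal (P : Sylow p G) {N : Subgroup G} [N.Normal] (h : IsPGroup p N) : N ≤ P := by
  have h1 : IsPGroup p ↥((P : Subgroup G) ⊔ N) := P.isPGroup'.to_sup_of_normal_right h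
  have h2 := P.3 h1 le_sup_left
  rw [← h2]
  exact le_sup_right

/-- Tate plus trivial cores. -/
theorem not_le (P : Sylow p G) (hcore : Cfsg.pPrimeCore p G = ⊥)
    (hfrat : ((frattini ↥(P : Subgroup G)).map (P : Subgroup G).subtype).normalCore = ⊥)
    {N : Subgroup G} [hNn : N.Normal] (hN : N ≠ ⊥) :
    ¬ N ⊓ (P : Subgroup G) ≤ (frattini ↥(P : Subgroup G)).map (P : Subgroup G).subtype := by
  intro h
  obtain ⟨M, hM, h1, k, h2⟩ := hasNPC_iff_exists.1 (hasNPC_of_inf_le_frattini P N h)
  have h3 := Cfsg.Agent.Bal.pPrimeCore_subnormal_eq_bot hcore (K := N) hNn.isSubnormal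
  have h4 : M ≤ ⊥ := by rw [← h3]; exact Solv.le_pPrimeCore hM h1
  rw [le_bot_iff] at h4
  rw [h4, index_bot] at h2
  have h5 : IsPGroup p N := IsPGroup.of_card h2
  have h6 := le_of_normal P h5
  rw [inf_eq_left.2 h6] at h
  have h7 := Subgroup.normal_le_normalCore.2 h
  rw [hfrat, le_bot_iff] at h7
  exact hN h7

theorem exists_min (P : Sylow p G) (hna : ¬ IsMulCommutative (P : Subgroup G))
    (hgen : (frattini ↥(P : Subgroup G)).index = p ^ 2) (hcore : Cfsg.pPrimeCore p G = ⊥)
    (hfrat : ((frattini ↥(P : Subgroup G)).map (P : Subgroup G).subtype).normalCore = ⊥) :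
    ∃ K : Subgroup G, K.Normal ∧ K ≠ ⊥ ∧ ∀ N : Subgroup G, N.Normal → N ≠ ⊥ → K ≤ N := by
  have hnt : (⊤ : Subgroup G) ≠ ⊥ := by
    intro h
    apply hna
    refine ⟨⟨fun a b => ?_⟩⟩
    have ha : (a : G) ∈ (⊥ : Subgroup G) := by rw [← h]; trivial
    have hb : (b : G) ∈ (⊥ : Subgroup G) := by rw [← h]; trivial
    rw [mem_bot] at ha hb
    apply Subtype.ext
    rw [coe_mul, coe_mul, ha, hb]
  obtain ⟨K, ⟨hK1, hK2⟩, hK3⟩ := Set.exists_min_image {N : Subgroup G | N.Normal ∧ N ≠ ⊥} (fun N => Nat.card N)
    (Set.toFinite _) ⟨⊤, inferInstance, hnt⟩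
  refine ⟨K, hK1, hK2, fun N hN1 hN2 => ?_⟩
  have hne : K ⊓ N ≠ ⊥ := by
    intro hbot
    apply hna
    refine ⟨⟨fun a b => Subtype.ext ?_⟩⟩
    obtain ⟨x, hx, hx'⟩ := exists_gen P hgen K (not_le P hcore hfrat hK2)
    obtain ⟨y, hy, hy'⟩ := exists_gen P hgen N (not_le P hcore hfrat hN2)
    have h1 := comm_mem hx' a.2 b.2
    have h2 := comm_mem hy' a.2 b.2
    have h3 : (a : G) * b * (a : G)⁻¹ * (b : G)⁻¹ ∈ K ⊓ N := ⟨h1, h2⟩
    rw [hbot, mem_bot, mul_inv_eq_one, mul_inv_eq_iff_eq_mul] at h3
    exact h3
  have h4 := hK3 (K ⊓ N) ⟨inferInstance, hne⟩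
  have h5 : K ⊓ N = K := Subgroup.eq_of_le_of_card_ge inf_le_left h4
  rw [← h5]; exact inf_le_right

theorem fstar_le (P : Sylow p G)
    (hgen : (frattini ↥(P : Subgroup G)).index = p ^ 2) (hcore : Cfsg.pPrimeCore p G = ⊥)
    (hfrat : ((frattini ↥(P : Subgroup G)).map (P : Subgroup G).subtype).normalCore = ⊥)
    (K : Subgroup G) [hKn : K.Normal] (hK : K ≠ ⊥) (hmin : ∀ N : Subgroup G, N.Normal → N ≠ ⊥ → K ≤ N) :
    Cfsg.generalizedFittingSubgroup G ≤ K := by
  have hmin' : ∀ M : Subgroup G, M.Normal → M ≤ K → M = ⊥ ∨ M = K := by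
    intro M hM hMK
    by_cases h : M = ⊥
    · exact Or.inl h
    · exact Or.inr (le_antisymm hMK (hmin M hM h))
  by_cases hab : IsMulCommutative K
  · -- abelian case
    have hKs : Group.IsSolvable K := by
      have : IsMulCommutative K := hab
      have : Group.IsNilpotent K := by
        apply Subgroup.isNilpotent_of_ker_le_center (1 : K →* Unit)
        intro x _
        rw [Subgroup.mem_center_iff]
        intro g
        exact (IsMulCommutative.is_comm).comm g x
      infer_instance
    obtain ⟨q, hq, hKq⟩ := Solv.minimal_normal_isPGroup K hKs hK hmin'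
    have hKp : IsPGroup p K := by
      by_cases hqp : q = p
      · rwa [hqp] at hKq
      · exfalso
        have : Fact q.Prime := ⟨hq⟩
        obtain ⟨k, hk⟩ := IsPGroup.iff_card.1 hKq
        have h1 : (Nat.card K).Coprime p := by
          rw [hk]; exact Nat.Coprime.pow_left _ ((Nat.coprime_primes hq hp.out).2 hqp)
        have h2 := Solv.le_pPrimeCore hKn h1
        rw [hcore, le_bot_iff] at h2
        exact hK h2
    have hKP : K ≤ P := le_of_normal P hKp
    obtain ⟨x, hxP, hx⟩ := exists_gen P hgen K (not_le P hcore hfrat hK)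
    have hKcomm : ∀ a ∈ K, ∀ b ∈ K, a * b = b * a := fun a ha b hb => Solv.comm_of_isMulCommutative hab ha hb
    -- the layer is trivial
    have hlay : Cfsg.layer G = ⊥ := by
      by_contra hE
      have hKE : K ≤ Cfsg.layer G := hmin _ inferInstance hE
      have hEK : ⁅Cfsg.layer G, K⁆ = ⊥ := layer_commute_solvable hKs (by rw [normalizer_eq_top]; exact le_top)
      have hEK' : ∀ a ∈ Cfsg.layer G, ∀ b ∈ K, a * b = b * a := commutator_eq_bot_iff_forall.1 hEK
      have hperf : commutator ↥(Cfsg.layer G) = ⊤ := by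
        apply Subgroup.map_injective (Cfsg.layer G).subtype_injective
        rw [map_subtype_commutator, commutator_layer, ← MonoidHom.range_eq_map, range_subtype]
      apply hK
      rw [eq_bot_iff]
      intro z hz
      have h1 := center_inf (sylowInf P (Cfsg.layer G)) (z := ⟨z, hKE hz⟩) (by
        rintro ⟨a, haE⟩ haP ⟨b, hbE⟩ hbP
        rw [sylowInf_coe, mem_subgroupOf] at haP hbP
        apply Subtype.ext
        change a * b = b * a
        obtain ⟨u, hu, k, hk, hak⟩ := mem_sup_of_normal_right.1 (hx haP)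
        obtain ⟨v, hv, l, hl, hbl⟩ := mem_sup_of_normal_right.1 (hx hbP)
        replace hak : u * k = a := hak
        replace hbl : v * l = b := hbl
        have huE : u ∈ Cfsg.layer G := by
          have : u = a * k⁻¹ := by rw [← hak, mul_inv_cancel_right]
          rw [this]; exact mul_mem haE (inv_mem (hKE hk))
        have hvE : v ∈ Cfsg.layer G := by
          have : v = b * l⁻¹ := by rw [← hbl, mul_inv_cancel_right]
          rw [this]; exact mul_mem hbE (inv_mem (hKE hl))
        have huv : u * v = v * u := by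
          obtain ⟨i, rfl⟩ := mem_zpowers_iff.1 hu
          obtain ⟨j, rfl⟩ := mem_zpowers_iff.1 hv
          rw [← zpow_add, ← zpow_add, add_comm]
        rw [← hak, ← hbl]
        calc u * k * (v * l) = u * (k * v) * l := by group
          _ = u * (v * k) * l := by rw [hEK' v hvE k hk]
          _ = (u * v) * (k * l) := by group
          _ = (v * u) * (l * k) := by rw [huv, hKcomm k hk l hl]
          _ = v * (u * l) * k := by group
          _ = v * (l * u) * k := by rw [hEK' u huE l hl]
          _ = v * l * (u * k) := by group) hperf (by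
        rw [mem_center_iff]
        intro g
        exact Subtype.ext (hEK' g g.2 z hz)) (by
        rw [sylowInf_coe, mem_subgroupOf]
        exact hKP hz)
      exact congrArg Subtype.val h1
    -- the Fitting subgroup
    have hF : Cfsg.generalizedFittingSubgroup G = Cfsg.fittingSubgroup G := by
      rw [Cfsg.generalizedFittingSubgroup, hlay, bot_sup_eq]
    rw [hF]
    set O := Cfsg.fittingSubgroup G with hO
    have hOn : O.Normal := by rw [← hF]; infer_instance
    have hOp : IsPGroup p O := (Cfsg.Agent.H49.pCore_isPGroup p).to_le (Cfsg.Agent.Bal.fitting_le_pCore hcore)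
    have hOP : O ≤ P := le_of_normal P hOp
    have hFr : Cfsg.Agent.H47.Fr O = ⊥ := by
      have h1 : Cfsg.Agent.H47.Fr O ≤ Cfsg.Agent.H47.Fr (P : Subgroup G) :=
        Cfsg.Agent.H47.Fr_mono_normal hOP (by rw [normalizer_eq_top]; exact le_top)
      have h2 : (Cfsg.Agent.H47.Fr O).Normal := by
        unfold Cfsg.Agent.H47.Fr; infer_instance
      have h3 := Subgroup.normal_le_normalCore.2 h1
      have h4 : (Cfsg.Agent.H47.Fr (P : Subgroup G)).normalCore = ⊥ := hfrat
      rwa [h4, le_bot_iff] at h3
    have hOpow : ∀ a ∈ O, a ^ p = 1 := by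
      intro a ha
      have := Cfsg.Agent.H47.Fr_pow hOp ha
      rwa [hFr, mem_bot] at this
    have hOcomm : ∀ a ∈ O, ∀ b ∈ O, a * b = b * a := by
      have := Cfsg.Agent.H47.Fr_comm hOp
      rw [hFr, le_bot_iff] at this
      exact commutator_eq_bot_iff_forall.1 this
    have hKO : K ≤ O := by
      apply hmin O hOn
      intro h
      have h1 : K ≤ O := le_sSup ⟨hKn, by
        apply Subgroup.isNilpotent_of_ker_le_center (1 : K →* Unit)
        intro x _
        rw [Subgroup.mem_center_iff]
        intro g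
        exact Subtype.ext (hKcomm g g.2 x x.2)⟩
      rw [h, le_bot_iff] at h1
      exact hK h1
    by_contra hOK
    obtain ⟨a, haO, haK⟩ := SetLike.not_le_iff_exists.1 hOK
    obtain ⟨u, hu, k, hk, hak⟩ := mem_sup_of_normal_right.1 (hx (hOP haO))
    have huO : u ∈ O := by
      have : u = a * k⁻¹ := by rw [← hak, mul_inv_cancel_right]
      rw [this]; exact mul_mem haO (inv_mem (hKO hk))
    have huK : u ∉ K := by
      intro h; apply haK; rw [← hak]; exact mul_mem h hk
    have hu1 : u ≠ 1 := fun h => huK (by rw [h]; exact one_mem _)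
    have huo : orderOf u = p := orderOf_eq_prime (hOpow u huO) hu1
    have hdis : zpowers x ⊓ K = ⊥ := by
      by_contra hne
      obtain ⟨⟨y, hy⟩, hy1⟩ := (ne_bot_iff_exists_ne_one).1 hne
      have hyx : y ∈ zpowers x := hy.1
      have hyK : y ∈ K := hy.2
      have hy1' : y ≠ 1 := fun h => hy1 (Subtype.ext h)
      have hyo : orderOf y = p := orderOf_eq_prime (hOpow y (hKO hyK)) hy1'
      have h1 := Cfsg.Agent.H65.cyclic_le_of_card_dvd (C := zpowers x) (H := zpowers ⟨u, hu⟩) (K := zpowers ⟨y, hyx⟩)
        (by rw [Nat.card_zpowers, Nat.card_zpowers, ← orderOf_coe, ← orderOf_coe]; exact dvd_of_eq (huo.trans hyo.symm))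
      have h2 := h1 (mem_zpowers _)
      obtain ⟨j, hj⟩ := h2
      have h3 : y ^ j = u := congrArg Subtype.val hj
      exact huK (by rw [← h3]; exact zpow_mem hyK j)
    have : IsMulCommutative K := hab
    obtain ⟨H, hH⟩ := Cfsg.Agent.Hall.gaschutz_exists K (P : Subgroup G) hKP (by
      obtain ⟨k, hk⟩ := IsPGroup.iff_card.1 hKp
      rw [hk]
      exact Nat.Coprime.pow_left _ ((Nat.Prime.coprime_iff_not_dvd hp.out).2 P.not_dvd_index)) (zpowers x)
      (by rwa [zpowers_le]) hdis (le_antisymm (sup_le hKP (by rwa [zpowers_le])) (by rw [sup_comm]; exact hx))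
    have hKH : K ⊔ H = ⊤ := hH.sup_eq_top
    have hKH' : K ⊓ H = ⊥ := hH.disjoint.eq_bot
    have hOHn : (O ⊓ H).Normal := by
      rw [← normalizer_eq_top_iff, eq_top_iff, ← hKH]
      refine sup_le ?_ ?_
      · intro g hg
        rw [mem_normalizer_iff]
        intro y
        have hgO := hKO hg
        constructor
        · rintro ⟨h1, h2⟩
          have : g * y * g⁻¹ = y := by rw [hOcomm g hgO y h1, mul_inv_cancel_right]
          rw [this]; exact ⟨h1, h2⟩
        · rintro ⟨h1, h2⟩
          have h3 : y ∈ O := by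
            have := Normal.conj_mem hOn _ h1 g⁻¹
            simpa [mul_assoc] using this
          have : g * y * g⁻¹ = y := by rw [hOcomm g hgO y h3, mul_inv_cancel_right]
          rw [this] at h1 h2; exact ⟨h1, h2⟩
      · refine le_trans (le_inf (by rw [normalizer_eq_top (H := O)]; exact le_top) le_normalizer)
          (inf_normalizer_le_normalizer_inf)
    have hne : O ⊓ H ≠ ⊥ := by
      intro hbot
      have h1 : a ∈ K ⊔ H := by rw [hKH]; trivial
      obtain ⟨k', hk', h', hh', hkh⟩ := mem_sup_of_normal_left.1 h1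
      have h1' : h' ∈ O := by
        have h1'' : h' = k'⁻¹ * a := by rw [← hkh, inv_mul_cancel_left]
        rw [h1'']; exact mul_mem (inv_mem (hKO hk')) haO
      have h2 : h' ∈ O ⊓ H := ⟨h1', hh'⟩
      rw [hbot, mem_bot] at h2
      rw [h2, mul_one] at hkh
      exact haK (hkh ▸ hk')
    have h3 := hmin _ hOHn hne
    apply hK
    rw [eq_bot_iff, ← hKH']
    exact le_inf le_rfl (h3.trans inf_le_right)
  · -- nonabelian case
    have hC : centralizer (K : Set G) = ⊥ := by
      by_contra h
      have h1 : K ≤ centralizer (K : Set G) := hmin _ inferInstance h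
      apply hab
      refine ⟨⟨fun a b => Subtype.ext ?_⟩⟩
      exact (mem_centralizer_iff.1 (h1 a.2) b b.2).symm
    rw [Cfsg.generalizedFittingSubgroup]
    refine sup_le ?_ ?_
    · rw [layer_le_iff]
      intro L hL
      rcases component_le_or_commute hL hKn.isSubnormal with h | h
      · exact h
      · exfalso
        rw [commutator_eq_bot_iff_le_centralizer, hC, le_bot_iff] at h
        exact ne_bot hL.2 h
    · by_cases h : Cfsg.fittingSubgroup G = ⊥
      · rw [h]; exact bot_le
      · exfalso
        have hFn : (Cfsg.fittingSubgroup G).Normal := by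
          apply Subgroup.sSup_normal
          rintro N ⟨hN, -⟩
          exact hN
        have h1 : K ≤ Cfsg.fittingSubgroup G := hmin _ hFn h
        have h2 : Group.IsSolvable K := by
          have := fitting_isSolvable (G := G)
          exact Group.isSolvable_of_isSolvable_injective (f := Subgroup.inclusion h1) (Subgroup.inclusion_injective h1)
        exact hab (Solv.minimal_normal_of_solvable K h2 hK hmin').1

end General


/-- Let p be a prime and G a finite group with a non-commutative Sylow p-subgroup P whose Frattini subgroup has index p² in P (P is generated by two elements). Suppose G has no nontrivial normal subgroup of order prime to p and the Frattini subgroup of P contains no nontrivial normal subgroup of G. Then the generalized Fitting subgroup F*(G) is the unique minimal normal subgroup of G, the image of P in G/F*(G) is cyclic, and if F*(G) is not commutative then P permutes the components of G transitively by conjugation. -/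
theorem result {G : Type*} [Group G] [Finite G] (p : ℕ) [Fact p.Prime] (P : Sylow p G) (hna : ¬ IsMulCommutative (P : Subgroup G)) (hgen : (frattini ↥(P : Subgroup G)).index = p ^ 2) (hcore : Cfsg.pPrimeCore p G = ⊥) (hfrat : ((frattini ↥(P : Subgroup G)).map (P : Subgroup G).subtype).normalCore = ⊥) [hFn : (Cfsg.generalizedFittingSubgroup G).Normal] :
    (Cfsg.generalizedFittingSubgroup G ≠ ⊥ ∧ ∀ K : Subgroup G, K.Normal → K ≠ ⊥ → Cfsg.generalizedFittingSubgroup G ≤ K) ∧
      IsCyclic ↥((P : Subgroup G).map (QuotientGroup.mk' (Cfsg.generalizedFittingSubgroup G))) ∧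
      (¬ IsMulCommutative (Cfsg.generalizedFittingSubgroup G) → ∀ K L : Subgroup G, Cfsg.IsComponent K → Cfsg.IsComponent L → ∃ x ∈ (P : Subgroup G), L = K.map (MulAut.conj x).toMonoidHom) := by
  obtain ⟨K, hKn, hK, hmin⟩ := exists_min P hna hgen hcore hfrat
  have hFK := fstar_le P hgen hcore hfrat K hK hmin
  have hF1 : Cfsg.generalizedFittingSubgroup G ≠ ⊥ := by
    intro h
    have h1 := centralizer_generalizedFitting_le (G := G)
    rw [h] at h1
    have h2 : centralizer ((⊥ : Subgroup G) : Set G) = ⊤ := by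
      rw [eq_top_iff]; intro g _
      rw [mem_centralizer_iff]
      rintro x hx
      have : x = 1 := hx
      rw [this]; simp
    rw [h2, top_le_iff] at h1
    exact hK (le_bot_iff.1 (by rw [h1]; exact le_top))
  obtain ⟨x, hxP, hx⟩ := exists_gen P hgen _ (not_le P hcore hfrat hF1)
  refine ⟨⟨hF1, fun N hN hN1 => hFK.trans (hmin N hN hN1)⟩, ?_, ?_⟩
  · have h1 : (P : Subgroup G).map (QuotientGroup.mk' (Cfsg.generalizedFittingSubgroup G)) =
        zpowers (QuotientGroup.mk' (Cfsg.generalizedFittingSubgroup G) x) := by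
      apply le_antisymm
      · have h2 := Subgroup.map_mono (f := QuotientGroup.mk' (Cfsg.generalizedFittingSubgroup G)) hx
        rwa [Subgroup.map_sup, MonoidHom.map_zpowers, QuotientGroup.map_mk'_self, sup_bot_eq] at h2
      · rw [zpowers_le]
        exact mem_map_of_mem _ hxP
    rw [h1]
    infer_instance
  · intro hFna A B hA hB
    by_contra hcon
    push Not at hcon
    apply hna
    have hC : centralizer (Cfsg.generalizedFittingSubgroup G : Set G) = ⊥ := by
      by_contra h
      have h1 : Cfsg.generalizedFittingSubgroup G ≤ centralizer (Cfsg.generalizedFittingSubgroup G : Set G) :=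
        hFK.trans (hmin _ inferInstance h)
      apply hFna
      refine ⟨⟨fun a b => Subtype.ext ?_⟩⟩
      exact (mem_centralizer_iff.1 (h1 a.2) b b.2).symm
    have hnpc : ∀ A : Subgroup G, Cfsg.IsComponent A → ¬ Cfsg.HasNormalPComplement p (orb (P : Subgroup G) A) := by
      intro A hA h
      refine component_not_npc hcore hA ?_
      exact HasNPC.of_injective h (Subgroup.inclusion (self_le_orb (P : Subgroup G) A)) (Subgroup.inclusion_injective _)
    have hcomm : ∀ C : Subgroup G, Cfsg.IsComponent C → (∀ x ∈ (P : Subgroup G), C ≠ A.map (MulAut.conj x).toMonoidHom) →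
        orb (P : Subgroup G) A ≤ centralizer (C : Set G) := by
      intro C hC hCA
      rw [orb_le_iff]
      intro y hy
      rw [← commutator_eq_bot_iff_le_centralizer]
      exact component_commute ((isComponent_conj y).2 hA) hC (hCA y hy).symm
    refine ⟨⟨fun a b => Subtype.ext ?_⟩⟩
    have h1 := comm_mem_of_normalized P hgen (orb (P : Subgroup G) A) (le_normalizer_orb _ _) (hnpc A hA) a.2 b.2
    have h2 := comm_mem_of_normalized P hgen (orb (P : Subgroup G) B) (le_normalizer_orb _ _) (hnpc B hB) a.2 b.2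
    set c := (a : G) * b * (a : G)⁻¹ * (b : G)⁻¹ with hc
    have h3 : c ∈ centralizer (Cfsg.generalizedFittingSubgroup G : Set G) := by
      have h4 : Cfsg.generalizedFittingSubgroup G ≤ centralizer ({c} : Set G) := by
        rw [Cfsg.generalizedFittingSubgroup]
        refine sup_le ?_ ?_
        · rw [layer_le_iff]
          intro C hCc
          by_cases hCA : ∀ x ∈ (P : Subgroup G), C ≠ A.map (MulAut.conj x).toMonoidHom
          · intro y hy
            rw [mem_centralizer_singleton_iff]
            exact mem_centralizer_iff.1 (hcomm C hCc hCA h1) y hy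
          · push Not at hCA
            obtain ⟨x, hx, rfl⟩ := hCA
            -- `B`-orbit commutes with this component
            have h5 : orb (P : Subgroup G) B ≤ centralizer ((A.map (MulAut.conj x).toMonoidHom : Subgroup G) : Set G) := by
              rw [orb_le_iff]
              intro y hy
              rw [← commutator_eq_bot_iff_le_centralizer]
              refine component_commute ((isComponent_conj y).2 hB) hCc ?_
              intro heq
              apply hcon (y⁻¹ * x) (mul_mem (inv_mem hy) hx)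
              have h6 := congrArg (Subgroup.map (MulAut.conj y⁻¹).toMonoidHom) heq
              rw [← H21.map_conj_mul, ← H21.map_conj_mul, inv_mul_cancel, H21.map_conj_one] at h6
              exact h6
            intro y hy
            rw [mem_centralizer_singleton_iff]
            exact mem_centralizer_iff.1 (h5 h2) y hy
        · intro y hy
          rw [mem_centralizer_singleton_iff]
          exact (commutator_eq_bot_iff_forall.1 (layer_commute_fitting (G := G)) c (orb_le_layer hA h1) y hy).symm
      rw [mem_centralizer_iff]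
      intro y hy
      exact mem_centralizer_singleton_iff.1 (h4 hy)
    rw [hC, mem_bot, hc, mul_inv_eq_one, mul_inv_eq_iff_eq_mul] at h3
    exact h3

end Cfsg.Agent.S4172
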