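import Cfsg.Statements.S4248
import Cfsg.Agent.Ptn.SymFour
import Cfsg.Agent.Ptn.CaseTwoB
import Cfsg.Agent.Ptn.CaseOneB
import Cfsg.Agent.H10.MinNormal
import Cfsg.Agent.Solv.Core

set_option autoImplicit false
open Cfsg

namespace Cfsg.Agent.S4248

open Cfsg.Agent.Ptn

theorem pgl_even {F : Type} [Field F] [Fintype F] (hF : ¬ Odd (Fintype.card F)) :
    Nonempty (Matrix.ProjGenLinGroup (Fin 2) F ≃* Matrix.ProjectiveSpecialLinearGroup (Fin 2) F) := by
  classical
  refine ⟨(MulEquiv.ofBijective Matrix.ProjectiveSpecialLinearGroup.toPGL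
    ⟨Matrix.ProjectiveSpecialLinearGroup.toPGL_injective,
    Matrix.ProjectiveSpecialLinearGroup.toPGL_surj_of_roots fun r => ?_⟩).symm⟩
  have h1 : Fintype.card Fˣ = Fintype.card F - 1 := Fintype.card_units F
  have h2 : 1 < Fintype.card F := Fintype.one_lt_card
  rw [Nat.not_odd_iff_even] at hF
  obtain ⟨m, hm⟩ := hF
  refine ⟨r ^ m, ?_⟩
  rw [Fintype.card_fin, ← pow_mul, show m * 2 = Fintype.card Fˣ + 1 by omega, pow_succ, pow_card_eq_one, one_mul]

theorem core {G : Type*} [Group G] [Finite G] [Nontrivial G] {X : G → Subgroup G} (h : NP X) :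
    Nonempty (G ≃* Equiv.Perm (Fin 4)) ∨
    (∃ p : ℕ, p.Prime ∧ Subgroup.closure {g : G | g ^ p ≠ 1} ≠ ⊤) ∨
    (∃ H : Subgroup G, Cfsg.IsFrobeniusComplement H) ∨
    (∃ (F : Type) (_ : Field F) (_ : Fintype F), 4 ≤ Fintype.card F ∧
        Nonempty (G ≃* Matrix.ProjectiveSpecialLinearGroup (Fin 2) F)) ∨
    (∃ (F : Type) (_ : Field F) (_ : Fintype F), 5 ≤ Fintype.card F ∧ Odd (Fintype.card F) ∧
        Nonempty (G ≃* (GL (Fin 2) F ⧸ Subgroup.center (GL (Fin 2) F)))) ∨
    Cfsg.Lie.IsoSuzuki G := by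
  classical
  by_cases hself : ∃ g : G, g ≠ 1 ∧ ∀ k, (∀ x ∈ X g, k * x * k⁻¹ ∈ X g) → k ∈ X g
  · obtain ⟨g, hg, hk⟩ := hself
    exact Or.inr (Or.inr (Or.inl ⟨_, h.frob_of_self hg hk⟩))
  push Not at hself
  have hnil : ∀ g : G, g ≠ 1 → Group.IsNilpotent (X g) := by
    intro g hg
    obtain ⟨k, hk1, hk2⟩ := hself g hg
    exact h.nilp_of_norm hg hk1 hk2
  by_cases hnorm : ∃ g : G, g ≠ 1 ∧ (X g).Normal
  · obtain ⟨g, hg, hN⟩ := hnorm
    rcases h.case_normal hg hN with h1 | h1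
    · exact Or.inr (Or.inl h1)
    · exact Or.inr (Or.inr (Or.inl h1))
  by_cases hsol : ∃ N : Subgroup G, N.Normal ∧ Group.IsSolvable ↥N ∧ N ≠ ⊥
  · obtain ⟨N, hN, hNs, hN1⟩ := hsol
    obtain ⟨M, hMn, hMN, hM1, hmin⟩ := Cfsg.Agent.Solv.exists_minimal_normal N hN hN1
    have hMs : Group.IsSolvable ↥M :=
      Group.isSolvable_of_isSolvable_injective (f := Subgroup.inclusion hMN) (Subgroup.inclusion_injective hMN)
    obtain ⟨p, hp, hel, -, -⟩ := Cfsg.Agent.H10.IsMinNormal.elementary (M := M) ⟨hMn, hM1, hmin⟩ hMs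
    have hcomm : ∀ a ∈ M, ∀ b ∈ M, a * b = b * a := by
      intro a ha b hb
      have := hel.1
      exact congrArg Subtype.val (mul_comm' (⟨a, ha⟩ : M) ⟨b, hb⟩)
    have A : NP.AM X M p :=
      { np := h
        prime := hp
        normal := hMn
        ne_bot := hM1
        pow := hel.2
        comm := hcomm
        nle := by
          intro m hm hm1 hle
          apply hnorm
          refine ⟨m, hm1, ⟨fun x hx g => ?_⟩⟩
          exact h.norm_of hm1 (h.mem m) hm1 (hle (hMn.conj_mem m hm g)) hx }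
    have hmin' : ∀ K : Subgroup G, K.Normal → K ≤ M → K ≠ ⊥ → K = M := fun K hK hKM hK1 =>
      (hmin K hK hKM).resolve_left hK1
    by_cases hE : ∀ y : G, (∃ j, y ^ p ^ j = 1) → y ^ p = 1
    · rcases A.case_E hmin' hE with h1 | h1
      · exact Or.inr (Or.inl h1)
      · exact Or.inr (Or.inr (Or.inl h1))
    · push Not at hE
      obtain ⟨y, hy, hy2⟩ := hE
      by_cases hp2 : p = 2
      · subst hp2
        exact Or.inl (A.case_S4 hmin' hy hy2)
      · exact absurd (A.odd_E hp2 y hy) hy2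
  · have hns : ∀ N : Subgroup G, N.Normal → Group.IsSolvable ↥N → N = ⊥ := by
      intro N hN hNs
      by_contra hne
      exact hsol ⟨N, hN, hNs, hne⟩
    have hev : 2 ∣ Nat.card G := by
      by_contra hodd
      have h1 : Odd (Nat.card G) := by
        rw [← Nat.not_even_iff_odd, even_iff_two_dvd]; exact hodd
      have h2 := Cfsg.Agent.FT.solvable_of_odd h1
      have h3 := hns ⊤ inferInstance (Group.isSolvable_of_isSolvable_injective
        (f := (⊤ : Subgroup G).subtype) (Subgroup.subtype_injective _))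
      exact top_ne_bot h3
    by_cases hout : ∀ t : G, orderOf t = 2 → ∃ c, c * t = t * c ∧ c ∉ X t
    · obtain ⟨F, i1, i2, hc, h1⟩ := caseTwo h hout hnil hns
      rcases h1 with h1 | ⟨⟨e⟩⟩
      · exact Or.inr (Or.inr (Or.inr (Or.inl ⟨F, i1, i2, by omega, h1⟩)))
      · by_cases hF : Odd (Fintype.card F)
        · refine Or.inr (Or.inr (Or.inr (Or.inr (Or.inl ⟨F, i1, i2, ?_, hF, ⟨e⟩⟩))))
          obtain ⟨k, hk⟩ := hF
          omega
        · obtain ⟨f⟩ := pgl_even hF
          exact Or.inr (Or.inr (Or.inr (Or.inl ⟨F, i1, i2, by omega, ⟨e.trans f⟩⟩)))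
    · push Not at hout
      obtain ⟨z, hz, hC⟩ := hout
      have C : C1 X z :=
        { np := h
          hz := hz
          hC := fun t ht c hc => all_in h hnil hz hC ht hc
          hnil := hnil
          ns := hns }
      rcases C.main with h1 | h1
      · exact Or.inr (Or.inr (Or.inr (Or.inl h1)))
      · exact Or.inr (Or.inr (Or.inr (Or.inr (Or.inr h1))))

/-- Let G be a finite group admitting a nontrivial partition: a family of at least two nontrivial subgroups such that every non-identity element of G lies in exactly one member. Then G is isomorphic to the symmetric group of degree 4; or, for some prime p, the Hughes subgroup generated by the elements g with g^p ≠ 1 is proper (G a p-group or a group of Hughes–Thompson type); or G is a Frobenius group; or G is isomorphic to PSL(2, q) with q ≥ 4, to PGL(2, q) with q ≥ 5 odd, or to a Suzuki group. -/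
theorem result {G : Type*} [Group G] [Finite G] (S : Set (Subgroup G)) (hS2 : ∃ H ∈ S, ∃ K ∈ S, H ≠ K)
    (hS1 : ∀ H ∈ S, H ≠ ⊥) (hpart : ∀ g : G, g ≠ 1 → ∃! H : Subgroup G, H ∈ S ∧ g ∈ H) :
    Nonempty (G ≃* Equiv.Perm (Fin 4)) ∨
    (∃ p : ℕ, p.Prime ∧ Subgroup.closure {g : G | g ^ p ≠ 1} ≠ ⊤) ∨
    (∃ H : Subgroup G, Cfsg.IsFrobeniusComplement H) ∨
    (∃ (F : Type) (_ : Field F) (_ : Fintype F), 4 ≤ Fintype.card F ∧
        Nonempty (G ≃* Matrix.ProjectiveSpecialLinearGroup (Fin 2) F)) ∨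
    (∃ (F : Type) (_ : Field F) (_ : Fintype F), 5 ≤ Fintype.card F ∧ Odd (Fintype.card F) ∧
        Nonempty (G ≃* (GL (Fin 2) F ⧸ Subgroup.center (GL (Fin 2) F)))) ∨
    Cfsg.Lie.IsoSuzuki G := by
  have hnt : Nontrivial G := by
    obtain ⟨H, hH, -⟩ := hS2
    obtain ⟨x, -, hx1⟩ := (Subgroup.bot_or_exists_ne_one H).resolve_left (hS1 H hH)
    exact ⟨⟨x, 1, hx1⟩⟩
  exact core (np_XX (hpart := hpart) hS2 hS1)

end Cfsg.Agent.S4248
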