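import Cfsg.Statements.S4347
import Cfsg.Agent.H72.Basic

set_option autoImplicit false
open Cfsg

namespace Cfsg.Agent.S4347

/-- Let G be a finite group and p a prime. Say a Sylow p-subgroup Q is redundant when every element of p-power order lies in some Sylow p-subgroup other than Q. Then G has no redundant Sylow p-subgroup if and only if some element of p-power order lies in exactly one Sylow p-subgroup. -/
theorem result {G : Type*} [Group G] [Finite G]
    (p : ℕ) [Fact p.Prime] :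
    (¬ ∃ Q : Sylow p G, ∀ x : G, (∃ k : ℕ, orderOf x = p ^ k) → ∃ P : Sylow p G, P ≠ Q ∧ x ∈ P) ↔
      ∃ x : G, (∃ k : ℕ, orderOf x = p ^ k) ∧ ∃! P : Sylow p G, x ∈ P := by
  constructor
  · intro h
    push Not at h
    obtain ⟨Q⟩ : Nonempty (Sylow p G) := inferInstance
    obtain ⟨x, hx, hxQ⟩ := h Q
    obtain ⟨P, hP⟩ := (H72.isPGroup_zpowers_of_orderOf hx).exists_le_sylow
    have hxP : x ∈ P := hP (Subgroup.mem_zpowers x)
    have hall : ∀ R : Sylow p G, x ∈ R → R = Q := fun R hR => by_contra fun hne => hxQ R hne hR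
    exact ⟨x, hx, P, hxP, fun R hR => (hall R hR).trans (hall P hxP).symm⟩
  · rintro ⟨x, ⟨k, hk⟩, P, hxP, huniq⟩ ⟨Q, hQ⟩
    obtain ⟨g, hg⟩ := MulAction.exists_smul_eq G P Q
    have ho : orderOf (g * x * g⁻¹) = p ^ k := by
      rw [← hk]; exact orderOf_injective (MulAut.conj g).toMonoidHom (MulAut.conj g).injective x
    obtain ⟨R, hRQ, hxR⟩ := hQ (g * x * g⁻¹) ⟨k, ho⟩
    have h1 : x ∈ g⁻¹ • R := by
      rw [H72.mem_smul_sylow_iff, inv_inv]; exact hxR
    have h2 : g⁻¹ • R = P := huniq _ h1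
    apply hRQ
    rw [← hg, ← h2, smul_inv_smul]

end Cfsg.Agent.S4347
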