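import Cfsg.Statements.S4348
import Cfsg.Agent.H72.Basic

set_option autoImplicit false
open Cfsg

namespace Cfsg.Agent.S4348

/-- Let G be a finite group, p a prime and P a Sylow p-subgroup of G, and let O_p(G) be the largest normal p-subgroup of G. If P/O_p(G) is cyclic, then some element of p-power order of G lies in exactly one Sylow p-subgroup. -/
theorem result {G : Type*} [Group G] [Finite G]
    (p : ℕ) [Fact p.Prime] (P : Sylow p G)
    [hn : ((Cfsg.pCore p G).subgroupOf (P : Subgroup G)).Normal]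
    (hc : IsCyclic ((P : Subgroup G) ⧸ (Cfsg.pCore p G).subgroupOf (P : Subgroup G))) :
    ∃ x : G, (∃ k : ℕ, orderOf x = p ^ k) ∧ ∃! Q : Sylow p G, x ∈ Q := by
  obtain ⟨⟨xb, hxb⟩⟩ := hc
  obtain ⟨x, rfl⟩ := QuotientGroup.mk'_surjective _ xb
  have hx : (x : G) ∈ P := x.2
  refine ⟨x, H72.exists_orderOf_of_mem_sylow P hx, P, hx, ?_⟩
  intro Q hQ
  have hle : (P : Subgroup G) ≤ Q := by
    intro u hu
    obtain ⟨k, hk⟩ := hxb (QuotientGroup.mk' _ ⟨u, hu⟩)
    have hk' : QuotientGroup.mk' ((Cfsg.pCore p G).subgroupOf (P : Subgroup G)) (x ^ k) =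
        QuotientGroup.mk' ((Cfsg.pCore p G).subgroupOf (P : Subgroup G)) ⟨u, hu⟩ := by
      rw [map_zpow]; exact hk
    have h1 := QuotientGroup.eq.1 hk'
    rw [Subgroup.mem_subgroupOf] at h1
    have h2 : ((x : G) ^ k)⁻¹ * u ∈ (Q : Subgroup G) := H72.pCore_le_sylow Q h1
    have h3 := (Q : Subgroup G).mul_mem ((Q : Subgroup G).zpow_mem hQ k) h2
    rwa [mul_inv_cancel_left] at h3
  exact Sylow.ext (P.is_maximal' Q.isPGroup' hle)

end Cfsg.Agent.S4348
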