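import Cfsg.Statements.S4349

set_option autoImplicit false
open Cfsg

namespace Cfsg.Agent.S4349

open Equiv Equiv.Perm

/-- The group of permutations moving every point at most inside its `σ`-orbit. -/
def matchGrp {α : Type} (σ : Equiv.Perm α) (hσ : ∀ y, σ (σ y) = y) : Subgroup (Equiv.Perm α) where
  carrier := {g | ∀ y, g y = y ∨ g y = σ y}
  one_mem' := fun y => Or.inl rfl
  mul_mem' := by
    intro g h hg hh y
    rw [Equiv.Perm.mul_apply]
    rcases hh y with h1 | h1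
    · rw [h1]; exact hg y
    · rw [h1]
      rcases hg (σ y) with h2 | h2
      · exact Or.inr h2
      · rw [hσ] at h2; exact Or.inl h2
  inv_mem' := by
    intro g hg y
    obtain ⟨z, rfl⟩ := g.surjective y
    rw [Equiv.Perm.inv_def, Equiv.symm_apply_apply]
    rcases hg z with h1 | h1
    · left; rw [h1]
    · right; rw [h1, hσ]

lemma mem_matchGrp {α : Type} {σ : Equiv.Perm α} {hσ : ∀ y, σ (σ y) = y} {g : Equiv.Perm α} :
    g ∈ matchGrp σ hσ ↔ ∀ y, g y = y ∨ g y = σ y := Iff.rfl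

lemma matchGrp_isPGroup {α : Type} (σ : Equiv.Perm α) (hσ : ∀ y, σ (σ y) = y) :
    IsPGroup 2 (matchGrp σ hσ) := by
  rintro ⟨g, hg⟩
  refine ⟨1, ?_⟩
  apply Subtype.ext
  show g ^ (2 ^ 1) = 1
  rw [pow_one, pow_two]
  ext y
  show g (g y) = y
  rcases hg y with h1 | h1
  · rw [h1, h1]
  · rcases hg (σ y) with h2 | h2
    · have : g (σ y) = g y := by rw [h2, h1]
      have h3 := g.injective this
      rw [h1, h3, h1, h3]
    · rw [h1, h2, hσ]

lemma matchGrp_conj {α : Type} (σ : Equiv.Perm α) (hσ : ∀ y, σ (σ y) = y) (c : Equiv.Perm α)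
    (hc : ∀ y, c (σ y) = σ (c y)) (h : Equiv.Perm α) (hh : h ∈ matchGrp σ hσ) :
    c * h * c⁻¹ ∈ matchGrp σ hσ := by
  intro y
  obtain ⟨z, rfl⟩ := c.surjective y
  have e : (c * h * c⁻¹) (c z) = c (h z) := by simp
  rw [e]
  rcases hh z with h1 | h1
  · left; rw [h1]
  · right; rw [h1, hc]

lemma le_normalizer_matchGrp {α : Type} (σ : Equiv.Perm α) (hσ : ∀ y, σ (σ y) = y)
    (c : Equiv.Perm α) (hc : ∀ y, c (σ y) = σ (c y)) :
    c ∈ Subgroup.normalizer (matchGrp σ hσ : Set (Equiv.Perm α)) := by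
  rw [Subgroup.mem_normalizer_iff]
  intro h
  constructor
  · exact matchGrp_conj σ hσ c hc h
  · intro hh
    have hc' : ∀ y, c⁻¹ (σ y) = σ (c⁻¹ y) := by
      intro y
      obtain ⟨z, rfl⟩ := c.surjective y
      rw [← hc, Equiv.Perm.inv_def, Equiv.symm_apply_apply, Equiv.symm_apply_apply]
    have := matchGrp_conj σ hσ c⁻¹ hc' _ hh
    have e : c⁻¹ * (c * h * c⁻¹) * c⁻¹⁻¹ = h := by group
    rwa [e] at this

lemma per_iff {α : Type} (x : Equiv.Perm α) (y : α) (n : ℕ) :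
    (x ^ n) y = y ↔ MulAction.period x y ∣ n := by
  rw [← MulAction.pow_smul_eq_iff_period_dvd]; rfl

lemma zper_iff {α : Type} (x : Equiv.Perm α) (y : α) (n : ℤ) :
    (x ^ n) y = y ↔ (MulAction.period x y : ℤ) ∣ n := by
  rw [← MulAction.zpow_smul_eq_iff_period_dvd]; rfl

/-- an element of 2-power order: periods are powers of 2. -/
lemma per_pow {α : Type} (x : Equiv.Perm α) (hx : ∃ k : ℕ, orderOf x = 2 ^ k) (y : α) :
    ∃ k : ℕ, MulAction.period x y = 2 ^ k := by
  obtain ⟨k, hk⟩ := hx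
  have h : MulAction.period x y ∣ 2 ^ k := by
    rw [← per_iff, ← hk, pow_orderOf_eq_one]; rfl
  obtain ⟨j, _, hj⟩ := (Nat.dvd_prime_pow Nat.prime_two).1 h
  exact ⟨j, hj⟩

lemma per_pos {α : Type} (x : Equiv.Perm α) (hx : ∃ k : ℕ, orderOf x = 2 ^ k) (y : α)
    (hy : x y ≠ y) : ∃ k : ℕ, MulAction.period x y = 2 ^ (k + 1) := by
  obtain ⟨k, hk⟩ := per_pow x hx y
  rcases k with _ | k
  · exfalso; apply hy
    have := (per_iff x y 1).2 (by rw [hk]; simp)
    simpa using this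
  · exact ⟨k, hk⟩

/-! ### the direct direction -/

section direct

variable {α : Type} [Fintype α] [DecidableEq α]

lemma mem_of_match (P : Sylow 2 (Equiv.Perm α)) (x : Equiv.Perm α)
    (hx : ∃ k : ℕ, orderOf x = 2 ^ k)
    (hP : ∀ Q : Sylow 2 (Equiv.Perm α), x ∈ Q → Q = P) (σ : Equiv.Perm α)
    (hσ : ∀ y, σ (σ y) = y) (hc : ∀ y, x (σ y) = σ (x y)) (y : α) : Equiv.swap y (σ y) ∈ P := by
  have h1 : IsPGroup 2 (Subgroup.zpowers x) := by
    obtain ⟨k, hk⟩ := hx
    apply IsPGroup.of_card (n := k)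
    rw [Nat.card_zpowers, hk]
  have h2 : Subgroup.zpowers x ≤ Subgroup.normalizer (matchGrp σ hσ : Set (Equiv.Perm α)) := by
    rw [Subgroup.zpowers_le]
    exact le_normalizer_matchGrp σ hσ x hc
  have h3 := IsPGroup.to_sup_of_normal_right' h1 (matchGrp_isPGroup σ hσ) h2
  obtain ⟨Q, hQ⟩ := h3.exists_le_sylow
  have hxQ : x ∈ Q := hQ (Subgroup.mem_sup_left (Subgroup.mem_zpowers x))
  rw [← hP Q hxQ]
  apply hQ
  apply Subgroup.mem_sup_right
  intro z
  by_cases hz : z = y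
  · right; rw [hz, Equiv.swap_apply_left]
  · by_cases hz' : z = σ y
    · right; rw [hz', Equiv.swap_apply_right, hσ]
    · left; exact Equiv.swap_apply_of_ne_of_ne hz hz'

lemma no_two_swaps (P : Sylow 2 (Equiv.Perm α)) {a b c : α} (hab : a ≠ b) (hac : a ≠ c)
    (hbc : b ≠ c) (h1 : Equiv.swap a b ∈ P) (h2 : Equiv.swap a c ∈ P) : False := by
  have h3 : Equiv.swap a b * Equiv.swap a c ∈ (P : Subgroup (Equiv.Perm α)) := mul_mem h1 h2
  obtain ⟨k, hk⟩ := P.isPGroup' ⟨_, h3⟩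
  have hk' : (Equiv.swap a b * Equiv.swap a c) ^ 2 ^ k = 1 := by
    have := congrArg Subtype.val hk
    simpa using this
  have h4 := (isThreeCycle_swap_mul_swap_same hab hac hbc).orderOf
  have h5 := orderOf_dvd_of_pow_eq_one hk'
  rw [h4] at h5
  have := (Nat.prime_dvd_prime_iff_eq Nat.prime_three Nat.prime_two).1
    (Nat.Prime.dvd_of_dvd_pow Nat.prime_three h5)
  omega

lemma fixed_le (P : Sylow 2 (Equiv.Perm α)) (x : Equiv.Perm α)
    (hx : ∃ k : ℕ, orderOf x = 2 ^ k)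
    (hP : ∀ Q : Sylow 2 (Equiv.Perm α), x ∈ Q → Q = P) :
    (Finset.univ.filter (fun y => x y = y)).card ≤ 2 := by
  by_contra hcon
  push Not at hcon
  obtain ⟨a, ha, b, hb, c, hc, hab, hac, hbc⟩ := Finset.two_lt_card.1 hcon
  simp only [Finset.mem_filter, Finset.mem_univ, true_and] at ha hb hc
  have key : ∀ d, x d = d → Equiv.swap a d ∈ P := by
    intro d hd
    have h := mem_of_match P x hx hP (Equiv.swap a d) (fun y => Equiv.swap_apply_self a d y) ?_ a
    · rwa [Equiv.swap_apply_left] at h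
    · intro y
      have := Equiv.mul_swap_eq_swap_mul x a d
      rw [ha, hd] at this
      exact congrArg (fun f : Equiv.Perm α => f y) this
  exact no_two_swaps P hab hac hbc (key b hb) (key c hc)

lemma exists_swapCyc (x : Equiv.Perm α) (y z : α)
    (hper : MulAction.period x y = MulAction.period x z)
    (hns : ∀ i : ℤ, (x ^ i) y ≠ z) :
    ∃ σ : Equiv.Perm α, (∀ w, σ (σ w) = w) ∧ (∀ w, x (σ w) = σ (x w)) ∧ σ y = z := by
  classical
  have key : ∀ i j : ℤ, (x ^ i) y = (x ^ j) y ↔ (x ^ i) z = (x ^ j) z := by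
    intro i j
    have aux : ∀ w : α, (x ^ i) w = (x ^ j) w ↔ (x ^ (i - j)) w = w := by
      intro w
      rw [sub_eq_add_neg, add_comm, zpow_add, zpow_neg, Equiv.Perm.mul_apply]
      rw [Equiv.Perm.inv_eq_iff_eq]
    rw [aux, aux, zper_iff, zper_iff, hper]
  have hns' : ∀ i j : ℤ, (x ^ i) y ≠ (x ^ j) z := by
    intro i j h
    apply hns (-j + i)
    rw [zpow_add, Equiv.Perm.mul_apply, h, ← Equiv.Perm.mul_apply, ← zpow_add, neg_add_cancel,
      zpow_zero]; rfl
  let f : α → α := fun w => if h : ∃ i : ℤ, (x ^ i) y = w then (x ^ h.choose) z else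
    if h : ∃ i : ℤ, (x ^ i) z = w then (x ^ h.choose) y else w
  have f1 : ∀ i : ℤ, f ((x ^ i) y) = (x ^ i) z := by
    intro i
    have h : ∃ j : ℤ, (x ^ j) y = (x ^ i) y := ⟨i, rfl⟩
    simp only [f]
    rw [dif_pos h]
    exact (key _ _).1 h.choose_spec
  have f2 : ∀ i : ℤ, f ((x ^ i) z) = (x ^ i) y := by
    intro i
    have h1 : ¬ ∃ j : ℤ, (x ^ j) y = (x ^ i) z := by
      rintro ⟨j, hj⟩; exact hns' _ _ hj
    have h : ∃ j : ℤ, (x ^ j) z = (x ^ i) z := ⟨i, rfl⟩
    simp only [f]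
    rw [dif_neg h1, dif_pos h]
    exact (key _ _).2 h.choose_spec
  have f3 : ∀ w, (¬ ∃ i : ℤ, (x ^ i) y = w) → (¬ ∃ i : ℤ, (x ^ i) z = w) → f w = w := by
    intro w h1 h2
    simp only [f]
    rw [dif_neg h1, dif_neg h2]
  have finv : Function.Involutive f := by
    intro w
    by_cases h1 : ∃ i : ℤ, (x ^ i) y = w
    · obtain ⟨i, rfl⟩ := h1; rw [f1, f2]
    · by_cases h2 : ∃ i : ℤ, (x ^ i) z = w
      · obtain ⟨i, rfl⟩ := h2; rw [f2, f1]
      · rw [f3 w h1 h2, f3 w h1 h2]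
  have hx1 : ∀ (i : ℤ) (w : α), x ((x ^ i) w) = (x ^ (i + 1)) w := by
    intro i w
    rw [add_comm, zpow_add, zpow_one]; rfl
  refine ⟨finv.toPerm, fun w => finv w, fun w => ?_, ?_⟩
  · show x (f w) = f (x w)
    by_cases h1 : ∃ i : ℤ, (x ^ i) y = w
    · obtain ⟨i, rfl⟩ := h1; rw [f1, hx1, hx1, f1]
    · by_cases h2 : ∃ i : ℤ, (x ^ i) z = w
      · obtain ⟨i, rfl⟩ := h2; rw [f2, hx1, hx1, f2]
      · have shift : ∀ v : α, (¬ ∃ i : ℤ, (x ^ i) v = w) → ¬ ∃ i : ℤ, (x ^ i) v = x w := by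
          rintro v hv ⟨i, hi⟩
          apply hv
          refine ⟨i - 1, ?_⟩
          apply x.injective
          rw [hx1, sub_add_cancel, hi]
        rw [f3 w h1 h2, f3 (x w) (shift y h1) (shift z h2)]
  · have := f1 0
    simpa using this

lemma exists_halfCyc (x : Equiv.Perm α) (hx : ∃ k : ℕ, orderOf x = 2 ^ k) (y : α)
    (hy : x y ≠ y) :
    ∃ σ : Equiv.Perm α, (∀ w, σ (σ w) = w) ∧ (∀ w, x (σ w) = σ (x w)) ∧ σ y ≠ y ∧
      ∃ i : ℤ, (x ^ i) y = σ y := by
  classical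
  obtain ⟨k, hk⟩ := per_pos x hx y hy
  have hxi : ∀ (i j : ℤ) (w : α), (x ^ i) ((x ^ j) w) = (x ^ (i + j)) w := by
    intro i j w
    rw [zpow_add]; rfl
  have hx1 : ∀ (i : ℤ) (w : α), x ((x ^ i) w) = (x ^ (i + 1)) w := by
    intro i w
    rw [add_comm, zpow_add, zpow_one]; rfl
  let f : α → α := fun w => if ∃ i : ℤ, (x ^ i) y = w then (x ^ ((2 : ℤ) ^ k)) w else w
  have f1 : ∀ i : ℤ, f ((x ^ i) y) = (x ^ ((2 : ℤ) ^ k + i)) y := by
    intro i
    simp only [f]
    rw [if_pos ⟨i, rfl⟩, hxi]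
  have f3 : ∀ w, (¬ ∃ i : ℤ, (x ^ i) y = w) → f w = w := by
    intro w h1
    simp only [f]
    rw [if_neg h1]
  have hper : ∀ i : ℤ, (x ^ ((2 : ℤ) ^ k + ((2 : ℤ) ^ k + i))) y = (x ^ i) y := by
    intro i
    have : (x ^ (((2 : ℤ) ^ k + (2 : ℤ) ^ k))) y = y := by
      rw [zper_iff, hk]
      push_cast
      rw [pow_succ]
      exact ⟨1, by ring⟩
    rw [show ((2 : ℤ) ^ k + ((2 : ℤ) ^ k + i)) = i + ((2 : ℤ) ^ k + (2 : ℤ) ^ k) by ring,
      ← hxi, this]
  have finv : Function.Involutive f := by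
    intro w
    by_cases h1 : ∃ i : ℤ, (x ^ i) y = w
    · obtain ⟨i, rfl⟩ := h1; rw [f1, f1, hper]
    · rw [f3 w h1, f3 w h1]
  refine ⟨finv.toPerm, fun w => finv w, fun w => ?_, ?_, ?_⟩
  · show x (f w) = f (x w)
    by_cases h1 : ∃ i : ℤ, (x ^ i) y = w
    · obtain ⟨i, rfl⟩ := h1; rw [f1, hx1, hx1, f1, add_assoc]
    · have : ¬ ∃ i : ℤ, (x ^ i) y = x w := by
        rintro ⟨i, hi⟩
        apply h1
        refine ⟨i - 1, ?_⟩
        apply x.injective
        rw [hx1, sub_add_cancel, hi]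
      rw [f3 w h1, f3 (x w) this]
  · show f y ≠ y
    have := f1 0
    simp only [zpow_zero, Equiv.Perm.one_apply, add_zero] at this
    rw [this]
    intro h
    rw [zper_iff, hk] at h
    have h2 : (2 ^ (k + 1) : ℕ) ∣ 2 ^ k := by exact_mod_cast h
    have := (Nat.pow_dvd_pow_iff_le_right (by norm_num : 1 < 2)).1 h2
    omega
  · refine ⟨(2 : ℤ) ^ k, ?_⟩
    show _ = f y
    have := f1 0
    simp only [zpow_zero, Equiv.Perm.one_apply, add_zero] at this
    rw [this]

lemma sameCycle_of (P : Sylow 2 (Equiv.Perm α)) (x : Equiv.Perm α)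
    (hx : ∃ k : ℕ, orderOf x = 2 ^ k)
    (hP : ∀ Q : Sylow 2 (Equiv.Perm α), x ∈ Q → Q = P) (y z : α)
    (hper : MulAction.period x y = MulAction.period x z) (hy : x y ≠ y) :
    ∃ i : ℤ, (x ^ i) y = z := by
  by_contra hcon
  push Not at hcon
  obtain ⟨σ, h1, h2, h3⟩ := exists_swapCyc x y z hper hcon
  obtain ⟨τ, h4, h5, h6, i, h7⟩ := exists_halfCyc x hx y hy
  have m1 := mem_of_match P x hx hP σ h1 h2 y
  have m2 := mem_of_match P x hx hP τ h4 h5 y
  rw [h3] at m1
  refine no_two_swaps P ?_ (Ne.symm h6) ?_ m1 m2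
  · intro h
    exact hcon 0 (by simpa using h)
  · intro h
    exact hcon i (by rw [h7, ← h])

end direct


/-! ### existence of the matching -/

lemma odd_df : ∀ j : ℕ, Odd (Nat.doubleFactorial (2 * j + 1))
  | 0 => by decide
  | (j + 1) => by
      have : 2 * (j + 1) + 1 = (2 * j + 1) + 2 := by ring
      rw [this, Nat.doubleFactorial_add_two]
      exact Odd.mul ⟨j + 1, by ring⟩ (odd_df j)

lemma fact_odd (n : ℕ) : ∃ d : ℕ, Odd d ∧ n.factorial = 2 ^ (n / 2) * (n / 2).factorial * d := by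
  rcases Nat.even_or_odd' n with ⟨m, rfl | rfl⟩
  · rcases m with _ | j
    · exact ⟨1, by decide, by simp⟩
    · refine ⟨Nat.doubleFactorial (2 * j + 1), odd_df j, ?_⟩
      have e1 : 2 * (j + 1) / 2 = j + 1 := by omega
      have e2 : 2 * (j + 1) = (2 * j + 1) + 1 := by ring
      rw [e1, ← Nat.doubleFactorial_two_mul, e2, Nat.factorial_eq_mul_doubleFactorial]
  · refine ⟨Nat.doubleFactorial (2 * m + 1), odd_df m, ?_⟩
    have e1 : (2 * m + 1) / 2 = m := by omega
    rw [e1, ← Nat.doubleFactorial_two_mul, Nat.factorial_eq_mul_doubleFactorial, mul_comm]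

section converse

variable {α : Type} [Fintype α] [DecidableEq α]

lemma exists_match (P : Sylow 2 (Equiv.Perm α)) :
    ∃ σ : Equiv.Perm α, ∃ hσ : ∀ y, σ (σ y) = y, (∀ a b, σ a = a → σ b = b → a = b) ∧
      (∀ g ∈ P, ∀ y, g (σ y) = σ (g y)) ∧ matchGrp σ hσ ≤ P := by
  obtain ⟨σ0, h0⟩ := (Equiv.Perm.exists_with_cycleType_iff (α := α)
    (m := Multiset.replicate (Fintype.card α / 2) 2)).2
    ⟨by simp; omega, by intro a ha; rw [Multiset.eq_of_mem_replicate ha]⟩
  haveI : Fact (Nat.Prime 2) := ⟨Nat.prime_two⟩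
  have h2 : σ0 ^ 2 = 1 := by
    rw [Equiv.Perm.pow_prime_eq_one_iff, h0]
    intro c hc
    exact Multiset.eq_of_mem_replicate hc
  have hσ0 : ∀ y, σ0 (σ0 y) = y := by
    intro y
    have := congrArg (fun f : Equiv.Perm α => f y) h2
    rw [pow_two] at this
    exact this
  have hfix0 : ∀ a b, σ0 a = a → σ0 b = b → a = b := by
    intro a b ha hb
    by_contra hab
    have hs : σ0.support.card = 2 * (Fintype.card α / 2) := by
      rw [← Equiv.Perm.sum_cycleType, h0]; simp; ring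
    have hsub : ({a, b} : Finset α) ⊆ σ0.supportᶜ := by
      intro c hc
      simp only [Finset.mem_insert, Finset.mem_singleton] at hc
      rw [Finset.mem_compl, Equiv.Perm.mem_support, not_not]
      rcases hc with rfl | rfl
      · exact ha
      · exact hb
    have hcard := Finset.card_le_card hsub
    rw [Finset.card_pair hab, Finset.card_compl, hs] at hcard
    omega
  have hCcard : Nat.card (Subgroup.centralizer {σ0}) =
      (Fintype.card α - 2 * (Fintype.card α / 2)).factorial * 2 ^ (Fintype.card α / 2) *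
        (Fintype.card α / 2).factorial := by
    rw [Equiv.Perm.nat_card_centralizer, h0]
    rcases Nat.eq_zero_or_pos (Fintype.card α / 2) with hz | hz
    · rw [hz]; simp
    · rw [Multiset.toFinset_replicate, if_neg (by omega)]
      simp [mul_comm]
  have hCodd : ¬ 2 ∣ (Subgroup.centralizer {σ0}).index := by
    obtain ⟨d, hd, hn⟩ := fact_odd (Fintype.card α)
    have h := (Subgroup.centralizer {σ0}).card_mul_index
    rw [hCcard, Nat.card_eq_fintype_card, Fintype.card_perm, hn] at h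
    have h1 : (Fintype.card α - 2 * (Fintype.card α / 2)).factorial = 1 := by
      have : Fintype.card α - 2 * (Fintype.card α / 2) ≤ 1 := by omega
      interval_cases (Fintype.card α - 2 * (Fintype.card α / 2)) <;> simp
    rw [h1, one_mul] at h
    have h3 := Nat.eq_of_mul_eq_mul_left (by positivity) h
    rw [h3]
    intro h4
    obtain ⟨e, he⟩ := hd
    omega
  obtain ⟨R⟩ : Nonempty (Sylow 2 (Subgroup.centralizer {σ0})) := inferInstance
  have hR1 : IsPGroup 2 ((R : Subgroup (Subgroup.centralizer {σ0})).map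
      (Subgroup.centralizer {σ0}).subtype) := R.2.map _
  have hR2 : ¬ 2 ∣ ((R : Subgroup (Subgroup.centralizer {σ0})).map
      (Subgroup.centralizer {σ0}).subtype).index := by
    rw [Subgroup.index_map_subtype]
    exact Nat.Prime.not_dvd_mul Nat.prime_two R.not_dvd_index hCodd
  obtain ⟨g, hg⟩ := MulAction.exists_smul_eq (Equiv.Perm α) (hR1.toSylow hR2) P
  have hP0 : ∀ h ∈ (hR1.toSylow hR2), ∀ y, h (σ0 y) = σ0 (h y) := by
    intro h hh y
    have h1 : h ∈ Subgroup.centralizer {σ0} := Subgroup.map_subtype_le _ hh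
    rw [Subgroup.mem_centralizer_singleton_iff] at h1
    exact congrArg (fun f : Equiv.Perm α => f y) h1
  have hσ : ∀ y, (g * σ0 * g⁻¹) ((g * σ0 * g⁻¹) y) = y := by
    intro y
    obtain ⟨z, rfl⟩ := g.surjective y
    simp [hσ0]
  have hcomm : ∀ h ∈ P, ∀ y, h ((g * σ0 * g⁻¹) y) = (g * σ0 * g⁻¹) (h y) := by
    intro h hh y
    have hh' : h ∈ ((g • (hR1.toSylow hR2) : Sylow 2 (Equiv.Perm α)) :
        Subgroup (Equiv.Perm α)) := by rw [hg]; exact hh
    have h3 : g⁻¹ * h * g ∈ (hR1.toSylow hR2) := by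
      rw [Sylow.coe_subgroup_smul, Subgroup.mem_pointwise_smul_iff_inv_smul_mem] at hh'
      have e : (MulAut.conj g)⁻¹ • h = g⁻¹ * h * g := by
        rw [← map_inv, MulAut.smul_def, MulAut.conj_apply, inv_inv]
      rw [← e]; exact hh'
    have h4 := hP0 _ h3 (g⁻¹ y)
    have h5 := congrArg g h4
    simpa using h5
  refine ⟨g * σ0 * g⁻¹, hσ, ?_, hcomm, ?_⟩
  · intro a b ha hb
    have ha' : σ0 (g⁻¹ a) = g⁻¹ a := by
      have : g⁻¹ ((g * σ0 * g⁻¹) a) = g⁻¹ a := by rw [ha]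
      simpa using this
    have hb' : σ0 (g⁻¹ b) = g⁻¹ b := by
      have : g⁻¹ ((g * σ0 * g⁻¹) b) = g⁻¹ b := by rw [hb]
      simpa using this
    exact g⁻¹.injective (hfix0 _ _ ha' hb')
  · have h1 : (P : Subgroup (Equiv.Perm α)) ≤
        Subgroup.normalizer (matchGrp (g * σ0 * g⁻¹) hσ : Set (Equiv.Perm α)) := by
      intro c hc
      exact le_normalizer_matchGrp _ _ c (hcomm c hc)
    have h3 := IsPGroup.to_sup_of_normal_right' P.isPGroup' (matchGrp_isPGroup _ hσ) h1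
    have h4 := P.is_maximal' h3 le_sup_left
    rw [← h4]
    exact le_sup_right

lemma fix3 (x : Equiv.Perm α) (hF : (Finset.univ.filter (fun y => x y = y)).card ≤ 2)
    {a b c : α} (ha : x a = a) (hb : x b = b) (hc : x c = c) (hab : a ≠ b) (hac : a ≠ c)
    (hbc : b ≠ c) : False := by
  have : 2 < (Finset.univ.filter (fun y => x y = y)).card := by
    rw [Finset.two_lt_card]
    exact ⟨a, by simpa using ha, b, by simpa using hb, c, by simpa using hc, hab, hac, hbc⟩
  omega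

omit [Fintype α] [DecidableEq α] in
lemma sigma_val (x : Equiv.Perm α) 
    (hG : ∀ y z, MulAction.period x y = MulAction.period x z → x y ≠ y → ∃ i : ℤ, (x ^ i) y = z)
    (σ : Equiv.Perm α) (hσ : ∀ y, σ (σ y) = y) (hfix : ∀ a b, σ a = a → σ b = b → a = b)
    (hc : ∀ y, x (σ y) = σ (x y)) (y : α) (hy : x y ≠ y) (k : ℕ)
    (hk : MulAction.period x y = 2 ^ (k + 1)) : σ y = (x ^ (2 ^ k)) y := by
  have hcz : ∀ (i : ℤ) (w : α), (x ^ i) (σ w) = σ ((x ^ i) w) := by
    intro i w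
    have h1 : Commute x σ := by
      ext w; exact hc w
    exact congrArg (fun f : Equiv.Perm α => f w) (h1.zpow_left i)
  have hper : MulAction.period x y = MulAction.period x (σ y) := by
    apply Nat.dvd_antisymm
    · rw [← per_iff]
      have := (per_iff x (σ y) (MulAction.period x (σ y))).2 dvd_rfl
      have h2 := hcz (MulAction.period x (σ y) : ℤ) y
      rw [zpow_natCast] at h2
      rw [this] at h2
      exact (σ.injective h2).symm
    · rw [← per_iff]
      have := (per_iff x y (MulAction.period x y)).2 dvd_rfl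
      have h2 := hcz (MulAction.period x y : ℤ) y
      rw [zpow_natCast] at h2
      rw [h2, this]
  obtain ⟨i, hi⟩ := hG y (σ y) hper hy
  have hσy : σ y ≠ y := by
    intro h
    apply hy
    refine (hfix _ _ ?_ h)
    rw [← hc, h]
  have hxi : ∀ (i j : ℤ) (w : α), (x ^ i) ((x ^ j) w) = (x ^ (i + j)) w := by
    intro i j w
    rw [zpow_add]; rfl
  have h2i : ((2 ^ (k + 1) : ℕ) : ℤ) ∣ i + i := by
    rw [← hk, ← zper_iff, ← hxi, hi, hcz, hi, hσ]
  have hni : ¬ ((2 ^ (k + 1) : ℕ) : ℤ) ∣ i := by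
    rw [← hk, ← zper_iff, hi]; exact hσy
  have hk1 : ∃ j : ℤ, i = 2 ^ k * j := by
    obtain ⟨j, hj⟩ := h2i
    refine ⟨j, ?_⟩
    push_cast at hj
    rw [pow_succ] at hj
    linarith
  obtain ⟨j, hj⟩ := hk1
  have hjodd : ¬ (2 : ℤ) ∣ j := by
    rintro ⟨l, rfl⟩
    apply hni
    rw [hj]
    exact ⟨l, by push_cast; ring⟩
  have hfin : ((2 ^ (k + 1) : ℕ) : ℤ) ∣ -((2 : ℤ) ^ k) + i := by
    have : (2 : ℤ) ∣ j - 1 := by omega
    obtain ⟨l, hl⟩ := this
    refine ⟨l, ?_⟩
    rw [hj]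
    push_cast
    have : j = 2 * l + 1 := by linarith
    rw [this]; ring
  rw [← hk, ← zper_iff, ← hxi, hi] at hfin
  have := congrArg (fun w => (x ^ ((2 : ℤ) ^ k)) w) hfin
  simp only [hxi, add_neg_cancel, zpow_zero, Equiv.Perm.one_apply] at this
  rw [this, ← zpow_natCast]
  push_cast
  rfl

lemma sigma_unique (x : Equiv.Perm α) (hx : ∃ k : ℕ, orderOf x = 2 ^ k)
    (hG : ∀ y z, MulAction.period x y = MulAction.period x z → x y ≠ y → ∃ i : ℤ, (x ^ i) y = z)
    (hF : (Finset.univ.filter (fun y => x y = y)).card ≤ 2)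
    (σ : Equiv.Perm α) (hσ : ∀ y, σ (σ y) = y) (hfix : ∀ a b, σ a = a → σ b = b → a = b)
    (hc : ∀ y, x (σ y) = σ (x y))
    (τ : Equiv.Perm α) (hτ : ∀ y, τ (τ y) = y) (hfix' : ∀ a b, τ a = a → τ b = b → a = b)
    (hc' : ∀ y, x (τ y) = τ (x y)) : σ = τ := by
  ext y
  by_cases hy : x y = y
  · have h1 : x (σ y) = σ y := by rw [hc, hy]
    have h2 : x (τ y) = τ y := by rw [hc', hy]
    by_contra hne
    by_cases e1 : σ y = y
    · have e2 : τ y ≠ y := fun h => hne (by rw [e1, h])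
      have h3 : x (σ (τ y)) = σ (τ y) := by rw [hc, h2]
      by_cases e3 : σ (τ y) = y
      · apply e2
        rw [← hσ (τ y), e3, e1]
      · by_cases e4 : σ (τ y) = τ y
        · exact e2 (hfix _ _ e4 e1)
        · exact fix3 x hF hy h2 h3 (Ne.symm e2) (Ne.symm e3) (Ne.symm e4)
    · by_cases e2 : τ y = y
      · have h3 : x (τ (σ y)) = τ (σ y) := by rw [hc', h1]
        by_cases e3 : τ (σ y) = y
        · apply e1
          rw [← hτ (σ y), e3, e2]
        · by_cases e4 : τ (σ y) = σ y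
          · exact e1 (hfix' _ _ e4 e2)
          · exact fix3 x hF hy h1 h3 (Ne.symm e1) (Ne.symm e3) (Ne.symm e4)
      · exact fix3 x hF hy h1 h2 (Ne.symm e1) (Ne.symm e2) hne
  · obtain ⟨k, hk⟩ := per_pos x hx y hy
    rw [sigma_val x hG σ hσ hfix hc y hy k hk, sigma_val x hG τ hτ hfix' hc' y hy k hk]

end converse

/-! ### the blocks -/

/-- two-element orbits of `σ`. -/
def Blk {α : Type} (σ : Equiv.Perm α) : Type := {s : Set α // ∃ y, σ y ≠ y ∧ s = {y, σ y}}

/-- the centralizer of `σ`. -/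
def Cs {α : Type} (σ : Equiv.Perm α) : Subgroup (Equiv.Perm α) where
  carrier := {g | ∀ y, g (σ y) = σ (g y)}
  one_mem' := fun y => rfl
  mul_mem' := by
    intro g h hg hh y
    show g (h (σ y)) = σ (g (h y))
    rw [hh, hg]
  inv_mem' := by
    intro g hg y
    obtain ⟨z, rfl⟩ := g.surjective y
    rw [← hg, Equiv.Perm.inv_def, Equiv.symm_apply_apply, Equiv.symm_apply_apply]

instance {α : Type} (σ : Equiv.Perm α) : MulAction (Cs σ) (Blk σ) where
  smul g s := ⟨g.1 '' s.1, by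
    obtain ⟨y, hy, hs⟩ := s.2
    refine ⟨g.1 y, ?_, ?_⟩
    · rw [← g.2 y]; exact fun h => hy (g.1.injective h)
    · rw [hs, Set.image_pair, g.2 y]⟩
  one_smul s := Subtype.ext (by
    show (1 : Equiv.Perm α) '' s.1 = s.1
    simp)
  mul_smul g h s := Subtype.ext (by
    show (g.1 * h.1) '' s.1 = g.1 '' (h.1 '' s.1)
    rw [Set.image_image]; rfl)

lemma smul_val {α : Type} (σ : Equiv.Perm α) (g : Cs σ) (s : Blk σ) :
    (g • s).1 = g.1 '' s.1 := rfl

/-- the block of a moved point. -/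
def mkB {α : Type} (σ : Equiv.Perm α) (y : α) (hy : σ y ≠ y) : Blk σ := ⟨{y, σ y}, y, hy, rfl⟩

lemma mkB_eq {α : Type} {σ : Equiv.Perm α} (hσ : ∀ y, σ (σ y) = y) {y z : α} (hy : σ y ≠ y)
    (hz : σ z ≠ z) : mkB σ y hy = mkB σ z hz ↔ (y = z ∨ y = σ z) := by
  constructor
  · intro h
    have h1 : y ∈ (mkB σ z hz).1 := by rw [← h]; exact Set.mem_insert _ _
    simpa [mkB] using h1
  · rintro (rfl | rfl)
    · rfl
    · apply Subtype.ext
      show ({σ z, σ (σ z)} : Set α) = {z, σ z}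
      rw [hσ, Set.pair_comm]

lemma smul_mkB {α : Type} (σ : Equiv.Perm α) (g : Cs σ) (y : α) (hy : σ y ≠ y)
    (hy' : σ (g.1 y) ≠ g.1 y) : g • (mkB σ y hy) = mkB σ (g.1 y) hy' := by
  apply Subtype.ext
  rw [smul_val]
  show g.1 '' {y, σ y} = {g.1 y, σ (g.1 y)}
  rw [Set.image_pair, g.2 y]

lemma moved {α : Type} {σ : Equiv.Perm α} (g : Cs σ) {y : α} (hy : σ y ≠ y) :
    σ (g.1 y) ≠ g.1 y := by
  rw [← g.2 y]; exact fun h => hy (g.1.injective h)

/-- coordinates on the moved points. -/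
lemma exists_coord {α : Type} (σ : Equiv.Perm α) (hσ : ∀ y, σ (σ y) = y) :
    ∃ e : Blk σ × Bool ≃ {w : α // σ w ≠ w}, 
      (∀ s b, s = mkB σ (e (s, b)).1 (e (s, b)).2) ∧
      ∀ s b, σ (e (s, b)).1 = (e (s, !b)).1 := by
  classical
  have hr : ∀ s : Blk σ, ∃ y : α, ∃ hy : σ y ≠ y, s = mkB σ y hy := by
    rintro ⟨s, y, hy, rfl⟩
    exact ⟨y, hy, rfl⟩
  choose r hr1 hr2 using hr
  have hr1' : ∀ s, σ (σ (r s)) ≠ σ (r s) := fun s h => hr1 s (σ.injective h)
  let f : Blk σ × Bool → {w : α // σ w ≠ w} := fun q =>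
    if q.2 then ⟨σ (r q.1), hr1' q.1⟩ else ⟨r q.1, hr1 q.1⟩
  have hf1 : ∀ s b, s = mkB σ (f (s, b)).1 (f (s, b)).2 := by
    intro s b
    cases b
    · exact hr2 s
    · have : mkB σ (f (s, true)).1 (f (s, true)).2 = mkB σ (r s) (hr1 s) := by
        rw [mkB_eq hσ]; right; rfl
      rw [this]; exact hr2 s
  have hf2 : ∀ s b, σ (f (s, b)).1 = (f (s, !b)).1 := by
    intro s b
    cases b
    · rfl
    · show σ (σ (r s)) = r s
      rw [hσ]
  have hinj : Function.Injective f := by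
    rintro ⟨s, b⟩ ⟨s', b'⟩ h
    have h1 : s = s' := by
      rw [hf1 s b, hf1 s' b', mkB_eq hσ]; left; rw [h]
    subst h1
    rcases b with _ | _ <;> rcases b' with _ | _
    · rfl
    · exact absurd (congrArg Subtype.val h).symm (hr1 s)
    · exact absurd (congrArg Subtype.val h) (hr1 s)
    · rfl
  have hsurj : Function.Surjective f := by
    rintro ⟨w, hw⟩
    have h1 := hr2 (mkB σ w hw)
    rw [mkB_eq hσ] at h1
    rcases h1 with h1 | h1
    · exact ⟨(mkB σ w hw, false), Subtype.ext h1.symm⟩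
    · exact ⟨(mkB σ w hw, true), Subtype.ext h1.symm⟩
  exact ⟨Equiv.ofBijective f ⟨hinj, hsurj⟩, hf1, hf2⟩

lemma toPerm_surjective {α : Type} (σ : Equiv.Perm α) (hσ : ∀ y, σ (σ y) = y) :
    Function.Surjective (MulAction.toPermHom (Cs σ) (Blk σ)) := by
  classical
  obtain ⟨e, he1, he2⟩ := exists_coord σ hσ
  intro π
  let g : Equiv.Perm α := Equiv.Perm.extendDomain (Equiv.prodCongr π (Equiv.refl Bool)) e
  have hg : ∀ s b, g (e (s, b)).1 = (e (π s, b)).1 := by
    intro s b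
    exact Equiv.Perm.extendDomain_apply_image _ e (s, b)
  have hgc : ∀ y, g (σ y) = σ (g y) := by
    intro y
    by_cases hy : σ y = y
    · have h1 : g y = y := Equiv.Perm.extendDomain_apply_not_subtype _ e (by simpa using hy)
      rw [hy, h1, hy]
    · obtain ⟨⟨s, b⟩, hsb⟩ := e.surjective ⟨y, hy⟩
      have hy' : y = (e (s, b)).1 := by rw [hsb]
      rw [hy', he2, hg, hg, he2]
  refine ⟨⟨g, hgc⟩, ?_⟩
  ext s : 1
  rw [MulAction.toPermHom_apply, MulAction.toPerm_apply]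
  have h1 := he1 s false
  rw [h1, smul_mkB σ _ _ _ (moved _ (e (s, false)).2)]
  have h2 : π s = mkB σ (e (π s, false)).1 (e (π s, false)).2 := he1 _ _
  have h3 : π (mkB σ (e (s, false)).1 (e (s, false)).2) = π s := by rw [← h1]
  rw [h3, h2, mkB_eq hσ]
  left
  exact hg s false

lemma ker_le {α : Type} (σ : Equiv.Perm α) (hσ : ∀ y, σ (σ y) = y)
    (hfix : ∀ a b, σ a = a → σ b = b → a = b) (g : Cs σ)
    (hg : g ∈ (MulAction.toPermHom (Cs σ) (Blk σ)).ker) : g.1 ∈ matchGrp σ hσ := by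
  intro y
  by_cases hy : σ y = y
  · left
    apply hfix _ _ _ hy
    rw [← g.2 y, hy]
  · have h1 : g • (mkB σ y hy) = mkB σ y hy := by
      have := congrArg (fun f : Equiv.Perm (Blk σ) => f (mkB σ y hy)) (MonoidHom.mem_ker.1 hg)
      exact this
    rw [smul_mkB σ g y hy (moved g hy), mkB_eq hσ] at h1
    exact h1


instance {α : Type} [Finite α] (σ : Equiv.Perm α) : Finite (Blk σ) := by
  unfold Blk; infer_instance

lemma half_iff {α : Type} (x : Equiv.Perm α) (y : α) (k : ℕ)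
    (hk : MulAction.period x y = 2 ^ (k + 1)) (i : ℕ) :
    ((x ^ i) y = y ∨ (x ^ i) y = (x ^ (2 ^ k)) y) ↔ 2 ^ k ∣ i := by
  constructor
  · rintro (h | h)
    · rw [per_iff, hk] at h
      exact (pow_dvd_pow 2 (Nat.le_succ k)).trans h
    · have h1 : (x ^ (2 ^ k + i)) y = y := by
        rw [pow_add, Equiv.Perm.mul_apply, h, ← Equiv.Perm.mul_apply, ← pow_add, per_iff, hk,
          pow_succ]
        exact ⟨1, by ring⟩
      rw [per_iff, hk] at h1
      have h2 := (pow_dvd_pow 2 (Nat.le_succ k)).trans h1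
      exact (Nat.dvd_add_right dvd_rfl).1 h2
  · rintro ⟨j, rfl⟩
    rcases Nat.even_or_odd' j with ⟨l, rfl | rfl⟩
    · left
      rw [per_iff, hk, pow_succ]
      exact ⟨l, by ring⟩
    · right
      have : 2 ^ k * (2 * l + 1) = 2 ^ k + 2 ^ (k + 1) * l := by rw [pow_succ]; ring
      rw [this, pow_add, Equiv.Perm.mul_apply]
      congr 1
      rw [per_iff, hk]
      exact ⟨l, rfl⟩

section ind

variable {α : Type} [Fintype α] [DecidableEq α]

lemma pow_mkB (σ : Equiv.Perm α) (x : Cs σ) (i : ℤ) (y : α) (hy : σ y ≠ y) :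
    ((MulAction.toPermHom (Cs σ) (Blk σ) x) ^ i) (mkB σ y hy) =
      mkB σ ((x.1 ^ i) y) (moved (x ^ i) hy) := by
  rw [← map_zpow, MulAction.toPermHom_apply, MulAction.toPerm_apply,
    smul_mkB σ (x ^ i) y hy (moved (x ^ i) hy)]
  rfl

lemma period_mkB (σ : Equiv.Perm α) (hσ : ∀ y, σ (σ y) = y) (x : Cs σ) 
    (hG : ∀ y z, MulAction.period x.1 y = MulAction.period x.1 z → x.1 y ≠ y →
      ∃ i : ℤ, (x.1 ^ i) y = z)
    (hfix : ∀ a b, σ a = a → σ b = b → a = b)
    (y : α) (hy : σ y ≠ y) (hxy : x.1 y ≠ y) (k : ℕ)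
    (hk : MulAction.period x.1 y = 2 ^ (k + 1)) :
    MulAction.period (MulAction.toPermHom (Cs σ) (Blk σ) x) (mkB σ y hy) = 2 ^ k := by
  have hv := sigma_val x.1 hG σ hσ hfix x.2 y hxy k hk
  have key : ∀ i : ℕ, MulAction.period (MulAction.toPermHom (Cs σ) (Blk σ) x) (mkB σ y hy) ∣ i ↔
      2 ^ k ∣ i := by
    intro i
    rw [← per_iff, ← half_iff x.1 y k hk i, ← hv]
    have h1 := pow_mkB σ x (i : ℤ) y hy
    rw [zpow_natCast] at h1
    rw [h1, mkB_eq hσ, zpow_natCast]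
  exact Nat.dvd_antisymm ((key _).2 dvd_rfl) ((key _).1 dvd_rfl)

lemma uniq : ∀ (N : ℕ) (α : Type) [Fintype α] [DecidableEq α], Fintype.card α = N →
    ∀ (x : Equiv.Perm α), (∃ k : ℕ, orderOf x = 2 ^ k) →
    (Finset.univ.filter (fun y => x y = y)).card ≤ 2 →
    (∀ y z, MulAction.period x y = MulAction.period x z → x y ≠ y → ∃ i : ℤ, (x ^ i) y = z) →
    ∀ P Q : Sylow 2 (Equiv.Perm α), x ∈ P → x ∈ Q → P = Q := by
  intro N
  induction N using Nat.strong_induction_on with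
  | _ N ih =>
  intro α _ _ hN x hx hF hG P Q hP hQ
  haveI : Fact (Nat.Prime 2) := ⟨Nat.prime_two⟩
  rcases isEmpty_or_nonempty α with hemp | hne
  · apply Sylow.ext
    ext g
    have : g = 1 := Subsingleton.elim _ _
    rw [this]
    exact ⟨fun _ => one_mem _, fun _ => one_mem _⟩
  obtain ⟨σ, hσ, hfix, hcP, hEP⟩ := exists_match P
  obtain ⟨τ, hτ, hfix', hcQ, hEQ⟩ := exists_match Q
  have hst : σ = τ := sigma_unique x hx hG hF σ hσ hfix (hcP x hP) τ hτ hfix' (hcQ x hQ)
  subst hst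
  have hPC : (P : Subgroup (Equiv.Perm α)) ≤ Cs σ := fun g hg => hcP g hg
  have hQC : (Q : Subgroup (Equiv.Perm α)) ≤ Cs σ := fun g hg => hcQ g hg
  have hsur := toPerm_surjective σ hσ
  classical
  letI : Fintype (Blk σ) := Fintype.ofFinite _
  set x' : Cs σ := ⟨x, hcP x hP⟩ with hx'
  have hcard : Fintype.card (Blk σ) < N := by
    obtain ⟨e, _, _⟩ := exists_coord σ hσ
    have h1 := Fintype.card_congr e
    rw [Fintype.card_prod, Fintype.card_bool] at h1
    have h2 : Fintype.card {w : α // σ w ≠ w} ≤ Fintype.card α := Fintype.card_subtype_le _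
    have h3 : 0 < Fintype.card α := Fintype.card_pos
    omega
  have hmk : ∀ s : Blk σ, ∃ y, ∃ hy : σ y ≠ y, s = mkB σ y hy := by
    rintro ⟨s, y, hy, rfl⟩
    exact ⟨y, hy, rfl⟩
  have hone : ∀ (y : α) (hy : σ y ≠ y), (MulAction.toPermHom (Cs σ) (Blk σ) x') (mkB σ y hy) =
      mkB σ (x y) (moved x' hy) := by
    intro y hy
    rw [MulAction.toPermHom_apply, MulAction.toPerm_apply]
    exact smul_mkB σ x' y hy (moved x' hy)
  have hord : ∃ k : ℕ, orderOf (MulAction.toPermHom (Cs σ) (Blk σ) x') = 2 ^ k := by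
    obtain ⟨k, hk⟩ := hx
    have h1 := orderOf_map_dvd (MulAction.toPermHom (Cs σ) (Blk σ)) x'
    have h0 : orderOf x' = 2 ^ k := by
      rw [← hk]; exact (Subgroup.orderOf_coe x').symm
    rw [h0] at h1
    obtain ⟨j, _, hj⟩ := (Nat.dvd_prime_pow Nat.prime_two).1 h1
    exact ⟨j, hj⟩
  have hF' : (Finset.univ.filter
      (fun s => (MulAction.toPermHom (Cs σ) (Blk σ) x') s = s)).card ≤ 2 := by
    by_contra hcon
    push Not at hcon
    obtain ⟨s1, h1, s2, h2, s3, h3, h12, h13, h23⟩ := Finset.two_lt_card.1 hcon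
    simp only [Finset.mem_filter, Finset.mem_univ, true_and] at h1 h2 h3
    have hAA : ∀ (y z : α) (hy : σ y ≠ y) (hz : σ z ≠ z), mkB σ y hy ≠ mkB σ z hz → x y = y →
        x z = z → False := by
      intro y z hy hz hne h1 h2
      rw [Ne, mkB_eq hσ] at hne
      push Not at hne
      have h3 : x (σ z) = σ z := by rw [hcP x hP, h2]
      exact fix3 x hF h1 h2 h3 hne.1 hne.2 (Ne.symm hz)
    have hBB : ∀ (y z : α) (hy : σ y ≠ y) (hz : σ z ≠ z), mkB σ y hy ≠ mkB σ z hz → x y ≠ y →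
        x z ≠ z → x y = σ y → x z = σ z → False := by
      intro y z hy hz hne h1 h2 h3 h4
      have hper2 : ∀ w, x w ≠ w → x w = σ w → MulAction.period x w = 2 := by
        intro w hw1 hw2
        obtain ⟨k, hk⟩ := per_pos x hx w hw1
        have h5 : (x ^ 2) w = w := by
          rw [pow_two, Equiv.Perm.mul_apply, hw2, hcP x hP, hw2, hσ]
        rw [per_iff, hk] at h5
        have h6 := Nat.le_of_dvd (by norm_num) h5
        rcases k with _ | k
        · simpa using hk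
        · exfalso
          have : 2 ^ 2 ≤ 2 ^ (k + 1 + 1) := Nat.pow_le_pow_right (by norm_num) (by omega)
          omega
      obtain ⟨i, hi⟩ := hG y z ((hper2 y h1 h3).trans (hper2 z h2 h4).symm) h1
      apply hne
      rw [mkB_eq hσ]
      rcases Int.even_or_odd' i with ⟨j, rfl | rfl⟩
      · left
        have : (x ^ (2 * j)) y = y := by
          rw [zper_iff, hper2 y h1 h3]; exact ⟨j, by push_cast; ring⟩
        rw [← hi, this]
      · right
        have : (x ^ (2 * j)) y = y := by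
          rw [zper_iff, hper2 y h1 h3]; exact ⟨j, by push_cast; ring⟩
        rw [← hi, add_comm, zpow_add, Equiv.Perm.mul_apply, this, zpow_one, h3, hσ]
    obtain ⟨y1, hy1, rfl⟩ := hmk s1
    obtain ⟨y2, hy2, rfl⟩ := hmk s2
    obtain ⟨y3, hy3, rfl⟩ := hmk s3
    rw [hone, mkB_eq hσ] at h1 h2 h3
    by_cases a1 : x y1 = y1 <;> by_cases a2 : x y2 = y2 <;> by_cases a3 : x y3 = y3
    · exact hAA _ _ hy1 hy2 h12 a1 a2
    · exact hAA _ _ hy1 hy2 h12 a1 a2
    · exact hAA _ _ hy1 hy3 h13 a1 a3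
    · exact hBB _ _ hy2 hy3 h23 a2 a3 (h2.resolve_left a2) (h3.resolve_left a3)
    · exact hAA _ _ hy2 hy3 h23 a2 a3
    · exact hBB _ _ hy1 hy3 h13 a1 a3 (h1.resolve_left a1) (h3.resolve_left a3)
    · exact hBB _ _ hy1 hy2 h12 a1 a2 (h1.resolve_left a1) (h2.resolve_left a2)
    · exact hBB _ _ hy1 hy2 h12 a1 a2 (h1.resolve_left a1) (h2.resolve_left a2)
  have hG' : ∀ s t : Blk σ, MulAction.period (MulAction.toPermHom (Cs σ) (Blk σ) x') s =
      MulAction.period (MulAction.toPermHom (Cs σ) (Blk σ) x') t →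
      (MulAction.toPermHom (Cs σ) (Blk σ) x') s ≠ s →
      ∃ i : ℤ, ((MulAction.toPermHom (Cs σ) (Blk σ) x') ^ i) s = t := by
    intro s t hst hs
    have ht : (MulAction.toPermHom (Cs σ) (Blk σ) x') t ≠ t := by
      intro h
      apply hs
      have h1 := (per_iff (MulAction.toPermHom (Cs σ) (Blk σ) x') t 1).1 (by simpa using h)
      rw [← hst, ← per_iff] at h1
      simpa using h1
    obtain ⟨y, hy, rfl⟩ := hmk s
    obtain ⟨z, hz, rfl⟩ := hmk t
    have hxy : x y ≠ y := by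
      intro h; apply hs; rw [hone, mkB_eq hσ]; left; exact h
    have hxz : x z ≠ z := by
      intro h; apply ht; rw [hone, mkB_eq hσ]; left; exact h
    obtain ⟨k, hk⟩ := per_pos x hx y hxy
    obtain ⟨l, hl⟩ := per_pos x hx z hxz
    rw [period_mkB σ hσ x' hG hfix y hy hxy k hk, period_mkB σ hσ x' hG hfix z hz hxz l hl] at hst
    have hkl : k = l := Nat.pow_right_injective le_rfl hst
    obtain ⟨i, hi⟩ := hG y z (by rw [hk, hl, hkl]) hxy
    refine ⟨i, ?_⟩
    rw [pow_mkB, mkB_eq hσ]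
    left; exact hi
  have hxP : (MulAction.toPermHom (Cs σ) (Blk σ) x') ∈ (P.subtype hPC).mapSurjective hsur :=
    ⟨x', hP, rfl⟩
  have hxQ : (MulAction.toPermHom (Cs σ) (Blk σ) x') ∈ (Q.subtype hQC).mapSurjective hsur :=
    ⟨x', hQ, rfl⟩
  have hmain := ih _ hcard (Blk σ) rfl _ hord hF' hG' _ _ hxP hxQ
  have hmain' : ((P.subtype hPC : Sylow 2 (Cs σ)) : Subgroup (Cs σ)).map
      (MulAction.toPermHom (Cs σ) (Blk σ)) = ((Q.subtype hQC : Sylow 2 (Cs σ)) :
      Subgroup (Cs σ)).map (MulAction.toPermHom (Cs σ) (Blk σ)) := by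
    have := congrArg (fun S : Sylow 2 (Equiv.Perm (Blk σ)) => (S : Subgroup (Equiv.Perm (Blk σ))))
      hmain
    exact this
  have hkP : (MulAction.toPermHom (Cs σ) (Blk σ)).ker ≤
      ((P.subtype hPC : Sylow 2 (Cs σ)) : Subgroup (Cs σ)) := fun g hg =>
    hEP (ker_le σ hσ hfix g hg)
  have hkQ : (MulAction.toPermHom (Cs σ) (Blk σ)).ker ≤
      ((Q.subtype hQC : Sylow 2 (Cs σ)) : Subgroup (Cs σ)) := fun g hg =>
    hEQ (ker_le σ hσ hfix g hg)
  apply Sylow.subtype_injective (hP := hPC) (hQ := hQC)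
  apply Sylow.ext
  rw [← Subgroup.comap_map_eq_self hkP, hmain', Subgroup.comap_map_eq_self hkQ]

end ind

lemma orderOf_cycleOf {α : Type} [Fintype α] [DecidableEq α] (x : Equiv.Perm α) (a : α)
    (ha : x a ≠ a) : orderOf (x.cycleOf a) = MulAction.period x a := by
  have hc : (x.cycleOf a).IsCycle := isCycle_cycleOf x ha
  have key : ∀ i : ℕ, orderOf (x.cycleOf a) ∣ i ↔ MulAction.period x a ∣ i := by
    intro i
    rw [← per_iff, orderOf_dvd_iff_pow_eq_one, IsCycle.pow_eq_one_iff' hc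
      (by rw [cycleOf_apply_self]; exact ha), cycleOf_pow_apply_self]
  exact Nat.dvd_antisymm ((key _).2 dvd_rfl) ((key _).1 dvd_rfl)

lemma nodup_iff {α : Type} [Fintype α] [DecidableEq α] (x : Equiv.Perm α) :
    x.cycleType.Nodup ↔ ∀ y z, MulAction.period x y = MulAction.period x z → x y ≠ y →
      ∃ i : ℤ, (x ^ i) y = z := by
  rw [cycleType_def]
  constructor
  · intro h y z hyz hy
    have hz : x z ≠ z := by
      intro h
      apply hy
      have h1 := (per_iff x z 1).1 (by simpa using h)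
      rw [← hyz, ← per_iff] at h1
      simpa using h1
    have hinj := Multiset.inj_on_of_nodup_map h
    have hc1 : x.cycleOf y ∈ x.cycleFactorsFinset :=
      cycleOf_mem_cycleFactorsFinset_iff.2 (mem_support.2 hy)
    have hc2 : x.cycleOf z ∈ x.cycleFactorsFinset :=
      cycleOf_mem_cycleFactorsFinset_iff.2 (mem_support.2 hz)
    have e1 := (isCycle_cycleOf x hy).orderOf
    have e2 := (isCycle_cycleOf x hz).orderOf
    rw [orderOf_cycleOf x y hy] at e1
    rw [orderOf_cycleOf x z hz] at e2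
    have h3 := hinj _ hc1 _ hc2 (by
      show (x.cycleOf y).support.card = (x.cycleOf z).support.card
      rw [← e1, ← e2, hyz])
    have h4 : z ∈ (x.cycleOf y).support := by
      rw [h3, mem_support, cycleOf_apply_self]; exact hz
    rw [mem_support_cycleOf_iff] at h4
    exact h4.1
  · intro h
    refine Multiset.Nodup.map_on ?_ x.cycleFactorsFinset.nodup
    intro c hc d hd hcd
    have hc' := (mem_cycleFactorsFinset_iff.1 hc).1
    have hd' := (mem_cycleFactorsFinset_iff.1 hd).1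
    obtain ⟨a, ha, -⟩ := id hc'
    obtain ⟨b, hb, -⟩ := id hd'
    have ea := cycle_is_cycleOf (mem_support.2 ha) hc
    have eb := cycle_is_cycleOf (mem_support.2 hb) hd
    have ha' : x a ≠ a := by
      intro h; apply ha; rw [ea, cycleOf_apply_self, h]
    have hb' : x b ≠ b := by
      intro h; apply hb; rw [eb, cycleOf_apply_self, h]
    have hab : MulAction.period x a = MulAction.period x b := by
      rw [← orderOf_cycleOf x a ha', ← orderOf_cycleOf x b hb', ← ea, ← eb, hc'.orderOf,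
        hd'.orderOf]
      exact hcd
    have hs : SameCycle x a b := h a b hab ha'
    rw [ea, eb, hs.cycleOf_eq]

/-- Let n ≥ 2 and let x be an element of 2-power order of the symmetric group of degree n. Then x lies in exactly one Sylow 2-subgroup if and only if x has at most two fixed points and the nontrivial cycles of x have pairwise different lengths. -/
theorem result (n : ℕ) (hn : 2 ≤ n)
    (x : Equiv.Perm (Fin n)) (hx : ∃ k : ℕ, orderOf x = 2 ^ k) :
    (∃! P : Sylow 2 (Equiv.Perm (Fin n)), x ∈ P) ↔ (n ≤ x.support.card + 2 ∧ x.cycleType.Nodup) := by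
  have hcard : (Finset.univ.filter (fun y => x y = y)).card + x.support.card = n := by
    have h1 : (Finset.univ.filter (fun y => x y = y)) = x.supportᶜ := by
      ext y; simp
    rw [h1, Finset.card_compl, Fintype.card_fin]
    have := Finset.card_le_univ x.support
    rw [Fintype.card_fin] at this
    omega
  rw [nodup_iff]
  constructor
  · rintro ⟨P, hP, hu⟩
    have h1 := fixed_le P x hx (fun Q hQ => hu Q hQ)
    refine ⟨by omega, fun y z hyz hy => sameCycle_of P x hx (fun Q hQ => hu Q hQ) y z hyz hy⟩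
  · rintro ⟨h1, h2⟩
    have h3 : IsPGroup 2 (Subgroup.zpowers x) := by
      obtain ⟨k, hk⟩ := hx
      apply IsPGroup.of_card (n := k)
      rw [Nat.card_zpowers, hk]
    obtain ⟨P, hP⟩ := h3.exists_le_sylow
    have hxP : x ∈ P := hP (Subgroup.mem_zpowers x)
    refine ⟨P, hxP, fun Q hQ => ?_⟩
    exact uniq n (Fin n) (Fintype.card_fin n) x hx (by omega) h2 Q P hQ hxP

end Cfsg.Agent.S4349
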