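import Cfsg.Statements.S4379
import Cfsg.Agent.H67.SZ
import Cfsg.Agent.H76.PSolvable
import Cfsg.Agent.Solv.MinNormal
import Cfsg.Agent.Bal.PQ
import Cfsg.Agent.H30.Carter
import Cfsg.Agent.S4172

set_option autoImplicit false
open Cfsg

namespace Cfsg.Agent.S4379

open Subgroup Pointwise

universe u

/-- relative version of the conclusion -/
def Ch (p : ℕ) {G : Type u} [Group G] (N : Subgroup G) : Prop :=
  ∃ A B C D : Subgroup G, A.Normal ∧ B.Normal ∧ C.Normal ∧ D.Normal ∧ N ≤ A ∧ A ≤ B ∧ B ≤ C ∧ C ≤ D ∧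
      ¬ p ∣ N.relIndex A ∧
      (∃ k : ℕ, A.relIndex B = p ^ k) ∧ ¬ p ∣ B.relIndex C ∧ (∃ k : ℕ, C.relIndex D = p ^ k) ∧ ¬ p ∣ D.index

section

variable {G : Type u} [Group G] [Finite G] {p : ℕ} [hp : Fact p.Prime]

theorem relIndex_comap_comap {N : Subgroup G} [N.Normal] (A B : Subgroup (G ⧸ N)) :
    (A.comap (QuotientGroup.mk' N)).relIndex (B.comap (QuotientGroup.mk' N)) = A.relIndex B := by
  rw [relIndex_comap, map_comap_eq_self_of_surjective (QuotientGroup.mk'_surjective N)]

theorem Ch.comap {N : Subgroup G} [N.Normal] (h : Ch p (⊥ : Subgroup (G ⧸ N))) : Ch p N := by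
  obtain ⟨A, B, C, D, hA, hB, hC, hD, -, hAB, hBC, hCD, h1, h2, h3, h4, h5⟩ := h
  have hbot : (⊥ : Subgroup (G ⧸ N)).comap (QuotientGroup.mk' N) = N := by
    rw [MonoidHom.comap_bot, QuotientGroup.ker_mk']
  refine ⟨A.comap (QuotientGroup.mk' N), B.comap (QuotientGroup.mk' N), C.comap (QuotientGroup.mk' N),
    D.comap (QuotientGroup.mk' N), hA.comap _, hB.comap _, hC.comap _, hD.comap _, ?_, comap_mono hAB,
    comap_mono hBC, comap_mono hCD, ?_, ?_, ?_, ?_, ?_⟩
  · exact hbot.symm.le.trans (comap_mono bot_le)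
  · have := relIndex_comap_comap (N := N) ⊥ A
    rw [hbot] at this
    rwa [this]
  · rwa [relIndex_comap_comap]
  · rwa [relIndex_comap_comap]
  · rwa [relIndex_comap_comap]
  · rwa [index_comap_of_surjective _ (QuotientGroup.mk'_surjective N)]

theorem relIndex_inf_dvd {A1 A2 B1 B2 : Subgroup G} [A1.Normal] [A2.Normal] (h1 : A1 ≤ B1) (h2 : A2 ≤ B2) :
    (A1 ⊓ A2).relIndex (B1 ⊓ B2) ∣ A1.relIndex B1 * A2.relIndex B2 := by
  have h3 := relIndex_mul_relIndex (A1 ⊓ A2) (A1 ⊓ B2) (B1 ⊓ B2) (inf_le_inf le_rfl h2) (inf_le_inf h1 le_rfl)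
  rw [← h3, mul_comm]
  apply mul_dvd_mul
  · have h4 : (A1 ⊓ B2).relIndex (B1 ⊓ B2) = A1.relIndex (B1 ⊓ B2) := by
      rw [← inf_relIndex_right A1 (B1 ⊓ B2)]
      congr 1
      rw [← inf_assoc, inf_eq_left.2 h1]
    rw [h4]
    exact Cfsg.Agent.H76.relIndex_dvd_relIndex_of_le inf_le_left
  · have h4 : (A1 ⊓ A2).relIndex (A1 ⊓ B2) = A2.relIndex (A1 ⊓ B2) := by
      rw [← inf_relIndex_right A2 (A1 ⊓ B2)]
      congr 1
      rw [inf_left_comm, inf_eq_left.2 h2]
    rw [h4]
    exact Cfsg.Agent.H76.relIndex_dvd_relIndex_of_le inf_le_right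

omit [Finite G] in
theorem isPow_of_dvd {n k : ℕ} (h : n ∣ p ^ k) : ∃ j, n = p ^ j := by
  obtain ⟨j, -, hj⟩ := (Nat.dvd_prime_pow hp.out).1 h
  exact ⟨j, hj⟩

theorem Ch.inf {N1 N2 : Subgroup G} [N1.Normal] [N2.Normal] (h1 : Ch p N1) (h2 : Ch p N2) : Ch p (N1 ⊓ N2) := by
  obtain ⟨A1, B1, C1, D1, a1, b1, c1, d1, na1, ab1, bc1, cd1, e1, ⟨k1, f1⟩, g1, ⟨l1, i1⟩, j1⟩ := h1
  obtain ⟨A2, B2, C2, D2, a2, b2, c2, d2, na2, ab2, bc2, cd2, e2, ⟨k2, f2⟩, g2, ⟨l2, i2⟩, j2⟩ := h2
  refine ⟨A1 ⊓ A2, B1 ⊓ B2, C1 ⊓ C2, D1 ⊓ D2, inferInstance, inferInstance, inferInstance, inferInstance,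
    inf_le_inf na1 na2, inf_le_inf ab1 ab2, inf_le_inf bc1 bc2, inf_le_inf cd1 cd2, ?_, ?_, ?_, ?_, ?_⟩
  · intro h
    rcases (Nat.Prime.dvd_mul hp.out).1 (h.trans (relIndex_inf_dvd na1 na2)) with h | h
    exacts [e1 h, e2 h]
  · apply isPow_of_dvd (k := k1 + k2)
    have := relIndex_inf_dvd ab1 ab2
    rwa [f1, f2, ← pow_add] at this
  · intro h
    rcases (Nat.Prime.dvd_mul hp.out).1 (h.trans (relIndex_inf_dvd bc1 bc2)) with h | h
    exacts [g1 h, g2 h]
  · apply isPow_of_dvd (k := l1 + l2)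
    have := relIndex_inf_dvd cd1 cd2
    rwa [i1, i2, ← pow_add] at this
  · intro h
    have h3 := relIndex_inf_dvd (B1 := ⊤) (B2 := ⊤) (le_top : D1 ≤ ⊤) (le_top : D2 ≤ ⊤)
    rw [inf_top_eq, relIndex_top_right, relIndex_top_right, relIndex_top_right] at h3
    rcases (Nat.Prime.dvd_mul hp.out).1 (h.trans h3) with h | h
    exacts [j1 h, j2 h]

/-- `p'`-kernels are harmless. -/
theorem Ch.of_coprime {N : Subgroup G} (hN : ¬ p ∣ Nat.card N) (h : Ch p N) : Ch p (⊥ : Subgroup G) := by
  obtain ⟨A, B, C, D, hA, hB, hC, hD, hNA, hAB, hBC, hCD, h1, h2, h3, h4, h5⟩ := h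
  refine ⟨A, B, C, D, hA, hB, hC, hD, bot_le, hAB, hBC, hCD, ?_, h2, h3, h4, h5⟩
  rw [← relIndex_mul_relIndex ⊥ N A bot_le hNA, relIndex_bot_left]
  intro h
  rcases (Nat.Prime.dvd_mul hp.out).1 h with h | h
  exacts [hN h, h1 h]

/-- A normal `p`-subgroup inside the Frattini subgroup, `O_{p'} = 1`. -/
theorem eq_of_le_frattini (hcore : pPrimeCore p G = ⊥) {N A : Subgroup G} [N.Normal] [A.Normal]
    (hN : IsPGroup p N) (hΦ : N ≤ frattini G) (hNA : N ≤ A) (hrel : ¬ p ∣ N.relIndex A) : A = N := by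
  obtain ⟨k, hk⟩ := IsPGroup.iff_card.1 hN
  have hcop : (Nat.card (N.subgroupOf A)).Coprime (N.subgroupOf A).index := by
    rw [Nat.card_congr (subgroupOfEquivOfLe hNA).toEquiv, hk]
    exact Nat.Coprime.pow_left _ ((Nat.Prime.coprime_iff_not_dvd hp.out).2 hrel)
  obtain ⟨Q0, hQ0⟩ := exists_right_complement'_of_coprime hcop
  set Q := Q0.map A.subtype with hQ
  have hQc : Nat.card Q = N.relIndex A := by
    rw [hQ, Nat.card_congr (Q0.equivMapOfInjective _ A.subtype_injective).toEquiv.symm]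
    exact hQ0.symm.index_eq_card.symm
  have hsupA : N ⊔ Q = A := by
    have h1 := congrArg (Subgroup.map A.subtype) hQ0.sup_eq_top
    rw [Subgroup.map_sup, map_subgroupOf_eq_of_le hNA, ← MonoidHom.range_eq_map, range_subtype] at h1
    exact h1
  have hQcop : (Nat.card N).Coprime (Nat.card Q) := by
    rw [hk, hQc]
    exact Nat.Coprime.pow_left _ ((Nat.Prime.coprime_iff_not_dvd hp.out).2 hrel)
  have hNs : Group.IsSolvable N := by
    have := hN.isNilpotent
    infer_instance
  have htop : normalizer (Q : Set G) ⊔ frattini G = ⊤ := by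
    rw [eq_top_iff]
    intro g _
    have hg : N ⊔ Q = N ⊔ MulAut.conj g • Q := by
      have h2 : MulAut.conj g • (N ⊔ Q) = N ⊔ Q := by
        rw [hsupA]; exact Normal.conj_smul_eq_self g A
      have h3 : MulAut.conj g • N = N := Normal.conj_smul_eq_self g N
      rw [smul_sup, h3] at h2
      exact h2.symm
    have hgc : Nat.card ↥(MulAut.conj g • Q) = Nat.card Q :=
      (Nat.card_congr (equivSMul (MulAut.conj g) Q).toEquiv).symm
    obtain ⟨n, hn, hn'⟩ := H67.conj_of_sup_eq' N Q (MulAut.conj g • Q) hQcop (by rw [hgc]; exact hQcop) hNs hg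
    have h4 : n⁻¹ * g ∈ normalizer (Q : Set G) := by
      rw [H30.mem_normalizer_iff_conj_smul, map_mul, map_inv, mul_smul, ← hn', inv_smul_smul]
    have h5 : g = n * (n⁻¹ * g) := by group
    rw [h5]
    exact mul_mem (mem_sup_right (hΦ hn)) (mem_sup_left h4)
  have hQn : Q.Normal := by
    rw [← normalizer_eq_top_iff]
    exact frattini_nongenerating htop
  have hQbot : Q = ⊥ := by
    have h1 := Solv.le_pPrimeCore hQn (by
      rw [hQc]; exact ((Nat.Prime.coprime_iff_not_dvd hp.out).2 hrel).symm : (Nat.card Q).Coprime p)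
    rwa [hcore, le_bot_iff] at h1
  rw [← hsupA, hQbot, sup_bot_eq]

def HM (p : ℕ) (G : Type u) [Group G] : Prop :=
  ∀ M : Subgroup G, IsCoatom M → (∃ K : Subgroup ↥M, K.Normal ∧ ¬ p ∣ Nat.card K ∧ ∃ k : ℕ, K.index = p ^ k) ∨ (M.index).Prime

theorem HM.quotient (h : HM p G) (N : Subgroup G) [N.Normal] : HM p (G ⧸ N) := by
  intro M' hM'
  set f := QuotientGroup.mk' N with hf
  have hsur : Function.Surjective f := QuotientGroup.mk'_surjective N
  set M := M'.comap f with hM
  have hMc : IsCoatom M := by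
    constructor
    · intro htop
      apply hM'.1
      have : M.map f = ⊤ := by rw [htop, map_top_of_surjective f hsur]
      rwa [hM, map_comap_eq_self_of_surjective hsur] at this
    · intro L hL
      have h1 : M' < L.map f := by
        rw [← map_comap_eq_self_of_surjective hsur M']
        refine lt_of_le_of_ne (map_mono hL.le) ?_
        intro heq
        apply hL.ne
        have hker : f.ker ≤ M := by
          rw [hM]; intro x hx
          change f x ∈ M'
          rw [MonoidHom.mem_ker.1 hx]; exact one_mem _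
        have h2 := congrArg (Subgroup.comap f) heq
        rw [comap_map_eq_self hker, comap_map_eq_self (hker.trans hL.le)] at h2
        exact h2
      have h2 := hM'.2 _ h1
      have hker : f.ker ≤ L := by
        refine le_trans ?_ hL.le
        rw [hM]; intro x hx
        change f x ∈ M'
        rw [MonoidHom.mem_ker.1 hx]; exact one_mem _
      rw [← comap_map_eq_self hker, h2, comap_top]
  rcases h M hMc with ⟨K, hK, h1, k, h2⟩ | h1
  · left
    let g : M →* M' := (f.comp M.subtype).codRestrict M' (fun m => m.2)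
    have hg : Function.Surjective g := by
      rintro ⟨y, hy⟩
      obtain ⟨x, rfl⟩ := hsur y
      exact ⟨⟨x, hy⟩, rfl⟩
    refine ⟨K.map g, hK.map g hg, fun hd => h1 (hd.trans (card_map_dvd _ _)), ?_⟩
    apply isPow_of_dvd (k := k)
    rw [← h2]
    exact index_map_dvd _ hg
  · right
    rwa [← index_comap_of_surjective M' hsur]

theorem main : ∀ n : ℕ, ∀ (G : Type u) [Group G] [Finite G], Nat.card G = n → IsPSolvable p G → HM p G →
    Ch p (⊥ : Subgroup G) := by
  intro n
  induction n using Nat.strong_induction_on with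
  | _ n ih =>
  intro G _ _ hn hps hm
  have ihq : ∀ N : Subgroup G, ∀ _ : N.Normal, N ≠ ⊥ → Ch p N := by
    intro N hN hne
    apply Ch.comap
    refine ih (Nat.card (G ⧸ N)) ?_ (G ⧸ N) rfl (H76.isPSolvable_quotient N hps) (hm.quotient N)
    rw [← hn, ← card_mul_index N]
    have h1 : 1 < Nat.card N := by
      rw [one_lt_card_iff_ne_bot]; exact hne
    have h2 : 0 < N.index := Nat.pos_of_ne_zero index_ne_zero_of_finite
    change N.index < _
    nlinarith
  by_cases hcore : pPrimeCore p G = ⊥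
  swap
  · have h1 : ¬ p ∣ Nat.card (pPrimeCore p G) := by
      exact (Nat.Prime.coprime_iff_not_dvd hp.out).1 (Solv.pPrimeCore_card_coprime (G := G) p).symm
    exact (ihq (pPrimeCore p G) inferInstance hcore).of_coprime h1
  by_cases htriv : Subsingleton G
  · refine ⟨⊥, ⊥, ⊥, ⊥, inferInstance, inferInstance, inferInstance, inferInstance, le_rfl, le_rfl, le_rfl, le_rfl, ?_, ⟨0, ?_⟩, ?_, ⟨0, ?_⟩, ?_⟩
    all_goals simp
    · exact hp.out.one_lt.ne'
    · exact hp.out.one_lt.ne'
    · exact hp.out.one_lt.ne'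
  have hpc : pCore p G ≠ ⊥ := by
    intro h
    have h1 := H76.centralizer_pCore_le hps hcore
    rw [h, le_bot_iff] at h1
    apply htriv
    have h2 : centralizer ((⊥ : Subgroup G) : Set G) = ⊤ := by
      rw [eq_top_iff]; intro g _
      rw [mem_centralizer_iff]
      rintro x hx
      have : x = 1 := hx
      rw [this]; simp
    rw [h2] at h1
    refine ⟨fun a b => ?_⟩
    have ha : a ∈ (⊥ : Subgroup G) := by rw [← h1]; trivial
    have hb : b ∈ (⊥ : Subgroup G) := by rw [← h1]; trivial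
    rw [mem_bot.1 ha, mem_bot.1 hb]
  obtain ⟨N, ⟨hNn, hNb, hNp⟩, hNm⟩ := Set.exists_min_image
    {N : Subgroup G | N.Normal ∧ N ≠ ⊥ ∧ N ≤ pCore p G} (fun N => Nat.card N)
    (Set.toFinite _) ⟨pCore p G, inferInstance, hpc, le_rfl⟩
  have hNP : IsPGroup p N := (Cfsg.Agent.H49.pCore_isPGroup p).to_le hNp
  have hmin : ∀ M : Subgroup G, M.Normal → M ≤ N → M = ⊥ ∨ M = N := by
    intro M hM hMN
    by_cases h : M = ⊥
    · exact Or.inl h
    · exact Or.inr (eq_of_le_of_card_ge hMN (hNm M ⟨hM, h, hMN.trans hNp⟩))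
  have hNs : Group.IsSolvable N := by
    have := hNP.isNilpotent
    infer_instance
  have hab := (Solv.minimal_normal_of_solvable N hNs hNb hmin).1
  by_cases hex : ∃ K : Subgroup G, K.Normal ∧ K ≠ ⊥ ∧ N ⊓ K = ⊥
  · obtain ⟨K, hK1, hK2, hK3⟩ := hex
    rw [← hK3]
    exact (ihq N hNn hNb).inf (ihq K hK1 hK2)
  push Not at hex
  by_cases hΦ : N ≤ frattini G
  · obtain ⟨A, B, C, D, hA, hB, hC, hD, hNA, hAB, hBC, hCD, h1, ⟨k, h2⟩, h3, h4, h5⟩ := ihq N hNn hNb
    have hAN := eq_of_le_frattini hcore hNP hΦ hNA h1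
    refine ⟨⊥, B, C, D, inferInstance, hB, hC, hD, le_rfl, bot_le, hBC, hCD, ?_, ?_, h3, h4, h5⟩
    · rw [relIndex_self]
      exact hp.out.one_lt.ne' ∘ Nat.dvd_one.1
    · obtain ⟨j, hj⟩ := IsPGroup.iff_card.1 hNP
      refine ⟨j + k, ?_⟩
      rw [← relIndex_mul_relIndex ⊥ A B bot_le hAB, relIndex_bot_left, h2, hAN, hj, pow_add]
  -- the complemented case
  obtain ⟨M, hM, hNM⟩ : ∃ M : Subgroup G, IsCoatom M ∧ ¬ N ≤ M := by
    by_contra hcon
    push Not at hcon
    apply hΦ
    rw [frattini, Order.radical]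
    exact le_iInf₂ fun M hM => hcon M hM
  have hsup : N ⊔ M = ⊤ := by
    apply hM.2
    exact lt_of_le_of_ne le_sup_right (fun h => hNM (by rw [h]; exact le_sup_left))
  have hbot := Solv.inf_eq_bot_of_minimal_abelian N M hab hmin hsup hNM
  rcases hm M hM with ⟨K, hK, h1, k, h2⟩ | h1
  · let f : M →* G ⧸ N := (QuotientGroup.mk' N).comp M.subtype
    have hf : Function.Surjective f := by
      intro y
      obtain ⟨x, rfl⟩ := QuotientGroup.mk'_surjective N y
      have hx : x ∈ N ⊔ M := by rw [hsup]; trivial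
      obtain ⟨a, ha, m, hm', hx'⟩ := mem_sup_of_normal_left.1 hx
      refine ⟨⟨m, hm'⟩, ?_⟩
      change QuotientGroup.mk' N m = QuotientGroup.mk' N x
      rw [← hx', map_mul]
      have : QuotientGroup.mk' N a = 1 := (QuotientGroup.eq_one_iff _).2 ha
      rw [this, one_mul]
    have hKn : (K.map f).Normal := hK.map f hf
    have hbc : (⊥ : Subgroup (G ⧸ N)).comap (QuotientGroup.mk' N) = N := by
      rw [MonoidHom.comap_bot, QuotientGroup.ker_mk']
    refine ⟨⊥, N, (K.map f).comap (QuotientGroup.mk' N), ⊤, inferInstance, hNn, hKn.comap _, inferInstance, le_rfl,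
      bot_le, ?_, le_top, ?_, ?_, ?_, ?_, ?_⟩
    · exact hbc.symm.le.trans (comap_mono bot_le)
    · rw [relIndex_self]
      exact hp.out.one_lt.ne' ∘ Nat.dvd_one.1
    · obtain ⟨j, hj⟩ := IsPGroup.iff_card.1 hNP
      exact ⟨j, by rw [relIndex_bot_left, hj]⟩
    · have h3 := relIndex_comap_comap (N := N) ⊥ (K.map f)
      rw [hbc, relIndex_bot_left] at h3
      rw [h3]
      exact fun hd => h1 (hd.trans (card_map_dvd _ _))
    · apply isPow_of_dvd (k := k)
      rw [relIndex_top_right, index_comap_of_surjective _ (QuotientGroup.mk'_surjective N), ← h2]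
      exact index_map_dvd _ hf
    · rw [index_top]
      exact hp.out.one_lt.ne' ∘ Nat.dvd_one.1
  · -- prime index
    have hidx : M.index = Nat.card N := by
      have h2 := Solv.index_mul_card_inf_eq_card_of_sup_eq_top N M hsup
      rw [inf_comm, hbot, card_bot, mul_one] at h2
      exact h2
    have hcN : Nat.card N = p := by
      obtain ⟨j, hj⟩ := IsPGroup.iff_card.1 hNP
      rw [hidx, hj] at h1
      rw [hj]
      have h3 : j = 1 := by
        by_contra hne
        exact Nat.Prime.not_prime_pow' hne h1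
      rw [h3, pow_one]
    have hcomm : ∀ a ∈ N, ∀ b ∈ N, a * b = b * a := fun a ha b hb => Solv.comm_of_isMulCommutative hab ha hb
    have hNC : N ≤ centralizer (N : Set G) := by
      intro a ha
      rw [mem_centralizer_iff]
      intro b hb
      exact hcomm b hb a ha
    have hZn : (centralizer (N : Set G) ⊓ M).Normal := by
      rw [← normalizer_eq_top_iff, eq_top_iff, ← hsup]
      refine sup_le ?_ ?_
      · intro a ha
        apply (centralizer_le_normalizer (G := G) _)
        rw [mem_centralizer_iff]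
        rintro z ⟨hz, -⟩
        exact (mem_centralizer_iff.1 hz a ha).symm
      · refine le_trans (le_inf ?_ le_normalizer) (inf_normalizer_le_normalizer_inf)
        rw [normalizer_eq_top]
        exact le_top
    have hZ : centralizer (N : Set G) ⊓ M = ⊥ := by
      by_contra hne
      apply hex _ hZn hne
      rw [eq_bot_iff, ← hbot]
      exact le_inf inf_le_left (inf_le_right.trans inf_le_right)
    have hCN : centralizer (N : Set G) ≤ N := by
      intro c hc
      have hx : c ∈ N ⊔ M := by rw [hsup]; trivial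
      obtain ⟨a, ha, m, hm', hx'⟩ := mem_sup_of_normal_left.1 hx
      have hmC : m ∈ centralizer (N : Set G) ⊓ M := by
        refine ⟨?_, hm'⟩
        have hm2 : m = a⁻¹ * c := by rw [← hx', inv_mul_cancel_left]
        have hm3 : m ∈ centralizer (N : Set G) := by
          rw [hm2]
          exact mul_mem (inv_mem (hNC ha)) hc
        exact hm3
      rw [hZ, mem_bot] at hmC
      rw [← hx', hmC, mul_one]
      exact ha
    obtain ⟨P⟩ : Nonempty (Sylow p G) := inferInstance
    have hNle : N ≤ P := S4172.le_of_normal P hNP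
    have hPN : (P : Subgroup G) ≤ N := by
      refine le_trans ?_ hCN
      have hPn : Group.IsNilpotent P := P.isPGroup'.isNilpotent
      have hNPn : (N.subgroupOf (P : Subgroup G)).Normal := inferInstance
      have h3 := Solv.inf_center_ne_bot_of_nilpotent (N.subgroupOf (P : Subgroup G)) (by
        intro h
        apply hNb
        rw [subgroupOf_eq_bot] at h
        rw [disjoint_iff, inf_eq_left.2 hNle] at h
        exact h)
      have h4 : N.subgroupOf (P : Subgroup G) ≤ center (P : Subgroup G) := by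
        have h5 : Nat.card (N.subgroupOf (P : Subgroup G)) = p := by
          rw [Nat.card_congr (subgroupOfEquivOfLe hNle).toEquiv, hcN]
        have h6 : Nat.card (N.subgroupOf (P : Subgroup G) ⊓ center (P : Subgroup G) : Subgroup P) ∣ p := by
          have := card_dvd_of_le (inf_le_left : N.subgroupOf (P : Subgroup G) ⊓ center (P : Subgroup G) ≤ N.subgroupOf (P : Subgroup G))
          exact this.trans (dvd_of_eq h5)
        rcases (Nat.dvd_prime hp.out).1 h6 with h | h
        · exact absurd (card_eq_one.1 h) h3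
        · have h7 := eq_of_le_of_card_ge (inf_le_left : N.subgroupOf (P : Subgroup G) ⊓ center (P : Subgroup G) ≤ N.subgroupOf (P : Subgroup G)) (by rw [h, h5])
          rw [← h7]; exact inf_le_right
      intro x hx
      rw [mem_centralizer_iff]
      intro a ha
      exact (congrArg Subtype.val (mem_center_iff.1 (h4 (show (⟨a, hNle ha⟩ : P) ∈ N.subgroupOf (P : Subgroup G) from ha)) ⟨x, hx⟩)).symm
    have hPN' : (P : Subgroup G) = N := le_antisymm hPN hNle
    refine ⟨⊥, N, ⊤, ⊤, inferInstance, hNn, inferInstance, inferInstance, le_rfl, bot_le, le_top, le_rfl, ?_, ?_, ?_, ⟨0, ?_⟩, ?_⟩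
    · rw [relIndex_self]
      exact hp.out.one_lt.ne' ∘ Nat.dvd_one.1
    · exact ⟨1, by rw [relIndex_bot_left, hcN, pow_one]⟩
    · rw [relIndex_top_right, ← hPN']
      exact P.not_dvd_index
    · rw [relIndex_self, pow_zero]
    · rw [index_top]
      exact hp.out.one_lt.ne' ∘ Nat.dvd_one.1

end

/-- Let p be an odd prime and G a finite p-solvable group in which every maximal subgroup either has a normal p-complement or has prime index. Then G has a chain of normal subgroups 1 ≤ A ≤ B ≤ C ≤ D ≤ G in which A, C/B and G/D have order prime to p and B/A and D/C are p-groups (so the p-length of G is at most 2). -/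
theorem result {G : Type*} [Group G] [Finite G]
    (p : ℕ) [Fact p.Prime] (hp : p ≠ 2) (hG : Cfsg.IsPSolvable p G)
    (hmax : ∀ M : Subgroup G, IsCoatom M → (∃ K : Subgroup ↥M, K.Normal ∧ ¬ p ∣ Nat.card K ∧ ∃ k : ℕ, K.index = p ^ k) ∨ (M.index).Prime) :
    ∃ A B C D : Subgroup G, A.Normal ∧ B.Normal ∧ C.Normal ∧ D.Normal ∧ A ≤ B ∧ B ≤ C ∧ C ≤ D ∧ ¬ p ∣ Nat.card A ∧
      (∃ k : ℕ, A.relIndex B = p ^ k) ∧ ¬ p ∣ B.relIndex C ∧ (∃ k : ℕ, C.relIndex D = p ^ k) ∧ ¬ p ∣ D.index := by
  obtain ⟨A, B, C, D, hA, hB, hC, hD, -, hAB, hBC, hCD, h1, h2, h3, h4, h5⟩ := main (p := p) _ G rfl hG hmax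
  rw [relIndex_bot_left] at h1
  exact ⟨A, B, C, D, hA, hB, hC, hD, hAB, hBC, hCD, h1, h2, h3, h4, h5⟩

end Cfsg.Agent.S4379
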