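import Cfsg.Statements.S4394
import Cfsg.Agent.H84.SchX
import Cfsg.Agent.H63.PLen

set_option autoImplicit false
open Cfsg

namespace Cfsg.Agent.S4394

/-- Let X be a finite minimal non-nilpotent group (not nilpotent, every proper subgroup nilpotent) with a nontrivial normal Sylow p-subgroup P. If G is a finite p-solvable group whose Sylow p-subgroups are isomorphic to P, then G has p-length at most 1. -/
theorem result {G X : Type*} [Group G] [Finite G] [Group X] [Finite X] (p : ℕ) [Fact p.Prime]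
    (hX : Cfsg.IsMinimalNonNilpotent X) (P : Sylow p X) (hPn : (P : Subgroup X).Normal) (hP1 : (P : Subgroup X) ≠ ⊥)
    (hG : Cfsg.IsPSolvable p G) (Q : Sylow p G) (hQ : Nonempty (↥(Q : Subgroup G) ≃* ↥(P : Subgroup X))) : Cfsg.PLengthLE p 1 G := by
  classical
  have := hPn
  obtain ⟨r, α, hD⟩ := H84.Sch.exists_dat hX P hPn hP1
  obtain ⟨e⟩ := hQ
  refine H63.pLengthLE_of_quotient_coprime (pPrimeCore p G) (Solv.pPrimeCore_card_coprime p) ?_
  have hG' : IsPSolvable p (G ⧸ pPrimeCore p G) := H76.isPSolvable_quotient _ hG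
  have hO' := Solv.pPrimeCore_quotient_pPrimeCore (G := G) p
  let S : Sylow p (G ⧸ pPrimeCore p G) := Q.mapSurjective (QuotientGroup.mk'_surjective (pPrimeCore p G))
  -- the image of Q is isomorphic to Q
  let f : ↥(Q : Subgroup G) →* ↥(S : Subgroup (G ⧸ pPrimeCore p G)) :=
    ((QuotientGroup.mk' (pPrimeCore p G)).comp (Q : Subgroup G).subtype).codRestrict _ (by
      intro q
      exact ⟨q, q.2, rfl⟩)
  have hf : Function.Bijective f := by
    constructor
    · rw [injective_iff_map_eq_one]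
      intro q hq
      have h1 : ((q : G) : G ⧸ pPrimeCore p G) = 1 := congrArg Subtype.val hq
      rw [QuotientGroup.eq_one_iff] at h1
      obtain ⟨m, hm⟩ := (IsPGroup.iff_orderOf.1 Q.2) q
      rw [← orderOf_eq_one_iff]
      refine Nat.eq_one_of_dvd_coprimes (a := p ^ m) (b := Nat.card (pPrimeCore p G)) ?_ (dvd_of_eq hm) ?_
      · exact Nat.Coprime.pow_left m (Solv.pPrimeCore_card_coprime p).symm
      · have h2 := orderOf_dvd_natCard (⟨(q : G), h1⟩ : pPrimeCore p G)
        rw [Subgroup.orderOf_mk] at h2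
        rwa [Subgroup.orderOf_coe] at h2
    · rintro ⟨y, hy⟩
      obtain ⟨q, hq, rfl⟩ := hy
      exact ⟨⟨q, hq⟩, rfl⟩
  let e' := MulEquiv.ofBijective f hf
  have hle := H84.Sch.sylow_le_pCore hG' hO' S hD (e.symm.trans e')
  refine H63.pLengthLE_of_quotient_pgroup (pCore p (G ⧸ pPrimeCore p G)) (Solv.pCore_isPGroup p) ?_
  rw [H63.pLengthLE_zero_iff]
  have hnd := S.not_dvd_index
  have h1 : ¬ p ∣ (pCore p (G ⧸ pPrimeCore p G)).index := by
    intro hd
    exact hnd (by rw [le_antisymm hle (Solv.pCore_le_sylow S)]; exact hd)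
  rw [Subgroup.index_eq_card] at h1
  exact ((Nat.Prime.coprime_iff_not_dvd Fact.out).2 h1).symm

end Cfsg.Agent.S4394
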