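import Cfsg.Statements.S4395
import Cfsg.Agent.H62.SchE
import Cfsg.Agent.H62.SchG
import Cfsg.Agent.H62.SchH

set_option autoImplicit false
universe u
open Cfsg

namespace Cfsg.Agent.S4395

/-- Let p ≠ q be primes, r ≥ 1, a the multiplicative order of p modulo q, and a₀ = a when a is odd, a₀ = 3a/2 when a is even. Call a finite group minimal non-p-nilpotent when it has no normal p-complement but every proper subgroup has one. Then there is a minimal non-p-nilpotent group G₀ of order p^a₀ · q^r such that every minimal non-p-nilpotent group of order p^t · q^r (any t) is a quotient of G₀ by a central subgroup. -/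
theorem result (p q r : ℕ) [Fact p.Prime] [Fact q.Prime] (hpq : p ≠ q) (hr : 1 ≤ r) (a a₀ : ℕ)
    (ha : a = orderOf (p : ZMod q)) (ha₀ : a₀ = if a % 2 = 1 then a else 3 * a / 2) :
    ∃ (G₀ : Type u) (_ : Group G₀) (_ : Finite G₀),
      (¬ Cfsg.HasNormalPComplement p G₀ ∧ ∀ K : Subgroup G₀, K ≠ ⊤ → Cfsg.HasNormalPComplement p ↥K) ∧ Nat.card G₀ = p ^ a₀ * q ^ r ∧
      ∀ (X : Type u) [Group X] [Finite X], (¬ Cfsg.HasNormalPComplement p X ∧ ∀ K : Subgroup X, K ≠ ⊤ → Cfsg.HasNormalPComplement p ↥K) →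
        (∃ t : ℕ, Nat.card X = p ^ t * q ^ r) → ∃ φ : G₀ →* X, Function.Surjective φ ∧ φ.ker ≤ Subgroup.center G₀ := by
  classical
  have hpp : p.Prime := Fact.out
  have hqp : q.Prime := Fact.out
  -- a > 0
  have hp0 : (p : ZMod q) ≠ 0 := by
    rw [Ne, ZMod.natCast_eq_zero_iff]
    intro h
    exact hpq ((Nat.prime_dvd_prime_iff_eq hqp hpp).mp h).symm
  have ha0 : a ≠ 0 := by
    rw [ha]
    have h1 : orderOf (p : ZMod q) ∣ q - 1 := orderOf_dvd_of_pow_eq_one (ZMod.pow_card_sub_one_eq_one hp0)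
    have h2 : 0 < q - 1 := Nat.sub_pos_of_lt hqp.one_lt
    exact (Nat.pos_of_dvd_of_pos h1 h2).ne'
  -- the field
  let K : Type u := ULift.{u} (GaloisField p a)
  haveI : Finite (GaloisField p a) := inferInstance
  haveI : Finite K := inferInstance
  have hcard : Nat.card K = p ^ a := by
    rw [← GaloisField.card p a ha0]
    exact Nat.card_congr Equiv.ulift
  obtain ⟨ζ, hζ⟩ : ∃ ζ : Kˣ, orderOf ζ = q := by
    have h1 : q ∣ Nat.card Kˣ := by
      rw [Nat.card_units, hcard, ← ZMod.natCast_eq_zero_iff, Nat.cast_sub (Nat.one_le_pow _ _ hpp.pos)]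
      push_cast
      rw [ha, pow_orderOf_eq_one, sub_self]
    exact exists_prime_orderOf_dvd_card' q h1
  obtain ⟨P₀, _, _, α, κ₀, hP₀⟩ := Cfsg.Agent.H62.Sch.exists_pdata hcard ha hζ ha₀
  obtain ⟨G, _, _, P, y, κ, hsys, hPc, hGc⟩ := Cfsg.Agent.H62.Sch.exists_sys_of_pdata (r := r) hr hP₀
  refine ⟨G, inferInstance, inferInstance, hsys.minimal hpq hr hcard ha hζ, hGc, ?_⟩
  intro X _ _ hX hXc
  obtain ⟨P', y', κ', hsys'⟩ := Cfsg.Agent.H62.Sch.exists_sys hpq hr hX.1 hX.2 hXc hcard ha ζ hζ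
  exact Cfsg.Agent.H62.Sch.exists_hom hpq hcard ha hζ hsys hsys' ha₀ hPc

end Cfsg.Agent.S4395
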