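import Cfsg.Statements.S4411
import Cfsg.Agent.H11.AutoC

set_option autoImplicit false
open Cfsg

namespace Cfsg.Agent.S4411

/-- Let p and q be distinct primes with {p, q} ≠ {2, 3}, and let G be a finite group such that for every p-subgroup H of G the automizer N_G(H)/C_G(H) is p-solvable. If q divides the order of N_G(H)/C_G(H) for some p-subgroup H, then a Sylow p-subgroup of G has a normal subgroup K (normal in the Sylow subgroup) such that q divides the order of N_G(K)/C_G(K). -/
theorem result {G : Type*} [Group G] [Finite G]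
    (p q : ℕ) [Fact p.Prime] [Fact q.Prime] (hpq : p ≠ q) (h23 : ¬ ((p = 2 ∧ q = 3) ∨ (p = 3 ∧ q = 2)))
    (hsol : ∀ H : Subgroup G, IsPGroup p ↥H →
      Cfsg.IsPSolvable p (↥(Subgroup.normalizer (H : Set G)) ⧸ (Subgroup.centralizer (H : Set G)).subgroupOf (Subgroup.normalizer (H : Set G))))
    (H : Subgroup G) (hH : IsPGroup p ↥H)
    (hq : q ∣ ((Subgroup.centralizer (H : Set G)).subgroupOf (Subgroup.normalizer (H : Set G))).index)
    (Gp : Sylow p G) :
    ∃ K : Subgroup G, K ≤ (Gp : Subgroup G) ∧ (Gp : Subgroup G) ≤ Subgroup.normalizer (K : Set G) ∧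
      q ∣ ((Subgroup.centralizer (K : Set G)).subgroupOf (Subgroup.normalizer (K : Set G))).index := by
  classical
  by_contra hcon
  have hcon1 : ∀ K : Subgroup G, K ≤ (Gp : Subgroup G) → (Gp : Subgroup G) ≤ Subgroup.normalizer (K : Set G) →
      ¬ q ∣ ((Subgroup.centralizer (K : Set G)).subgroupOf (Subgroup.normalizer (K : Set G))).index :=
    fun K h1 h2 h3 => hcon ⟨K, h1, h2, h3⟩
  have hcon2 : ∀ (P : Sylow p G) (K : Subgroup G), K ≤ (P : Subgroup G) →
      (P : Subgroup G) ≤ Subgroup.normalizer (K : Set G) →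
      ¬ q ∣ ((Subgroup.centralizer (K : Set G)).subgroupOf (Subgroup.normalizer (K : Set G))).index := by
    intro P K hKP hPK hd
    obtain ⟨g, hg⟩ := MulAction.exists_smul_eq G P Gp
    have h1 : (Gp : Subgroup G) = (P : Subgroup G).map (MulAut.conj g).toMonoidHom := by
      rw [← hg]; rfl
    have h2 : Subgroup.normalizer ((K.map (MulAut.conj g).toMonoidHom : Subgroup G) : Set G) =
        (Subgroup.normalizer (K : Set G)).map (MulAut.conj g).toMonoidHom :=
      (Subgroup.map_equiv_normalizer_eq K (MulAut.conj g)).symm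
    have h3 : Subgroup.centralizer ((K.map (MulAut.conj g).toMonoidHom : Subgroup G) : Set G) =
        (Subgroup.centralizer (K : Set G)).map (MulAut.conj g).toMonoidHom :=
      (ZJ.map_centralizer_equiv (MulAut.conj g) K).symm
    apply hcon1 (K.map (MulAut.conj g).toMonoidHom)
    · rw [h1]; exact Subgroup.map_mono hKP
    · rw [h1, h2]; exact Subgroup.map_mono hPK
    · rw [h2, h3]
      show q ∣ Subgroup.relIndex _ _
      rw [Subgroup.relIndex_map_map_of_injective _ _ (MulAut.conj g).injective]
      exact hd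
  let Good : Subgroup G → Prop := fun K => IsPGroup p K ∧
    q ∣ ((Subgroup.centralizer (K : Set G)).subgroupOf (Subgroup.normalizer (K : Set G))).index
  haveI : Nonempty {K : Subgroup G // Good K} := ⟨⟨H, hH, hq⟩⟩
  obtain ⟨⟨H₀, hH₀p, hH₀q⟩, hmax⟩ := Finite.exists_max
    (fun K : {K : Subgroup G // Good K} => (Nat.card (Subgroup.normalizer (K.1 : Set G))).factorization p)
  set N := Subgroup.normalizer (H₀ : Set G) with hN
  obtain ⟨T⟩ : Nonempty (Sylow p N) := inferInstance
  set T₁ : Subgroup G := (T : Subgroup N).map N.subtype with hT₁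
  have hT₁p : IsPGroup p T₁ := T.isPGroup'.map _
  have hcardT₁ : Nat.card T₁ = p ^ (Nat.card N).factorization p := by
    rw [← T.card_eq_multiplicity]
    exact Nat.card_congr ((T : Subgroup N).equivMapOfInjective _ N.subtype_injective).symm.toEquiv
  have hH₀N : H₀ ≤ N := Subgroup.le_normalizer
  have hH₀sub : IsPGroup p (H₀.subgroupOf N) := hH₀p.comap_of_injective _ N.subtype_injective
  haveI hH₀n : (H₀.subgroupOf N).Normal := by rw [hN]; infer_instance
  have hH₀T : H₀.subgroupOf N ≤ (T : Subgroup N) :=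
    (Solv.le_pCore hH₀n hH₀sub).trans (Solv.pCore_le_sylow T)
  have hH₀T₁ : H₀ ≤ T₁ := by
    intro x hx
    exact ⟨⟨x, hH₀N hx⟩, hH₀T (Subgroup.mem_subgroupOf.mpr hx), rfl⟩
  by_cases hpi : p ∣ T₁.index
  · -- all characteristic subgroups of `T₁` are not good
    have hdvd : p ^ ((Nat.card N).factorization p + 1) ∣ Nat.card G := by
      rw [← T₁.card_mul_index, hcardT₁, pow_succ]
      exact Nat.mul_dvd_mul_left _ hpi
    have hdvd2 := Sylow.prime_pow_dvd_card_normalizer hdvd hcardT₁
    have hHyp1 : H11.AutoA.Hyp q T₁ := by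
      intro K hK y hy ⟨k, hk⟩
      have h1 : Subgroup.normalizer (T₁ : Set G) ≤
          Subgroup.normalizer ((K.map T₁.subtype : Subgroup G) : Set G) :=
        H46.normalizer_le_of_characteristic T₁ K hK
      have h2 : ¬ q ∣ ((Subgroup.centralizer ((K.map T₁.subtype : Subgroup G) : Set G)).subgroupOf
          (Subgroup.normalizer ((K.map T₁.subtype : Subgroup G) : Set G))).index := by
        intro hd
        have h3 := hmax ⟨K.map T₁.subtype, hT₁p.to_le (Subgroup.map_subtype_le _), hd⟩
        have h4 : p ^ ((Nat.card N).factorization p + 1) ∣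
            Nat.card (Subgroup.normalizer ((K.map T₁.subtype : Subgroup G) : Set G)) :=
          hdvd2.trans (Subgroup.card_dvd_of_le h1)
        have h5 := (Nat.Prime.pow_dvd_iff_le_factorization (Fact.out : p.Prime) Nat.card_pos.ne').mp h4
        exact absurd h5 (not_le.mpr (Nat.lt_succ_of_le h3))
      have h6 := H11.AutoA.mem_of_qelement (Fact.out : q.Prime) _ h2
        (y := (⟨y, hy⟩ : Subgroup.normalizer ((K.map T₁.subtype : Subgroup G) : Set G))) (k := k)
        (by rw [Subgroup.orderOf_mk, hk])
      exact Subgroup.mem_subgroupOf.mp h6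
    have hHyp : H11.AutoA.Hyp q (T : Subgroup N) :=
      H11.AutoA.Hyp.restrict N.subtype N.subtype_injective hHyp1
    have hceq : Subgroup.centralizer ((H₀.subgroupOf N : Subgroup N) : Set N) =
        (Subgroup.centralizer (H₀ : Set G)).subgroupOf N := by
      ext x
      rw [Subgroup.mem_subgroupOf, Subgroup.mem_centralizer_iff, Subgroup.mem_centralizer_iff]
      constructor
      · intro h a ha
        exact congrArg Subtype.val (h ⟨a, hH₀N ha⟩ (Subgroup.mem_subgroupOf.mpr ha))
      · intro h a ha
        exact Subtype.ext (h a (Subgroup.mem_subgroupOf.mp ha))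
    refine H11.AutoA.key hpq h23 T (H₀.subgroupOf N) hH₀sub ?_ ?_ hHyp
    · exact H76.isPSolvable_of_injective
        (QuotientGroup.quotientMulEquivOfEq hceq).toMonoidHom
        (QuotientGroup.quotientMulEquivOfEq hceq).injective (hsol H₀ hH₀p)
    · rw [hceq]; exact hH₀q
  · exact hcon2 (hT₁p.toSylow hpi) H₀ (by rw [IsPGroup.toSylow_coe]; exact hH₀T₁)
      (by rw [IsPGroup.toSylow_coe]; exact Subgroup.map_subtype_le _) hH₀q

end Cfsg.Agent.S4411
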