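import Cfsg.Statements.S5212
import Cfsg.Agent.H72.MetaAut
import Cfsg.Agent.Fus.Theta2

set_option autoImplicit false
open Cfsg

namespace Cfsg.Agent.S5212

open Cfsg.Agent.Fus Cfsg.Agent.H72 Cfsg.FusionSystem

set_option linter.style.haveILetI false


/-- Let S be a finite metacyclic 2-group that is not homocyclic abelian (a direct product of cyclic groups of one common order), not dihedral, not semidihedral and not generalized quaternion. Then every saturated fusion system over S is the inner fusion system of S. -/
theorem result {Ω : Type*} [Group Ω] {S : Subgroup Ω} [Finite S] (hS : IsPGroup 2 S) (F : Cfsg.FusionSystem S) (hF : F.IsSaturated 2) (hm : Cfsg.IsMetacyclic ↥S) (hh : ¬ ∃ n k : ℕ, Nonempty (↥S ≃* Multiplicative (Fin k → ZMod (2 ^ n)))) (hd : ¬ ∃ m : ℕ, Nonempty (↥S ≃* DihedralGroup m)) (hq : ¬ ∃ m : ℕ, Nonempty (↥S ≃* QuaternionGroup m)) (hsd : ¬ Cfsg.IsQuasiDihedral ↥S) : ∀ P : Subgroup Ω, F.Hom P = (Cfsg.innerFusionSystem S).Hom P := by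
  haveI : Fact (Nat.Prime 2) := ⟨Nat.prime_two⟩
  haveI : Finite (MulAut S) := finite_mulAut (P := S)
  have hn : F.IsNormal S := S5235.result 2 hS F hF S (stronglyClosed_self F) rfl hm hd hq hsd
  have hA : IsPGroup 2 (MulAut S) := by
    by_contra hA
    rcases meta_two_aut hS hm hA with ⟨h, -, -⟩ | ⟨n, -, ⟨e⟩⟩
    · exact hq ⟨2, h⟩
    · refine hh ⟨n, 2, ⟨e.trans ?_⟩⟩
      exact
        { toFun := fun x => Multiplicative.ofAdd ![Multiplicative.toAdd x.1, Multiplicative.toAdd x.2]
          invFun := fun f => (Multiplicative.ofAdd (Multiplicative.toAdd f 0), Multiplicative.ofAdd (Multiplicative.toAdd f 1))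
          left_inv := fun x => rfl
          right_inv := fun f => by
            apply Multiplicative.toAdd.injective
            funext i
            fin_cases i <;> rfl
          map_mul' := fun x y => by
            apply Multiplicative.toAdd.injective
            funext i
            fin_cases i <;> rfl }
  have h1 : F = innerFusionSystem S := by
    apply eq_inner_of_pgroup hS hF
    intro P hP
    exact isPGroup_autGroup_of_normal hn hA hP
  intro P
  rw [h1]

end Cfsg.Agent.S5212
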