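import Cfsg.Statements.S4418
import Cfsg.Agent.FT.Base
import Cfsg.Agent.Transfer.Frobenius
import Cfsg.Agent.S5076
import Cfsg.Agent.S5212
import Cfsg.Agent.S0949

set_option autoImplicit false
open Cfsg

namespace Cfsg.Agent.S4418

theorem card_le_two_of_sq {A : Type*} [Group A] [Finite A] (h : IsCyclic A) (h2 : ∀ a : A, a ^ 2 = 1) :
    Nat.card A ≤ 2 := by
  obtain ⟨g, hg⟩ := h.exists_generator
  rw [← orderOf_eq_card_of_forall_mem_zpowers hg]
  exact Nat.le_of_dvd (by norm_num) (orderOf_dvd_of_pow_eq_one (h2 g))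

theorem card_quot_le_two {A : Type*} [Group A] [Finite A] (N : Subgroup A) [N.Normal] (hQ : IsCyclic (A ⧸ N))
    (X : Set A) (hX : Subgroup.closure X = ⊤) (hsq : ∀ x ∈ X, (QuotientGroup.mk' N x) ^ 2 = 1) :
    Nat.card (A ⧸ N) ≤ 2 := by
  apply card_le_two_of_sq hQ
  intro q
  obtain ⟨a, rfl⟩ := QuotientGroup.mk'_surjective N q
  have ha : a ∈ Subgroup.closure X := by rw [hX]; trivial
  have hcomm : ∀ x y : A ⧸ N, x * y = y * x := fun x y => (IsCyclic.commutative (α := A ⧸ N)).is_comm.comm x y
  induction ha using Subgroup.closure_induction with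
  | mem x hx => exact hsq x hx
  | one => rw [map_one, one_pow]
  | mul x y _ _ hx hy => rw [map_mul, (show Commute _ _ from hcomm _ _).mul_pow, hx, hy, one_mul]
  | inv x _ hx => rw [map_inv, inv_pow, hx, inv_one]

theorem dihedral_case {A : Type*} [Group A] [Finite A] (N : Subgroup A) [N.Normal] (hQ : IsCyclic (A ⧸ N))
    {m : ℕ} (e : A ≃* DihedralGroup m) : Nat.card (A ⧸ N) ≤ 2 := by
  have hgen : Subgroup.closure {x : A | x ^ 2 = 1} = ⊤ := by
    rw [eq_top_iff]
    intro a _
    have hsr : ∀ i, e.symm (DihedralGroup.sr i) ∈ Subgroup.closure {x : A | x ^ 2 = 1} := by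
      intro i
      apply Subgroup.subset_closure
      show e.symm (DihedralGroup.sr i) ^ 2 = 1
      rw [← map_pow, pow_two, DihedralGroup.sr_mul_self, map_one]
    have h : ∀ d : DihedralGroup m, e.symm d ∈ Subgroup.closure {x : A | x ^ 2 = 1} := by
      intro d
      cases d with
      | r i =>
        have h1 : DihedralGroup.r i = DihedralGroup.sr 0 * DihedralGroup.sr i := by
          rw [DihedralGroup.sr_mul_sr, sub_zero]
        rw [h1, map_mul]
        exact Subgroup.mul_mem _ (hsr 0) (hsr i)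
      | sr i => exact hsr i
    have := h (e a)
    rwa [e.symm_apply_apply] at this
  apply card_quot_le_two N hQ _ hgen
  intro x hx
  rw [← map_pow, show x ^ 2 = 1 from hx, map_one]

theorem quaternion_case {A : Type*} [Group A] [Finite A] (N : Subgroup A) [N.Normal] (hQ : IsCyclic (A ⧸ N))
    {m : ℕ} (e : A ≃* QuaternionGroup m) (hm : Even m) : Nat.card (A ⧸ N) ≤ 2 := by
  have hgen : Subgroup.closure {e.symm (QuaternionGroup.a 1), e.symm (QuaternionGroup.xa 0)} = ⊤ := by
    rw [eq_top_iff]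
    intro a _
    have ha1 : e.symm (QuaternionGroup.a 1) ∈
        Subgroup.closure {e.symm (QuaternionGroup.a 1), e.symm (QuaternionGroup.xa 0)} :=
      Subgroup.subset_closure (Set.mem_insert _ _)
    have hx : e.symm (QuaternionGroup.xa 0) ∈
        Subgroup.closure {e.symm (QuaternionGroup.a 1), e.symm (QuaternionGroup.xa 0)} :=
      Subgroup.subset_closure (Set.mem_insert_of_mem _ rfl)
    have ha : ∀ i : ZMod (2 * m), e.symm (QuaternionGroup.a i) ∈
        Subgroup.closure {e.symm (QuaternionGroup.a 1), e.symm (QuaternionGroup.xa 0)} := by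
      intro i
      have h1 : QuaternionGroup.a i ∈ Subgroup.zpowers (QuaternionGroup.a (1 : ZMod (2 * m))) := by
        rcases Nat.eq_zero_or_pos m with rfl | hm0
        · have : Finite (QuaternionGroup 0) := Finite.of_equiv A e.toEquiv
          have hinj : Function.Injective (fun k : ℤ => (QuaternionGroup.a (k : ZMod (2 * 0)) : QuaternionGroup 0)) := by
            intro x y h
            have h2 := QuaternionGroup.a.inj h
            exact_mod_cast h2
          exact absurd (Finite.of_injective _ hinj) (by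
            intro h; exact not_finite ℤ)
        · have : NeZero (2 * m) := ⟨by omega⟩
          rw [Subgroup.mem_zpowers_iff]
          refine ⟨(i.val : ℤ), ?_⟩
          rw [zpow_natCast, QuaternionGroup.a_one_pow, ZMod.natCast_zmod_val]
      rw [Subgroup.mem_zpowers_iff] at h1
      obtain ⟨k, hk⟩ := h1
      rw [← hk, map_zpow]
      exact Subgroup.zpow_mem _ ha1 k
    have h : ∀ d : QuaternionGroup m, e.symm d ∈
        Subgroup.closure {e.symm (QuaternionGroup.a 1), e.symm (QuaternionGroup.xa 0)} := by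
      intro d
      cases d with
      | a i => exact ha i
      | xa i =>
        have h1 : QuaternionGroup.xa i = QuaternionGroup.xa 0 * QuaternionGroup.a i := by
          rw [QuaternionGroup.xa_mul_a, zero_add]
        rw [h1, map_mul]
        exact Subgroup.mul_mem _ hx (ha i)
    have := h (e a)
    rwa [e.symm_apply_apply] at this
  have hcomm : ∀ x y : A ⧸ N, x * y = y * x := fun x y => (IsCyclic.commutative (α := A ⧸ N)).is_comm.comm x y
  set f : QuaternionGroup m →* A ⧸ N := (QuotientGroup.mk' N).comp e.symm.toMonoidHom with hf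
  have hfa : f (QuaternionGroup.a 1) ^ 2 = 1 := by
    have h1 : QuaternionGroup.a (1 : ZMod (2 * m)) * QuaternionGroup.xa 0 * QuaternionGroup.a 1 =
        QuaternionGroup.xa 0 := by
      rw [QuaternionGroup.a_mul_xa, QuaternionGroup.xa_mul_a]
      congr 1
      ring
    have h2 := congrArg f h1
    rw [map_mul, map_mul] at h2
    have h3 : f (QuaternionGroup.a 1) * f (QuaternionGroup.xa 0) * f (QuaternionGroup.a 1) =
        f (QuaternionGroup.xa 0) * (f (QuaternionGroup.a 1) ^ 2) := by
      rw [hcomm (f (QuaternionGroup.a 1)), mul_assoc, pow_two]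
    rw [h3] at h2
    exact mul_eq_left.mp h2
  have hfx : f (QuaternionGroup.xa 0) ^ 2 = 1 := by
    have h1 : QuaternionGroup.xa (0 : ZMod (2 * m)) ^ 2 = QuaternionGroup.a 1 ^ m := by
      rw [pow_two, QuaternionGroup.xa_mul_xa, QuaternionGroup.a_one_pow]
      simp
    rw [← map_pow, h1, map_pow]
    obtain ⟨k, hk⟩ := hm
    have hk2 : m = 2 * k := by omega
    calc f (QuaternionGroup.a 1) ^ m = (f (QuaternionGroup.a 1) ^ 2) ^ k := by rw [← pow_mul]; congr 1
      _ = 1 := by rw [hfa, one_pow]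
  apply card_quot_le_two N hQ _ hgen
  rintro x (rfl | rfl)
  · exact hfa
  · exact hfx

theorem quasidihedral_case {A : Type*} [Group A] [Finite A] (N : Subgroup A) [N.Normal] (hQ : IsCyclic (A ⧸ N))
    (h : Cfsg.IsQuasiDihedral A) : Nat.card (A ⧸ N) ≤ 2 := by
  obtain ⟨n, hn, hcard, x, y, hx, hy, hxy⟩ := h
  have h2n : 2 ^ n = 2 * 2 ^ (n - 1) := by
    rw [← pow_succ']
    congr 1
    omega
  have h4 : 4 ≤ 2 ^ (n - 1) := by
    calc 4 = 2 ^ 2 := by norm_num
      _ ≤ 2 ^ (n - 1) := Nat.pow_le_pow_right (by norm_num) (by omega)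
  have hxpow : x ^ (2 ^ (n - 1) - 2) * x = x ^ (2 ^ (n - 1) - 1) := by
    rw [← pow_succ]
    congr 1
    omega
  have hyx : y ∉ Subgroup.zpowers x := by
    intro h
    rw [Subgroup.mem_zpowers_iff] at h
    obtain ⟨k, hk⟩ := h
    have h1 : y * x * y⁻¹ = x := by
      rw [← hk]
      have : Commute (x ^ k) x := Commute.zpow_self x k
      rw [this.eq, mul_inv_cancel_right]
    rw [h1, ← hxpow] at hxy
    have h3 : x ^ (2 ^ (n - 1) - 2) = 1 := by
      have := hxy.symm
      exact mul_eq_right.mp this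
    have h5 := orderOf_dvd_of_pow_eq_one h3
    rw [hx] at h5
    have h6 := Nat.le_of_dvd (by omega) h5
    omega
  have hgen : Subgroup.closure {x, y} = ⊤ := by
    have hle : Subgroup.zpowers x ≤ Subgroup.closure {x, y} := by
      rw [Subgroup.zpowers_le]
      exact Subgroup.subset_closure (Set.mem_insert _ _)
    have hymem : y ∈ Subgroup.closure {x, y} := Subgroup.subset_closure (Set.mem_insert_of_mem _ rfl)
    apply Subgroup.eq_top_of_card_eq
    have h1 : Nat.card (Subgroup.zpowers x) ∣ Nat.card (Subgroup.closure {x, y}) := Subgroup.card_dvd_of_le hle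
    have h2 : Nat.card (Subgroup.closure {x, y}) ∣ Nat.card A := Subgroup.card_subgroup_dvd_card _
    rw [Nat.card_zpowers, hx] at h1
    rw [hcard] at h2 ⊢
    obtain ⟨j, hj, hjc⟩ := (Nat.dvd_prime_pow Nat.prime_two).1 h2
    rw [hjc] at h1 ⊢
    have h3 := (Nat.pow_dvd_pow_iff_le_right (by norm_num : 1 < 2)).1 h1
    rcases Nat.lt_or_ge n j with h5 | h5
    · congr 1; omega
    · exfalso
      have h6 : j = n := by omega
      have h7 : Subgroup.zpowers x = Subgroup.closure {x, y} := by
        apply Subgroup.eq_of_le_of_card_ge hle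
        rw [Nat.card_zpowers, hx, hjc, h6]
      exact hyx (h7 ▸ hymem)
  have hcomm : ∀ x y : A ⧸ N, x * y = y * x := fun x y => (IsCyclic.commutative (α := A ⧸ N)).is_comm.comm x y
  apply card_quot_le_two N hQ _ hgen
  rintro z (rfl | rfl)
  · have h1 := congrArg (QuotientGroup.mk' N) hxy
    rw [← hxpow, map_mul, map_mul, map_mul, map_pow, map_inv, hcomm (QuotientGroup.mk' N y), mul_inv_cancel_right] at h1
    have h3 : (QuotientGroup.mk' N z) ^ (2 ^ (n - 1) - 2) = 1 := mul_eq_right.mp h1.symm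
    have h5 : (QuotientGroup.mk' N z) ^ (2 ^ n) = 1 := by
      rw [← map_pow, ← hx, pow_orderOf_eq_one, map_one]
    have h6 : (QuotientGroup.mk' N z) ^ (Nat.gcd (2 ^ (n - 1) - 2) (2 ^ n)) = 1 := pow_gcd_eq_one.2 ⟨h3, h5⟩
    have h7 : Nat.gcd (2 ^ (n - 1) - 2) (2 ^ n) = 2 := by
      have e1 : 2 ^ (n - 1) = 2 * 2 ^ (n - 2) := by
        rw [← pow_succ']
        congr 1
        omega
      have e2 : 2 ≤ 2 ^ (n - 2) := by
        calc 2 = 2 ^ 1 := by norm_num
          _ ≤ 2 ^ (n - 2) := Nat.pow_le_pow_right (by norm_num) (by omega)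
      have e3 : 2 ^ (n - 1) - 2 = 2 * (2 ^ (n - 2) - 1) := by omega
      rw [e3, h2n, Nat.gcd_mul_left]
      have e4 : Nat.Coprime (2 ^ (n - 2) - 1) (2 ^ (n - 1)) := by
        apply Nat.Coprime.pow_right
        apply Nat.Coprime.symm
        rw [Nat.coprime_two_left]
        obtain ⟨k, hk⟩ : ∃ k, n - 2 = k + 1 := ⟨n - 3, by omega⟩
        rw [hk, pow_succ] at e2 ⊢
        exact ⟨2 ^ k - 1, by omega⟩
      rw [Nat.Coprime.gcd_eq_one e4]
    rwa [h7] at h6
  · rw [← map_pow, ← hy, pow_orderOf_eq_one, map_one]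

/-- a metacyclic abelian 2-group has at most four elements of order dividing two -/
theorem card_omega_le {A : Type*} [Group A] [Finite A] (N : Subgroup A) [N.Normal] (hN : IsCyclic N)
    (hQ : IsCyclic (A ⧸ N)) (K : Subgroup A) (hK : ∀ x ∈ K, x ^ 2 = 1) : Nat.card K ≤ 4 := by
  set f : ↥K →* A ⧸ N := (QuotientGroup.mk' N).comp K.subtype with hf
  have h1 : Nat.card f.range ≤ 2 := by
    have hc : IsCyclic f.range := inferInstance
    apply card_le_two_of_sq hc
    rintro ⟨_, x, rfl⟩
    apply Subtype.ext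
    show (f x) ^ 2 = 1
    rw [← map_pow, show x ^ 2 = 1 from Subtype.ext (hK x x.2), map_one]
  have h2 : Nat.card f.ker ≤ 2 := by
    have hmem : ∀ x : f.ker, ((x : K) : A) ∈ N := by
      intro x
      have := MonoidHom.mem_ker.1 x.2
      exact (QuotientGroup.eq_one_iff _).1 this
    let g : f.ker →* N := (K.subtype.comp f.ker.subtype).codRestrict N hmem
    have hg : Function.Injective g := by
      intro a b hab
      have := congrArg Subtype.val hab
      exact Subtype.ext (Subtype.ext this)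
    have hc : IsCyclic f.ker := isCyclic_of_injective g hg
    apply card_le_two_of_sq hc
    intro x
    apply Subtype.ext
    apply Subtype.ext
    exact hK _ (x : K).2
  have h3 : Nat.card K = Nat.card f.ker * Nat.card f.range := by
    rw [← Subgroup.index_ker, mul_comm, Subgroup.index_mul_card]
  rw [h3]
  calc Nat.card f.ker * Nat.card f.range ≤ 2 * 2 := Nat.mul_le_mul h2 h1
    _ = 4 := by norm_num

/-- Brauer: a group with homocyclic Sylow 2-subgroup of rank two and exponent at least four is solvable -/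
theorem homocyclic_aux (n : ℕ) : ∀ {G : Type*} [Group G] [Finite G], Nat.card G = n → ∀ (P : Sylow 2 G) (m : ℕ), 2 ≤ m →
    Nonempty ((P : Subgroup G) ≃* Multiplicative (ZMod (2 ^ m) × ZMod (2 ^ m))) → Group.IsSolvable G := by
  induction n using Nat.strong_induction_on with
  | _ n ih =>
  intro G _ _ hn P m hm ⟨e⟩
  have : Fact (Nat.Prime 2) := ⟨Nat.prime_two⟩
  by_cases hO : ∀ N : Subgroup G, N.Normal → Odd (Nat.card N) → N = ⊥
  · obtain ⟨h1, -, h2⟩ := Cfsg.Agent.S0949.result P m hm e hO
    have h3 : Group.IsSolvable (P : Subgroup G) := by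
      have := P.2.isNilpotent
      infer_instance
    have h4 : Group.IsSolvable (G ⧸ (P : Subgroup G)) := by
      rw [Subgroup.index_eq_card] at h2
      rcases h2 with h2 | h2
      · have : Subsingleton (G ⧸ (P : Subgroup G)) := (Nat.card_eq_one_iff_unique.mp h2).1
        infer_instance
      · have : Fact (Nat.Prime 3) := ⟨Nat.prime_three⟩
        have hcyc : IsCyclic (G ⧸ (P : Subgroup G)) := isCyclic_of_prime_card h2
        exact Group.isSolvable_of_comm fun a b => hcyc.commutative.is_comm.comm a b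
    exact (Group.isSolvable_iff_subgroup_quotient (P : Subgroup G)).2 ⟨h3, h4⟩
  · push Not at hO
    obtain ⟨N, hN, hodd, hne⟩ := hO
    have hlt : Nat.card (G ⧸ N) < n := by
      rw [← hn]
      have hN1 : 1 < Nat.card N := by
        rwa [Subgroup.one_lt_card_iff_ne_bot]
      rw [Subgroup.card_eq_card_quotient_mul_card_subgroup N]
      exact lt_mul_of_one_lt_right Nat.card_pos hN1
    have hPN : ∀ x : (P : Subgroup G), (x : G) ∈ N → x = 1 := by
      intro x hx
      have h1 : orderOf (x : G) ∣ Nat.card N := by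
        have := orderOf_dvd_natCard (⟨x, hx⟩ : N)
        rwa [Subgroup.orderOf_mk] at this
      obtain ⟨k, hk⟩ := (IsPGroup.iff_orderOf.mp P.2) x
      rw [Subgroup.orderOf_coe, hk] at h1
      have h2 : k = 0 := by
        by_contra h0
        have h3 : 2 ∣ Nat.card N := (dvd_pow_self 2 h0).trans h1
        exact (Nat.not_even_iff_odd.2 hodd) (even_iff_two_dvd.2 h3)
      rw [h2, pow_zero] at hk
      exact orderOf_eq_one_iff.1 hk
    let e' : (P : Subgroup G) ≃* ((P : Subgroup G).map (QuotientGroup.mk' N)) := MulEquiv.ofBijective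
      ((QuotientGroup.mk' N).subgroupMap (P : Subgroup G)) ⟨by
        rw [injective_iff_map_eq_one]
        intro x hx
        apply hPN
        have := congrArg Subtype.val hx
        exact (QuotientGroup.eq_one_iff _).1 this, (QuotientGroup.mk' N).subgroupMap_surjective _⟩
    have h5 := ih _ hlt rfl (P.mapSurjective (QuotientGroup.mk'_surjective N)) m hm ⟨by
      rw [Sylow.coe_mapSurjective]
      exact e'.symm.trans e⟩
    exact (Group.isSolvable_iff_subgroup_quotient N).2 ⟨Cfsg.Agent.FT.solvable_of_odd hodd, h5⟩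

theorem solvable_of_npc {G : Type*} [Group G] [Finite G] (h : Cfsg.HasNormalPComplement 2 G) : Group.IsSolvable G := by
  have : Fact (Nat.Prime 2) := ⟨Nat.prime_two⟩
  obtain ⟨N, hN, hc, k, hk⟩ := Cfsg.Agent.Transfer.hasNPC_iff_exists.1 h
  have h1 : Group.IsSolvable N := Cfsg.Agent.FT.solvable_of_odd (Nat.coprime_two_right.1 hc)
  have h2 : Group.IsSolvable (G ⧸ N) := by
    have h3 : IsPGroup 2 (G ⧸ N) := IsPGroup.of_card (n := k) (by rw [← Subgroup.index_eq_card, hk])
    have := h3.isNilpotent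
    infer_instance
  exact (Group.isSolvable_iff_subgroup_quotient N).2 ⟨h1, h2⟩

theorem npc_of_inner {G : Type*} [Group G] [Finite G] (S : Sylow 2 G)
    (h : ∀ P : Subgroup G, (Cfsg.groupFusionSystem (S : Subgroup G)).Hom P =
      (Cfsg.innerFusionSystem (S : Subgroup G)).Hom P) : Cfsg.HasNormalPComplement 2 G := by
  have : Fact (Nat.Prime 2) := ⟨Nat.prime_two⟩
  apply Cfsg.Agent.Transfer.hasNPC_of_frobenius
  apply Cfsg.Agent.Transfer.frobenius_hyp_of_sylow S
  intro Q hQ g hg ho
  have h1 : Cfsg.conjHom Q g ∈ (Cfsg.groupFusionSystem (S : Subgroup G)).Hom Q := by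
    refine ⟨hQ, fun x => hQ ?_, g, fun x => rfl⟩
    exact (Subgroup.mem_normalizer_iff.mp hg _).mp x.2
  rw [h Q] at h1
  obtain ⟨-, s, hs, hsx⟩ := h1
  have hsx' : ∀ x : Q, g * (x : G) * g⁻¹ = s * (x : G) * s⁻¹ := hsx
  have hsN : s ∈ Subgroup.normalizer (Q : Set G) := by
    have hmap : Q.map (MulAut.conj s).toMonoidHom = Q := by
      have hmapg : Q.map (MulAut.conj g).toMonoidHom = Q := by
        apply le_antisymm
        · rintro _ ⟨x, hx, rfl⟩
          exact (Subgroup.mem_normalizer_iff.mp hg _).mp hx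
        · intro x hx
          refine ⟨g⁻¹ * x * g, ?_, ?_⟩
          · have := (Subgroup.mem_normalizer_iff.mp (inv_mem hg) x).mp hx
            simpa using this
          · show g * (g⁻¹ * x * g) * g⁻¹ = x
            group
      rw [← hmapg]
      apply le_antisymm
      · rintro _ ⟨x, hx, rfl⟩
        rw [hmapg] at hx
        refine ⟨x, hx, ?_⟩
        exact hsx' ⟨x, hx⟩
      · rintro _ ⟨x, hx, rfl⟩
        refine ⟨x, by rwa [hmapg], ?_⟩
        exact (hsx' ⟨x, hx⟩).symm
    rw [Subgroup.mem_normalizer_iff]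
    intro x
    constructor
    · intro hx
      rw [← hmap]
      exact ⟨x, hx, rfl⟩
    · intro hx
      rw [← hmap] at hx
      obtain ⟨y, hy, hyx⟩ := hx
      have : y = x := by
        have h3 : s * y * s⁻¹ = s * x * s⁻¹ := hyx
        exact mul_left_cancel (mul_right_cancel h3)
      rwa [← this]
  have heq : Q.normalizerMonoidHom ⟨g, hg⟩ = Q.normalizerMonoidHom ⟨s, hsN⟩ := by
    apply MulEquiv.ext
    intro x
    exact Subtype.ext (hsx' x)
  have d1 : orderOf (Q.normalizerMonoidHom ⟨g, hg⟩) ∣ orderOf g := by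
    have := orderOf_map_dvd Q.normalizerMonoidHom ⟨g, hg⟩
    rwa [Subgroup.orderOf_mk] at this
  have d2 : orderOf (Q.normalizerMonoidHom ⟨g, hg⟩) ∣ orderOf s := by
    rw [heq]
    have := orderOf_map_dvd Q.normalizerMonoidHom ⟨s, hsN⟩
    rwa [Subgroup.orderOf_mk] at this
  obtain ⟨k, hk⟩ := (IsPGroup.iff_orderOf.mp S.2) ⟨s, hs⟩
  rw [Subgroup.orderOf_mk] at hk
  have d3 : orderOf (Q.normalizerMonoidHom ⟨g, hg⟩) = 1 := by
    apply Nat.eq_one_of_dvd_coprimes _ d1 d2
    rw [hk]
    exact Nat.Coprime.pow_right _ ho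
  rw [orderOf_eq_one_iff] at d3
  rw [Subgroup.mem_centralizer_iff]
  intro x hx
  have h5 := congrArg (fun φ : MulAut Q => ((φ ⟨x, hx⟩ : Q) : G)) d3
  have h6 : g * x * g⁻¹ = x := h5
  calc x * g = (g * x * g⁻¹) * g := by rw [h6]
    _ = g * x := by group

theorem quaternion_odd {A : Type*} [Group A] [Finite A] (hA : IsPGroup 2 A) {m : ℕ} (e : A ≃* QuaternionGroup m)
    (hm : Odd m) : IsCyclic A := by
  have : Fact (Nat.Prime 2) := ⟨Nat.prime_two⟩
  have hm0 : NeZero m := ⟨hm.pos.ne'⟩
  have hcard : Nat.card A = 4 * m := by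
    rw [Nat.card_congr e.toEquiv, Nat.card_eq_fintype_card, QuaternionGroup.card]
  obtain ⟨k, hk⟩ := hA.exists_card_eq
  have h1 : m ∣ 2 ^ k := by rw [← hk, hcard]; exact Dvd.intro_left _ rfl
  have h2 : m = 1 := by
    apply Nat.eq_one_of_dvd_coprimes _ dvd_rfl h1
    exact Nat.Coprime.pow_right _ (Nat.coprime_two_right.2 hm)
  subst h2
  have h3 : orderOf (e.symm (QuaternionGroup.xa 0)) = Nat.card A := by
    rw [hcard]
    rw [show orderOf (e.symm (QuaternionGroup.xa 0)) = orderOf (QuaternionGroup.xa (0 : ZMod (2 * 1))) from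
      orderOf_injective e.symm.toMonoidHom e.symm.injective _, QuaternionGroup.orderOf_xa]
  exact isCyclic_of_orderOf_eq_card _ h3

theorem zmod_two_add : ∀ z : ZMod (2 ^ 1), z + z = 0 := by decide

theorem homocyclic_case {G : Type*} [Group G] [Finite G] (S : Sylow 2 G) (N : Subgroup ↥(S : Subgroup G))
    [hN : N.Normal] (hNc : IsCyclic N) (hQc : IsCyclic (↥(S : Subgroup G) ⧸ N))
    (hQ : 2 < Nat.card (↥(S : Subgroup G) ⧸ N)) (hcycS : IsCyclic ↥(S : Subgroup G) → Group.IsSolvable G)
    {n k : ℕ} (e : ↥(S : Subgroup G) ≃* Multiplicative (Fin k → ZMod (2 ^ n))) : Group.IsSolvable G := by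
  have : Fact (Nat.Prime 2) := ⟨Nat.prime_two⟩
  have hcomm : ∀ x y : ↥(S : Subgroup G), x * y = y * x := by
    intro x y
    apply e.injective
    rw [map_mul, map_mul, mul_comm]
  have hSQ : Nat.card (↥(S : Subgroup G) ⧸ N) ∣ Nat.card ↥(S : Subgroup G) := by
    rw [Subgroup.card_eq_card_quotient_mul_card_subgroup N]
    exact Dvd.intro _ rfl
  have hS2 : 2 < Nat.card ↥(S : Subgroup G) := lt_of_lt_of_le hQ (Nat.le_of_dvd Nat.card_pos hSQ)
  have hcardS : Nat.card ↥(S : Subgroup G) = (2 ^ n) ^ k := by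
    rw [Nat.card_congr e.toEquiv]
    have : Nat.card (Multiplicative (Fin k → ZMod (2 ^ n))) = Nat.card (Fin k → ZMod (2 ^ n)) := rfl
    rw [this, Nat.card_fun, Nat.card_zmod, Nat.card_fin]
  have hn0 : n ≠ 0 := by
    rintro rfl
    rw [pow_zero, one_pow] at hcardS
    omega
  have hk0 : k ≠ 0 := by
    rintro rfl
    rw [pow_zero] at hcardS
    omega
  -- the elements of order dividing two
  let K : Subgroup ↥(S : Subgroup G) :=
    { carrier := {x | x ^ 2 = 1}
      one_mem' := one_pow _
      mul_mem' := fun {a b} ha hb => by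
        show (a * b) ^ 2 = 1
        rw [(show Commute a b from hcomm a b).mul_pow, show a ^ 2 = 1 from ha, show b ^ 2 = 1 from hb, one_mul]
      inv_mem' := fun {a} ha => by
        show a⁻¹ ^ 2 = 1
        rw [inv_pow, show a ^ 2 = 1 from ha, inv_one] }
  have hK4 : Nat.card K ≤ 4 := card_omega_le N hNc hQc K (fun x hx => hx)
  have hKk : 2 ^ k ≤ Nat.card K := by
    have h2 : (2 ^ (n - 1) : ZMod (2 ^ n)) + 2 ^ (n - 1) = 0 := by
      have h3 : (2 ^ (n - 1) : ZMod (2 ^ n)) + 2 ^ (n - 1) = ((2 ^ n : ℕ) : ZMod (2 ^ n)) := by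
        rw [← two_mul, ← pow_succ']
        push_cast
        congr 1
        omega
      rw [h3, ZMod.natCast_self]
    have hne : (2 ^ (n - 1) : ZMod (2 ^ n)) ≠ 0 := by
      intro h
      have h3 : ((2 ^ (n - 1) : ℕ) : ZMod (2 ^ n)) = 0 := by push_cast; exact h
      rw [ZMod.natCast_eq_zero_iff] at h3
      have h4 := (Nat.pow_dvd_pow_iff_le_right (by norm_num : 1 < 2)).1 h3
      omega
    let g : (Fin k → Bool) → Multiplicative (Fin k → ZMod (2 ^ n)) := fun b =>
      Multiplicative.ofAdd (fun i => if b i then (2 ^ (n - 1) : ZMod (2 ^ n)) else 0)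
    have hg2 : ∀ b, g b ^ 2 = 1 := by
      intro b
      rw [pow_two]
      apply Multiplicative.toAdd.injective
      funext i
      show (if b i then (2 ^ (n - 1) : ZMod (2 ^ n)) else 0) + (if b i then (2 ^ (n - 1) : ZMod (2 ^ n)) else 0) = 0
      split_ifs
      · exact h2
      · exact add_zero 0
    have hginj : Function.Injective g := by
      intro b c hbc
      have h3 := Multiplicative.ofAdd.injective hbc
      funext i
      have h4 := congrFun h3 i
      rcases hb : b i with _ | _ <;> rcases hc : c i with _ | _ <;> simp [hb, hc] at h4 ⊢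
      · exact hne h4.symm
      · exact hne h4
    let g' : (Fin k → Bool) → K := fun b => ⟨e.symm (g b), by
      show (e.symm (g b)) ^ 2 = 1
      rw [← map_pow, hg2, map_one]⟩
    have hg'inj : Function.Injective g' := by
      intro b c hbc
      apply hginj
      exact e.symm.injective (congrArg Subtype.val hbc)
    have h5 := Nat.card_le_card_of_injective g' hg'inj
    rwa [Nat.card_fun, Nat.card_fin, show Nat.card Bool = 2 by simp] at h5
  have hk2 : k ≤ 2 := by
    have h6 : 2 ^ k ≤ 2 ^ 2 := hKk.trans hK4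
    exact (Nat.pow_le_pow_iff_right (by norm_num)).1 h6
  have hk12 : k = 1 ∨ k = 2 := by omega
  rcases hk12 with rfl | rfl
  · apply hcycS
    let f : Multiplicative (ZMod (2 ^ n)) →* ↥(S : Subgroup G) :=
      e.symm.toMonoidHom.comp (AddMonoidHom.toMultiplicative (Pi.constAddMonoidHom (Fin 1) (ZMod (2 ^ n))))
    apply isCyclic_of_surjective f
    intro s
    refine ⟨Multiplicative.ofAdd (Multiplicative.toAdd (e s) 0), ?_⟩
    show e.symm _ = s
    rw [MulEquiv.symm_apply_eq]
    apply Multiplicative.toAdd.injective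
    funext i
    rw [Subsingleton.elim i 0]
    rfl
  · rcases Nat.lt_or_ge n 2 with hn | hn
    · exfalso
      have hn1 : n = 1 := by omega
      subst hn1
      have h7 : ∀ x : ↥(S : Subgroup G), x ^ 2 = 1 := by
        intro x
        apply e.injective
        rw [map_pow, map_one, pow_two]
        apply Multiplicative.toAdd.injective
        funext i
        exact zmod_two_add ((Multiplicative.toAdd (e x)) i)
      have h8 : Nat.card (↥(S : Subgroup G) ⧸ N) ≤ 2 := by
        apply card_quot_le_two N hQc Set.univ Subgroup.closure_univ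
        intro x _
        rw [← map_pow, h7, map_one]
      omega
    · exact homocyclic_aux _ rfl S n hn ⟨e.trans
        (AddEquiv.toMultiplicative (LinearEquiv.finTwoArrow ℤ (ZMod (2 ^ n))).toAddEquiv)⟩

/-- Let G be a finite group whose Sylow 2-subgroup S is metacyclic via a cyclic normal subgroup N of S with S/N cyclic of order greater than 2. Then G is soluble. -/
theorem result {G : Type*} [Group G] [Finite G] (S : Sylow 2 G) (N : Subgroup ↥(S : Subgroup G)) [hN : N.Normal] (hNc : IsCyclic N) (hQc : IsCyclic (↥(S : Subgroup G) ⧸ N)) (hQ : 2 < Nat.card (↥(S : Subgroup G) ⧸ N)) : Group.IsSolvable G := by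
  have : Fact (Nat.Prime 2) := ⟨Nat.prime_two⟩
  have hSQ : Nat.card (↥(S : Subgroup G) ⧸ N) ∣ Nat.card ↥(S : Subgroup G) := by
    rw [Subgroup.card_eq_card_quotient_mul_card_subgroup N]
    exact Dvd.intro _ rfl
  have hS2 : 2 < Nat.card ↥(S : Subgroup G) := lt_of_lt_of_le hQ (Nat.le_of_dvd Nat.card_pos hSQ)
  have hcycS : IsCyclic ↥(S : Subgroup G) → Group.IsSolvable G := by
    intro hc
    apply solvable_of_npc
    apply Cfsg.Agent.Transfer.hasNPC_of_normalizer_le_centralizer S
    have h2 : 2 ∣ Nat.card G := by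
      obtain ⟨k, hk⟩ := S.2.exists_card_eq
      rcases Nat.eq_zero_or_pos k with rfl | hk0
      · rw [pow_zero] at hk; omega
      · exact (dvd_pow_self 2 hk0.ne').trans (hk ▸ Subgroup.card_subgroup_dvd_card _)
    have hmin : (Nat.card G).minFac = 2 := Nat.minFac_eq_two_iff _ |>.2 h2
    exact IsCyclic.normalizer_le_centralizer hmin hc
  by_cases hin : ∀ P : Subgroup G, (Cfsg.groupFusionSystem (S : Subgroup G)).Hom P =
      (Cfsg.innerFusionSystem (S : Subgroup G)).Hom P
  · exact solvable_of_npc (npc_of_inner S hin)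
  have hmeta : Cfsg.IsMetacyclic ↥(S : Subgroup G) := ⟨N, hN, hNc, hQc⟩
  by_cases hh : ∃ n k : ℕ, Nonempty (↥(S : Subgroup G) ≃* Multiplicative (Fin k → ZMod (2 ^ n)))
  · obtain ⟨n, k, ⟨e⟩⟩ := hh
    exact homocyclic_case S N hNc hQc hQ hcycS e
  by_cases hd : ∃ m : ℕ, Nonempty (↥(S : Subgroup G) ≃* DihedralGroup m)
  · obtain ⟨m, ⟨e⟩⟩ := hd
    have := dihedral_case N hQc e
    omega
  by_cases hq : ∃ m : ℕ, Nonempty (↥(S : Subgroup G) ≃* QuaternionGroup m)
  · obtain ⟨m, ⟨e⟩⟩ := hq
    by_cases hm : Even m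
    · have := quaternion_case N hQc e hm
      omega
    · apply hcycS
      exact quaternion_odd S.2 e (Nat.not_even_iff_odd.1 hm)
  by_cases hsd : Cfsg.IsQuasiDihedral ↥(S : Subgroup G)
  · have := quasidihedral_case N hQc hsd
    omega
  exact absurd (Cfsg.Agent.S5212.result S.2 (Cfsg.groupFusionSystem (S : Subgroup G)) (Cfsg.Agent.S5076.result 2 S)
    hmeta hh hd hq hsd) hin

end Cfsg.Agent.S4418
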