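import Cfsg.Statements.S4419
import Cfsg.Agent.H73.ActRank
import Cfsg.Agent.H65.MetaP
import Cfsg.Agent.Transfer.Frobenius
import Cfsg.Agent.H30.PLenMore
import Cfsg.Agent.Solv.Frattini

set_option autoImplicit false
open Cfsg

namespace Cfsg.Agent.S4419

open Subgroup

open Cfsg.Agent

theorem frattini_index_le {Q : Type*} [Group Q] [Finite Q] {p : ℕ} [hp : Fact p.Prime]
    (hQ : IsPGroup p Q) (hm : Cfsg.IsMetacyclic Q) : (frattini Q).index ≤ p ^ 2 := by
  have h1 := H65.index_closure_pow_le (p := p) hm 1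
  have h2 : closure {x : Q | ∃ y : Q, y ^ p ^ 1 = x} ≤ frattini Q := by
    rw [closure_le]
    rintro _ ⟨y, rfl⟩
    rw [pow_one]
    exact Cfsg.Agent.Solv.pow_mem_frattini_of_pGroup hQ y
  have h3 := index_antitone h2
  exact h3.trans (by simpa using h1)

/-- Let p be a prime and G a finite group whose Sylow p-subgroups are metacyclic (a cyclic normal subgroup with cyclic quotient). Then G has a normal p-complement if and only if the order of G/O_{p′,p}(G) is coprime to p² − 1. -/
theorem result {G : Type*} [Group G] [Finite G] (p : ℕ) [Fact p.Prime] (S : Sylow p G) (hS : Cfsg.IsMetacyclic ↥(S : Subgroup G)) : Cfsg.HasNormalPComplement p G ↔ Nat.Coprime (Nat.card (G ⧸ Cfsg.pPrimePCore p G)) (p ^ 2 - 1) := by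
  have hp : p.Prime := Fact.out
  constructor
  · intro h
    obtain ⟨N, hN, h1, k, h2⟩ := Transfer.hasNPC_iff_exists.1 h
    have h3 : N ≤ pPrimeCore p G := Solv.le_pPrimeCore hN h1
    have h4 : IsPGroup p (G ⧸ pPrimeCore p G) := by
      obtain ⟨j, -, hj⟩ := (Nat.dvd_prime_pow hp).1 (h2 ▸ index_dvd_of_le h3)
      exact IsPGroup.of_card (n := j) (by rw [← index_eq_card, hj])
    have h5 : pCore p (G ⧸ pPrimeCore p G) = ⊤ := by
      rw [eq_top_iff]
      exact Solv.le_pCore inferInstance (h4.to_subgroup ⊤)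
    have h6 : pPrimePCore p G = ⊤ := by
      rw [pPrimePCore, h5, comap_top]
    rw [← index_eq_card, h6, index_top]
    exact Nat.coprime_one_left _
  · intro hcop
    apply Transfer.hasNPC_of_frobenius
    apply Transfer.frobenius_hyp_of_sylow S
    intro Q hQS g hg hgp
    have hQp : IsPGroup p Q := S.2.to_le hQS
    have hQm : Cfsg.IsMetacyclic Q := by
      have h1 := H65.isMetacyclic_subgroup hS (Q.subgroupOf (S : Subgroup G))
      obtain ⟨N, hN, h2, h3⟩ := h1
      let e : Q.subgroupOf (S : Subgroup G) ≃* Q := subgroupOfEquivOfLe hQS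
      have hN' : (N.map e.toMonoidHom).Normal := hN.map _ e.surjective
      refine ⟨N.map e.toMonoidHom, hN', ?_, ?_⟩
      · exact isCyclic_of_surjective (e.toMonoidHom.subgroupMap N) (e.toMonoidHom.subgroupMap_surjective N)
      · have : N ≤ (N.map e.toMonoidHom).comap e.toMonoidHom := le_comap_map _ _
        refine isCyclic_of_surjective (QuotientGroup.map N (N.map e.toMonoidHom) e.toMonoidHom this) ?_
        exact QuotientGroup.map_surjective_of_surjective _ _ _ (by
          intro y
          obtain ⟨z, rfl⟩ := QuotientGroup.mk_surjective y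
          obtain ⟨w, rfl⟩ := e.surjective z
          exact ⟨w, rfl⟩) _
    have hQi := frattini_index_le hQp hQm
    -- a set of generators of prime power order
    by_contra hgC
    -- choose a prime-power part of g not centralizing Q
    have hex : ∃ r : ℕ, ∃ _ : Fact r.Prime, r ≠ p ∧ ∃ x : G, x ∈ zpowers g ∧ IsPGroup r (zpowers x) ∧
        x ∉ centralizer (Q : Set G) := by
      set Z : Subgroup G := zpowers g with hZ
      set D : Subgroup Z := (centralizer (Q : Set G)).subgroupOf Z with hD
      have hDt : D.index ≠ 1 := by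
        rw [Ne, index_eq_one, hD, subgroupOf_eq_top]
        intro h
        exact hgC (h (mem_zpowers g))
      set r := D.index.minFac with hr
      have hrp : r.Prime := Nat.minFac_prime hDt
      have hrf : Fact r.Prime := ⟨hrp⟩
      have hrD : r ∣ D.index := Nat.minFac_dvd _
      refine ⟨r, hrf, ?_, ?_⟩
      · intro h
        have h1 : r ∣ orderOf g := by
          rw [← Nat.card_zpowers]
          exact hrD.trans (index_dvd_card D)
        rw [h] at h1
        have h2 := Nat.Coprime.eq_one_of_dvd hgp.symm h1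
        exact hp.one_lt.ne' h2
      · obtain ⟨T⟩ : Nonempty (Sylow r Z) := inferInstance
        have hTD : ¬ (T : Subgroup Z) ≤ D := fun h => T.not_dvd_index (hrD.trans (index_dvd_of_le h))
        obtain ⟨t, htT, htD⟩ := SetLike.not_le_iff_exists.1 hTD
        refine ⟨t, t.2, ?_, ?_⟩
        · obtain ⟨k, hk⟩ := Transfer.isPGroup_mem_pow T.2 htT
          have hk' : (t : G) ^ r ^ k = 1 := congrArg Subtype.val hk
          rintro ⟨_, m, rfl⟩
          refine ⟨k, ?_⟩
          ext
          change ((t : G) ^ m) ^ r ^ k = 1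
          rw [← zpow_natCast, ← zpow_mul, mul_comm, zpow_mul, zpow_natCast, hk', one_zpow]
        · intro h
          exact htD h
    obtain ⟨r, hr, hrp, x, hxg, hx, hxC⟩ := hex
    have hxN : x ∈ normalizer (Q : Set G) := (zpowers_le.2 hg) hxg
    have hdvd : r ∣ p ^ 2 - 1 := by
      refine H73.ActRank.dvd_of_normalizes hrp hQp hx (zpowers_le.2 hxN) hQi ?_
      intro h
      exact hxC (h (mem_zpowers x))
    obtain ⟨k, hk⟩ := hx ⟨x, mem_zpowers x⟩
    have hxk : x ^ r ^ k = 1 := congrArg Subtype.val hk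
    -- x lies in O_{p'}(G)
    have hx1 : x ∈ pPrimePCore p G := by
      have hn : (pPrimePCore p G).Normal := by rw [pPrimePCore]; infer_instance
      rw [← QuotientGroup.eq_one_iff, ← orderOf_eq_one_iff]
      have h1 : orderOf (x : G ⧸ pPrimePCore p G) ∣ r ^ k := by
        apply orderOf_dvd_of_pow_eq_one
        rw [← QuotientGroup.mk_pow, hxk, QuotientGroup.mk_one]
      have h2 : orderOf (x : G ⧸ pPrimePCore p G) ∣ Nat.card (G ⧸ pPrimePCore p G) :=
        orderOf_dvd_natCard _
      have h3 : Nat.Coprime (r ^ k) (Nat.card (G ⧸ pPrimePCore p G)) :=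
        (Nat.Coprime.coprime_dvd_left hdvd hcop.symm).pow_left k
      exact Nat.eq_one_of_dvd_coprimes h3 h1 h2
    have hx2 : x ∈ pPrimeCore p G := by
      rw [pPrimePCore, mem_comap] at hx1
      obtain ⟨j, hj⟩ := Transfer.isPGroup_mem_pow (Solv.pCore_isPGroup (G := G ⧸ pPrimeCore p G) p) hx1
      rw [← QuotientGroup.eq_one_iff, ← orderOf_eq_one_iff]
      have h1 : orderOf (x : G ⧸ pPrimeCore p G) ∣ r ^ k := by
        apply orderOf_dvd_of_pow_eq_one
        rw [← QuotientGroup.mk_pow, hxk, QuotientGroup.mk_one]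
      have h2 : orderOf (x : G ⧸ pPrimeCore p G) ∣ p ^ j := orderOf_dvd_of_pow_eq_one hj
      exact Nat.eq_one_of_dvd_coprimes (Nat.Coprime.pow _ _ ((Nat.coprime_primes hr.out hp).2 hrp)) h1 h2
    apply hxC
    rw [mem_centralizer_iff]
    intro q hq
    have h1 : x * q * x⁻¹ * q⁻¹ ∈ Q :=
      mul_mem ((mem_normalizer_iff.1 hxN q).1 hq) (inv_mem hq)
    have h2 : x * q * x⁻¹ * q⁻¹ ∈ pPrimeCore p G := by
      have : x * q * x⁻¹ * q⁻¹ = x * (q * x⁻¹ * q⁻¹) := by group
      rw [this]
      exact mul_mem hx2 (Subgroup.Normal.conj_mem inferInstance _ (inv_mem hx2) q)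
    have h3 : Q ⊓ pPrimeCore p G = ⊥ := by
      obtain ⟨m, hm⟩ := IsPGroup.iff_card.1 hQp
      apply Cop.inf_eq_bot_of_coprime
      rw [hm]
      exact (Solv.pPrimeCore_card_coprime p).symm.pow_left m
    have h4 : x * q * x⁻¹ * q⁻¹ ∈ Q ⊓ pPrimeCore p G := ⟨h1, h2⟩
    rw [h3, mem_bot, mul_inv_eq_one, mul_inv_eq_iff_eq_mul] at h4
    exact h4.symm

end Cfsg.Agent.S4419
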