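import Cfsg.Statements.S4492
import Cfsg.Agent.H79.PSolvK

set_option autoImplicit false
open Cfsg

namespace Cfsg.Agent.S4492

/-- Let G be a finite p-solvable group, N = O_{p'}(G) its largest normal subgroup of order prime to p, and θ an irreducible character of N invariant under conjugation by G; fix a maximal ideal M of the algebraic integers containing p. Then the irreducible characters of G lying over θ (those whose restriction to N contains θ) form a single p-block of G, and the defect groups of that block are exactly the Sylow p-subgroups of G. -/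
theorem result {G : Type*} [Group G] [Fintype G] (p : ℕ) [Fact p.Prime] (M : Ideal Cfsg.AlgInt) (hM : Cfsg.IsPModular p M) (hsolv : Cfsg.IsPSolvable p G) (N : Subgroup G) [hN : N.Normal] [Fintype N] (hNdef : N = Cfsg.pPrimeCore p G) (θ : Cfsg.IrrCharacter N) (hinv : ∀ (g : G) (n : N), (θ : N → ℂ) ⟨g * n * g⁻¹, hN.conj_mem n n.2 g⟩ = (θ : N → ℂ) n) : ∃ B : Set (Cfsg.IrrCharacter G), Cfsg.IsPBlock M B ∧ (∀ χ : Cfsg.IrrCharacter G, χ ∈ B ↔ Cfsg.classInner (fun n : N => (χ : G → ℂ) n) (θ : N → ℂ) ≠ 0) ∧ (∀ P : Sylow p G, Cfsg.IsDefectGroup p M B (P : Subgroup G)) ∧ ∀ D : Subgroup G, Cfsg.IsDefectGroup p M B D → ∃ P : Sylow p G, D = (P : Subgroup G) := by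
  classical
  subst hNdef
  haveI := Cfsg.Agent.Blk.isPrime_of_isPModular hM
  haveI := Cfsg.Agent.Blk.charP_kM hM
  obtain ⟨K, hKn, hNK, hKp, hC⟩ := Cfsg.Agent.H79.exists_K_of_psolvable hsolv
  have hinv' : ∀ g : G, Cfsg.Agent.Char.cj (Cfsg.pPrimeCore p G) g
      (θ : Cfsg.pPrimeCore p G → ℂ) = θ := fun g => funext fun n => hinv g n
  obtain ⟨B, hB, hmem, hD⟩ := Cfsg.Agent.H79.fong_core hM Cfsg.Agent.H79.not_dvd_pPrimeCore hinv'
    hNK hKp (fun Q h1 h2 h3 => (hC Q h1 h2 h3).2)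
  refine ⟨B, hB, hmem, ?_, ?_⟩
  · intro P
    obtain ⟨D, hD'⟩ := Cfsg.Agent.BlkInd.exists_defectGroup hM hB
    let PD : Sylow p G := Sylow.ofCard D (hD D hD')
    obtain ⟨g, hg⟩ := MulAction.exists_smul_eq G PD P
    rw [Cfsg.Agent.Blk.isDefectGroup_iff hM hB] at hD' ⊢
    have h1 := hD'.cj_of_mem (Cfsg.Agent.Blk.isBlk_eB hB).fixed (Subgroup.mem_top g)
    have h2 : D.map (MulAut.conj g).toMonoidHom = (P : Subgroup G) := by
      rw [← hg]; rfl
    rw [h2] at h1
    exact h1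
  · intro D hD'
    exact ⟨Sylow.ofCard D (hD D hD'), rfl⟩

end Cfsg.Agent.S4492
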