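import Cfsg.Statements.S4573
import Cfsg.Agent.H11.DadeEmbB

set_option autoImplicit false
universe u
open Cfsg

namespace Cfsg.Agent.S4573


open Cfsg.Agent.H11.DadeEmb Cfsg.Agent.H75
open scoped commutatorElement

set_option linter.style.haveILetI false

/-- A finite group that is not perfect has a normal subgroup of prime index. -/
theorem exists_normal_prime {G : Type u} [Group G] [Finite G] (h : commutator G ≠ ⊤) :
    ∃ M : Subgroup G, M.Normal ∧ M.index.Prime := by
  obtain ⟨M, hM, hle⟩ := (eq_top_or_exists_le_coatom (commutator G)).resolve_left h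
  have hn : M.Normal := Subgroup.Normal.of_commutator_le G hle
  have hcomm : ∀ a b : G ⧸ M, a * b = b * a := by
    intro a b
    induction a using QuotientGroup.induction_on with
    | H x =>
    induction b using QuotientGroup.induction_on with
    | H y =>
    rw [← QuotientGroup.mk_mul, ← QuotientGroup.mk_mul, QuotientGroup.eq]
    apply hle
    have : (x * y)⁻¹ * (y * x) = ⁅y⁻¹, x⁻¹⁆ := by rw [commutatorElement_def]; group
    rw [this]
    exact Subgroup.commutator_mem_commutator (Subgroup.mem_top _) (Subgroup.mem_top _)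
  letI : CommGroup (G ⧸ M) := { (inferInstance : Group (G ⧸ M)) with mul_comm := hcomm }
  have hnt : Nontrivial (G ⧸ M) := by
    rw [QuotientGroup.nontrivial_iff]
    exact hM.1
  have hs : IsSimpleGroup (G ⧸ M) := by
    refine ⟨fun H _ => ?_⟩
    have h1 : M ≤ H.comap (QuotientGroup.mk' M) := by
      intro x hx
      rw [Subgroup.mem_comap]
      have : QuotientGroup.mk' M x = 1 := (QuotientGroup.eq_one_iff x).mpr hx
      rw [this]; exact H.one_mem
    rcases h1.lt_or_eq with h2 | h2
    · right
      have h3 := hM.2 _ h2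
      rw [← Subgroup.map_comap_eq_self_of_surjective (QuotientGroup.mk'_surjective M) H, h3]
      exact Subgroup.map_top_of_surjective _ (QuotientGroup.mk'_surjective M)
    · left
      rw [← Subgroup.map_comap_eq_self_of_surjective (QuotientGroup.mk'_surjective M) H, ← h2]
      rw [Subgroup.map_eq_bot_iff, QuotientGroup.ker_mk']
  have hp : (Nat.card (G ⧸ M)).Prime := IsSimpleGroup.prime_card
  exact ⟨M, hn, hp⟩

/-- Kaloujnine-Krasner embedding. -/
theorem kk_embed {G M : Type u} [Group G] [Group M] (N : Subgroup G) [N.Normal] (f : N →* M)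
    (hf : Function.Injective f) : ∃ F : G →* M ≀ᵣ (G ⧸ N), Function.Injective F := by
  classical
  let s : G ⧸ N → G := fun x => Quotient.out x
  have hs : ∀ x : G ⧸ N, (QuotientGroup.mk (s x) : G ⧸ N) = x := fun x => QuotientGroup.out_eq' x
  have hmem : ∀ (g : G) (x : G ⧸ N), (s x)⁻¹ * g * s ((QuotientGroup.mk g : G ⧸ N)⁻¹ * x) ∈ N := by
    intro g x
    rw [← QuotientGroup.eq_one_iff]
    rw [QuotientGroup.mk_mul, QuotientGroup.mk_mul, QuotientGroup.mk_inv, hs, hs]
    group
  let F : G →* M ≀ᵣ (G ⧸ N) :=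
    { toFun := fun g => ⟨fun x => f ⟨_, hmem g x⟩, QuotientGroup.mk g⟩
      map_one' := by
        apply RegularWreathProduct.ext
        · funext x
          have : (⟨_, hmem 1 x⟩ : N) = 1 := by
            apply Subtype.ext
            show (s x)⁻¹ * 1 * s ((QuotientGroup.mk 1 : G ⧸ N)⁻¹ * x) = 1
            rw [QuotientGroup.mk_one, inv_one, one_mul, mul_one, inv_mul_cancel]
          show f ⟨_, hmem 1 x⟩ = 1
          rw [this, map_one]
        · rfl
      map_mul' := by
        intro a b
        apply RegularWreathProduct.ext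
        · funext x
          rw [RegularWreathProduct.mul_left]
          show f ⟨_, hmem (a * b) x⟩ = f ⟨_, hmem a x⟩ * f ⟨_, hmem b ((QuotientGroup.mk a : G ⧸ N)⁻¹ * x)⟩
          rw [← map_mul]
          congr 1
          apply Subtype.ext
          show (s x)⁻¹ * (a * b) * s ((QuotientGroup.mk (a * b) : G ⧸ N)⁻¹ * x) =
            ((s x)⁻¹ * a * s ((QuotientGroup.mk a : G ⧸ N)⁻¹ * x)) *
            ((s ((QuotientGroup.mk a : G ⧸ N)⁻¹ * x))⁻¹ * b *
              s ((QuotientGroup.mk b : G ⧸ N)⁻¹ * ((QuotientGroup.mk a : G ⧸ N)⁻¹ * x)))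
          have e : (QuotientGroup.mk (a * b) : G ⧸ N)⁻¹ * x =
              (QuotientGroup.mk b : G ⧸ N)⁻¹ * ((QuotientGroup.mk a : G ⧸ N)⁻¹ * x) := by
            rw [QuotientGroup.mk_mul]; group
          rw [e]; group
        · rfl }
  refine ⟨F, (injective_iff_map_eq_one F).mpr fun g hg => ?_⟩
  have h1 : (QuotientGroup.mk g : G ⧸ N) = 1 := congrArg RegularWreathProduct.right hg
  have h2 : f ⟨_, hmem g 1⟩ = 1 := congrFun (congrArg RegularWreathProduct.left hg) 1
  have h3 : (⟨_, hmem g 1⟩ : N) = 1 := hf (by rw [h2, map_one])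
  have h4 : (s 1)⁻¹ * g * s ((QuotientGroup.mk g : G ⧸ N)⁻¹ * 1) = 1 := congrArg Subtype.val h3
  rw [h1, inv_one, one_mul] at h4
  have h5 : g = s 1 * ((s 1)⁻¹ * g * s 1) * (s 1)⁻¹ := by group
  rw [h5, h4]; group

theorem embed (n : ℕ) : ∀ (G : Type u) [Group G] [Finite G], Nat.card G ≤ n →
    Group.IsSolvable G → ∃ (M : Type u) (_ : Group M) (_ : Fintype M),
      (∀ χ : M → ℂ, Cfsg.IsIrrCharacter M χ → IsMonomialChar χ) ∧
      ∃ f : G →* M, Function.Injective f := by
  induction n with
  | zero =>
    intro G _ _ hc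
    have := Nat.card_pos (α := G)
    omega
  | succ n ih =>
    intro G _ _ hc hsolv
    classical
    rcases subsingleton_or_nontrivial G with hG | hG
    · haveI : Fintype G := Fintype.ofFinite _
      refine ⟨G, inferInstance, inferInstance, fun χ hχ => ?_, MonoidHom.id G, fun a b h => h⟩
      apply isMonomialChar_of_linear (Cfsg.Agent.CharBase.isCharacter_of_isIrr hχ)
      apply Cfsg.Agent.Char.CC.degree_one_of_commutator hχ
      intro x y
      congr 1
      exact Subsingleton.elim _ _
    · have h1 : commutator G ≠ ⊤ := (Group.IsSolvable.commutator_lt_top_of_nontrivial G).ne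
      obtain ⟨N, hN, hp⟩ := exists_normal_prime h1
      have h2 : Nat.card N ≤ n := by
        have h3 := N.card_mul_index
        have h4 := hp.two_le
        have h5 := Nat.card_pos (α := N)
        nlinarith
      obtain ⟨M, hM1, hM2, hM, f, hf⟩ := ih N h2 inferInstance
      obtain ⟨F, hF⟩ := kk_embed N f hf
      haveI : Fintype (G ⧸ N) := Fintype.ofFinite _
      haveI : Fintype (M ≀ᵣ (G ⧸ N)) := Fintype.ofFinite _
      exact ⟨M ≀ᵣ (G ⧸ N), inferInstance, inferInstance,
        fun χ hχ => isMonomial_wreath (H := M) (Q := G ⧸ N) hp hM hχ, F, hF⟩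

/-- Every finite solvable group is isomorphic to a subgroup of a finite M-group, a group each of whose irreducible characters is induced from a homomorphism of some subgroup into ℂˣ. -/
theorem result {G : Type u} [Group G] [Finite G] (hsolv : Group.IsSolvable G) : ∃ (M : Type u) (_ : Group M) (_ : Fintype M), (∀ χ : M → ℂ, Cfsg.IsIrrCharacter M χ → (∃ (H : Subgroup M) (lam : ↥H →* ℂˣ), χ = Cfsg.indFun H (fun h => (lam h : ℂ)))) ∧ ∃ f : G →* M, Function.Injective f := by
  exact embed (Nat.card G) G le_rfl hsolv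

end Cfsg.Agent.S4573
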