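import Cfsg.Statements.S4587
import Cfsg.Agent.S4172
import Cfsg.Agent.H65.ClassCount
import Cfsg.Agent.H65.CycExt
import Cfsg.Agent.MaxClass.Taussky

set_option autoImplicit false
open Cfsg

namespace Cfsg.Agent.S4587

open Subgroup Cfsg.Agent.Transfer Cfsg.Agent.FStar Cfsg.Agent.S4172
open scoped commutatorElement

section PG

variable {P : Type*} [Group P] [Finite P]

theorem index_commutator_le (x : P) :
    (commutator P).index ≤ Nat.card (centralizer ({x} : Set P)) := by
  have h1 : (centralizer ({x} : Set P)).index ≤ Nat.card (commutator P) := by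
    let f : P ⧸ centralizer ({x} : Set P) → commutator P :=
      fun q => ⟨⁅q.out, x⁆, commutator_mem_commutator (mem_top _) (mem_top _)⟩
    refine Nat.card_le_card_of_injective f ?_
    intro a b hab
    have h2 : ⁅a.out, x⁆ = ⁅b.out, x⁆ := congrArg Subtype.val hab
    rw [commutatorElement_def, commutatorElement_def, mul_left_inj] at h2
    rw [← QuotientGroup.out_eq' a, ← QuotientGroup.out_eq' b, QuotientGroup.eq, mem_centralizer_singleton_iff]
    have h3 : x * a.out⁻¹ = a.out⁻¹ * (b.out * x * b.out⁻¹) := by rw [← h2]; group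
    calc a.out⁻¹ * b.out * x = a.out⁻¹ * (b.out * x * b.out⁻¹) * b.out := by group
      _ = x * a.out⁻¹ * b.out := by rw [h3]
      _ = x * (a.out⁻¹ * b.out) := by group
  have h2 := card_mul_index (centralizer ({x} : Set P))
  have h3 := card_mul_index (commutator P)
  have h4 : Nat.card (commutator P) * (commutator P).index ≤
      Nat.card (commutator P) * Nat.card (centralizer ({x} : Set P)) := by
    rw [h3, ← h2, mul_comm]
    exact Nat.mul_le_mul_right _ h1
  exact Nat.le_of_mul_le_mul_left h4 Nat.card_pos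

variable {p : ℕ} [hp : Fact p.Prime]

theorem comm_of_index_le (hP : IsPGroup p P) {j : ℕ} (hj : j ≤ 1) (h : (commutator P).index = p ^ j) :
    commutator P = ⊥ := by
  have : Group.IsNilpotent P := hP.isNilpotent
  apply Cfsg.Agent.MaxClass.commutator_eq_bot_of_isCyclic_quotient
  interval_cases j
  · have : Subsingleton (P ⧸ commutator P) := by
      rw [pow_zero, index_eq_one] at h
      rw [h]
      exact QuotientGroup.subsingleton_quotient_top
    infer_instance
  · rw [pow_one] at h
    exact isCyclic_of_prime_card h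

theorem sq_dvd (hP : IsPGroup p P) (hcard : p ^ 2 ∣ Nat.card P) : p ^ 2 ∣ (commutator P).index := by
  obtain ⟨j, hj⟩ := hP.index (commutator P)
  rw [hj]
  apply pow_dvd_pow
  by_contra hlt
  have h1 := comm_of_index_le hP (by omega) hj
  rw [h1, index_bot] at hj
  rw [hj] at hcard
  exact hlt ((Nat.pow_dvd_pow_iff_le_right hp.out.one_lt).1 hcard)

theorem frattini_eq (hP : IsPGroup p P) (hna : commutator P ≠ ⊥) (h : (commutator P).index = p ^ 2) :
    frattini P = commutator P := by
  have h1 := Cfsg.Agent.Solv.commutator_le_frattini_of_pGroup hP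
  have h2 := relIndex_mul_index h1
  obtain ⟨j, hj⟩ := hP.index (frattini P)
  have hj2 : 2 ≤ j := by
    by_contra hlt
    push Not at hlt
    -- P is cyclic
    have h3 : ∃ x : P, zpowers x ⊔ frattini P = ⊤ := by
      interval_cases j
      · rw [pow_zero, index_eq_one] at hj
        exact ⟨1, by rw [hj]; simp⟩
      · rw [pow_one] at hj
        have h5 : frattini P ≠ ⊤ := by
          intro h; rw [h, index_top] at hj
          exact hp.out.one_lt.ne hj
        obtain ⟨x, hx⟩ : ∃ x, x ∉ frattini P := by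
          by_contra hcon
          push Not at hcon
          exact h5 (eq_top_iff.2 fun x _ => hcon x)
        refine ⟨x, ?_⟩
        have h6 : (zpowers x ⊔ frattini P).index ∣ p := (index_dvd_of_le le_sup_right).trans (dvd_of_eq hj)
        rcases (Nat.dvd_prime hp.out).1 h6 with h | h
        · exact index_eq_one.1 h
        · exfalso
          have h7 := relIndex_mul_index (le_sup_right : frattini P ≤ zpowers x ⊔ frattini P)
          rw [hj, h] at h7
          have h8 : (frattini P).relIndex (zpowers x ⊔ frattini P) = 1 :=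
            Nat.eq_of_mul_eq_mul_right hp.out.pos (by rw [h7, one_mul])
          rw [relIndex_eq_one] at h8
          exact hx (h8 (mem_sup_left (mem_zpowers x)))
    obtain ⟨x, hx⟩ := h3
    have h6 : zpowers x = ⊤ := frattini_nongenerating hx
    apply hna
    apply Cfsg.Agent.MaxClass.commutator_eq_bot_of_comm
    intro a b
    have ha : a ∈ zpowers x := by rw [h6]; trivial
    have hb : b ∈ zpowers x := by rw [h6]; trivial
    obtain ⟨i, rfl⟩ := mem_zpowers_iff.1 ha
    obtain ⟨k, rfl⟩ := mem_zpowers_iff.1 hb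
    rw [← zpow_add, ← zpow_add, add_comm]
  have h4 : (commutator P).relIndex (frattini P) = 1 := by
    rw [h, hj] at h2
    have h5 : p ^ j ∣ p ^ 2 := ⟨_, by rw [← h2, mul_comm]⟩
    have h6 := (Nat.pow_dvd_pow_iff_le_right hp.out.one_lt).1 h5
    have h7 : j = 2 := le_antisymm h6 hj2
    rw [h7] at h2
    exact Nat.eq_of_mul_eq_mul_right (pow_pos hp.out.pos 2) (by rw [h2, one_mul])
  rw [relIndex_eq_one] at h4
  exact le_antisymm h4 h1

end PG

section Main

variable {G : Type*} [Group G] [Finite G] {p : ℕ} [hp : Fact p.Prime]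

omit [Finite G] in
theorem relIndex_eq (P : Subgroup G) : (⁅P, P⁆).relIndex P = (commutator P).index := by
  rw [relIndex, ← map_subtype_commutator, subgroupOf, comap_map_eq_self_of_injective P.subtype_injective]

/-- The easy direction. -/
theorem easy (P : Sylow p G) (hbig : p ^ 2 ∣ Nat.card G) (x : G) (hx : ∃ k : ℕ, orderOf x = p ^ k)
    (hc : (Nat.card (centralizer ({x} : Set G))).factorization p = 2) :
    (commutator (P : Subgroup G)).index = p ^ 2 := by
  have hPc : p ^ 2 ∣ Nat.card (P : Subgroup G) := P.pow_dvd_card_of_pow_dvd_card hbig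
  have h1 := sq_dvd P.isPGroup' hPc
  obtain ⟨g, hg⟩ := Cfsg.Agent.H65.exists_conj_mem_sylow P hx
  set y : G := g * x * g⁻¹ with hy
  have h2 : Nat.card (centralizer ({⟨y, hg⟩} : Set (P : Subgroup G))) ∣ Nat.card (centralizer ({x} : Set G)) := by
    let f : centralizer ({⟨y, hg⟩} : Set (P : Subgroup G)) →* centralizer ({x} : Set G) :=
      ((MulAut.conj g⁻¹).toMonoidHom.comp ((P : Subgroup G).subtype.comp (centralizer ({⟨y, hg⟩} : Set (P : Subgroup G))).subtype)).codRestrict
        (centralizer ({x} : Set G)) (by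
        intro c
        rw [mem_centralizer_singleton_iff]
        have h3 := congrArg Subtype.val (mem_centralizer_singleton_iff.1 c.2)
        have h4 : ((c : (P : Subgroup G)) : G) * (g * x * g⁻¹) = (g * x * g⁻¹) * ((c : (P : Subgroup G)) : G) := h3
        change g⁻¹ * ((c : (P : Subgroup G)) : G) * g⁻¹⁻¹ * x = x * (g⁻¹ * ((c : (P : Subgroup G)) : G) * g⁻¹⁻¹)
        calc g⁻¹ * ((c : (P : Subgroup G)) : G) * g⁻¹⁻¹ * x = g⁻¹ * (((c : (P : Subgroup G)) : G) * (g * x * g⁻¹)) * g := by group
          _ = g⁻¹ * ((g * x * g⁻¹) * ((c : (P : Subgroup G)) : G)) * g := by rw [h4]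
          _ = _ := by group)
    refine card_dvd_of_injective f ?_
    intro a b hab
    have h3 : (MulAut.conj g⁻¹) ((a : (P : Subgroup G)) : G) = (MulAut.conj g⁻¹) ((b : (P : Subgroup G)) : G) := congrArg Subtype.val hab
    exact Subtype.ext (Subtype.ext ((MulAut.conj g⁻¹).injective h3))
  have h3 := index_commutator_le (P := (P : Subgroup G)) ⟨y, hg⟩
  obtain ⟨j, hj⟩ := IsPGroup.iff_card.1 (P.isPGroup'.to_subgroup (centralizer ({⟨y, hg⟩} : Set (P : Subgroup G))))
  rw [hj] at h2 h3
  have h4 : j ≤ 2 := by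
    rw [← hc]
    exact (hp.out.pow_dvd_iff_le_factorization Nat.card_pos.ne').1 h2
  have h5 : (commutator (P : Subgroup G)).index ≤ p ^ 2 := h3.trans (Nat.pow_le_pow_right hp.out.pos h4)
  exact le_antisymm h5 (Nat.le_of_dvd (Nat.pos_of_ne_zero index_ne_zero_of_finite) h1)

theorem lower (P : Sylow p G) (h : (commutator (P : Subgroup G)).index = p ^ 2) {y : G} (hg : y ∈ (P : Subgroup G)) :
    2 ≤ (Nat.card (centralizer ({y} : Set G))).factorization p := by
  have h2 : Nat.card (centralizer ({⟨y, hg⟩} : Set (P : Subgroup G))) ∣ Nat.card (centralizer ({y} : Set G)) := by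
    let f : centralizer ({⟨y, hg⟩} : Set (P : Subgroup G)) →* centralizer ({y} : Set G) :=
      ((P : Subgroup G).subtype.comp (centralizer ({⟨y, hg⟩} : Set (P : Subgroup G))).subtype).codRestrict
        (centralizer ({y} : Set G)) (by
        intro c
        rw [mem_centralizer_singleton_iff]
        exact congrArg Subtype.val (mem_centralizer_singleton_iff.1 c.2))
    refine card_dvd_of_injective f ?_
    intro a b hab
    have h3 := congrArg Subtype.val hab
    exact Subtype.ext (Subtype.ext h3)
  have h3 := index_commutator_le (P := (P : Subgroup G)) ⟨y, hg⟩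
  obtain ⟨j, hj⟩ := IsPGroup.iff_card.1 (P.isPGroup'.to_subgroup (centralizer ({⟨y, hg⟩} : Set (P : Subgroup G))))
  rw [hj] at h2 h3
  rw [h] at h3
  have h4 : 2 ≤ j := (Nat.pow_le_pow_iff_right hp.out.one_lt).1 h3
  exact h4.trans ((hp.out.pow_dvd_iff_le_factorization Nat.card_pos.ne').1 h2)

theorem upper (P : Sylow p G) (F : Subgroup G) [F.Normal] (x : G) (hF : F.relIndex (P : Subgroup G) ∣ p)
    (hc : (Nat.card (F ⊓ centralizer ({x} : Set G) : Subgroup G)).factorization p ≤ 1) :
    (Nat.card (centralizer ({x} : Set G))).factorization p ≤ 2 := by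
  set C := centralizer ({x} : Set G) with hC
  have h1 : Nat.card (F ⊓ C : Subgroup G) * F.relIndex C = Nat.card C := by
    have := relIndex_mul_relIndex _ _ _ (bot_le : (⊥ : Subgroup G) ≤ F ⊓ C) (inf_le_right : F ⊓ C ≤ C)
    rwa [relIndex_bot_left, relIndex_bot_left, inf_relIndex_right] at this
  have h2 : F.relIndex C ∣ (P : Subgroup G).index * p := by
    refine (relIndex_dvd_index_of_normal F C).trans ((index_dvd_of_le (inf_le_left : F ⊓ (P : Subgroup G) ≤ F)).trans ?_)
    rw [← relIndex_mul_index (inf_le_right : F ⊓ (P : Subgroup G) ≤ P), inf_relIndex_right, mul_comm]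
    exact Nat.mul_dvd_mul_left _ hF
  have h3 : (F.relIndex C).factorization p ≤ 1 := by
    have hne : (P : Subgroup G).index * p ≠ 0 := Nat.mul_ne_zero index_ne_zero_of_finite hp.out.ne_zero
    have h4 := (Nat.factorization_le_iff_dvd (by
      intro h0; rw [h0] at h2; exact hne (Nat.eq_zero_of_zero_dvd h2)) hne).2 h2 p
    rw [Nat.factorization_mul index_ne_zero_of_finite hp.out.ne_zero] at h4
    have h5 : ((P : Subgroup G).index.factorization + p.factorization) p = 1 := by
      rw [Finsupp.add_apply, Nat.factorization_eq_zero_of_not_dvd P.not_dvd_index, hp.out.factorization_self]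
    rwa [h5] at h4
  have h6 : (Nat.card (F ⊓ C : Subgroup G)) ≠ 0 := Nat.card_pos.ne'
  have h7 : F.relIndex C ≠ 0 := by
    intro h0; rw [h0, mul_zero] at h1; exact Nat.card_pos.ne' h1.symm
  rw [← h1, Nat.factorization_mul h6 h7, Finsupp.add_apply]
  omega

theorem index_Q (P : Sylow p G) (F : Subgroup G) [F.Normal] {x : G} (hx : (P : Subgroup G) ≤ zpowers x ⊔ F)
    (hidx : (commutator (P : Subgroup G)).index = p ^ 2)
    (hF : ¬ F ⊓ (P : Subgroup G) ≤ (commutator (P : Subgroup G)).map (P : Subgroup G).subtype) :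
    commutator (P : Subgroup G) ≤ F.subgroupOf P ∧
    F.relIndex (P : Subgroup G) ∣ p ∧ (F.relIndex (P : Subgroup G) = p →
      (commutator (P : Subgroup G)).relIndex (F.subgroupOf P) = p) := by
  have h1 : commutator (P : Subgroup G) ≤ F.subgroupOf P := by
    rw [commutator_def, Subgroup.commutator_le]
    intro a _ b _
    exact comm_mem hx a.2 b.2
  have h2 : ¬ F.subgroupOf P ≤ commutator (P : Subgroup G) := by
    intro h
    apply hF
    rintro y ⟨hy1, hy2⟩
    exact ⟨⟨y, hy2⟩, h hy1, rfl⟩
  have h3 := relIndex_mul_index h1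
  rw [hidx] at h3
  have h4 : (commutator (P : Subgroup G)).relIndex (F.subgroupOf P) ≠ 1 := by
    intro h5; rw [relIndex_eq_one] at h5; exact h2 h5
  have h5 : (F.subgroupOf (P : Subgroup G)).index = F.relIndex (P : Subgroup G) := rfl
  rw [h5] at h3
  obtain ⟨j, hj, hj'⟩ := (Nat.dvd_prime_pow hp.out).1 (Dvd.intro _ h3)
  have hp0 := hp.out.pos
  interval_cases j
  · rw [pow_zero] at hj'; exact absurd hj' h4
  · rw [pow_one] at hj'
    rw [hj', sq] at h3
    have h6 : F.relIndex (P : Subgroup G) = p := Nat.eq_of_mul_eq_mul_left hp0 h3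
    exact ⟨h1, dvd_of_eq h6, fun _ => hj'⟩
  · rw [hj'] at h3
    have h6 : F.relIndex (P : Subgroup G) = 1 := Nat.eq_of_mul_eq_mul_left (pow_pos hp0 2) (by rw [h3, mul_one])
    refine ⟨h1, by rw [h6]; exact one_dvd _, fun h => ?_⟩
    rw [h6] at h
    exact absurd h hp.out.one_lt.ne

theorem fact_le_one {n : ℕ} (h : n ∣ p) : n.factorization p ≤ 1 := by
  rcases (Nat.dvd_prime hp.out).1 h with h | h
  · rw [h]; simp
  · rw [h, hp.out.factorization_self]

/-- The case of an abelian generalized Fitting subgroup. -/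
theorem case_abelian (P : Sylow p G) (F : Subgroup G) [F.Normal] (hFp : IsPGroup p F)
    (hFc : ∀ a ∈ F, ∀ b ∈ F, a * b = b * a) {x : G} (hxP : x ∈ (P : Subgroup G)) (hx : (P : Subgroup G) ≤ zpowers x ⊔ F)
    (hidx : (commutator (P : Subgroup G)).index = p ^ 2) (hna : commutator (P : Subgroup G) ≠ ⊥)
    (hF : ¬ F ⊓ (P : Subgroup G) ≤ (commutator (P : Subgroup G)).map (P : Subgroup G).subtype) :
    F.relIndex (P : Subgroup G) ∣ p ∧
    (Nat.card (F ⊓ centralizer ({x} : Set G) : Subgroup G)).factorization p ≤ 1 := by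
  obtain ⟨h1, h2, h3⟩ := index_Q P F hx hidx hF
  have hFP : F ≤ P := le_of_normal P hFp
  have h4 : ¬ (P : Subgroup G) ≤ F := by
    intro h
    apply hna
    apply Cfsg.Agent.MaxClass.commutator_eq_bot_of_comm
    intro a b
    exact Subtype.ext (hFc a (h a.2) b (h b.2))
  have h5 : F.relIndex (P : Subgroup G) = p := by
    rcases (Nat.dvd_prime hp.out).1 h2 with h | h
    · rw [relIndex_eq_one] at h; exact absurd h h4
    · exact h
  refine ⟨h2, ?_⟩
  have hxF : x ∉ F := by
    intro h
    exact h4 (hx.trans (sup_le (by rwa [zpowers_le]) le_rfl))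
  have h6 := Cfsg.Agent.MaxClass.card_commutator_mul_dvd (p := p) (F.subgroupOf (P : Subgroup G)) h5
    (fun a ha b hb => Subtype.ext (hFc a ha b hb)) ⟨x, hxP⟩ hxF
    ((F ⊓ centralizer ({x} : Set G)).subgroupOf P) (fun a ha => ha.1)
    (fun a ha => Subtype.ext (mem_centralizer_singleton_iff.1 ha.2))
  have h7 : Nat.card (commutator (P : Subgroup G)) * (commutator (P : Subgroup G)).relIndex (F.subgroupOf P) =
      Nat.card (F.subgroupOf (P : Subgroup G)) := by
    have := relIndex_mul_relIndex _ _ _ (bot_le : (⊥ : Subgroup (P : Subgroup G)) ≤ commutator (P : Subgroup G)) h1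
    rwa [relIndex_bot_left, relIndex_bot_left] at this
  rw [h3 h5] at h7
  rw [← h7] at h6
  have h8 := Nat.dvd_of_mul_dvd_mul_left Nat.card_pos h6
  have h9 : Nat.card ((F ⊓ centralizer ({x} : Set G)).subgroupOf (P : Subgroup G)) = Nat.card (F ⊓ centralizer ({x} : Set G) : Subgroup G) :=
    Nat.card_congr (subgroupOfEquivOfLe (inf_le_left.trans hFP)).toEquiv
  rw [h9] at h8
  exact fact_le_one h8

/-- The norm argument. -/
theorem norm_bound (P : Sylow p G) (F : Subgroup G) [F.Normal] {x : G} (hxP : x ∈ (P : Subgroup G))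
    (hx : (P : Subgroup G) ≤ zpowers x ⊔ F)
    (hidx : (commutator (P : Subgroup G)).index = p ^ 2)
    (hF : ¬ F ⊓ (P : Subgroup G) ≤ (commutator (P : Subgroup G)).map (P : Subgroup G).subtype)
    (hrel : F.relIndex (P : Subgroup G) = p)
    {B : Type*} [Group B] (f : F →* B) (hf : Function.Surjective f) (L : Subgroup G) (hLF : L ≤ F)
    (hFL : F ≤ normalizer (L : Set G)) (hfL : ∀ b : B, ∃ l : F, (l : G) ∈ L ∧ f l = b)
    (hcomm : ∀ i, 0 < i → i < p → ∀ l ∈ L, ∀ z : F, (z : G) = x ^ i * l * (x ^ i)⁻¹ → f z = 1) :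
    (Nat.card B).factorization p ≤ 1 := by
  obtain ⟨h1, h2, h3⟩ := index_Q P F hx hidx hF
  have hBfin : Finite B := Finite.of_surjective f hf
  set Q : Subgroup (P : Subgroup G) := F.subgroupOf (P : Subgroup G) with hQ
  have hQi : Q.index = p := hrel
  have h7 : Nat.card (commutator (P : Subgroup G)) * p = Nat.card Q := by
    have := relIndex_mul_relIndex _ _ _ (bot_le : (⊥ : Subgroup (P : Subgroup G)) ≤ commutator (P : Subgroup G)) h1
    rwa [relIndex_bot_left, relIndex_bot_left, h3 hrel] at this
  let ι : Q →* F := ((P : Subgroup G).subtype.comp Q.subtype).codRestrict F (fun q => q.2)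
  let g : Q →* B := f.comp ι
  let R : Subgroup B := g.range
  let φ : Q →* Abelianization R := Abelianization.of.comp g.rangeRestrict
  let x' : (P : Subgroup G) := ⟨x, hxP⟩
  have hx' : zpowers x' ⊔ Q = ⊤ := by
    rw [eq_top_iff]
    intro a _
    obtain ⟨u, hu, v, hv, huv⟩ := mem_sup_of_normal_right.1 (hx a.2)
    obtain ⟨k, rfl⟩ := mem_zpowers_iff.1 hu
    have hvP : v ∈ (P : Subgroup G) := by
      have : v = (x ^ k)⁻¹ * a := by rw [← huv, inv_mul_cancel_left]
      rw [this]; exact mul_mem (inv_mem (zpow_mem hxP k)) a.2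
    have : a = x' ^ k * ⟨v, hvP⟩ := Subtype.ext (by rw [coe_mul, coe_zpow]; exact huv.symm)
    rw [this]
    exact mul_mem_sup (zpow_mem (mem_zpowers _) k) hv
  have hn : x' ^ p ∈ Q := by
    have := pow_index_mem Q x'
    rwa [hQi] at this
  set ψ := Cfsg.Agent.H65.CycExt.nm Q φ x' p with hψ
  have hker := Cfsg.Agent.H65.CycExt.commutator_le (φ := φ) hx' hn
  rw [← hψ] at hker
  -- Sylow subgroups of `L`
  let LF : Subgroup F := L.subgroupOf F
  have hLFn : LF.Normal := (normal_subgroupOf_iff_le_normalizer hLF).2 hFL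
  let T : Sylow p LF := sylowInf (sylowInf P F) LF
  let h : LF →* B := f.comp LF.subtype
  have hh : Function.Surjective h := by
    intro b
    obtain ⟨l, hl, hl'⟩ := hfL b
    exact ⟨⟨l, hl⟩, hl'⟩
  have hTR : (T : Subgroup LF).map h ≤ R := by
    rintro _ ⟨t, ht, rfl⟩
    have ht1 : (t : F) ∈ (sylowInf P F : Subgroup F) := by
      have : t ∈ ((sylowInf P F : Subgroup F)).subgroupOf LF := by
        have h0 := sylowInf_coe (sylowInf P F) LF
        rw [← h0]; exact ht
      exact this
    rw [sylowInf_coe] at ht1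
    exact ⟨⟨⟨((t : F) : G), ht1⟩, (t : F).2⟩, rfl⟩
  have hRp : IsPGroup p R := by
    have h0 : IsPGroup p Q := P.isPGroup'.to_subgroup Q
    exact h0.of_surjective g.rangeRestrict g.rangeRestrict_surjective
  have hTi : ¬ p ∣ ((T : Subgroup LF).map h).index := fun h0 => T.not_dvd_index (h0.trans (index_map_dvd _ hh))
  have hRT : R ≤ (T : Subgroup LF).map h := by
    rw [← relIndex_eq_one]
    obtain ⟨j, hj⟩ := hRp.index (((T : Subgroup LF).map h).subgroupOf R)
    have h4 : ((T : Subgroup LF).map h).relIndex R = p ^ j := hj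
    have h5 := relIndex_mul_index hTR
    rw [h4] at h5
    rcases Nat.eq_zero_or_pos j with h0 | h0
    · rw [h4, h0, pow_zero]
    · exfalso
      apply hTi
      rw [← h5]
      exact ((dvd_pow_self p h0.ne')).mul_right _
  -- surjectivity of ψ
  have hψs : Function.Surjective ψ := by
    intro a
    obtain ⟨⟨r, hr⟩, rfl⟩ := QuotientGroup.mk_surjective a
    obtain ⟨t, ht, htr⟩ := hRT hr
    have ht1 : (t : F) ∈ (sylowInf P F : Subgroup F) := by
      have : t ∈ ((sylowInf P F : Subgroup F)).subgroupOf LF := by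
        have h0 := sylowInf_coe (sylowInf P F) LF
        rw [← h0]; exact ht
      exact this
    rw [sylowInf_coe] at ht1
    let q : Q := ⟨⟨((t : F) : G), ht1⟩, (t : F).2⟩
    have hq : g q = r := htr
    refine ⟨q, ?_⟩
    rw [hψ, Cfsg.Agent.H65.CycExt.nm_apply]
    rw [Finset.prod_eq_single 0]
    · have h5 : MulAut.conjNormal (x' ^ 0) q = q := Subtype.ext (by simp)
      rw [h5]
      have h6 : g.rangeRestrict q = ⟨r, hr⟩ := Subtype.ext hq
      change Abelianization.of (g.rangeRestrict q) = _
      rw [h6]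
      rfl
    · intro i hi hi0
      have h6 : g.rangeRestrict (MulAut.conjNormal (x' ^ i) q) = 1 := by
        apply Subtype.ext
        refine hcomm i (Nat.pos_of_ne_zero hi0) (Finset.mem_range.1 hi) ((t : F) : G) t.2 _ ?_
        change ((MulAut.conjNormal (x' ^ i) q : Q) : (P : Subgroup G)).1 = _
        rw [MulAut.conjNormal_apply]
        rfl
      change Abelianization.of (g.rangeRestrict _) = _
      rw [h6, map_one]
    · intro h0
      exact absurd (Finset.mem_range.2 hp.out.pos) h0
  have hA : Nat.card (Abelianization R) ≤ p := by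
    have h4 : Nat.card ψ.ker * Nat.card (Abelianization R) = Nat.card Q := by
      rw [← card_mul_index ψ.ker, index_ker, MonoidHom.range_eq_top.2 hψs, card_top]
    have h5 : Nat.card (commutator (P : Subgroup G)) ≤ Nat.card ψ.ker := by
      refine (Nat.le_of_dvd Nat.card_pos (card_dvd_of_le hker)).trans (le_of_eq ?_)
      exact (Nat.card_congr (ψ.ker.equivMapOfInjective _ Q.subtype_injective).toEquiv).symm
    by_contra hlt
    push Not at hlt
    have h6 : Nat.card (commutator (P : Subgroup G)) * p < Nat.card ψ.ker * Nat.card (Abelianization R) :=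
      Nat.mul_lt_mul_of_le_of_lt h5 hlt Nat.card_pos
    rw [h7, h4] at h6
    exact lt_irrefl _ h6
  have hRc : Nat.card R ≤ p := by
    obtain ⟨j, hj⟩ := hRp.index (commutator R)
    have h8 : (commutator R).index = Nat.card (Abelianization R) := rfl
    have h9 : j ≤ 1 := by
      rw [h8] at hj
      rw [hj] at hA
      by_contra hlt
      push Not at hlt
      have : p ^ 1 < p ^ j := Nat.pow_lt_pow_right hp.out.one_lt hlt
      rw [pow_one] at this
      omega
    have h10 := comm_of_index_le hRp h9 hj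
    rw [← h8, h10, index_bot] at hA
    exact hA
  have hRT' : (T : Subgroup LF).map h = R := le_antisymm hTR hRT
  rw [hRT'] at hTi
  rw [← card_mul_index R, Nat.factorization_mul Nat.card_pos.ne' index_ne_zero_of_finite, Finsupp.add_apply,
    Nat.factorization_eq_zero_of_not_dvd hTi, add_zero]
  obtain ⟨j, hj⟩ := IsPGroup.iff_card.1 hRp
  rw [hj] at hRc
  rw [hj, hp.out.factorization_pow, Finsupp.single_eq_same]
  by_contra hlt
  push Not at hlt
  have : p ^ 1 < p ^ j := Nat.pow_lt_pow_right hp.out.one_lt hlt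
  rw [pow_one] at this
  omega

theorem case_nonabelian (P : Sylow p G) (F : Subgroup G) [F.Normal] {x : G} (hxP : x ∈ (P : Subgroup G))
    (hx : (P : Subgroup G) ≤ zpowers x ⊔ F)
    (hidx : (commutator (P : Subgroup G)).index = p ^ 2)
    (hF : ¬ F ⊓ (P : Subgroup G) ≤ (commutator (P : Subgroup G)).map (P : Subgroup G).subtype)
    (hF1 : F ≠ ⊥) (hFl : F = Cfsg.layer G) (hCF : centralizer (F : Set G) = ⊥)
    (htrans : ∀ K L : Subgroup G, Cfsg.IsComponent K → Cfsg.IsComponent L →
      ∃ x ∈ (P : Subgroup G), L = K.map (MulAut.conj x).toMonoidHom)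
    (hnas : ¬ ∃ S : Subgroup G, S.Normal ∧ IsSimpleGroup S ∧ ¬ IsMulCommutative S ∧
      Subgroup.centralizer (S : Set G) = ⊥) :
    F.relIndex (P : Subgroup G) ∣ p ∧
    (Nat.card (F ⊓ centralizer ({x} : Set G) : Subgroup G)).factorization p ≤ 1 := by
  obtain ⟨h1, h2, h3⟩ := index_Q P F hx hidx hF
  obtain ⟨L, hL⟩ : ∃ L : Subgroup G, Cfsg.IsComponent L := by
    by_contra hcon
    push Not at hcon
    apply hF1
    rw [eq_bot_iff, hFl, layer_le_iff]
    intro K hK
    exact absurd hK (hcon K)
  have hLF : L ≤ F := by rw [hFl]; exact component_le_layer hL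
  have hFL : F ≤ normalizer (L : Set G) := by rw [hFl]; exact layer_le_normalizer hL
  have hxL : x ∉ normalizer (L : Set G) := by
    intro hxn
    have hPL : (P : Subgroup G) ≤ normalizer (L : Set G) := hx.trans (sup_le (by rwa [zpowers_le]) hFL)
    have hFL' : F ≤ L := by
      rw [hFl, layer_le_iff]
      intro K hK
      obtain ⟨y, hy, rfl⟩ := htrans L K hL hK
      rw [(H21.mem_normalizer_iff_map_conj).1 (hPL hy)]
    have hFeq : F = L := le_antisymm hFL' hLF
    have hFq : Cfsg.IsQuasisimple F := by rw [hFeq]; exact hL.2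
    have hcen : center F = ⊥ := by
      rw [eq_bot_iff]
      intro z hz
      have h4 : (z : G) ∈ centralizer (F : Set G) := by
        rw [mem_centralizer_iff]
        intro y hy
        exact congrArg Subtype.val (mem_center_iff.1 hz ⟨y, hy⟩)
      rw [hCF, mem_bot] at h4
      rw [mem_bot]
      exact Subtype.ext h4
    apply hnas
    have : Nontrivial F := nontrivial_of_isQuasisimple hFq
    refine ⟨F, inferInstance, ⟨fun N hN => ?_⟩, ?_, hCF⟩
    · rcases eq_top_or_le_center_of_normal hFq N hN with h | h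
      · exact Or.inr h
      · rw [hcen, le_bot_iff] at h; exact Or.inl h
    · intro hcomm
      apply center_ne_top_of_isQuasisimple hFq
      rw [eq_top_iff]
      intro a _
      rw [mem_center_iff]
      intro b
      exact hcomm.is_comm.comm b a
  have hrel : F.relIndex (P : Subgroup G) = p := by
    rcases (Nat.dvd_prime hp.out).1 h2 with h | h
    · rw [relIndex_eq_one] at h
      exact absurd (hFL (h hxP)) hxL
    · exact h
  refine ⟨h2, ?_⟩
  have hxp : x ^ p ∈ F := by
    have h4 := pow_index_mem (F.subgroupOf (P : Subgroup G)) ⟨x, hxP⟩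
    have h5 : (F.subgroupOf (P : Subgroup G)).index = p := hrel
    rw [h5] at h4
    exact h4
  set C : Subgroup F := (centralizer (L : Set G)).subgroupOf F with hC
  have hCn : C.Normal := by
    rw [hC]
    exact normal_subgroupOf_of_le_normalizer (hFL.trans (normalizer_le_normalizer_cent L))
  let f : F →* F ⧸ C := QuotientGroup.mk' C
  have hconj : ∀ i, 0 < i → i < p → L.map (MulAut.conj (x ^ i)).toMonoidHom ≠ L := by
    intro i hi0 hip h
    apply hxL
    have h4 : x ^ i ∈ normalizer (L : Set G) := (H21.mem_normalizer_iff_map_conj).2 h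
    have h5 : x ^ p ∈ normalizer (L : Set G) := hFL hxp
    have h6 : Nat.Coprime i p := (Nat.Coprime.symm ((Nat.Prime.coprime_iff_not_dvd hp.out).2
      (fun hd => absurd (Nat.le_of_dvd hi0 hd) (not_le_of_gt hip))))
    have h7 := Nat.gcd_eq_gcd_ab i p
    rw [h6] at h7
    have h8 : x = (x ^ i) ^ (Nat.gcdA i p) * (x ^ p) ^ (Nat.gcdB i p) := by
      rw [← zpow_natCast, ← zpow_natCast, ← zpow_mul, ← zpow_mul, ← zpow_add, ← h7]
      simp
    rw [h8]
    exact mul_mem (zpow_mem h4 _) (zpow_mem h5 _)
  have hB := norm_bound P F hxP hx hidx hF hrel f (QuotientGroup.mk'_surjective C) L hLF hFL (by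
    intro b
    obtain ⟨z, rfl⟩ := QuotientGroup.mk'_surjective C b
    have hz : (z : G) ∈ centralizer (L : Set G) ⊔ L := by
      have := layer_le_component_sup_centralizer hL (by rw [← hFl]; exact z.2 : (z : G) ∈ Cfsg.layer G)
      rwa [sup_comm] at this
    obtain ⟨c, hc, l, hl, hcl⟩ := mem_sup_of_le_normalizer (centralizer_le_normalizer (L : Set G)) hz
    refine ⟨⟨l, hLF hl⟩, hl, ?_⟩
    have hcF : c ∈ F := by
      have : c = (z : G) * l⁻¹ := by rw [← hcl, mul_inv_cancel_right]
      rw [this]; exact mul_mem z.2 (inv_mem (hLF hl))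
    have h4 : z = ⟨c, hcF⟩ * ⟨l, hLF hl⟩ := Subtype.ext hcl.symm
    rw [h4, map_mul]
    have h5 : f ⟨c, hcF⟩ = 1 := (QuotientGroup.eq_one_iff _).2 hc
    change f _ = f ⟨c, hcF⟩ * f _
    rw [h5, one_mul]) (by
    intro i hi0 hip l hl z hz
    refine (QuotientGroup.eq_one_iff _).2 ?_
    change (z : G) ∈ centralizer (L : Set G)
    have h4 := component_commute ((isComponent_conj (x ^ i)).2 hL) hL (hconj i hi0 hip)
    rw [commutator_eq_bot_iff_le_centralizer] at h4
    rw [hz]
    exact h4 ⟨l, hl, rfl⟩)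
  have hdvd : Nat.card (F ⊓ centralizer ({x} : Set G) : Subgroup G) ∣ Nat.card (F ⧸ C) := by
    refine card_dvd_of_injective (f.comp (Subgroup.inclusion inf_le_left)) ?_
    rw [injective_iff_map_eq_one]
    rintro ⟨c, hcF, hcx⟩ hc
    have h4 : (⟨c, hcF⟩ : F) ∈ C := (QuotientGroup.eq_one_iff _).1 hc
    have h5 : c ∈ centralizer (L : Set G) := h4
    have hcx' : c * x = x * c := mem_centralizer_singleton_iff.1 hcx
    have h6 : F ≤ centralizer ({c} : Set G) := by
      rw [hFl, layer_le_iff]
      intro K hK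
      obtain ⟨y, hy, rfl⟩ := htrans L K hL hK
      rintro _ ⟨l, hl, rfl⟩
      rw [mem_centralizer_singleton_iff]
      obtain ⟨u, hu, q, hq, huq⟩ := mem_sup_of_normal_right.1 (hx hy)
      have h7 : q * l * q⁻¹ ∈ L := (mem_normalizer_iff.1 (hFL hq) l).1 hl
      have h8 : c * (q * l * q⁻¹) = (q * l * q⁻¹) * c := (mem_centralizer_iff.1 h5 _ h7).symm
      obtain ⟨k, rfl⟩ := mem_zpowers_iff.1 hu
      have h9 : Commute c (x ^ k) := Commute.zpow_right hcx' k
      have h10 : Commute c (x ^ k)⁻¹ := h9.inv_right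
      have h11 : (MulAut.conj y).toMonoidHom l = x ^ k * (q * l * q⁻¹) * (x ^ k)⁻¹ := by
        rw [← huq]
        change x ^ k * q * l * (x ^ k * q)⁻¹ = _
        group
      rw [h11]
      exact (((h9.mul_right h8).mul_right h10).eq).symm
    have h12 : c ∈ centralizer (F : Set G) := by
      rw [mem_centralizer_iff]
      intro y hy
      exact mem_centralizer_singleton_iff.1 (h6 hy)
    rw [hCF, mem_bot] at h12
    exact Subtype.ext h12
  exact ((Nat.factorization_le_iff_dvd Nat.card_pos.ne' Nat.card_pos.ne').2 hdvd p).trans hB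

theorem fact_sq (P : Sylow p G) (h : Nat.card (P : Subgroup G) = p ^ 2) : (Nat.card G).factorization p = 2 := by
  rw [← card_mul_index (P : Subgroup G), Nat.factorization_mul Nat.card_pos.ne' index_ne_zero_of_finite,
    Finsupp.add_apply, Nat.factorization_eq_zero_of_not_dvd P.not_dvd_index, add_zero, h, hp.out.factorization_pow,
    Finsupp.single_eq_same]

theorem hard (P : Sylow p G) (hcore : Cfsg.pPrimeCore p G = ⊥)
    (hcore' : (⁅(P : Subgroup G), (P : Subgroup G)⁆).normalCore = ⊥)
    (hnas : ¬ ∃ S : Subgroup G, S.Normal ∧ IsSimpleGroup S ∧ ¬ IsMulCommutative S ∧ Subgroup.centralizer (S : Set G) = ⊥)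
    (hidx : (commutator (P : Subgroup G)).index = p ^ 2) :
    ∃ x : G, (∃ k : ℕ, orderOf x = p ^ k) ∧ (Nat.card (Subgroup.centralizer ({x} : Set G))).factorization p = 2 := by
  by_cases hna : commutator (P : Subgroup G) = ⊥
  · refine ⟨1, ⟨0, by simp⟩, ?_⟩
    have h1 : Subgroup.centralizer ({1} : Set G) = ⊤ := by
      rw [eq_top_iff]; intro g _
      rw [mem_centralizer_singleton_iff]; simp
    rw [h1, card_top]
    apply fact_sq P
    rw [← hidx, hna, index_bot]
  have hfr := frattini_eq P.isPGroup' hna hidx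
  have hgen : (frattini ↥(P : Subgroup G)).index = p ^ 2 := by rw [hfr, hidx]
  have hfrat : ((frattini ↥(P : Subgroup G)).map (P : Subgroup G).subtype).normalCore = ⊥ := by
    rw [hfr, map_subtype_commutator]; exact hcore'
  have hnac : ¬ IsMulCommutative (P : Subgroup G) := by
    intro h
    apply hna
    apply Cfsg.Agent.MaxClass.commutator_eq_bot_of_comm
    intro a b
    exact h.is_comm.comm a b
  set F := Cfsg.generalizedFittingSubgroup G with hF
  obtain ⟨⟨hF1, hmin⟩, -, htrans⟩ := Cfsg.Agent.S4172.result p P hnac hgen hcore hfrat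
  have hnl := not_le P hcore hfrat hF1
  obtain ⟨x, hxP, hx⟩ := exists_gen P hgen F hnl
  rw [hfr] at hnl
  have hxk : ∃ k : ℕ, orderOf x = p ^ k := by
    obtain ⟨k, hk⟩ := IsPGroup.iff_orderOf.1 P.isPGroup' ⟨x, hxP⟩
    exact ⟨k, by rw [← hk, ← orderOf_coe]⟩
  have hmain : F.relIndex (P : Subgroup G) ∣ p ∧
      (Nat.card (F ⊓ centralizer ({x} : Set G) : Subgroup G)).factorization p ≤ 1 := by
    by_cases hab : IsMulCommutative F
    · have hFc : ∀ a ∈ F, ∀ b ∈ F, a * b = b * a := fun a ha b hb => Solv.comm_of_isMulCommutative hab ha hb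
      have hFit : F ≤ Cfsg.fittingSubgroup G := le_sSup ⟨inferInstance, by
        apply Subgroup.isNilpotent_of_ker_le_center (1 : F →* Unit)
        intro x _
        rw [Subgroup.mem_center_iff]
        intro g
        exact Subtype.ext (hFc g g.2 x x.2)⟩
      have hFp : IsPGroup p F := ((Cfsg.Agent.H49.pCore_isPGroup p).to_le (Cfsg.Agent.Bal.fitting_le_pCore hcore)).to_le hFit
      exact case_abelian P F hFp hFc hxP hx hidx hna hnl
    · have hCF : centralizer (F : Set G) = ⊥ := by
        by_contra h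
        have h1 : F ≤ centralizer (F : Set G) := hmin _ inferInstance h
        apply hab
        refine ⟨⟨fun a b => Subtype.ext ?_⟩⟩
        exact (mem_centralizer_iff.1 (h1 a.2) b b.2).symm
      have hlay : Cfsg.layer G ≠ ⊥ := by
        intro h
        have h1 : F = Cfsg.fittingSubgroup G := by
          rw [hF, Cfsg.generalizedFittingSubgroup, h, bot_sup_eq]
        have h2 : Group.IsSolvable F := by rw [h1]; exact fitting_isSolvable
        exact hab (Solv.minimal_normal_of_solvable F h2 hF1 (fun M hM hMK => by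
          by_cases h : M = ⊥
          · exact Or.inl h
          · exact Or.inr (le_antisymm hMK (hmin M hM h)))).1
      have hFl : F = Cfsg.layer G := le_antisymm (hmin _ inferInstance hlay) layer_le_generalizedFitting
      exact case_nonabelian P F hxP hx hidx hnl hF1 hFl hCF (htrans hab) hnas
  exact ⟨x, hxk, le_antisymm (upper P F x hmain.1 hmain.2) (lower P hidx hxP)⟩

end Main

/-- Let G be a finite group, p a prime and P a Sylow p-subgroup of order at least p². Assume that G has no nontrivial normal subgroup of order prime to p, that the derived subgroup P' of P contains no nontrivial normal subgroup of G, and that G is not almost simple (there is no non-abelian simple normal subgroup of G with trivial centralizer). Then [P : P'] = p² if and only if some p-element x of G has centralizer whose order has p-part exactly p². -/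
theorem result {G : Type*} [Group G] [Finite G] (p : ℕ) [Fact p.Prime] (P : Sylow p G) (hbig : p ^ 2 ∣ Nat.card G) (hcore : Cfsg.pPrimeCore p G = ⊥)
    (hcore' : (⁅(P : Subgroup G), (P : Subgroup G)⁆).normalCore = ⊥) (hnas : ¬ ∃ S : Subgroup G, S.Normal ∧ IsSimpleGroup S ∧ ¬ IsMulCommutative S ∧ Subgroup.centralizer (S : Set G) = ⊥) :
    (⁅(P : Subgroup G), (P : Subgroup G)⁆).relIndex (P : Subgroup G) = p ^ 2 ↔
      ∃ x : G, (∃ k : ℕ, orderOf x = p ^ k) ∧ (Nat.card (Subgroup.centralizer ({x} : Set G))).factorization p = 2 := by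
  rw [relIndex_eq]
  constructor
  · exact hard P hcore hcore' hnas
  · rintro ⟨x, hx, hc⟩
    exact easy P hbig x hx hc

end Cfsg.Agent.S4587
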