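import Cfsg.Statements.S4611
import Cfsg.Agent.H75.BlkSum
import Cfsg.Agent.Solv.Core
import Cfsg.Agent.S0915
import Cfsg.Agent.ZJ.SolvFact
import Cfsg.Agent.H75.ItoConv

set_option autoImplicit false
set_option linter.style.haveILetI false
open Cfsg Cfsg.Agent.CharBase Cfsg.Agent.H75 Cfsg.Agent.Blk
open scoped ComplexConjugate

namespace Cfsg.Agent.S4611

theorem mem_principal_iff {G : Type*} [Group G] [Finite G] (hs : Group.IsSolvable G) (p : ℕ) (hp : p.Prime)
    (M : Ideal Cfsg.AlgInt) (hM : Cfsg.IsPModular p M) (χ : Cfsg.IrrCharacter G) :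
    χ ∈ Cfsg.principalBlock M G ↔ ∀ g ∈ Cfsg.pPrimeCore p G, (χ : G → ℂ) g = (χ : G → ℂ) 1 := by
  haveI := Fact.mk hp
  have hN : ¬ p ∣ Nat.card (Cfsg.pPrimeCore p G) :=
    (Nat.Prime.coprime_iff_not_dvd hp).mp (Solv.pPrimeCore_card_coprime p).symm
  have hb := inflIrr_bijOn hM (Cfsg.pPrimeCore p G) hN
  constructor
  · intro h g hg
    obtain ⟨χ', -, rfl⟩ := hb.2.2 h
    exact inflate_ker (Cfsg.pPrimeCore p G) (χ' : G ⧸ Cfsg.pPrimeCore p G → ℂ) g hg
  · intro h
    obtain ⟨χ', hχ', he⟩ := exists_deflate_irr (Cfsg.pPrimeCore p G) χ.2 h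
    have h1 : (⟨χ', hχ'⟩ : Cfsg.IrrCharacter (G ⧸ Cfsg.pPrimeCore p G)) ∈
        Cfsg.principalBlock M (G ⧸ Cfsg.pPrimeCore p G) := by
      have hs' : Group.IsSolvable (G ⧸ Cfsg.pPrimeCore p G) :=
        Group.isSolvable_of_surjective (QuotientGroup.mk'_surjective _)
      exact S0915.result p M hM (ZJ.isPSolvable_of_isSolvable p hs')
        (Solv.pPrimeCore_quotient_pPrimeCore p) (oneIrr _) ⟨χ', hχ'⟩
    have h2 := hb.1 h1
    have h3 : inflIrr (Cfsg.pPrimeCore p G) ⟨χ', hχ'⟩ = χ := Subtype.ext (funext he)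
    rw [← h3]; exact h2

/-- Let G be a finite solvable group and π a nonempty set of primes, each dividing the order of G; fix for each p in π a maximal ideal M p of the algebraic integers containing p. Then the only irreducible character lying in the principal p-block for every p in π is the principal character if and only if G is generated by the subgroups O_{p'}(G), p in π (the largest normal subgroups of order prime to p). -/
theorem result {G : Type*} [Group G] [Finite G] [Group.IsSolvable G] (π : Set ℕ) (hπ : ∀ p ∈ π, p.Prime ∧ p ∣ Nat.card G) (hne : π.Nonempty) (M : ℕ → Ideal Cfsg.AlgInt) (hM : ∀ p ∈ π, Cfsg.IsPModular p (M p)) :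
    (∀ χ : Cfsg.IrrCharacter G, (∀ p ∈ π, χ ∈ Cfsg.principalBlock (M p) G) → (χ : G → ℂ) = fun _ => 1) ↔
      ⨆ p ∈ π, Cfsg.pPrimeCore p G = ⊤ := by
  classical
  have key : ∀ p ∈ π, ∀ χ : Cfsg.IrrCharacter G, χ ∈ Cfsg.principalBlock (M p) G ↔
      ∀ g ∈ Cfsg.pPrimeCore p G, (χ : G → ℂ) g = (χ : G → ℂ) 1 := fun p hp χ =>
    mem_principal_iff inferInstance p (hπ p hp).1 (M p) (hM p hp) χ
  set N : Subgroup G := ⨆ p ∈ π, Cfsg.pPrimeCore p G with hN
  constructor
  · intro h
    haveI hNn : N.Normal := by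
      rw [hN]
      exact Subgroup.biSup_normal π _ fun p _ => inferInstance
    by_contra hne
    have h1 : ∃ θ : Cfsg.IrrCharacter (G ⧸ N), ∃ g : G ⧸ N, (θ : G ⧸ N → ℂ) g ≠ 1 := by
      by_contra hc
      push Not at hc
      apply hne
      rw [eq_top_iff]
      intro x _
      have h2 : IsConj (QuotientGroup.mk x : G ⧸ N) 1 :=
        isConj_of_forall_char fun χ => by rw [hc, hc]
      rw [isConj_one_left, QuotientGroup.eq_one_iff] at h2
      exact h2
    obtain ⟨θ, g, hg⟩ := h1
    obtain ⟨x, rfl⟩ := QuotientGroup.mk_surjective g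
    apply hg
    have h2 := h (inflIrr N θ) (fun p hp => by
      rw [key p hp]
      intro y hy
      exact inflate_ker N (θ : G ⧸ N → ℂ) y (by
        rw [hN]; exact (le_iSup₂_of_le (f := fun p (_ : p ∈ π) => Cfsg.pPrimeCore p G) p hp le_rfl) hy))
    exact congrFun h2 x
  · intro hT χ hχ
    have h1 : N ≤ charKer (irr_isCharacter χ) := by
      rw [hN]
      refine iSup₂_le fun p hp g hg => ?_
      rw [mem_charKer]
      exact (key p hp χ).mp (hχ p hp) g hg
    rw [hT] at h1
    have h2 : ∀ g : G, (χ : G → ℂ) g = (χ : G → ℂ) 1 := fun g => by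
      have := h1 (Subgroup.mem_top g)
      rwa [mem_charKer] at this
    by_contra hne
    haveI := Fintype.ofFinite G
    have hne' : χ ≠ oneIrr G := fun h => hne (by rw [h]; rfl)
    have h3 := classInner_irr_of_ne hne'
    unfold classInner at h3
    simp only [oneIrr_apply, map_one, mul_one, h2] at h3
    rw [Finset.sum_const, Finset.card_univ, nsmul_eq_mul, ← Nat.card_eq_fintype_card, ← mul_assoc,
      inv_mul_cancel₀ (Nat.cast_ne_zero.mpr Nat.card_pos.ne'), one_mul] at h3
    exact irr_one_ne_zero χ.2 h3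

end Cfsg.Agent.S4611
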