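import Cfsg.Statements.S4758
import Cfsg.Agent.H25.FiveD
import Cfsg.Agent.H25.FiveG

set_option autoImplicit false
open Cfsg

namespace Cfsg.Agent.S4758

/-- Let u ≠ 1 be an element of the finite group G such that every non-principal irreducible character χ satisfies χ(1) − χ(u) = 4 or χ(u) = 0. Then O(G), the largest normal subgroup of odd order, is abelian, and either G ⧸ O(G) ≅ PSL₂(5) and u is an involution, or G ⧸ O(G) ≅ SL₂(5) and u has order 4. -/
theorem result {G : Type*} [Group G] [Finite G] (u : G) (hu : u ≠ 1) (hyp : ∀ χ : Cfsg.IrrCharacter G, (χ : G → ℂ) ≠ (fun _ => (1 : ℂ)) → ((χ : G → ℂ) 1 - (χ : G → ℂ) u = 4 ∨ (χ : G → ℂ) u = 0)) : IsMulCommutative ↥(Cfsg.oddCore G) ∧ ((Nonempty (G ⧸ Cfsg.oddCore G ≃* Matrix.ProjectiveSpecialLinearGroup (Fin 2) (ZMod 5)) ∧ orderOf u = 2) ∨ (Nonempty (G ⧸ Cfsg.oddCore G ≃* Matrix.SpecialLinearGroup (Fin 2) (ZMod 5)) ∧ orderOf u = 4)) := by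
  classical
  have : Fintype G := Fintype.ofFinite G
  have h : H25.Five.Hyp u := fun χ hχ hne => hyp ⟨χ, hχ⟩ hne
  obtain ⟨K, hKn, hidx, huK, huuK, hcent, hcls, hfour⟩ := H25.Five.outcome h hu
  have d : H25.Five.Dat u K := ⟨hKn, hidx, huK, huuK, hcent, hcls, hfour, H25.Five.perfect h⟩
  have ho : orderOf u ∣ 4 := by
    have hmem : u ∈ Subgroup.centralizer ({u} : Set G) := Subgroup.mem_centralizer_singleton_iff.mpr rfl
    have h1 := orderOf_dvd_natCard (⟨u, hmem⟩ : Subgroup.centralizer ({u} : Set G))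
    rwa [← Subgroup.orderOf_coe, hcent] at h1
  have ho' : orderOf u ∈ Nat.divisors 4 := Nat.mem_divisors.mpr ⟨ho, by norm_num⟩
  have hd : Nat.divisors 4 = {1, 2, 4} := by decide
  rw [hd] at ho'
  simp only [Finset.mem_insert, Finset.mem_singleton] at ho'
  rcases ho' with h1 | h2 | h4
  · exact absurd (orderOf_eq_one_iff.mp h1) hu
  · obtain ⟨h3, h4⟩ := d.caseA h2
    exact ⟨h3, Or.inl ⟨h4, h2⟩⟩
  · obtain ⟨h3, h5⟩ := d.caseB h4
    exact ⟨h3, Or.inr ⟨h5, h4⟩⟩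

end Cfsg.Agent.S4758
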