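import Cfsg.Statements.S4781
import Cfsg.Agent.H53.T7

set_option autoImplicit false
open Cfsg

namespace Cfsg.Agent.S4781

/-- Let G be a finite solvable group in which no irreducible complex character degree a with 1 < a divides a larger irreducible character degree, and suppose the character degree graph of G (primes dividing some degree, distinct primes adjacent when their product divides a degree) has exactly two connected components. Then G has exactly three distinct irreducible character degrees. -/
theorem result {G : Type*} [Group G] [Finite G] [Group.IsSolvable G] (hnd : ∀ a ∈ Cfsg.charDegrees G, ∀ b ∈ Cfsg.charDegrees G, 1 < a → a < b → ¬ a ∣ b) (htwo : Nat.card ((Cfsg.degreeGraph G).induce (Cfsg.degreePrimes G)).ConnectedComponent = 2) : Nat.card ↥(Cfsg.charDegrees G) = 3 := by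
  obtain ⟨P, hP, hP1, hP2⟩ := Cfsg.Agent.H53.D3.two_comp htwo
  obtain ⟨f, d, h1, h2, h3, h4⟩ := Cfsg.Agent.H53.D3.main_result (G := G) inferInstance (by
    intro χ ψ hχ hd
    by_contra hne
    have hpos : 0 < Cfsg.Agent.H75.deg ψ := Cfsg.Agent.H75.deg_pos ψ
    have hpos' : 0 < Cfsg.Agent.H75.deg χ := Cfsg.Agent.H75.deg_pos χ
    have hle := Nat.le_of_dvd hpos hd
    exact hnd _ (Cfsg.Agent.H53.D3.mem_cd.mpr ⟨χ, rfl⟩) _ (Cfsg.Agent.H53.D3.mem_cd.mpr ⟨ψ, rfl⟩)
      (by omega) (by omega) hd) P hP hP1 hP2
  rw [Nat.card_coe_set_eq, Set.ncard_eq_three]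
  exact ⟨1, f, d, h1, h2, h3, h4⟩

end Cfsg.Agent.S4781
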