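import Cfsg.Statements.S4840
import Cfsg.Agent.H4.TwoClassFin

set_option autoImplicit false
open Cfsg

namespace Cfsg.Agent.S4840

/-- Let G be a finite solvable group of order greater than 2 with an irreducible character nonzero on exactly two conjugacy classes. Then there is exactly one prime p with O_p(G) ≠ 1, and the quotient G/O_p(G) has a normal p-complement and commutative Sylow p-subgroups. -/
theorem result {G : Type*} [Group G] [Finite G] [hs : Group.IsSolvable G] (hG : 2 < Nat.card G) (χ : Cfsg.IrrCharacter G) (hχ : Nat.card {C : ConjClasses G // ∃ g ∈ C.carrier, (χ : G → ℂ) g ≠ 0} = 2) :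
    ∃ p : ℕ, p.Prime ∧ (∀ q : ℕ, q.Prime → (Cfsg.pCore q G ≠ ⊥ ↔ q = p)) ∧
      Cfsg.HasNormalPComplement p (G ⧸ Cfsg.pCore p G) ∧ ∀ Q : Sylow p (G ⧸ Cfsg.pCore p G), IsMulCommutative (Q : Subgroup (G ⧸ Cfsg.pCore p G)) := by
  classical
  have : Fintype G := Fintype.ofFinite G
  have hcl : ∀ (C : ConjClasses G) (g : G), g ∈ C.carrier ↔ ConjClasses.mk g = C := fun C g =>
    ConjClasses.mem_carrier_iff_mk_eq
  have h1 : ∃ g ∈ (ConjClasses.mk (1 : G)).carrier, (χ : G → ℂ) g ≠ 0 :=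
    ⟨1, (hcl _ _).mpr rfl, Cfsg.Agent.CharBase.irr_one_ne_zero χ.2⟩
  rw [Nat.card_eq_two_iff' (⟨ConjClasses.mk (1 : G), h1⟩ : {C : ConjClasses G // ∃ g ∈ C.carrier, (χ : G → ℂ) g ≠ 0})] at hχ
  obtain ⟨⟨C, hC⟩, hne, huniq⟩ := hχ
  obtain ⟨x, hxC, hx0⟩ := hC
  have hxC' := (hcl _ _).mp hxC
  have hTC : Cfsg.Agent.H4.TwoClass.TC χ x := by
    refine ⟨?_, ?_, hG⟩
    · rintro rfl
      exact hne (Subtype.ext hxC'.symm)
    · intro g
      constructor
      · intro hg
        by_cases hg1 : ConjClasses.mk g = ConjClasses.mk (1 : G)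
        · left
          exact isConj_one_left.mp (ConjClasses.mk_eq_mk_iff_isConj.mp hg1)
        · right
          have h2 := huniq ⟨ConjClasses.mk g, ⟨g, (hcl _ _).mpr rfl, hg⟩⟩ (fun h => hg1 (congrArg Subtype.val h))
          have h3 := congrArg Subtype.val h2
          simp only at h3
          exact ConjClasses.mk_eq_mk_iff_isConj.mp (hxC'.trans h3.symm)
      · rintro (rfl | hc)
        · exact Cfsg.Agent.CharBase.irr_one_ne_zero χ.2
        · rw [← Cfsg.Agent.CharBase.classFun_eq_of_isConj (Cfsg.Agent.CharBase.irr_isClassFunction χ) hc]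
          exact hx0
  obtain ⟨p, hp, hxp⟩ := hTC.exists_prime
  have : Fact p.Prime := ⟨hp⟩
  refine ⟨p, hp, ?_, hTC.quot hxp hs⟩
  intro q hq
  constructor
  · intro h
    by_contra hqp
    exact h (hTC.pCore_eq_bot hxp hq hqp)
  · rintro rfl
    exact hTC.pCore_ne_bot hxp


end Cfsg.Agent.S4840
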