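import Cfsg.Statements.S4866
import Cfsg.Agent.H81.RealOrb

set_option autoImplicit false
open Cfsg

namespace Cfsg.Agent.S4866

/-- Let K be a normal subgroup of odd index in the finite group G. Then G has as many orbits on the real-valued irreducible complex characters of K (acting by conjugation) as it has orbits on the conjugacy classes of K that are real in K; equivalently, the number of G-orbits of real-valued irreducible characters of K equals the number of G-conjugacy classes of elements of K that are conjugate in K to their inverses. -/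
theorem result {G : Type*} [Group G] [Finite G] (K : Subgroup G) [K.Normal] (hodd : Odd K.index) : Nat.card (Quot (fun θ η : {θ : Cfsg.IrrCharacter ↥K // (∀ k : ↥K, ((θ : ↥K → ℂ) k).im = 0)} => ∃ g : G, ∀ k k' : ↥K, (k' : G) = g * (k : G) * g⁻¹ → (η.1 : ↥K → ℂ) k' = (θ.1 : ↥K → ℂ) k)) = Nat.card (Quot (fun x y : {x : ↥K // IsConj x x⁻¹} => ∃ g : G, (y.1 : G) = g * x.1 * g⁻¹)) := by
  classical
  let a1 := Cfsg.Agent.H81.actIrr K
  let a2 := Cfsg.Agent.H81.actCl K
  have hmain := Cfsg.Agent.H81.card_orbits_real K hodd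
  have h1 : Nat.card (Quot (fun θ η : {θ : Cfsg.IrrCharacter ↥K // (∀ k : ↥K, ((θ : ↥K → ℂ) k).im = 0)} => ∃ g : G, ∀ k k' : ↥K, (k' : G) = g * (k : G) * g⁻¹ → (η.1 : ↥K → ℂ) k' = (θ.1 : ↥K → ℂ) k)) =
      Nat.card (MulAction.orbitRel.Quotient G (Cfsg.Agent.H81.RealIrr K)) := by
    refine Nat.card_congr (Quot.congrRight (fun θ η => ?_))
    change _ ↔ θ ∈ MulAction.orbit G η
    rw [MulAction.mem_orbit_symm]
    constructor
    · rintro ⟨g, hg⟩
      refine ⟨g, ?_⟩
      apply Subtype.ext; apply Subtype.ext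
      funext k
      change (θ.1 : K → ℂ) (MulAut.conjNormal g⁻¹ k) = (η.1 : K → ℂ) k
      refine (hg _ _ ?_).symm
      rw [Cfsg.Agent.H81.conjNormal_val]; group
    · rintro ⟨g, hg⟩
      refine ⟨g, fun k k' hk => ?_⟩
      have h2 := congrFun (congrArg (fun z : Cfsg.Agent.H81.RealIrr K => (z.1 : K → ℂ)) hg) k'
      change (θ.1 : K → ℂ) (MulAut.conjNormal g⁻¹ k') = (η.1 : K → ℂ) k' at h2
      have h3 : MulAut.conjNormal g⁻¹ k' = k := by
        apply Subtype.ext
        rw [Cfsg.Agent.H81.conjNormal_val, hk]; group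
      rw [← h2, h3]
  rw [h1, hmain]
  symm
  have hreal : ∀ x y : K, IsConj x y → IsConj x x⁻¹ → IsConj y y⁻¹ := by
    intro x y hxy hx
    refine hxy.symm.trans (hx.trans ?_)
    obtain ⟨c, hc⟩ := isConj_iff.1 hxy
    rw [isConj_iff]
    exact ⟨c, by rw [← hc]; group⟩
  let toC : {x : ↥K // IsConj x x⁻¹} → Cfsg.Agent.H81.RealCl K := fun x =>
    ⟨ConjClasses.mk x.1, fun k hk => hreal x.1 k (ConjClasses.mk_eq_mk_iff_isConj.1 hk).symm x.2⟩
  refine Nat.card_congr (Equiv.ofBijective (Quot.lift (fun x => (Quotient.mk'' (toC x) : MulAction.orbitRel.Quotient G (Cfsg.Agent.H81.RealCl K))) ?_) ⟨?_, ?_⟩)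
  · rintro x y ⟨g, hg⟩
    apply Quotient.sound
    change toC x ∈ MulAction.orbit G (toC y)
    rw [MulAction.mem_orbit_symm]
    refine ⟨g, ?_⟩
    apply Subtype.ext
    change ConjClasses.mk (MulAut.conjNormal g x.1) = ConjClasses.mk y.1
    congr 1
    apply Subtype.ext
    rw [Cfsg.Agent.H81.conjNormal_val, hg]
  · intro x y
    induction x using Quot.ind with | _ x =>
    induction y using Quot.ind with | _ y =>
    intro hxy
    have h2 : toC x ∈ MulAction.orbit G (toC y) := Quotient.exact hxy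
    rw [MulAction.mem_orbit_symm] at h2
    obtain ⟨g, hg⟩ := h2
    have h3 : ConjClasses.mk (MulAut.conjNormal g x.1) = ConjClasses.mk y.1 := congrArg Subtype.val hg
    rw [ConjClasses.mk_eq_mk_iff_isConj] at h3
    obtain ⟨c, hc⟩ := isConj_iff.1 h3
    apply Quot.sound
    refine ⟨c * g, ?_⟩
    have h4 : (c : G) * (MulAut.conjNormal g x.1 : K) * (c : G)⁻¹ = y.1 := congrArg Subtype.val hc
    rw [← h4, Cfsg.Agent.H81.conjNormal_val]; group
  · intro q
    induction q using Quotient.ind with | _ C =>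
    obtain ⟨C, hC⟩ := C
    obtain ⟨x, rfl⟩ := ConjClasses.exists_rep C
    refine ⟨Quot.mk _ ⟨x, hC x rfl⟩, ?_⟩
    rfl

end Cfsg.Agent.S4866
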