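import Cfsg.Statements.S4873
import Cfsg.Agent.H81.RealOver

set_option autoImplicit false
open Cfsg

namespace Cfsg.Agent.S4873

/-- Let N be a normal subgroup of odd index in the finite group G. Then every irreducible complex character of N with Frobenius–Schur indicator +1 lies under exactly one irreducible character of G with Frobenius–Schur indicator +1. -/
theorem result {G : Type*} [Group G] [Finite G] (N : Subgroup G) [N.Normal] (hodd : Odd N.index) (φ : Cfsg.IrrCharacter ↥N) (hφ : (Nat.card ↥N : ℂ)⁻¹ * ∑ᶠ g : ↥N, (φ : ↥N → ℂ) (g * g) = 1) : ∃! χ : Cfsg.IrrCharacter G, (Nat.card G : ℂ)⁻¹ * ∑ᶠ g : G, (χ : G → ℂ) (g * g) = 1 ∧ (∑ᶠ n : ↥N, (χ : G → ℂ) n * (starRingEnd ℂ) ((φ : ↥N → ℂ) n)) ≠ 0 := by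
  classical
  have hFG : Fintype G := Fintype.ofFinite G
  have hFN : Fintype N := Fintype.ofFinite N
  have hFI : Fintype (Cfsg.IrrCharacter G) := Fintype.ofFinite _
  rw [finsum_eq_sum_of_fintype] at hφ
  have hφ' : Cfsg.Agent.H52.fsi (φ : N → ℂ) = 1 := hφ
  have hreal : ∀ n, ((φ : N → ℂ) n).im = 0 := by
    by_contra hcon
    push Not at hcon
    rw [(Cfsg.Agent.H52.fsi_eq_zero_iff φ.2).2 hcon] at hφ'
    exact zero_ne_one hφ'
  obtain ⟨χ, ⟨hχ1, hχ2⟩, huniq⟩ := Cfsg.Agent.H81.unique_real_over N hodd φ hreal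
  have hcard : (Nat.card N : ℂ) ≠ 0 := by exact_mod_cast Nat.card_pos.ne'
  have hinner : ∀ χ : Cfsg.IrrCharacter G, (∑ᶠ n : ↥N, (χ : G → ℂ) n * (starRingEnd ℂ) ((φ : ↥N → ℂ) n)) ≠ 0 ↔
      Cfsg.classInner (fun n : N => (χ : G → ℂ) n) (φ : N → ℂ) ≠ 0 := by
    intro χ
    rw [finsum_eq_sum_of_fintype]
    unfold Cfsg.classInner
    constructor
    · intro h; exact mul_ne_zero (inv_ne_zero hcard) h
    · intro h; exact right_ne_zero_of_mul h
  have hfs : ∀ χ : Cfsg.IrrCharacter G, (Nat.card G : ℂ)⁻¹ * ∑ᶠ g : G, (χ : G → ℂ) (g * g) = Cfsg.Agent.H52.fsi (χ : G → ℂ) := by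
    intro χ
    rw [finsum_eq_sum_of_fintype]
    rfl
  have hreal' : ∀ χ : Cfsg.IrrCharacter G, Cfsg.Agent.H52.fsi (χ : G → ℂ) ≠ 0 → ∀ g, ((χ : G → ℂ) g).im = 0 := by
    intro χ h0
    by_contra hcon
    push Not at hcon
    exact h0 ((Cfsg.Agent.H52.fsi_eq_zero_iff χ.2).2 hcon)
  refine ⟨χ, ⟨?_, (hinner χ).2 hχ2⟩, ?_⟩
  · rw [hfs]
    have h1 := Cfsg.Agent.H81.fsi_eq_sum_over N hodd φ
    rw [hφ', Finset.sum_eq_single χ] at h1
    · obtain ⟨m, hm⟩ := Cfsg.Agent.CharBase.classInner_natCast (Cfsg.Agent.CharBase.isCharacter_restrict (Cfsg.Agent.CharBase.irr_isCharacter χ) N) (Cfsg.Agent.CharBase.irr_isCharacter φ)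
      rcases Cfsg.Agent.H52.fsi_cases χ.2 with h | h | h
      · rw [h, zero_mul] at h1; exact absurd h1 one_ne_zero
      · exact h
      · exfalso
        rw [h, hm] at h1
        have h2 : (1 : ℤ) = -1 * (m : ℤ) := by exact_mod_cast h1
        omega
    · intro χ' _ hne
      by_cases h0 : Cfsg.Agent.H52.fsi (χ' : G → ℂ) = 0
      · rw [h0, zero_mul]
      · by_cases h3 : Cfsg.classInner (fun n : N => (χ' : G → ℂ) n) (φ : N → ℂ) = 0
        · rw [h3, mul_zero]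
        · exact absurd (huniq χ' ⟨hreal' χ' h0, h3⟩) hne
    · intro h; exact absurd (Finset.mem_univ _) h
  · rintro χ' ⟨h1, h2⟩
    rw [hfs] at h1
    exact huniq χ' ⟨hreal' χ' (by rw [h1]; exact one_ne_zero), (hinner χ').1 h2⟩

end Cfsg.Agent.S4873
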