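import Cfsg.Statements.S4886
import Cfsg.Agent.H4.PQNorm
import Cfsg.Agent.H34.PQB3
import Cfsg.Agent.H76.AlperinDade

set_option autoImplicit false
open Cfsg

namespace Cfsg.Agent.S4886

open Subgroup Cfsg.Agent Cfsg.Agent.CharBase Cfsg.Agent.H4.PQ

theorem xx_quot {G : Type*} [Group G] [Finite G] (p q : ℕ) [Fact p.Prime] (M : Ideal Cfsg.AlgInt)
    (hM : Cfsg.IsPModular p M) (hps : Cfsg.IsPSolvable p G)
    (h : ∀ χ : Cfsg.IrrCharacter G, χ ∈ Cfsg.principalBlock M G → ¬ p ∣ Cfsg.charDegree (χ : G → ℂ) → ¬ q ∣ Cfsg.charDegree (χ : G → ℂ)) :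
    XX p q (G ⧸ Cfsg.pPrimeCore p G) := by
  intro χ hp hq
  have h1 := H75.isIrrCharacter_inflate (Cfsg.pPrimeCore p G) χ.2
  refine h ⟨_, h1⟩ ?_ ?_ ?_
  · rw [H34.PQB.mem_principal_iff p M hM hps]
    exact H75.inflate_ker (Cfsg.pPrimeCore p G) (χ : G ⧸ Cfsg.pPrimeCore p G → ℂ)
  · simpa [Cfsg.charDegree] using hp
  · simpa [Cfsg.charDegree] using hq

theorem deg_of_commute {G : Type*} [Group G] [Finite G] (p q : ℕ) [Fact p.Prime] [Fact q.Prime] (hpq : p ≠ q) (M : Ideal Cfsg.AlgInt)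
    (hM : Cfsg.IsPModular p M) (hps : Cfsg.IsPSolvable p G) (P : Sylow p G) (Q : Sylow q G)
    (hc : ∀ x ∈ (P : Subgroup G), ∀ y ∈ (Q : Subgroup G), x * y = y * x) (χ : Cfsg.IrrCharacter G)
    (hχ : χ ∈ Cfsg.principalBlock M G) : ¬ q ∣ Cfsg.charDegree (χ : G → ℂ) := by
  have hPQ : (P : Subgroup G) ≤ normalizer ((Q : Subgroup G) : Set G) := by
    refine le_trans ?_ (centralizer_le_normalizer _)
    intro x hx
    rw [mem_centralizer_iff]
    intro y hy
    exact (hc x hx y hy).symm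
  have hQK := sylow_le_core hpq hps P Q hPQ
  rw [H34.PQB.mem_principal_iff p M hM hps] at hχ
  obtain ⟨χ', hχ', hval⟩ := H75.exists_deflate_irr (Cfsg.pPrimeCore p G) χ.2 hχ
  intro hd
  have h1 : Cfsg.charDegree (χ : G → ℂ) = Cfsg.charDegree χ' := by
    apply H75.charDegree_eq
    have h0 := hval 1
    rw [← h0]
    exact BlkC.charDegree_spec ⟨χ', hχ'⟩
  rw [h1] at hd
  have h2 := BlkC.charDegree_dvd_card ⟨χ', hχ'⟩
  have h3 : q ∣ (Cfsg.pPrimeCore p G).index := hd.trans h2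
  exact Q.not_dvd_index (h3.trans (index_dvd_of_le hQK))

theorem exists_commute {G : Type*} [Group G] [Finite G] (p q : ℕ) [hp : Fact p.Prime] [hq : Fact q.Prime] (hpq : p ≠ q)
    (h1 : ¬ q ∣ (Cfsg.pPrimeCore p G).index) (h2 : ¬ p ∣ (Cfsg.pPrimeCore q G).index) :
    ∃ (P : Sylow p G) (Q : Sylow q G), ∀ x ∈ (P : Subgroup G), ∀ y ∈ (Q : Subgroup G), x * y = y * x := by
  have hpp := hp.out
  have hqq := hq.out
  have hcoprime : Nat.Coprime p q := (Nat.coprime_primes hpp hqq).mpr hpq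
  set K := Cfsg.pPrimeCore p G with hK
  set L := Cfsg.pPrimeCore q G with hL
  have hKn : K.Normal := inferInstanceAs (Cfsg.pPrimeCore p G).Normal
  have hLn : L.Normal := inferInstanceAs (Cfsg.pPrimeCore q G).Normal
  have hKp : (Nat.card K).Coprime p := Solv.pPrimeCore_card_coprime p
  have hLq : (Nat.card L).Coprime q := Solv.pPrimeCore_card_coprime q
  obtain ⟨P⟩ : Nonempty (Sylow p G) := inferInstance
  obtain ⟨Q⟩ : Nonempty (Sylow q G) := inferInstance
  have hPL : (P : Subgroup G) ≤ L := H76.sylow_le_of_not_dvd_index P L h2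
  have hQK : (Q : Subgroup G) ≤ K := H76.sylow_le_of_not_dvd_index Q K h1
  set D := K ⊓ L with hD
  have hDn : D.Normal := inferInstance
  have hDp : (Nat.card D).Coprime p := Nat.Coprime.coprime_dvd_left (card_dvd_of_le inf_le_left) hKp
  have hDq : (Nat.card D).Coprime q := Nat.Coprime.coprime_dvd_left (card_dvd_of_le inf_le_right) hLq
  have hcomm : ∀ x ∈ L, ∀ y ∈ K, x * y * x⁻¹ * y⁻¹ ∈ D := by
    intro x hx y hy
    refine mem_inf.mpr ⟨?_, ?_⟩
    · exact mul_mem (hKn.conj_mem y hy x) (inv_mem hy)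
    · have h3 : x * y * x⁻¹ * y⁻¹ = x * (y * x⁻¹ * y⁻¹) := by group
      rw [h3]
      exact mul_mem hx (hLn.conj_mem x⁻¹ (inv_mem hx) y)
  obtain ⟨k, hk⟩ := IsPGroup.iff_card.mp P.isPGroup'
  obtain ⟨l, hl⟩ := IsPGroup.iff_card.mp Q.isPGroup'
  have hPD : (Nat.card (P : Subgroup G)).Coprime (Nat.card D) := by
    rw [hk]; exact Nat.Coprime.pow_left _ hDp.symm
  set E := (P : Subgroup G) ⊔ D with hE
  have hEcard : Nat.card E = Nat.card (P : Subgroup G) * Nat.card D := by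
    have h3 := Solv.mul_card_sup_of_normal (P : Subgroup G) D
    rw [Cop.inf_eq_bot_of_coprime hPD, card_bot, mul_one, ← hE] at h3
    exact h3
  have hQE : (Q : Subgroup G) ≤ normalizer (E : Set G) := by
    have key : ∀ g ∈ Q, ∀ z ∈ E, g * z * g⁻¹ ∈ E := by
      intro g hg z hz
      rw [hE, ← SetLike.mem_coe, mul_normal, Set.mem_mul] at hz
      obtain ⟨x, hx, d, hd, rfl⟩ := hz
      have h3 : g * (x * d) * g⁻¹ = (g * x * g⁻¹ * x⁻¹) * x * (g * d * g⁻¹) := by group
      have h4 : g * x * g⁻¹ * x⁻¹ ∈ D := by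
        have h5 := hcomm x (hPL hx) g (hQK hg)
        have h6 : g * x * g⁻¹ * x⁻¹ = (x * g * x⁻¹ * g⁻¹)⁻¹ := by group
        rw [h6]
        exact inv_mem h5
      rw [h3]
      exact mul_mem (mul_mem (mem_sup_right h4) (mem_sup_left hx)) (mem_sup_right (hDn.conj_mem d hd g))
    intro g hg
    rw [mem_normalizer_iff]
    intro z
    refine ⟨key g hg z, fun hz => ?_⟩
    have h3 := key g⁻¹ (inv_mem hg) _ hz
    have h4 : g⁻¹ * (g * z * g⁻¹) * g⁻¹⁻¹ = z := by group
    rwa [h4] at h3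
  have hcop : (Nat.card (Q : Subgroup G)).Coprime (Nat.card E) := by
    rw [hl, hEcard, hk]
    exact Nat.Coprime.pow_left _ (Nat.Coprime.mul_right (Nat.Coprime.pow_right _ hcoprime.symm) hDq.symm)
  have hsQ : Group.IsSolvable (Q : Subgroup G) := by
    have : Group.IsNilpotent (Q : Subgroup G) := Q.isPGroup'.isNilpotent
    infer_instance
  obtain ⟨P₁, hP₁⟩ := Cop.exists_invariant_sylow hQE hcop (Or.inl hsQ) p
  set R := (P₁ : Subgroup E).map E.subtype with hR
  have hRE : R ≤ E := by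
    rintro _ ⟨x, _, rfl⟩
    exact x.2
  have hDv : ¬ p ∣ Nat.card D := (hpp.coprime_iff_not_dvd).mp hDp.symm
  have hEv : (Nat.card E).factorization p = (Nat.card G).factorization p := by
    rw [hEcard, Nat.factorization_mul Nat.card_pos.ne' Nat.card_pos.ne', Finsupp.add_apply,
      Nat.factorization_eq_zero_of_not_dvd hDv, add_zero, P.card_eq_multiplicity, hpp.factorization_pow, Finsupp.single_eq_same]
  have hRcard : Nat.card R = p ^ (Nat.card G).factorization p := by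
    rw [hR, Cop.card_map_subtype, P₁.card_eq_multiplicity, hEv]
  let P' : Sylow p G := Sylow.ofCard R hRcard
  have hRL : R ≤ L := hRE.trans (sup_le hPL inf_le_right)
  have hRD : R ⊓ D = ⊥ := by
    apply Cop.inf_eq_bot_of_coprime
    rw [hRcard]
    exact Nat.Coprime.pow_left _ hDp.symm
  refine ⟨P', Q, ?_⟩
  intro x hx y hy
  have hx' : x ∈ R := hx
  have h3 : x * y * x⁻¹ * y⁻¹ ∈ R ⊓ D := by
    refine mem_inf.mpr ⟨?_, hcomm x (hRL hx') y (hQK hy)⟩
    have h4 : x * y * x⁻¹ * y⁻¹ = x * (y * x⁻¹ * y⁻¹) := by group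
    rw [h4]
    exact mul_mem hx' ((mem_normalizer_iff.mp (hP₁ hy) x⁻¹).mp (inv_mem hx'))
  rw [hRD, mem_bot] at h3
  calc x * y = (x * y * x⁻¹ * y⁻¹) * (y * x) := by group
    _ = y * x := by rw [h3, one_mul]


/-- Let p ≠ q be primes and G a finite group that is p-solvable and q-solvable. Fix maximal ideals of the algebraic integers containing p and q, defining the principal p-block and the principal q-block. Then every irreducible character of degree prime to p in the principal p-block has degree prime to q and every irreducible character of degree prime to q in the principal q-block has degree prime to p, if and only if some Sylow p-subgroup of G commutes elementwise with some Sylow q-subgroup. -/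
theorem result {G : Type*} [Group G] [Finite G] (p q : ℕ) [Fact p.Prime] [Fact q.Prime] (hpq : p ≠ q) (Mp Mq : Ideal Cfsg.AlgInt) (hMp : Cfsg.IsPModular p Mp) (hMq : Cfsg.IsPModular q Mq) (hps : Cfsg.IsPSolvable p G) (hqs : Cfsg.IsPSolvable q G) : ((∀ χ : Cfsg.IrrCharacter G, χ ∈ Cfsg.principalBlock Mp G → ¬ p ∣ Cfsg.charDegree (χ : G → ℂ) → ¬ q ∣ Cfsg.charDegree (χ : G → ℂ)) ∧ (∀ χ : Cfsg.IrrCharacter G, χ ∈ Cfsg.principalBlock Mq G → ¬ q ∣ Cfsg.charDegree (χ : G → ℂ) → ¬ p ∣ Cfsg.charDegree (χ : G → ℂ))) ↔ ∃ (P : Sylow p G) (Q : Sylow q G), ∀ x ∈ (P : Subgroup G), ∀ y ∈ (Q : Subgroup G), x * y = y * x := by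
  constructor
  · rintro ⟨h1, h2⟩
    have e1 := H4.PQ.not_dvd_of_core hpq (H76.isPSolvable_quotient _ hps) (H76.isPSolvable_quotient _ hqs)
      (xx_quot p q Mp hMp hps h1) (Solv.pPrimeCore_quotient_pPrimeCore p)
    have e2 := H4.PQ.not_dvd_of_core hpq.symm (H76.isPSolvable_quotient _ hqs) (H76.isPSolvable_quotient _ hps)
      (xx_quot q p Mq hMq hqs h2) (Solv.pPrimeCore_quotient_pPrimeCore q)
    exact exists_commute p q hpq e1 e2
  · rintro ⟨P, Q, hc⟩
    refine ⟨fun χ hχ _ => deg_of_commute p q hpq Mp hMp hps P Q hc χ hχ,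
      fun χ hχ _ => deg_of_commute q p hpq.symm Mq hMq hqs Q P (fun y hy x hx => (hc x hx y hy).symm) χ hχ⟩


end Cfsg.Agent.S4886
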