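import Cfsg.Statements.S4997
import Cfsg.Agent.H75.VAe

set_option autoImplicit false
open Cfsg

namespace Cfsg.Agent.S4997

/-- Let p be an odd prime and G a finite solvable group with exactly one conjugacy class consisting of vanishing elements (elements at which some irreducible complex character is zero) of order divisible by p. Let P be a Sylow p-subgroup of G. Then the order of P is at most p times the order of the largest normal p-subgroup of G. -/
theorem result {G : Type*} [Group G] [Finite G] (hsolv : Group.IsSolvable G) (p : ℕ) [Fact p.Prime] (hp : p ≠ 2) (h1 : Set.ncard {C : ConjClasses G | (∀ g ∈ C.carrier, ∃ χ : Cfsg.IrrCharacter G, (χ : G → ℂ) g = 0) ∧ ∃ g ∈ C.carrier, p ∣ orderOf g} = 1) (P : Sylow p G) : Nat.card ↥(P : Subgroup G) ≤ p * Nat.card ↥(Cfsg.pCore p G) := by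
  obtain ⟨C, hC⟩ := Set.ncard_eq_one.mp h1
  obtain ⟨b, hb⟩ : ∃ b : ℕ, ∀ g ∈ C.carrier, orderOf g = b := by
    obtain ⟨c, rfl⟩ := ConjClasses.mk_surjective C
    refine ⟨orderOf c, fun g hg => ?_⟩
    have hg' := ConjClasses.mk_eq_mk_iff_isConj.mp (ConjClasses.mem_carrier_iff_mk_eq.mp hg)
    obtain ⟨x, rfl⟩ := isConj_iff.mp hg'.symm
    exact (MulEquiv.orderOf_eq (MulAut.conj x) c)
  refine Cfsg.Agent.H75.VA.card_le hsolv b ?_ P
  rintro g ⟨χ, hχ, h0⟩ hpg
  have hmem : ConjClasses.mk g ∈ ({C} : Set (ConjClasses G)) := by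
    rw [← hC]
    refine ⟨fun y hy => ⟨⟨χ, hχ⟩, ?_⟩, g, ConjClasses.mem_carrier_mk, hpg⟩
    have hy' : IsConj g y := by
      have := ConjClasses.mem_carrier_iff_mk_eq.mp hy
      exact (ConjClasses.mk_eq_mk_iff_isConj.mp this).symm
    exact (Cfsg.Agent.CharBase.classFun_eq_of_isConj
      (Cfsg.Agent.CharBase.irr_isClassFunction ⟨χ, hχ⟩) hy').symm.trans h0
  apply hb g
  rw [Set.mem_singleton_iff] at hmem
  rw [← hmem]
  exact ConjClasses.mem_carrier_mk

end Cfsg.Agent.S4997
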