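import Cfsg.Statements.S5179
import Cfsg.Agent.Fus.ExIdx

set_option autoImplicit false
universe u
open Cfsg Cfsg.Agent.Fus

namespace Cfsg.Agent.S5179

/-- Let p be an odd prime, S a finite p-group of order at least p⁶ containing an extraspecial subgroup Q of index p, and F a saturated fusion system over S whose largest subgroup normal in F is trivial. Then no proper subgroup of Q is essential in F: an essential subgroup of F contained in Q equals Q. -/
theorem result {Ω : Type u} [Group Ω] {S : Subgroup Ω} [Finite S] (p : ℕ) [Fact p.Prime] (hp : Odd p) (hS : IsPGroup p S)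
    (Q : Subgroup Ω) (hQS : Q ≤ S) (hQ : Cfsg.IsExtraspecial p ↥Q) (hQi : (Q.subgroupOf S).index = p)
    (h6 : p ^ 6 ≤ Nat.card S)
    (F : Cfsg.FusionSystem S) (hF : F.IsSaturated p) (hO : F.core = ⊥)
    (E : Subgroup Ω) (hEQ : E ≤ Q) (hE : F.IsEssential p E) : E = Q := by
  by_contra hne
  have := Cfsg.Agent.Fus.finite_of_le hQS
  have h1 := (Cfsg.Agent.Fus.ess_lt_exsp hS hQS hQ hE (lt_of_le_of_ne hEQ hne)).2
  have h2 := Subgroup.card_mul_index (Q.subgroupOf S)
  rw [hQi, Nat.card_congr (Subgroup.subgroupOfEquivOfLe hQS).toEquiv] at h2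
  have hp1 := (Fact.out : p.Prime).one_lt
  have h3 : p ^ 6 ≤ p ^ 4 := by
    calc p ^ 6 ≤ Nat.card S := h6
      _ = Nat.card Q * p := h2.symm
      _ ≤ p ^ 3 * p := Nat.mul_le_mul_right _ h1
      _ = p ^ 4 := by ring
  have h4 : p ^ 4 < p ^ 6 := Nat.pow_lt_pow_right hp1 (by norm_num)
  omega

end Cfsg.Agent.S5179
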