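import Cfsg.Statements.S5187
import Cfsg.Agent.Fus.AbelianEss

set_option autoImplicit false
universe u
open Cfsg

namespace Cfsg.Agent.S5187

/-- Let F be a saturated fusion system over a finite p-group S and H an abelian essential subgroup that can be generated by two elements (its Frattini quotient has order at most p²). Then H is elementary abelian of order p², or p ≤ 3 and H is homocyclic of rank two, that is isomorphic to C_{pᵏ} × C_{pᵏ} for some k. -/
theorem result {Ω : Type u} [Group Ω] {S : Subgroup Ω} [Finite S] (p : ℕ) [Fact p.Prime] (hS : IsPGroup p S)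
    (F : Cfsg.FusionSystem S) (hF : F.IsSaturated p) (H : Subgroup Ω) (hH : F.IsEssential p H) (hab : IsMulCommutative ↥H) (hrk : (frattini ↥H).index ≤ p ^ 2) :
    (Cfsg.IsElementaryAbelian p H ∧ Nat.card H = p ^ 2) ∨
      (p ≤ 3 ∧ ∃ k : ℕ, Nonempty (↥H ≃* Multiplicative (ZMod (p ^ k) × ZMod (p ^ k)))) := by
  have hHS : H ≤ S := hH.1.1
  have : Finite H := Finite.of_injective (Subgroup.inclusion hHS) (Subgroup.inclusion_injective hHS)
  let : CommGroup H := { (inferInstance : Group H) with mul_comm := hab.is_comm.comm }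
  have hHp : IsPGroup p H := hS.to_le hHS
  have h2 : Cfsg.Agent.FusSE.SEOut p (F.autGroup H) := hH.2.2
  rcases h2.rank_two hHp (Cfsg.Agent.FusSE.card_om_one_le hrk) with ⟨h3, h4⟩ | h3
  · exact Or.inl ⟨⟨hab, fun a ha => congrArg Subtype.val (h3 ⟨a, ha⟩)⟩, h4⟩
  · exact Or.inr h3

end Cfsg.Agent.S5187
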