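import Cfsg.Statements.S5200
import Cfsg.Agent.Fus.NF2

set_option autoImplicit false
open Cfsg

namespace Cfsg.Agent.S5200

/-- Let F be a saturated fusion system over a finite p-group S and E a normal subsystem of F over T whose centralizer in S lies in T: every subgroup Y of C_S(T) such that E is contained in the centralizer fusion system of Y in F satisfies Y ≤ T. Then T·C_S(T)/T is abelian (the commutator subgroup of T·C_S(T) lies in T), and if p is odd then C_S(T) ≤ T. -/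
theorem result {Ω : Type*} [Group Ω] {S : Subgroup Ω} [Finite S] (p : ℕ) [Fact p.Prime] (hS : IsPGroup p S) (F : Cfsg.FusionSystem S) (hF : F.IsSaturated p) {T : Subgroup Ω} (E : Cfsg.FusionSystem T) (hE : E.IsNormalIn F p) (hCE : ∀ Y : Subgroup Ω, Y ≤ Cfsg.FusionSystem.centralizerIn S T → (∀ C : Cfsg.FusionSystem (Cfsg.FusionSystem.centralizerIn S Y), F.IsCentralizerSystem Y C → E.IsSubsystemOf C) → Y ≤ T) : ⁅T ⊔ Cfsg.FusionSystem.centralizerIn S T, T ⊔ Cfsg.FusionSystem.centralizerIn S T⁆ ≤ T ∧ (p ≠ 2 → Cfsg.FusionSystem.centralizerIn S T ≤ T) := by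
  have hCT := Cfsg.Agent.Fus.cenE_le_of hS hE hCE
  refine ⟨?_, fun hp2 => Cfsg.Agent.Fus.centralizer_le_of_odd hS hE hCT hp2⟩
  have hT := hE.1.2.2.2.1
  rw [Subgroup.commutator_le]
  have hcomm : ∀ t ∈ T, ∀ c ∈ Cfsg.FusionSystem.centralizerIn S T, c * t = t * c := fun t ht c hc =>
    ((Cfsg.Agent.Fus.mem_centralizerIn.1 hc).2 t ht).symm
  intro g₁ hg₁ g₂ hg₂
  obtain ⟨t₁, ht₁, c₁, hc₁, rfl⟩ := Cfsg.Agent.Fus.exists_mul_of_comm hcomm hg₁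
  obtain ⟨t₂, ht₂, c₂, hc₂, rfl⟩ := Cfsg.Agent.Fus.exists_mul_of_comm hcomm hg₂
  have h1 : c₁⁻¹ * (c₂ * c₁ * c₂⁻¹) ∈ T := by
    refine hCT (Cfsg.Agent.Fus.foc_cenE hS hE (A := Cfsg.FusionSystem.centralizerIn S T) le_rfl
      (Cfsg.Agent.Fus.isMap_conj (sup_le (Cfsg.Agent.Fus.centralizerIn_le T) hT.1) hc₂.1) (fun x hx => ?_) c₁ hc₁)
    rw [hcomm x hx c₂ hc₂, mul_inv_cancel_right]
  have h2 : c₁ * c₂ * c₁⁻¹ * c₂⁻¹ ∈ T := by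
    have h3 := Cfsg.Agent.Fus.sc_conj_mem hT hc₁.1 (T.inv_mem h1)
    have e : c₁ * (c₁⁻¹ * (c₂ * c₁ * c₂⁻¹))⁻¹ * c₁⁻¹ = c₁ * c₂ * c₁⁻¹ * c₂⁻¹ := by group
    rwa [e] at h3
  rw [commutatorElement_def]
  have e : t₁ * c₁ * (t₂ * c₂) * (t₁ * c₁)⁻¹ * (t₂ * c₂)⁻¹ = t₁ * t₂ * (c₁ * c₂ * c₁⁻¹ * c₂⁻¹) * t₁⁻¹ * t₂⁻¹ := by
    have e1 : c₂⁻¹ * t₁⁻¹ = t₁⁻¹ * c₂⁻¹ := hcomm _ (T.inv_mem ht₁) _ (Subgroup.inv_mem _ hc₂)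
    calc t₁ * c₁ * (t₂ * c₂) * (t₁ * c₁)⁻¹ * (t₂ * c₂)⁻¹
        = t₁ * (c₁ * t₂) * c₂ * c₁⁻¹ * t₁⁻¹ * c₂⁻¹ * t₂⁻¹ := by group
      _ = t₁ * (t₂ * c₁) * c₂ * c₁⁻¹ * t₁⁻¹ * c₂⁻¹ * t₂⁻¹ := by rw [hcomm t₂ ht₂ c₁ hc₁]
      _ = t₁ * t₂ * (c₁ * c₂ * c₁⁻¹) * (t₁⁻¹ * c₂⁻¹) * t₂⁻¹ := by group
      _ = t₁ * t₂ * (c₁ * c₂ * c₁⁻¹) * (c₂⁻¹ * t₁⁻¹) * t₂⁻¹ := by rw [e1]
      _ = _ := by group
  rw [e]
  exact T.mul_mem (T.mul_mem (T.mul_mem (T.mul_mem ht₁ ht₂) h2) (T.inv_mem ht₁)) (T.inv_mem ht₂)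

end Cfsg.Agent.S5200
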