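import Cfsg.Statements.S5202
import Cfsg.Agent.Fus.NE7

set_option autoImplicit false
open Cfsg

namespace Cfsg.Agent.S5202

/-- Let F be a saturated fusion system over a finite p-group S and E a normal subsystem of F over T such that Aut_F(T)/Aut_E(T) is p-solvable. Then there is a normal subsystem F₀ of F over T·C_S(T) containing E, with Aut_{F₀}(T) = Aut_E(T), containing every residual limit of F, and whose residual limits have the same maps as those of F. -/
theorem result {Ω : Type*} [Group Ω] {S : Subgroup Ω} [Finite S] (p : ℕ) [Fact p.Prime] (hS : IsPGroup p S) (F : Cfsg.FusionSystem S) (hF : F.IsSaturated p) {T : Subgroup Ω} (E : Cfsg.FusionSystem T) (hE : E.IsNormalIn F p) [hn : ((E.autGroup T).subgroupOf (F.autGroup T)).Normal] (hsolv : Cfsg.IsPSolvable p (↥(F.autGroup T) ⧸ (E.autGroup T).subgroupOf (F.autGroup T))) : ∃ F₀ : Cfsg.FusionSystem (T ⊔ Cfsg.FusionSystem.centralizerIn S T), F₀.IsNormalIn F p ∧ E.IsSubsystemOf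 F₀ ∧ F₀.autGroup T = E.autGroup T ∧ ∀ {U : Subgroup Ω} (Finf : Cfsg.FusionSystem U), Finf.IsResidualLimitOf F p → Finf.IsSubsystemOf F₀ ∧ ∀ {V : Subgroup Ω} (L : Cfsg.FusionSystem V), L.IsResidualLimitOf F₀ p → ∀ P : Subgroup Ω, L.Hom P = Finf.Hom P := by
  obtain ⟨F₀, H, h1, h2⟩ := Cfsg.Agent.Fus.exists_envelope hS hE hsolv
  have hTC : T ⊔ Cfsg.FusionSystem.centralizerIn S T ≤ S := H.le1
  have hfU : Finite ↥(T ⊔ Cfsg.FusionSystem.centralizerIn S T) := Cfsg.Agent.Fus.finite_of_le hTC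
  have hpU : IsPGroup p ↥(T ⊔ Cfsg.FusionSystem.centralizerIn S T) := Cfsg.Agent.Fus.isPGroup_of_le hS hTC
  refine ⟨F₀, H.h1, H.hE1.1.2.2.1, h1, fun {U} Finf hFinf => ⟨?_, fun {V} L hL P => ?_⟩⟩
  · obtain ⟨V, L, hL⟩ := Cfsg.Agent.Fus.exists_lim' hpU H.h1.1.1
    intro P
    rw [h2 _ _ Finf L hFinf hL P]
    exact Cfsg.Agent.Fus.lim_le hL P
  · exact (h2 _ _ Finf L hFinf hL P).symm

end Cfsg.Agent.S5202
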