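import Cfsg.Statements.S5226
import Mathlib
import Cfsg.Agent.Fus.Chain
import Cfsg.Agent.Fus.NormalChar

set_option autoImplicit false
open Cfsg

namespace Cfsg.Agent.S5226

open Cfsg.Agent.Fus
open scoped commutatorElement

variable {Ω : Type*} [Group Ω] {S : Subgroup Ω} {F : Cfsg.FusionSystem S} {p : ℕ}

theorem wc_isMap {C : Subgroup Ω} (hC : F.WeaklyClosed C) {P : Subgroup Ω} {f : Ω → Ω} (hf : IsMap F P f)
    (hCP : C ≤ P) {x : Ω} (hx : x ∈ C) : f x ∈ C := by
  have h1 := hf.mono hCP
  have h2 := hC.2 _ h1.hom_mem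
  have h3 := h1.img_eq_range (φ := h1.hom) (fun _ => rfl)
  rw [h2] at h3
  rw [← h3]
  exact subset_img hx

theorem wc_le_normalizer {C : Subgroup Ω} (hC : F.WeaklyClosed C) : S ≤ Subgroup.normalizer (C : Set Ω) := by
  have key : ∀ g ∈ S, ∀ x ∈ C, g * x * g⁻¹ ∈ C := fun g hg x hx =>
    wc_isMap hC (isMap_conj (F := F) hC.1 hg) le_rfl hx
  intro g hg
  rw [Subgroup.mem_normalizer_iff]
  intro x
  refine ⟨key g hg x, fun h => ?_⟩
  have := key g⁻¹ (S.inv_mem hg) _ h
  have e : g⁻¹ * (g * x * g⁻¹) * g⁻¹⁻¹ = x := by group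
  rwa [e] at this

theorem sc_weaklyClosed [Finite S] {C : Subgroup Ω} (hC : F.StronglyClosed C) : F.WeaklyClosed C := by
  refine ⟨hC.1, fun φ hφ => ?_⟩
  have hfin : Finite C := finite_of_le hC.1
  have h1 : φ.range ≤ C := by
    rintro _ ⟨x, rfl⟩
    exact hC.2 C le_rfl φ hφ x
  apply Subgroup.eq_of_le_of_card_ge h1
  rw [Nat.card_congr (MonoidHom.ofInjective (F.injective_of_mem hφ)).toEquiv]

/-- (generalized 4.6): a strongly closed subgroup with a central series of weakly closed proper terms. -/
theorem isNormal_of_weak_series [Finite S] [Fact p.Prime] (hS : IsPGroup p S) (hF : F.IsSaturated p)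
    {Q : Subgroup Ω} (hsc : F.StronglyClosed Q) (n : ℕ) (C : ℕ → Subgroup Ω) (h0 : C 0 = ⊥) (hlast : C n = Q)
    (hCQ : ∀ i ≤ n, C i ≤ Q) (hmono : ∀ i < n, C i ≤ C (i + 1)) (hcomm : ∀ i < n, ⁅C (i + 1), Q⁆ ≤ C i)
    (hwc : ∀ i < n, F.WeaklyClosed (C i)) : F.IsNormal Q := by
  have hQn := StronglyClosed.le_normalizer hsc
  have hQS := hsc.1
  have hCn : ∀ i ≤ n, S ≤ Subgroup.normalizer (C i : Set Ω) := by
    intro i hin
    by_cases hi : i < n
    · exact wc_le_normalizer (hwc i hi)
    · have : i = n := by omega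
      rw [this, hlast]; exact hQn
  have hm' : ∀ i j, i ≤ j → j ≤ n → C i ≤ C j := by
    intro i j hij
    induction j, hij using Nat.le_induction with
    | base => intro _; exact le_rfl
    | succ j hij ih => intro hj; exact (ih (by omega)).trans (hmono j (by omega))
  rw [isNormal_iff_stronglyClosed hS hF]
  refine ⟨hsc, fun P hPc hPr => ?_⟩
  have hfP : Finite P := finite_of_le hPc.1
  have key : ∀ k : ℕ, k ≤ n → C k ≤ P := by
    intro k
    induction k with
    | zero => intro hk; rw [h0]; exact bot_le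
    | succ k ih =>
      intro hk
      have ih' := ih (by omega)
      -- the chain
      let D : ℕ → Subgroup Ω := fun j => if j ≤ k then C j else if j = k + 1 then P ⊓ Q else P
      have hD0 : D 0 = ⊥ := by simp [D, h0]
      have hDP : ∀ i, D i ≤ P := by
        intro i
        simp only [D]
        split_ifs with h h
        · exact (hm' i k h (by omega)).trans ih'
        · exact inf_le_left
        · exact le_rfl
      have hinv : ∀ α ∈ F.autGroup P, ∀ i, ∀ x ∈ D i, ofAut α x ∈ D i := by
        intro α hα i x hx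
        have hm := isMap_ofAut hPc.1 hα
        simp only [D] at hx ⊢
        split_ifs with h h'
        · rw [if_pos h] at hx
          exact wc_isMap (hwc i (by omega)) hm ((hm' i k h (by omega)).trans ih') hx
        · rw [if_neg h, if_pos h'] at hx
          exact ⟨ofAut_mem α hx.1, (stronglyClosed_iff_isMap.mp hsc).2 P _ hm x hx.1 hx.2⟩
        · rw [if_neg h, if_neg h'] at hx
          exact ofAut_mem α hx
      refine le_of_chain hS hPc (hCn _ hk) ((hCQ _ hk).trans hQS) fun x hx hxP => ?_
      have hxQ : x ∈ Q := hCQ _ hk hx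
      have hxS : x ∈ S := hQS hxQ
      refine radical_le hPr (K := chainStab (F.autGroup P) D hDP hinv) (fun γ hγ => hγ.1)
        (fun α hα γ hγ => chainStab_conj hα hγ)
        (isPGroup_chainStab (hS.to_le hPc.1) hD0 (k + 2) fun γ hγ hord hfix => ?_) ?_
      · refine ofAut_injective fun y hy => ?_
        rw [ofAut_one hy]
        apply hfix
        simpa [D] using hy
      · refine mem_chainStab.2 ⟨conjAut_mem_autGroup hPc.1 hxS hxP, fun i y hy => ?_⟩
        rw [ofAut_conjAut x hxP (hDP _ hy)]
        have hyP := hDP _ hy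
        have e : y⁻¹ * (x * y * x⁻¹) = ⁅y⁻¹, x⁆ := by rw [commutatorElement_def]; group
        have e' : y⁻¹ * (x * y * x⁻¹) = ⁅x, y⁻¹⁆⁻¹ := by rw [commutatorElement_def]; group
        simp only [D] at hy ⊢
        by_cases h1 : i + 1 ≤ k
        · rw [if_pos h1] at hy
          rw [if_pos (by omega), e]
          exact hcomm i (by omega) (Subgroup.commutator_mem_commutator (inv_mem hy) hxQ)
        · rw [if_neg h1] at hy
          by_cases h2 : i + 1 = k + 1
          · rw [if_pos h2] at hy
            have hik : i = k := by omega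
            rw [if_pos (by omega), e', hik]
            exact inv_mem (hcomm k (by omega) (Subgroup.commutator_mem_commutator hx (inv_mem hy.2)))
          · rw [if_neg (by omega)]
            have hin : y⁻¹ * (x * y * x⁻¹) ∈ P :=
              P.mul_mem (P.inv_mem hyP) ((Subgroup.mem_normalizer_iff.mp hxP y).mp hyP)
            split_ifs with h3
            · refine ⟨hin, ?_⟩
              have h4 := (Subgroup.mem_normalizer_iff.mp (hQn (S.inv_mem (hPc.1 hyP))) x).mp hxQ
              have e2 : y⁻¹ * (x * y * x⁻¹) = y⁻¹ * x * y⁻¹⁻¹ * x⁻¹ := by group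
              rw [e2]
              exact Q.mul_mem h4 (Q.inv_mem hxQ)
            · exact hin
  rw [← hlast]
  exact key n le_rfl

/-- Let F be a saturated fusion system over a finite p-group S and Q a subgroup of S. Then Q is normal in F (F equals the normalizer system of Q) if and only if Q is strongly closed in F and admits a central series 1 = Q₀ ≤ Q₁ ≤ ⋯ ≤ Qₙ = Q ([Qᵢ₊₁, Q] ≤ Qᵢ) all of whose proper terms are weakly closed in F. -/
theorem result {Ω : Type*} [Group Ω] {S : Subgroup Ω} [Finite S] (p : ℕ) [Fact p.Prime] (hS : IsPGroup p S) (F : Cfsg.FusionSystem S) (hF : F.IsSaturated p) (Q : Subgroup Ω) : F.IsNormal Q ↔ F.StronglyClosed Q ∧ ∃ (n : ℕ) (C : Fin (n + 1) → Subgroup Ω), C 0 = ⊥ ∧ C (Fin.last n) = Q ∧ Monotone C ∧ (∀ i : Fin n, ⁅C i.succ, Q⁆ ≤ C i.castSucc) ∧ ∀ i : Fin n, F.WeaklyClosed (C i.castSucc) := by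
  constructor
  · intro hQ
    refine ⟨IsNormal.stronglyClosed hQ, ?_⟩
    have hQS := hQ.1
    have hfQ : Finite Q := finite_of_le hQS
    have hQp : IsPGroup p Q := isPGroup_of_le hS hQS
    have hnil : Group.IsNilpotent Q := hQp.isNilpotent
    obtain ⟨n, hn⟩ := Group.IsNilpotent.nilpotent Q
    refine ⟨n, fun i => (Subgroup.upperCentralSeries Q i).map Q.subtype, ?_, ?_, ?_, ?_, ?_⟩
    · simp
    · show (Subgroup.upperCentralSeries Q (Fin.last n : ℕ)).map Q.subtype = Q
      rw [Fin.val_last, hn, ← MonoidHom.range_eq_map, Subgroup.range_subtype]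
    · intro i j hij
      exact Subgroup.map_mono (Subgroup.upperCentralSeries_mono Q (by exact_mod_cast hij))
    · intro i
      rw [Subgroup.commutator_le]
      rintro _ ⟨x, hx, rfl⟩ y hy
      have h1 := (Subgroup.mem_upperCentralSeries_succ_iff (x := x)).1 (by simpa using hx) ⟨y, hy⟩
      refine ⟨_, h1, rfl⟩
    · intro i
      apply sc_weaklyClosed
      apply IsNormal.stronglyClosed
      refine IsNormal.char hQ (Subgroup.map_subtype_le _) ?_
      have h1 : ((Subgroup.upperCentralSeries Q i.castSucc).map Q.subtype).subgroupOf Q = Subgroup.upperCentralSeries Q i.castSucc := by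
        unfold Subgroup.subgroupOf
        rw [Subgroup.comap_map_eq_self_of_injective (Subgroup.subtype_injective Q)]
      rw [h1]
      infer_instance
  · rintro ⟨hsc, n, C, h0, hlast, hmono, hcomm, hwc⟩
    have hC : ∀ i, C i ≤ Q := fun i => by rw [← hlast]; exact hmono (Fin.le_last i)
    refine isNormal_of_weak_series hS hF hsc n (fun i => if h : i ≤ n then C ⟨i, by omega⟩ else Q) ?_ ?_ ?_ ?_ ?_ ?_
    · simp only [Nat.zero_le, dif_pos]; exact h0
    · simp only [le_refl, dif_pos]; exact hlast
    · intro i hi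
      simp only [hi, dif_pos]; exact hC _
    · intro i hi
      simp only [hi.le, Nat.succ_le_of_lt hi, dif_pos]
      exact hmono (by simp [Fin.le_def])
    · intro i hi
      simp only [hi.le, Nat.succ_le_of_lt hi, dif_pos]
      exact hcomm ⟨i, hi⟩
    · intro i hi
      simp only [hi.le, dif_pos]
      exact hwc ⟨i, hi⟩

end Cfsg.Agent.S5226
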