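import Cfsg.Statements.S5233
import Mathlib
import Cfsg.Agent.H72.FusTransvMain
import Cfsg.Agent.H72.GenExtra
import Cfsg.Agent.S5226
import Cfsg.Agent.S5234
import Cfsg.Agent.H63.PG
import Cfsg.Agent.BG.OmegaOdd
import Cfsg.Agent.Fus.NormalChar

set_option autoImplicit false
open Cfsg

namespace Cfsg.Agent.S5233

open Cfsg.Agent.Fus Cfsg.Agent.H72
open scoped commutatorElement

theorem exists_small_comm {A : Type*} [Group A] [Finite A] (hc : ∀ a b : A, a * b = b * a) :
    ∃ (A' : Type) (_ : CommGroup A'), Nonempty (A ≃* A') := by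
  let _ : CommGroup A := { ‹Group A› with mul_comm := hc }
  exact ⟨Shrink.{0} A, inferInstance, ⟨(Shrink.mulEquiv : Shrink.{0} A ≃* A).symm⟩⟩

theorem exists_small_group {A : Type*} [Group A] [Finite A] :
    ∃ (A' : Type) (_ : Group A'), Nonempty (A ≃* A') :=
  ⟨Shrink.{0} A, inferInstance, ⟨(Shrink.mulEquiv : Shrink.{0} A ≃* A).symm⟩⟩

theorem isExtraspecial_congr {p : ℕ} [Fact p.Prime] {P Q : Type*} [Group P] [Group Q] [Finite P] [Finite Q] (e : P ≃* Q)
    (h : Cfsg.Agent.Extra.GES p P) (hne : Subgroup.center P ≠ ⊤) : Cfsg.IsExtraspecial p Q := by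
  refine Cfsg.Agent.Extra.isExtraspecial_iff.2 ⟨⟨?_, ?_⟩, ?_⟩
  · rw [← h.card_center]
    exact (Nat.card_congr (Subgroup.centerCongr e).toEquiv).symm
  · rw [Cfsg.Agent.Extra.classTwo_iff]
    intro x y
    rw [Subgroup.mem_center_iff]
    intro g
    have h1 := h.classTwo.mem (e.symm x) (e.symm y)
    rw [Subgroup.mem_center_iff] at h1
    have h2 := congrArg e (h1 (e.symm g))
    simpa [commutatorElement_def] using h2
  · intro h1
    apply hne
    rw [eq_top_iff]
    intro x _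
    rw [Subgroup.mem_center_iff]
    intro y
    have : e x ∈ Subgroup.center Q := by rw [h1]; trivial
    have h2 := Subgroup.mem_center_iff.1 this (e y)
    rw [← map_mul, ← map_mul] at h2
    exact e.injective h2

/-- Let F be a saturated fusion system over a finite p-group S and P a subgroup of S strongly closed in F that is generalized extraspecial (its Frattini subgroup equals its commutator subgroup and has order p) and not isomorphic to E × A with A elementary abelian and E dihedral of order 8 (p = 2) or extraspecial of order p³ and exponent p (p odd). Then P is normal in F. -/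
theorem result {Ω : Type*} [Group Ω] {S : Subgroup Ω} [Finite S] (p : ℕ) [Fact p.Prime] (hS : IsPGroup p S) (F : Cfsg.FusionSystem S) (hF : F.IsSaturated p) (P : Subgroup Ω) (hP : F.StronglyClosed P) (hge : frattini ↥P = commutator ↥P ∧ Nat.card ↥(commutator ↥P) = p) (h2 : p = 2 → ¬ ∃ (A : Type) (_ : CommGroup A), (∀ a : A, a ^ 2 = 1) ∧ Nonempty (↥P ≃* DihedralGroup 4 × A)) (hodd : p ≠ 2 → ¬ ∃ (E : Type) (_ : Group E) (A : Type) (_ : CommGroup A), Cfsg.IsExtraspecial p E ∧ Nat.card E = p ^ 3 ∧ Monoid.exponent E = p ∧ (∀ a : A, a ^ p = 1) ∧ Nonempty (↥P ≃* E × A)) : F.IsNormal P := by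
  have hpr := (Fact.out : p.Prime)
  have hPS := hP.1
  have hfP : Finite P := finite_of_le hPS
  have hPp : IsPGroup p P := isPGroup_of_le hS hPS
  obtain ⟨hfr, hcard⟩ := hge
  have hcomn : (commutator ↥P).Normal := inferInstance
  have hcen0 : commutator ↥P ≤ Subgroup.center P := Cfsg.Agent.H63.le_center_of_card_eq_prime hPp _ hcard
  have hcyc : IsCyclic (commutator ↥P) := isCyclic_of_prime_card hcard
  obtain ⟨z', hz'⟩ : ∃ z' : P, commutator ↥P = Subgroup.zpowers z' := by
    obtain ⟨g, hg⟩ := hcyc.exists_generator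
    refine ⟨g, le_antisymm (fun x hx => ?_) (Subgroup.zpowers_le.2 g.2)⟩
    obtain ⟨k, hk⟩ := Subgroup.mem_zpowers_iff.1 (hg ⟨x, hx⟩)
    exact ⟨k, congrArg Subtype.val hk⟩
  have hz'o : orderOf z' = p := by rw [← hcard, hz', Nat.card_zpowers]
  set z : Ω := (z' : Ω) with hzdef
  have hz : orderOf z = p := by rw [hzdef, Subgroup.orderOf_coe, hz'o]
  have hzP : z ∈ P := z'.2
  have hzp : z ^ p = 1 := by rw [← hz]; exact pow_orderOf_eq_one z
  have hzc : ∀ x ∈ P, x * z = z * x := fun x hx => by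
    have h1 : z' ∈ Subgroup.center P := hcen0 (by rw [hz']; exact Subgroup.mem_zpowers z')
    exact congrArg Subtype.val (Subgroup.mem_center_iff.1 h1 ⟨x, hx⟩)
  have hzmem : ∀ x : P, x ∈ Subgroup.zpowers z' ↔ (x : Ω) ∈ Subgroup.zpowers z := by
    intro x
    constructor
    · rintro ⟨k, rfl⟩; exact ⟨k, by simp [hzdef]⟩
    · rintro ⟨k, hk⟩; exact ⟨k, Subtype.ext (by simpa [hzdef] using hk)⟩
  have hcomm : ∀ x ∈ P, ∀ y ∈ P, ⁅x, y⁆ ∈ Subgroup.zpowers z := by
    intro x hx y hy
    have h1 : ⁅(⟨x, hx⟩ : P), ⟨y, hy⟩⁆ ∈ commutator ↥P := by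
      rw [commutator_def]
      exact Subgroup.commutator_mem_commutator (Subgroup.mem_top _) (Subgroup.mem_top _)
    rw [hz', hzmem] at h1
    exact h1
  have hpowz : ∀ x ∈ P, x ^ p ∈ Subgroup.zpowers z := by
    intro x hx
    have h1 := Cfsg.Agent.Solv.pow_mem_frattini_of_pGroup hPp ⟨x, hx⟩
    rw [hfr, hz', hzmem] at h1
    exact h1
  -- noncommuting elements
  obtain ⟨a₀, ha₀, b₀, hb₀, hab₀⟩ : ∃ a ∈ P, ∃ b ∈ P, ⁅a, b⁆ ≠ 1 := by
    by_contra hcon
    push Not at hcon
    have h1 : commutator ↥P = ⊥ := by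
      rw [commutator_eq_closure, Subgroup.closure_eq_bot_iff]
      rintro _ ⟨a, b, rfl⟩
      rw [Set.mem_singleton_iff]
      exact Subtype.ext (hcon a a.2 b b.2)
    rw [h1, Subgroup.card_bot] at hcard
    exact hpr.one_lt.ne hcard
  have hcen := center_central hS hP hP hzP hz hcomm ha₀ hb₀ hab₀
  -- main claim
  have key : ∀ f, IsMap F (Subgroup.zpowers z) f → f z ∈ Subgroup.zpowers z := by
    intro f hf
    by_contra hfz
    have hzS : Subgroup.zpowers z ≤ S := Subgroup.zpowers_le.2 (hPS hzP)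
    have hz1 : z ≠ 1 := by
      intro h
      rw [h, orderOf_one] at hz
      exact hpr.one_lt.ne hz
    set z₁ := f z with hz₁
    have hz₁P : z₁ ∈ P := sc_map_mem hP hf (Subgroup.mem_zpowers z) hzP
    have hfc : F.IsFullyCentralized (Subgroup.zpowers z) := by
      have := finite_of_le (S := S) (centralizerIn_le (S := S) (Subgroup.zpowers z))
      refine ⟨hzS, fun Q _ => Subgroup.card_le_of_le ?_⟩
      have : Cfsg.FusionSystem.centralizerIn S (Subgroup.zpowers z) = S := by
        refine inf_eq_left.2 fun s hs => ?_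
        rw [Subgroup.mem_centralizer_iff]
        rintro _ ⟨k, rfl⟩
        have h1 : s * z = z * s := by
          have := hcen s hs
          calc s * z = s * z * s⁻¹ * s := by group
            _ = z * s := by rw [this]
        exact ((Commute.zpow_right (show Commute s z from h1) k).eq).symm
      rw [this]; exact centralizerIn_le Q
    obtain ⟨g, hg, hgf, -⟩ := sat_exists_extend_centralizer hS hF hfc hf.minv_isMap hf.img_minv
    set Z₁ := img (Subgroup.zpowers z) f with hZ₁
    have hz₁Z₁ : z₁ ∈ Z₁ := subset_img (Subgroup.mem_zpowers z)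
    have hgz₁ : g z₁ = z := by rw [hgf z₁ hz₁Z₁, hz₁, hf.minv_apply (Subgroup.mem_zpowers z)]
    have hZ₁z₁ : Z₁ ≤ Subgroup.zpowers z₁ := by
      rw [hZ₁, hf.img_le_iff]
      rintro _ ⟨k, rfl⟩
      show f (z ^ k) ∈ _
      rw [hf.map_zpow (Subgroup.mem_zpowers z)]
      exact ⟨k, rfl⟩
    have hcentr : ∀ y ∈ S, y * z₁ = z₁ * y → y ∈ Z₁ ⊔ Cfsg.FusionSystem.centralizerIn S Z₁ := by
      intro y hy hyc
      refine Subgroup.mem_sup_right ?_
      rw [mem_centralizerIn]
      refine ⟨hy, fun x hx => ?_⟩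
      obtain ⟨k, rfl⟩ := Subgroup.mem_zpowers_iff.1 (hZ₁z₁ hx)
      exact ((Commute.zpow_right (show Commute y z₁ from hyc) k).eq).symm
    set D : Subgroup Ω := P ⊓ Subgroup.centralizer {z₁} with hD
    have hDmem : ∀ y, y ∈ D ↔ y ∈ P ∧ y * z₁ = z₁ * y := fun y => by
      rw [hD, Subgroup.mem_inf, Subgroup.mem_centralizer_singleton_iff]
    have hDP : D ≤ P := inf_le_left
    have hzD : z ∈ D := (hDmem z).2 ⟨hzP, (hzc z₁ hz₁P).symm⟩
    have hz₁D : z₁ ∈ D := (hDmem z₁).2 ⟨hz₁P, rfl⟩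
    have hgD : IsMap F D g := hg.mono fun y hy => hcentr y (hPS (hDP hy)) ((hDmem y).1 hy).2
    -- (*)
    have hstar : g z ∉ Subgroup.zpowers z := by
      intro h1
      have h2 : g z ≠ 1 := by rwa [ne_eq, hgD.eq_one_iff hzD]
      obtain ⟨m, hm⟩ := Subgroup.mem_zpowers_iff.1 (zpowers_of_mem_ne_one hz h1 h2)
      have h3 : g z₁ = g (z ^ m) := by rw [hgD.map_zpow hzD, hm, hgz₁]
      have h4 := hgD.inj hz₁D (D.zpow_mem hzD m) h3
      exact hfz (by rw [h4]; exact Subgroup.zpow_mem _ (Subgroup.mem_zpowers z) m)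
    have hDab : ∀ a ∈ D, ∀ b ∈ D, a * b = b * a := by
      intro a ha b hb
      by_contra hcon
      have hc1 : ⁅a, b⁆ ≠ 1 := fun h => hcon (commutatorElement_eq_one_iff_mul_comm.1 h)
      obtain ⟨m, hm⟩ := Subgroup.mem_zpowers_iff.1 (zpowers_of_mem_ne_one hz (hcomm a (hDP ha) b (hDP hb)) hc1)
      apply hstar
      have h2 : g ⁅a, b⁆ = ⁅g a, g b⁆ := by
        rw [commutatorElement_def, commutatorElement_def, hgD.map_mul (D.mul_mem (D.mul_mem ha hb) (D.inv_mem ha))
          (D.inv_mem hb), hgD.map_mul (D.mul_mem ha hb) (D.inv_mem ha), hgD.map_mul ha hb, hgD.map_inv ha,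
          hgD.map_inv hb]
      have h3 : ⁅a, b⁆ ∈ D := by
        rw [commutatorElement_def]
        exact D.mul_mem (D.mul_mem (D.mul_mem ha hb) (D.inv_mem ha)) (D.inv_mem hb)
      have h4 : g z = ⁅g a, g b⁆ ^ m := by rw [← h2, ← hgD.map_zpow h3, hm]
      rw [h4]
      exact Subgroup.zpow_mem _ (hcomm _ (sc_map_mem hP hgD ha (hDP ha)) _ (sc_map_mem hP hgD hb (hDP hb))) m
    have hDp : ∀ a ∈ D, a ^ p = 1 := by
      intro a ha
      by_contra hcon
      obtain ⟨m, hm⟩ := Subgroup.mem_zpowers_iff.1 (zpowers_of_mem_ne_one hz (hpowz a (hDP ha)) hcon)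
      apply hstar
      have h4 : g z = ((g a) ^ p) ^ m := by rw [← hgD.map_pow ha, ← hgD.map_zpow (D.pow_mem ha p), hm]
      rw [h4]
      exact Subgroup.zpow_mem _ (hpowz _ (sc_map_mem hP hgD ha (hDP ha))) m
    -- (a)
    obtain ⟨x₀, hx₀, hx₀z⟩ : ∃ x₀ ∈ P, ⁅x₀, z₁⁆ ≠ 1 := by
      by_contra hcon
      push Not at hcon
      have hPD : P ≤ D := fun y hy => (hDmem y).2 ⟨hy, commutatorElement_eq_one_iff_mul_comm.1 (hcon y hy)⟩
      exact hstar (center_map hP hP le_rfl hz hcomm ha₀ hb₀ hab₀ (hgD.mono hPD))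
    -- (d)
    have hcz : ∀ c ∈ Subgroup.zpowers z, ∀ x ∈ P, Commute x c := by
      rintro _ ⟨k, rfl⟩ x hx
      exact Commute.zpow_right (show Commute x z from hzc x hx) k
    have hd : ∀ x₀ ∈ P, ⁅x₀, z₁⁆ ≠ 1 → ∀ x ∈ P, ∃ k : ℤ, x * (x₀ ^ k)⁻¹ ∈ D := by
      intro x₀ hx₀ hx₀z x hx
      have hzc₀ := zpowers_of_mem_ne_one hz (hcomm x₀ hx₀ z₁ hz₁P) hx₀z
      obtain ⟨l, hl⟩ := Subgroup.mem_zpowers_iff.1 (hcomm x hx z₁ hz₁P)
      obtain ⟨k, hk⟩ := Subgroup.mem_zpowers_iff.1 (Subgroup.zpow_mem _ hzc₀ l)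
      refine ⟨k, (hDmem _).2 ⟨P.mul_mem hx (P.inv_mem (P.zpow_mem hx₀ k)), ?_⟩⟩
      set c := ⁅x₀, z₁⁆ with hc
      have hcc : ∀ y ∈ P, Commute y c := hcz c (hcomm x₀ hx₀ z₁ hz₁P)
      have e1 : z₁ * x₀ ^ k * z₁⁻¹ = (c⁻¹) ^ k * x₀ ^ k := by
        have h1 : z₁ * x₀ * z₁⁻¹ = c⁻¹ * x₀ := by rw [hc, commutatorElement_def]; group
        rw [← conj_zpow, h1, ((hcc x₀ hx₀).symm.inv_left).mul_zpow]
      have e2 : z₁ * x * z₁⁻¹ = (c ^ k)⁻¹ * x := by rw [hk, hl, commutatorElement_def]; group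
      have e3 : z₁ * (x * (x₀ ^ k)⁻¹) * z₁⁻¹ = x * (x₀ ^ k)⁻¹ := by
        calc z₁ * (x * (x₀ ^ k)⁻¹) * z₁⁻¹ = (z₁ * x * z₁⁻¹) * (z₁ * x₀ ^ k * z₁⁻¹)⁻¹ := by group
          _ = (c ^ k)⁻¹ * x * ((c⁻¹) ^ k * x₀ ^ k)⁻¹ := by rw [e1, e2]
          _ = (c ^ k)⁻¹ * (x * (x₀ ^ k)⁻¹ * c ^ k) := by group
          _ = (c ^ k)⁻¹ * (c ^ k * (x * (x₀ ^ k)⁻¹)) := by
            rw [((hcc _ (P.mul_mem hx (P.inv_mem (P.zpow_mem hx₀ k)))).zpow_right k).eq]
          _ = _ := by group
      calc x * (x₀ ^ k)⁻¹ * z₁ = z₁ * (x * (x₀ ^ k)⁻¹) * z₁⁻¹ * z₁ := by rw [e3]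
        _ = _ := by group
    -- the decomposition when some `x₀` has order `p`
    have hdecomp : ∀ x₀ (hx₀ : x₀ ∈ P), ⁅x₀, z₁⁆ ≠ 1 → x₀ ^ p = 1 →
        ∃ E A : Subgroup P, Nat.card E = p ^ 3 ∧
          (∀ g ∈ E, ∃ i j k : ℤ, g = (⟨x₀, hx₀⟩ : P) ^ i * (⟨z₁, hz₁P⟩ : P) ^ j * z' ^ k) ∧
          (⟨x₀, hx₀⟩ : P) ∈ E ∧ (⟨z₁, hz₁P⟩ : P) ∈ E ∧ z' ∈ E ∧
          (∀ g ∈ E, g * (⟨x₀, hx₀⟩ : P) = (⟨x₀, hx₀⟩ : P) * g → g * (⟨z₁, hz₁P⟩ : P) = (⟨z₁, hz₁P⟩ : P) * g →
            g ∈ Subgroup.zpowers z') ∧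
          (∀ a ∈ A, ∀ g : P, a * g = g * a) ∧ (∀ a ∈ A, a ^ p = 1) ∧ Nonempty (P ≃* E × A) := by
      intro x₀ hx₀ hx₀z hx₀p
      refine exists_decomp hPp (D.subgroupOf P) ?_ ?_ hz'o ?_ ?_ ?_ ?_ ?_ ?_ ?_
      · intro a ha b hb
        exact Subtype.ext (hDab a ha b hb)
      · intro a ha
        exact Subtype.ext (hDp a ha)
      · intro x
        exact Subtype.ext (hzc x x.2)
      · exact hzD
      · intro x y
        rw [hzmem]
        exact hcomm x x.2 y y.2
      · exact hz₁D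
      · exact Subtype.ext hx₀p
      · intro h
        exact hx₀z (congrArg Subtype.val h)
      · intro x
        obtain ⟨k, hk⟩ := hd x₀ hx₀ hx₀z x x.2
        exact ⟨k, hk⟩
    by_cases hp2 : p = 2
    · -- p = 2
      subst hp2
      apply h2 rfl
      obtain ⟨x₁, hx₁, hx₁z, hx₁2⟩ : ∃ x₁ ∈ P, ⁅x₁, z₁⁆ ≠ 1 ∧ x₁ ^ 2 = 1 := by
        by_cases h : x₀ ^ 2 = 1
        · exact ⟨x₀, hx₀, hx₀z, h⟩
        · refine ⟨z₁ * x₀, P.mul_mem hz₁P hx₀, ?_, ?_⟩
          · have : ⁅z₁ * x₀, z₁⁆ = z₁ * ⁅x₀, z₁⁆ * z₁⁻¹ := by simp only [commutatorElement_def]; group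
            rw [this, (hcz _ (hcomm x₀ hx₀ z₁ hz₁P) z₁ hz₁P).eq, mul_inv_cancel_right]
            exact hx₀z
          · -- both `x₀²` and `⁅x₀,z₁⁆` equal `z`
            have huniq : ∀ c ∈ Subgroup.zpowers z, c ≠ 1 → c = z := by
              rintro _ ⟨k, rfl⟩ hk
              rcases Int.even_or_odd k with ⟨m, rfl⟩ | ⟨m, rfl⟩
              · exfalso; apply hk
                show z ^ (m + m) = 1
                rw [← two_mul, zpow_mul]
                have : z ^ (2 : ℤ) = 1 := by exact_mod_cast hzp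
                rw [this, one_zpow]
              · show z ^ (2 * m + 1) = z
                have : z ^ (2 : ℤ) = 1 := by exact_mod_cast hzp
                rw [zpow_add, zpow_mul, this, one_zpow, one_mul, zpow_one]
            have e1 := huniq _ (hpowz x₀ hx₀) h
            have e2 := huniq _ (hcomm x₀ hx₀ z₁ hz₁P) hx₀z
            have hz₁2 := hDp z₁ hz₁D
            have e3 : x₀ * z₁ * x₀⁻¹ = z * z₁ := by rw [← e2, commutatorElement_def]; group
            calc (z₁ * x₀) ^ 2 = z₁ * (x₀ * z₁ * x₀⁻¹) * x₀ ^ 2 := by rw [pow_two, pow_two]; group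
              _ = z₁ * (z * z₁) * z := by rw [e3, e1]
              _ = (z₁ * z₁) * (z * z) := by rw [← hzc z₁ hz₁P]; group
              _ = 1 := by rw [← pow_two, ← pow_two, hz₁2, hzp, one_mul]
      obtain ⟨E, A, hEc, -, hxE, hdE, hzE, hEcen, hAc, hA2, ⟨e⟩⟩ := hdecomp x₁ hx₁ hx₁z hx₁2
      obtain ⟨A', hA', ⟨eA⟩⟩ := exists_small_comm (A := A) (fun a b => Subtype.ext (hAc a a.2 b))
      refine ⟨A', hA', fun a => ?_, ?_⟩
      · have h1 : eA.symm (a ^ 2) = 1 := by
          rw [map_pow]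
          exact Subtype.ext (hA2 _ (eA.symm a).2)
        exact (map_eq_one_iff eA.symm eA.symm.injective).1 h1
      · -- the dihedral group
        set X : E := ⟨⟨x₁, hx₁⟩, hxE⟩ with hX
        set Y : E := ⟨⟨z₁, hz₁P⟩, hdE⟩ with hY
        have hX2 : X * X = 1 := Subtype.ext (Subtype.ext (by rw [← pow_two]; exact hx₁2))
        have hY2 : Y * Y = 1 := Subtype.ext (Subtype.ext (by rw [← pow_two]; exact hDp z₁ hz₁D))
        have hXi : X⁻¹ = X := inv_eq_of_mul_eq_one_left hX2
        have hYi : Y⁻¹ = Y := inv_eq_of_mul_eq_one_left hY2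
        have hXY : X * Y ≠ Y * X := by
          intro h
          apply hx₁z
          rw [commutatorElement_eq_one_iff_mul_comm]
          exact congrArg (fun t : E => ((t : P) : Ω)) h
        have hc4 : (X * Y) ^ 2 ≠ 1 := by
          intro h
          apply hXY
          have h1 : (X * Y) * (X * Y) = 1 := by rw [← pow_two]; exact h
          have h2 := eq_inv_of_mul_eq_one_left h1
          rw [mul_inv_rev, hXi, hYi] at h2
          exact h2
        have hc4' : (X * Y) ^ 4 = 1 := by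
          have h1 : (X * Y) ^ 2 = ⁅X, Y⁆ := by rw [pow_two, commutatorElement_def, hXi, hYi]; group
          have h2 : (X * Y) ^ 4 = ((X * Y) ^ 2) ^ 2 := by rw [← pow_mul]
          rw [h2, h1]
          obtain ⟨k, hk⟩ := Subgroup.mem_zpowers_iff.1 (hcomm x₁ hx₁ z₁ hz₁P)
          apply Subtype.ext
          apply Subtype.ext
          show ⁅x₁, z₁⁆ ^ 2 = 1
          rw [← hk, ← zpow_natCast, ← zpow_mul, mul_comm, zpow_mul, zpow_natCast, hzp, one_zpow]
        have ho : orderOf (X * Y) = 4 := by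
          have := orderOf_eq_prime_pow (x := X * Y) (p := 2) (n := 1) (by simpa using hc4) (by simpa using hc4')
          simpa using this
        obtain ⟨e2⟩ := Cfsg.Agent.MaxClass.nonempty_mulEquiv_dihedral (G := E) (a := X * Y) (b := X) (m := 4) (by norm_num)
          ho (by
            intro h
            apply hXY
            have h1 : Commute X (X * Y) := by
              obtain ⟨k, hk⟩ := Subgroup.mem_zpowers_iff.1 h
              have : Commute ((X * Y) ^ k) (X * Y) := (Commute.refl _).zpow_left k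
              rwa [hk] at this
            have h2 : X * (X * Y) = X * (Y * X) := by rw [h1.eq, mul_assoc]
            exact mul_left_cancel h2) (by rw [pow_two]; exact hX2) (by
            rw [mul_inv_rev, hXi, hYi, ← mul_assoc, hX2, one_mul]) (by rw [hEc]; norm_num)
        exact ⟨e.trans (MulEquiv.prodCongr e2 eA)⟩
    · -- p odd
      by_cases hexp : ∀ x ∈ P, x ^ p = 1
      · apply hodd hp2
        obtain ⟨E, A, hEc, -, hxE, hdE, hzE, hEcen, hAc, hA2, ⟨e⟩⟩ := hdecomp x₀ hx₀ hx₀z (hexp x₀ hx₀)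
        obtain ⟨A', hA', ⟨eA⟩⟩ := exists_small_comm (A := A) (fun a b => Subtype.ext (hAc a a.2 b))
        obtain ⟨E', hE', ⟨eE⟩⟩ := exists_small_group (A := E)
        have hfE' : Finite E' := Finite.of_equiv E eE.toEquiv
        have hcenE : Subgroup.center E = Subgroup.zpowers (⟨z', hzE⟩ : E) := by
          ext t
          constructor
          · intro ht
            rw [Subgroup.mem_center_iff] at ht
            have h1 := hEcen t t.2 (congrArg Subtype.val (ht ⟨_, hxE⟩)).symm (congrArg Subtype.val (ht ⟨_, hdE⟩)).symm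
            obtain ⟨k, hk⟩ := Subgroup.mem_zpowers_iff.1 h1
            exact ⟨k, Subtype.ext hk⟩
          · rintro ⟨k, rfl⟩
            refine Subgroup.zpow_mem _ ?_ k
            rw [Subgroup.mem_center_iff]
            intro y
            exact Subtype.ext (Subtype.ext (hzc _ (y : P).2))
        have hGES : Cfsg.Agent.Extra.GES p E := by
          refine ⟨?_, ?_⟩
          · rw [hcenE, Nat.card_zpowers]
            rw [← hz'o]
            exact (Subgroup.orderOf_coe (⟨z', hzE⟩ : E)).symm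
          · rw [Cfsg.Agent.Extra.classTwo_iff]
            intro x y
            rw [hcenE]
            obtain ⟨k, hk⟩ := Subgroup.mem_zpowers_iff.1 (hcomm (x : P) (x : P).2 (y : P) (y : P).2)
            exact ⟨k, Subtype.ext (Subtype.ext hk)⟩
        have hnt : Subgroup.center E ≠ ⊤ := by
          intro h
          apply hx₀z
          rw [commutatorElement_eq_one_iff_mul_comm]
          have : (⟨_, hxE⟩ : E) ∈ Subgroup.center E := by rw [h]; trivial
          have h1 := Subgroup.mem_center_iff.1 this ⟨_, hdE⟩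
          exact (congrArg (fun t : E => ((t : P) : Ω)) h1).symm
        refine ⟨E', hE', A', hA', isExtraspecial_congr eE hGES hnt, ?_, ?_, fun a => ?_, ?_⟩
        · rw [← hEc]; exact (Nat.card_congr eE.toEquiv).symm
        · rw [← Monoid.exponent_eq_of_mulEquiv eE]
          have h1 : Monoid.exponent E ∣ p := by
            apply Monoid.exponent_dvd_of_forall_pow_eq_one
            intro t
            exact Subtype.ext (Subtype.ext (hexp _ (t : P).2))
          rcases (Nat.dvd_prime hpr).mp h1 with h2 | h2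
          · exfalso
            have h3 := Monoid.exp_eq_one_iff.mp h2
            apply hnt
            rw [eq_top_iff]
            intro x _
            have : x = 1 := Subsingleton.elim _ _
            rw [this]; exact one_mem _
          · exact h2
        · have h1 : eA.symm (a ^ p) = 1 := by
            rw [map_pow]
            exact Subtype.ext (hA2 _ (eA.symm a).2)
          exact (map_eq_one_iff eA.symm eA.symm.injective).1 h1
        · exact ⟨e.trans (MulEquiv.prodCongr eE eA)⟩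
      · push Not at hexp
        obtain ⟨y₀, hy₀, hy₀p⟩ := hexp
        have hDiff : ∀ x ∈ P, x ^ p = 1 → x ∈ D := by
          intro x hx hxp
          by_contra hxD
          have hxz : ⁅x, z₁⁆ ≠ 1 := fun h => hxD ((hDmem x).2 ⟨hx, commutatorElement_eq_one_iff_mul_comm.1 h⟩)
          obtain ⟨k, hk⟩ := hd x hx hxz y₀ hy₀
          apply hy₀p
          set d := y₀ * (x ^ k)⁻¹ with hdd
          have hy₀d : y₀ = d * x ^ k := by rw [hdd]; group
          have hdP := hDP hk
          have hxkP := P.zpow_mem hx k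
          have hcm := hcomm _ (P.inv_mem hxkP) _ (P.inv_mem hdP)
          have h5 := Cfsg.Agent.BG.mul_pow_of_comm (x := d) (y := x ^ k) (z := ⁅(x ^ k)⁻¹, d⁻¹⁆)
            (by rw [commutatorElement_def]; group)
            (hcz _ hcm d hdP).symm (hcz _ hcm _ hxkP).symm p
          have h6 : ⁅(x ^ k)⁻¹, d⁻¹⁆ ^ p.choose 2 = 1 := by
            have hp3 : 2 < p := lt_of_le_of_ne hpr.two_le (Ne.symm hp2)
            obtain ⟨q, hq⟩ := hpr.dvd_choose_self (k := 2) (by norm_num) hp3
            obtain ⟨l, hl⟩ := Subgroup.mem_zpowers_iff.1 hcm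
            have h7 : (z ^ l) ^ p = 1 := by
              rw [← zpow_natCast, ← zpow_mul, mul_comm l, zpow_mul, zpow_natCast, hzp, one_zpow]
            rw [hq, pow_mul, ← hl, h7, one_pow]
          have h8 : (x ^ k) ^ p = 1 := by
            rw [← zpow_natCast, ← zpow_mul, mul_comm k, zpow_mul, zpow_natCast, hxp, one_zpow]
          rw [hy₀d, h5, h6, hDp d hk, h8, one_mul, mul_one]
        have hDsc : F.StronglyClosed D := by
          rw [stronglyClosed_iff]
          refine ⟨hDP.trans hPS, fun R f hf hR x hx => ?_⟩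
          refine hDiff _ (sc_map_mem hP hf hx (hDP (hR hx))) ?_
          rw [← hf.map_pow hx, hDp x (hR hx), hf.map_one]
        refine hfz (center_weaklyClosed hp2 hS hF hP hDsc hDP hDab hzD hz (fun x hx d hd => hcomm x hx d (hDP hd))
          hx₀ hz₁D hx₀z ?_ ?_ hf)
        · intro x hx
          obtain ⟨k, hk⟩ := hd x₀ hx₀ hx₀z x hx
          refine ⟨k, fun d hd' => ?_⟩
          have h1 : x₀ ^ k * d * (x₀ ^ k)⁻¹ ∈ D := by
            have e1 : x₀ ^ k * d * (x₀ ^ k)⁻¹ = ⁅x₀ ^ k, d⁆ * d := by rw [commutatorElement_def]; group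
            rw [e1]
            exact D.mul_mem ((Subgroup.zpowers_le.2 hzD) (hcomm _ (P.zpow_mem hx₀ k) _ (hDP hd'))) hd'
          calc x * d * x⁻¹ = (x * (x₀ ^ k)⁻¹) * (x₀ ^ k * d * (x₀ ^ k)⁻¹) * (x * (x₀ ^ k)⁻¹)⁻¹ := by group
            _ = x₀ ^ k * d * (x₀ ^ k)⁻¹ := by rw [hDab _ hk _ h1, mul_inv_cancel_right]
        · rintro y hy ⟨d, hd', hyd⟩
          refine ⟨p, ?_, hpowz y hy⟩
          intro h
          apply hyd
          rw [commutatorElement_eq_one_iff_mul_comm]
          exact hDab _ (hDiff y hy h) _ hd'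
  -- conclusion
  refine S5226.isNormal_of_weak_series hS hF hP 2
    (fun i => if i = 0 then ⊥ else if i = 1 then Subgroup.zpowers z else P) (by simp) (by simp) ?_ ?_ ?_ ?_
  · intro i hi
    interval_cases i
    · simp
    · simpa using hzP
    · simp
  · intro i hi
    interval_cases i
    · simp
    · simpa using hzP
  · intro i hi
    interval_cases i
    · simp only [zero_add, one_ne_zero, if_false, if_true]
      rw [Subgroup.commutator_le]
      rintro _ ⟨k, rfl⟩ x hx
      rw [Subgroup.mem_bot, commutatorElement_eq_one_iff_mul_comm]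
      exact ((Commute.zpow_right (show Commute x z from hzc x hx) k).eq).symm
    · norm_num
      rw [Subgroup.commutator_le]
      exact hcomm
  · intro i hi
    interval_cases i
    · simp only [if_true]
      exact S5226.sc_weaklyClosed (IsNormal.stronglyClosed isNormal_bot')
    · simp only [one_ne_zero, if_false, if_true]
      exact S5226.sc_weaklyClosed (S5234.sc_of_prime (hPS hzP) hz key)

end Cfsg.Agent.S5233
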