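import Cfsg.Statements.S5265
import Cfsg.Agent.Fus.IdxSq3

set_option autoImplicit false
set_option maxHeartbeats 1000000
open Cfsg

namespace Cfsg.Agent.S5265

open Cfsg.Agent.Fus

open scoped commutatorElement in
theorem exponent_aux {Ω : Type*} [Group Ω] {S : Subgroup Ω} [Finite S] {p : ℕ} [Fact p.Prime] (hp2 : p ≠ 2)
    (hS : IsPGroup p S) {F : Cfsg.FusionSystem S}
    {P₁ P₂ C₁ C₂ : Subgroup Ω} {a₁ b₁ a₂ b₂ : Ω} (h1 : TI F p ⁅S, S⁆ P₁ C₁ a₁ b₁) (h2 : TI F p ⁅S, S⁆ P₂ C₂ a₂ b₂)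
    (i1 : (zc S).relIndex P₁ = p) (i2 : (zc S).relIndex P₂ = p) (s1 : P₁.relIndex S = p) (hne : P₁ ≠ P₂)
    (hC : C₁ = ⊥) : ∀ x ∈ S, x ^ p = 1 := by
  have hp : p.Prime := Fact.out
  have hn1 := le_normalizer_of_relIndex hS h1.PS s1
  have hinf := inf_eq_zc i1 i2 h1.ZP h2.ZP h1.PS h2.PS hne
  have hb2 : b₂ ∉ P₁ := fun hb => h2.dec.bZ (by rw [← hinf]; exact ⟨hb, h2.dec.bP⟩)
  have hab := abelian_of_relIndex h1.PS h1.ZP i1
  have hP1 : ∀ y ∈ P₁, y ^ p = 1 := by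
    intro y hy
    obtain ⟨r, s, c, hc, rfl⟩ := h1.dec.span y hy
    rw [hC, Subgroup.mem_bot] at hc
    have hcom : Commute (a₁ ^ r) (b₁ ^ s) := hab _ (P₁.pow_mem (h1.ZP h1.dec.aZ) r) _ (P₁.pow_mem h1.dec.bP s)
    rw [hc, one_mul, hcom.mul_pow, ← pow_mul, ← pow_mul, mul_comm r, mul_comm s, pow_mul, pow_mul, h1.dec.ap,
      h1.dec.bp, one_pow, one_pow, one_mul]
  intro x hx
  have hb2S := h2.PS h2.dec.bP
  obtain ⟨j, hj⟩ := exists_gen_of_relIndex h1.PS s1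
    (fun s hs z hz => (Subgroup.mem_normalizer_iff.mp (hn1 hs) z).mp hz) hb2S hb2 x hx
  set y := x * (b₂ ^ j)⁻¹ with hy
  have hxy : x = y * b₂ ^ j := by rw [hy]; group
  have hyS := h1.PS hj
  have hbj := S.pow_mem hb2S j
  have hc : ⁅b₂ ^ j, y⁆ ∈ ⁅S, S⁆ := Subgroup.commutator_mem_commutator hbj hyS
  have hcZ := h1.Z₀_le hc
  have k1 : Commute ⁅b₂ ^ j, y⁆ y := ((mem_zc.mp hcZ).2 y hyS).symm
  have k2 : Commute ⁅b₂ ^ j, y⁆ (b₂ ^ j) := ((mem_zc.mp hcZ).2 _ hbj).symm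
  have hch : p ∣ p.choose 2 := hp.dvd_choose_self (by norm_num) (lt_of_le_of_ne hp.two_le (Ne.symm hp2))
  obtain ⟨q, hq⟩ := hch
  rw [hxy, Cfsg.Agent.ZJ.mul_pow_class_two k1 k2, hP1 y hj, hq, pow_mul, h1.exp _ hc, one_pow, ← pow_mul,
    mul_comm j, pow_mul, h2.dec.bp, one_pow, one_mul, one_mul]

/-- Let p be a prime, S a nontrivial finite p-group whose centre has index at most p², and F a saturated fusion system over S with no nontrivial normal subgroup and with hyperfocal subgroup equal to S. Then S is extraspecial of order p³; for odd p it has exponent p, and for p = 2 it is dihedral of order 8. -/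
theorem result {Ω : Type*} [Group Ω] {S : Subgroup Ω} [Finite S] (p : ℕ) [Fact p.Prime] (hS : IsPGroup p ↥S) (F : Cfsg.FusionSystem S) (hF : F.IsSaturated p) (hS1 : S ≠ ⊥) (hcore : F.core = ⊥) (hhyp : F.hyperfocalSubgroup p = S) (hZ : (Subgroup.center ↥S).index ≤ p ^ 2) : Cfsg.IsExtraspecial p ↥S ∧ Nat.card S = p ^ 3 ∧ (p ≠ 2 → Monoid.exponent ↥S = p) ∧ (p = 2 → Nonempty (↥S ≃* DihedralGroup 4)) := by
  have hp : p.Prime := Fact.out
  obtain ⟨P₁, P₂, hP₁, hP₂, hne⟩ := exists_two_essential hS hF hS1 hcore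
  obtain ⟨C₁, a₁, b₁, h1⟩ := exists_TI_of_le_sq hS hF hZ hP₁
  obtain ⟨C₂, a₂, b₂, h2⟩ := exists_TI_of_le_sq hS hF hZ hP₂
  obtain ⟨i1, s1⟩ := idx_of_le_sq hS hF hZ hP₁
  obtain ⟨i2, s2⟩ := idx_of_le_sq hS hF hZ hP₂
  have hoa : orderOf a₁ = p := orderOf_eq_prime h1.dec.ap h1.dec.a1
  have hodd : p ≠ 2 → C₁ = ⊥ := by
    intro hp2
    refine h1.C_eq_bot hS hF hp2 hcore (fun g hg z hz => (commutator_inv hg z hz).2) fun P' hP' => Or.inl ?_
    exact exists_TI_of_le_sq hS hF hZ hP'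
  have htwo : p = 2 → ∃ b₂', Two F P₁ P₂ C₁ C₂ a₁ b₁ b₂' := by
    intro hp2
    subst hp2
    have ha : a₂ = a₁ := by
      have h4 : a₁ ∈ Subgroup.zpowers a₂ := by rw [h2.az]; exact h1.aZ₀
      obtain ⟨j, hj⟩ := h4
      have hj : a₂ ^ j = a₁ := hj
      have h5 : a₂ ^ (2 : ℤ) = 1 := by have := h2.dec.ap; exact_mod_cast this
      rcases Int.even_or_odd' j with ⟨k, rfl | rfl⟩
      · rw [zpow_mul, h5, one_zpow] at hj
        exact absurd hj.symm h1.dec.a1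
      · rw [zpow_add, zpow_mul, h5, one_zpow, one_mul, zpow_one] at hj
        exact hj
    subst ha
    exact ⟨b₂, hP₁, hP₂, hne, h1, h2, i1, i2, s1, s2⟩
  have hzc : zc S = Subgroup.zpowers a₁ := by
    apply le_antisymm _ (by rw [Subgroup.zpowers_le]; exact h1.dec.aZ)
    by_cases hp2 : p = 2
    · obtain ⟨b₂', h⟩ := htwo hp2
      subst hp2
      exact h.zc_le hS hF hZ hcore hhyp
    · intro z hz
      obtain ⟨r, c, hc, rfl⟩ := h1.dec.spanZ z hz
      rw [hodd hp2, Subgroup.mem_bot] at hc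
      rw [hc, one_mul]
      exact Subgroup.pow_mem _ (Subgroup.mem_zpowers a₁) r
  have hcardZ : Nat.card (zc S) = p := by rw [hzc, Nat.card_zpowers, hoa]
  have hcardP : Nat.card P₁ = p * p := by
    have h3 := Subgroup.card_mul_index ((zc S).subgroupOf P₁)
    have h4 : Nat.card ((zc S).subgroupOf P₁) = Nat.card (zc S) :=
      Nat.card_congr (Subgroup.subgroupOfEquivOfLe h1.ZP).toEquiv
    have h5 : ((zc S).subgroupOf P₁).index = p := i1
    rw [h4, h5, hcardZ] at h3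
    exact h3.symm
  have hcardS : Nat.card S = p ^ 3 := by
    have h3 := Subgroup.card_mul_index (P₁.subgroupOf S)
    have h4 : Nat.card (P₁.subgroupOf S) = Nat.card P₁ := Nat.card_congr (Subgroup.subgroupOfEquivOfLe h1.PS).toEquiv
    have h5 : (P₁.subgroupOf S).index = p := s1
    rw [h4, h5, hcardP] at h3
    rw [← h3]; ring
  refine ⟨isExtraspecial_of_card hcardS (by rw [card_center_eq, hcardZ]), hcardS, fun hp2 => ?_, fun hp2 => ?_⟩
  · have hexp := exponent_aux hp2 hS h1 h2 i1 i2 s1 hne (hodd hp2)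
    have h3 : Monoid.exponent S ∣ p := Monoid.exponent_dvd_of_forall_pow_eq_one fun x => Subtype.ext (hexp x x.2)
    rcases (Nat.dvd_prime hp).mp h3 with h4 | h4
    · exfalso
      rw [Monoid.exp_eq_one_iff] at h4
      have h5 : Nat.card S = 1 := Nat.card_of_subsingleton 1
      rw [hcardS] at h5
      exact absurd h5 (Nat.one_lt_pow (by norm_num) hp.one_lt).ne'
    · exact h4
  · obtain ⟨b₂', h⟩ := htwo hp2
    subst hp2
    have hb1S := h.t1.PS h.t1.dec.bP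
    have hb2S := h.t2.PS h.t2.dec.bP
    refine dihedral4_of_involutions (G := S) (x := ⟨b₁, hb1S⟩) (y := ⟨b₂', hb2S⟩) (by rw [hcardS]; norm_num)
      (Subtype.ext h.t1.dec.bp) (Subtype.ext h.t2.dec.bp) fun hxy => ?_
    have h3 : b₁ * b₂' = b₂' * b₁ := congrArg Subtype.val hxy
    have h4 := h.comm_b hS
    rw [← h3, mul_inv_cancel_right] at h4
    exact h.t1.dec.a1 (right_eq_mul.mp h4)

end Cfsg.Agent.S5265
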