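import Cfsg.Statements.S5270
import Cfsg.Agent.Fus.MaxCls
import Cfsg.Agent.Fus.Alperin
import Cfsg.Agent.Fus.Chain

set_option autoImplicit false
open Cfsg

namespace Cfsg.Agent.S5270

open Cfsg.FusionSystem Cfsg.Agent.Fus

/-- a subgroup `D` with `Z₁ < D ≤ Z₂`, orders `p`, `p²`, is `Z₂` -/
theorem eq_of_lt {Ω : Type*} [Group Ω] (p : ℕ) [Fact p.Prime] {Z1 Z2 D : Subgroup Ω} (h1 : Nat.card Z1 = p)
    (h2 : Nat.card Z2 = p ^ 2) (h3 : Z1 < D) (h4 : D ≤ Z2) : D = Z2 := by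
  have hp := (Fact.out : p.Prime)
  have hf2 : Finite Z2 := Nat.finite_of_card_ne_zero (by rw [h2]; exact pow_ne_zero _ hp.ne_zero)
  have hfD : Finite D := finite_of_le h4
  have h5 : Nat.card D ∣ Nat.card Z2 := Subgroup.card_dvd_of_le h4
  rw [h2] at h5
  obtain ⟨j, hj, hj2⟩ := (Nat.dvd_prime_pow hp).1 h5
  have h6 : ¬ Nat.card D ≤ Nat.card Z1 := fun h => h3.ne (Subgroup.eq_of_le_of_card_ge h3.le h)
  rw [h1, hj2] at h6
  have h7 : j ≠ 0 := by rintro rfl; exact h6 (by rw [pow_zero]; exact hp.one_lt.le)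
  have h8 : j ≠ 1 := by rintro rfl; exact h6 (by rw [pow_one])
  have h9 : j = 2 := by omega
  exact Subgroup.eq_of_le_of_card_ge h4 (by rw [h2, hj2, h9])

theorem key {Ω : Type*} [Group Ω] {S : Subgroup Ω} [Finite S] (p : ℕ) [Fact p.Prime] (hS : IsPGroup p ↥S)
    (F : Cfsg.FusionSystem S) (hF : F.IsSaturated p) {Z1 Z2 : Subgroup Ω} (hZ2S : Z2 ≤ S)
    (hZ12 : Z1 ≤ Z2) (hcardZ2 : Nat.card Z2 = p ^ 2) (hcardZ1 : Nat.card Z1 = p)
    (hcen : ∀ x, x ∈ Z1 ↔ x ∈ S ∧ ∀ s ∈ S, x * s = s * x)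
    (hcomm : ∀ x ∈ Z2, ∀ s ∈ S, x⁻¹ * (s * x * s⁻¹) ∈ Z1)
    {f : Ω → Ω} (hf : IsMap F Z2 f) (himg : img Z2 f = Z2) {z : Ω} (hz : z ∈ Z1) (hfz : f z ∉ Z1) :
    F.IsEssential p (S ⊓ Subgroup.centralizer (Z2 : Set Ω)) := by
  -- `Z₂` is abelian
  have hab : ∀ a ∈ Z2, ∀ b ∈ Z2, a * b = b * a := by
    intro a ha b hb
    have h := (IsPGroup.isMulCommutative_of_card_eq_prime_sq (p := p) (G := Z2) hcardZ2)
    exact congrArg Subtype.val (h.is_comm.comm ⟨a, ha⟩ ⟨b, hb⟩)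
  set C : Subgroup Ω := S ⊓ Subgroup.centralizer (Z2 : Set Ω) with hC
  have hmemC : ∀ x, x ∈ C ↔ x ∈ S ∧ ∀ z ∈ Z2, z * x = x * z := by
    intro x
    rw [hC, Subgroup.mem_inf, Subgroup.mem_centralizer_iff]
    rfl
  have hCS : C ≤ S := inf_le_left
  have hZ2C : Z2 ≤ C := fun z hz => (hmemC z).2 ⟨hZ2S hz, fun y hy => hab y hy z hz⟩
  -- normality in `S`
  have hZ2n : ∀ s ∈ S, ∀ z ∈ Z2, s * z * s⁻¹ ∈ Z2 := by
    intro s hs z hz
    have := Z2.mul_mem hz (hZ12 (hcomm z hz s hs))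
    rwa [mul_inv_cancel_left] at this
  have hfn : ∀ P : Subgroup Ω, P ≤ S → (∀ s ∈ S, ∀ z ∈ P, s * z * s⁻¹ ∈ P) → F.IsFullyNormalized P := by
    intro P hPS hP
    have hfP := finite_of_le hPS
    refine ⟨hPS, fun Q hQ => ?_⟩
    have h1 : normalizerIn S P = S := by
      refine le_antisymm (normalizerIn_le P) fun s hs => ⟨hs, mem_normalizer_of_conj fun x hx => hP s hs x hx⟩
    rw [h1]
    exact Nat.card_le_card_of_injective (Subgroup.inclusion (normalizerIn_le (S := S) Q)) (Subgroup.inclusion_injective _)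
  have hZ2fn := hfn Z2 hZ2S hZ2n
  have hCn : ∀ s ∈ S, ∀ c ∈ C, s * c * s⁻¹ ∈ C := by
    intro s hs c hc
    rw [hmemC] at hc ⊢
    refine ⟨S.mul_mem (S.mul_mem hs hc.1) (S.inv_mem hs), fun z hz => ?_⟩
    have h1 := hc.2 _ (hZ2n s⁻¹ (S.inv_mem hs) z hz)
    rw [inv_inv] at h1
    have h2 : z * (s * c * s⁻¹) = s * ((s⁻¹ * z * s) * c) * s⁻¹ := by group
    rw [h2, h1]; group
  have hCfn := hfn C hCS hCn
  have hCc : F.IsCentric C := by
    refine isCentric_of_fullyCentralized (sat_fullyCentralized hS hF hCfn) ?_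
    intro x hx
    rw [mem_centralizerIn] at hx
    exact (hmemC x).2 ⟨hx.1, fun z hz => hx.2 z (hZ2C hz)⟩
  -- the extension of `f`
  have hrec := sat_receptive' hS hF hZ2fn
  obtain ⟨g, hg, hgf⟩ := recep_exists_extend_centralizer hrec hf himg
  have hCsup : C ≤ Z2 ⊔ centralizerIn S Z2 := by
    intro x hx
    exact Subgroup.mem_sup_right (mem_centralizerIn.2 ((hmemC x).1 hx))
  have hgC := hg.mono hCsup
  have hgCC : ∀ x ∈ C, g x ∈ C := by
    intro x hx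
    refine (hmemC _).2 ⟨hgC.mem hx, fun z hz => ?_⟩
    rw [← himg] at hz
    obtain ⟨y, hy, rfl⟩ := hf.mem_img.1 hz
    rw [← hgf y hy, ← hgC.map_mul (hZ2C hy) hx, ← hgC.map_mul hx (hZ2C hy), ((hmemC x).1 hx).2 y hy]
  have hfC := finite_of_le hCS
  have himgC : img C g = C := hgC.img_eq hgCC
  have hfz2 : f z ∈ Z2 := by
    have : f z ∈ img Z2 f := subset_img (hZ12 hz)
    rwa [himg] at this
  -- `C ≠ S`
  have hne : C ≠ S := by
    intro hCeq
    apply hfz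
    rw [hcen]
    refine ⟨hZ2S hfz2, fun s hs => ?_⟩
    rw [← hCeq] at hs
    exact ((hmemC s).1 hs).2 _ hfz2
  -- a subgroup strictly between
  have hmaxl : ∀ R : Subgroup Ω, C < R → R ≤ S → R = S := by
    intro R hCR hRS
    set w := f z with hw
    have hCw : ∀ x ∈ S, x * w = w * x → x ∈ C := by
      intro x hx hxw
      refine (hmemC x).2 ⟨hx, ?_⟩
      have h1 : Z2 ⊓ Subgroup.centralizer {x} = Z2 := by
        refine eq_of_lt p hcardZ1 hcardZ2 (lt_of_le_of_ne ?_ ?_) inf_le_left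
        · intro y hy
          exact ⟨hZ12 hy, Subgroup.mem_centralizer_singleton_iff.2 (((hcen y).1 hy).2 x hx)⟩
        · intro h
          apply hfz
          rw [h]
          exact ⟨hfz2, Subgroup.mem_centralizer_singleton_iff.2 hxw.symm⟩
      intro y hy
      rw [← h1] at hy
      exact Subgroup.mem_centralizer_singleton_iff.1 hy.2
    have hθm : ∀ s ∈ S, s * w * s⁻¹ * w⁻¹ ∈ Z1 := by
      intro s hs
      have h1 := hcomm w⁻¹ (Z2.inv_mem hfz2) s hs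
      have h2 := Z1.inv_mem h1
      have h3 : (w⁻¹⁻¹ * (s * w⁻¹ * s⁻¹))⁻¹ = s * w * s⁻¹ * w⁻¹ := by group
      rwa [h3] at h2
    let θ : S →* Z1 := MonoidHom.mk' (fun s => ⟨s * w * s⁻¹ * w⁻¹, hθm s s.2⟩) (by
      intro s t
      refine Subtype.ext ?_
      show (s : Ω) * t * w * ((s : Ω) * t)⁻¹ * w⁻¹ = (s * w * (s : Ω)⁻¹ * w⁻¹) * (t * w * (t : Ω)⁻¹ * w⁻¹)
      have h1 := ((hcen _).1 (hθm t t.2)).2
      have h2 : (s : Ω) * t * w * ((s : Ω) * t)⁻¹ * w⁻¹ = s * (t * w * (t : Ω)⁻¹ * w⁻¹) * w * (s : Ω)⁻¹ * w⁻¹ := by group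
      rw [h2, ← h1 s s.2]
      have h3 := h1 _ (S.mul_mem (S.mul_mem (S.mul_mem s.2 (hZ2S hfz2)) (S.inv_mem s.2)) (S.inv_mem (hZ2S hfz2)))
      rw [← h3]; group)
    obtain ⟨r, hrR, hrC⟩ := SetLike.exists_of_lt hCR
    have hr1 : θ ⟨r, hRS hrR⟩ ≠ 1 := by
      intro h
      apply hrC
      apply hCw r (hRS hrR)
      have h1 : r * w * r⁻¹ * w⁻¹ = 1 := congrArg Subtype.val h
      calc r * w = (r * w * r⁻¹ * w⁻¹) * w * r := by group
        _ = w * r := by rw [h1, one_mul]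
    refine le_antisymm hRS fun s hs => ?_
    have h1 := mem_zpowers_of_prime_card hcardZ1 (g := θ ⟨r, hRS hrR⟩) (g' := θ ⟨s, hs⟩) hr1
    obtain ⟨k, hk⟩ := Subgroup.mem_zpowers_iff.1 h1
    have h2 : θ (⟨s, hs⟩ * (⟨r, hRS hrR⟩ ^ k)⁻¹) = 1 := by
      rw [map_mul, map_inv, map_zpow, hk, mul_inv_cancel]
    have h3 : s * (r ^ k)⁻¹ ∈ C := by
      apply hCw _ (S.mul_mem hs (S.inv_mem (S.zpow_mem (hRS hrR) k)))
      have h4 : (s * (r ^ k)⁻¹) * w * (s * (r ^ k)⁻¹)⁻¹ * w⁻¹ = 1 := congrArg Subtype.val h2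
      calc (s * (r ^ k)⁻¹) * w = ((s * (r ^ k)⁻¹) * w * (s * (r ^ k)⁻¹)⁻¹ * w⁻¹) * w * (s * (r ^ k)⁻¹) := by group
        _ = w * (s * (r ^ k)⁻¹) := by rw [h4, one_mul]
    have h5 := R.mul_mem (hCR.le h3) (R.zpow_mem hrR k)
    rwa [inv_mul_cancel_right] at h5
  -- the strongly embedded subgroup
  have hN := inn_subgroupOf_normal F C
  let H : Subgroup (F.autGroup C) :=
    { carrier := {α | ∀ x : C, (x : Ω) ∈ Z1 ↔ (((α : MulAut C) x : C) : Ω) ∈ Z1}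
      one_mem' := fun x => Iff.rfl
      mul_mem' := fun {α β} hα hβ x => (hβ x).trans (hα _)
      inv_mem' := fun {α} hα x => by
        have := hα ((α : MulAut C)⁻¹ x)
        rw [MulAut.apply_inv_self] at this
        exact this.symm }
  have hH : ∀ α : F.autGroup C, (∃ (R : Subgroup Ω) (g : Ω → Ω), C < R ∧ IsMap F R g ∧
      ∀ x ∈ C, g x = ofAut (α : MulAut C) x) → α ∈ H := by
    rintro α ⟨R, k, hCR, hk, hkα⟩ x
    have hRS := hmaxl R hCR hk.le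
    subst hRS
    have h1 : (((α : MulAut C) x : C) : Ω) = k x := by rw [hkα x x.2, ofAut_coe]
    rw [h1, hcen, hcen]
    have himgk : img R k = R := hk.img_eq fun y hy => hk.mem hy
    constructor
    · rintro ⟨h2, h3⟩
      refine ⟨hk.mem h2, fun s hs => ?_⟩
      rw [← himgk] at hs
      obtain ⟨t, ht, rfl⟩ := hk.mem_img.1 hs
      rw [← hk.map_mul h2 ht, ← hk.map_mul ht h2, h3 t ht]
    · rintro ⟨h2, h3⟩
      refine ⟨hCS x.2, fun s hs => ?_⟩
      have h4 := h3 (k s) (hk.mem hs)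
      rw [← hk.map_mul (hCS x.2) hs, ← hk.map_mul hs (hCS x.2)] at h4
      exact hk.injOn (R.mul_mem (hCS x.2) hs) (R.mul_mem hs (hCS x.2)) h4
  have hHne : H ≠ ⊤ := by
    intro htop
    have h1 : (⟨hgC.aut himgC, hgC.aut_mem himgC⟩ : F.autGroup C) ∈ H := by rw [htop]; trivial
    have h2 := (h1 ⟨z, hZ2C (hZ12 hz)⟩).1 hz
    have h3 : ((hgC.aut himgC ⟨z, hZ2C (hZ12 hz)⟩ : C) : Ω) = g z := by
      rw [← hgC.ofAut_aut himgC (hZ2C (hZ12 hz)), ofAut_apply]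
    apply hfz
    rw [← hgf z (hZ12 hz), ← h3]
    exact h2
  exact ⟨hCc, hCfn, hN, _, isStronglyPEmbedded_of_proper hS hF hCfn hCc hne hN H hH hHne⟩

/-- Let p ≥ 5 be a prime, S a finite p-group of maximal class of order p^n with n ≥ 4, and F a saturated fusion system over S. If some map of F defined on the second centre Z₂(S) with image Z₂(S) does not carry Z(S) into itself, then the centralizer C_S(Z₂(S)) is an F-essential subgroup. -/
theorem result {Ω : Type*} [Group Ω] {S : Subgroup Ω} [Finite S] (p : ℕ) [Fact p.Prime] (hS : IsPGroup p ↥S) (n : ℕ) (hn : Nat.card S = p ^ n) (h4 : 4 ≤ n) (hmax : Subgroup.lowerCentralSeries S (n - 2) ≠ ⊥) (F : Cfsg.FusionSystem S) (hF : F.IsSaturated p) (hp : 5 ≤ p) (φ : ↥((Subgroup.upperCentralSeries ↥S 2).map S.subtype) →* Ω) (hφ : φ ∈ F.Hom ((Subgroup.upperCentralSeries ↥S 2).map S.subtype)) (hφZ : φ.range = ((Subgroup.upperCentralSeries ↥S 2).map S.subtype))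 (hmove : ∃ (z : Ω) (hz : z ∈ ((Subgroup.upperCentralSeries ↥S 2).map S.subtype)), z ∈ ((Subgroup.center ↥S).map S.subtype) ∧ φ ⟨z, hz⟩ ∉ ((Subgroup.center ↥S).map S.subtype)) : F.IsEssential p (S ⊓ Subgroup.centralizer (((Subgroup.upperCentralSeries ↥S 2).map S.subtype) : Set Ω)) := by
  have hcl := MaxClass.class_of_lcs hn (by omega) hmax
  have hc1 := MaxClass.card_center hn (by omega) hcl
  have hc2 := MaxClass.card_ucs_two hn h4 hcl
  have hz1 : (Subgroup.center ↥S).map S.subtype = zSer S 1 := by rw [← Subgroup.upperCentralSeries_one]; rfl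
  have hf : IsMap F ((Subgroup.upperCentralSeries ↥S 2).map S.subtype) (ofHom φ) := isMap_of_mem hφ
  obtain ⟨z, hz2, hz, hzφ⟩ := hmove
  refine key p hS F hF (Z1 := (Subgroup.center ↥S).map S.subtype) (zSer_le 2) ?_ ?_ ?_ ?_ ?_ hf ?_ hz ?_
  · rw [hz1]
    exact Subgroup.map_mono (Subgroup.upperCentralSeries_mono _ (by norm_num))
  · rw [← hc2]
    exact (Nat.card_congr ((Subgroup.upperCentralSeries ↥S 2).equivMapOfInjective S.subtype S.subtype_injective).toEquiv).symm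
  · refine Eq.trans ?_ hc1
    exact (Nat.card_congr ((Subgroup.center ↥S).equivMapOfInjective S.subtype S.subtype_injective).toEquiv).symm
  · intro x
    constructor
    · rintro ⟨y, hy, rfl⟩
      exact ⟨y.2, fun s hs => (congrArg Subtype.val (Subgroup.mem_center_iff.1 hy ⟨s, hs⟩)).symm⟩
    · rintro ⟨hx, h⟩
      exact ⟨⟨x, hx⟩, Subgroup.mem_center_iff.2 fun g => Subtype.ext (h g g.2).symm, rfl⟩
  · intro x hx s hs
    rw [hz1]
    exact zSer_comm hx hs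
  · rw [hf.img_eq_range fun x => (ofHom_coe φ x).symm, hφZ]
  · rw [ofHom_apply φ hz2]
    exact hzφ

end Cfsg.Agent.S5270
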