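import Cfsg.Statements.S5272
import Cfsg.Agent.ZJF.Crit

set_option autoImplicit false
open Cfsg

namespace Cfsg.Agent.S5272

/-- An axiomatic Glauberman–Thompson nilpotency criterion for fusion systems. Let p be an odd prime, F a saturated fusion system over a finite p-group S, and 𝒜 a nonempty family of abelian subgroups of S. For Q ≤ S write I(Q) for the intersection of the members of 𝒜 contained in Q. Assume (invariance) that for every Q ≤ S containing a member of 𝒜, every F-automorphism of Q maps I(Q) into itself, and (replacement) that for every subgroup B of S of nilpotency class at most 2, if some member of 𝒜 contains [B,B] but not B, then B normalizes some member of 𝒜 that contains [B,B] but not B. Then F is the inner fusion system of S if and only if the normalizer fusion system of I(S) in F is the inner fusion system of N_S(I(S)). -/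
theorem result {Ω : Type*} [Group Ω] {S : Subgroup Ω} [Finite S] (p : ℕ) [Fact p.Prime] (hS : IsPGroup p ↥S) (F : Cfsg.FusionSystem S) (hF : F.IsSaturated p) (hp : p ≠ 2) (𝒜 : Set (Subgroup Ω)) (h𝒜 : ∀ A ∈ 𝒜, A ≤ S ∧ IsMulCommutative ↥A) (hne : 𝒜.Nonempty) (hinv : ∀ Q : Subgroup Ω, Q ≤ S → (∃ A ∈ 𝒜, A ≤ Q) → ∀ α ∈ F.autGroup Q, ∀ x : ↥Q, (x : Ω) ∈ (⨅ A ∈ {A : Subgroup Ω | A ∈ 𝒜 ∧ A ≤ Q}, A) → (((α : MulAut ↥Q) x : ↥Q) : Ω) ∈ (⨅ A ∈ {A : Subgroup Ω | A ∈ 𝒜 ∧ A ≤ Q}, A)) (hrep : ∀ B : Subgroup Ω, B ≤ S → ⁅⁅B, B⁆, B⁆ = ⊥ → (∃ A ∈ 𝒜, ⁅B, B⁆ ≤ A ∧ ¬ B ≤ A) → ∃ A ∈ 𝒜, ⁅B, B⁆ ≤ A ∧ ¬ B ≤ A ∧ B ≤ Subgroup.normalizer (A : Set Ω)) : (∀ P : Subgroup Ω, F.Hom P = (Cfsg.innerFusionSystem S).Hom P) ↔ ∀ N : Cfsg.FusionSystem (Cfsg.FusionSystem.normalizerIn S (⨅ A ∈ 𝒜, A)), F.IsNormalizerSystem (⨅ A ∈ 𝒜, A) N → ∀ P : Subgroup Ω, N.Hom P = (Cfsg.innerFusionSystem (Cfsg.FusionSystem.normalizerIn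 S (⨅ A ∈ 𝒜, A))).Hom P := by
  have hI : (⨅ A ∈ 𝒜, A) = sInf 𝒜 := sInf_eq_iInf.symm
  rw [hI]
  have hW : sInf 𝒜 ≤ S := by
    obtain ⟨A, hA⟩ := hne
    exact (sInf_le hA).trans (h𝒜 A hA).1
  constructor
  · intro h N hN
    exact (ZJF.nInner_iff hW hN).mp ((ZJF.isInner_iff.mpr h).nInner _)
  · intro h
    obtain ⟨N, hN⟩ := Fus.exists_isNormalizerSystem F hW
    refine ZJF.isInner_iff.mp (ZJF.crit_axiomatic hp hS hF 𝒜 h𝒜 hne ?_ hrep ((ZJF.nInner_iff hW hN).mpr (h N hN)))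
    intro Q hQ hex f hf himg x hx
    have hI2 : (⨅ A ∈ {A : Subgroup Ω | A ∈ 𝒜 ∧ A ≤ Q}, A) = ZJF.famInf 𝒜 Q := sInf_eq_iInf.symm
    have hxQ : x ∈ Q := by
      obtain ⟨A, hA, hAQ⟩ := hex
      have hmem : A ∈ {A : Subgroup Ω | A ∈ 𝒜 ∧ A ≤ Q} := ⟨hA, hAQ⟩
      exact hAQ ((sInf_le hmem) hx)
    have h1 := hinv Q hQ hex _ (hf.aut_mem himg) ⟨x, hxQ⟩ (by rw [hI2]; exact hx)
    rw [hI2] at h1
    have h2 : (((hf.aut himg : MulAut ↥Q) ⟨x, hxQ⟩ : ↥Q) : Ω) = f x := by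
      rw [← Fus.ofAut_apply _ hxQ, hf.ofAut_aut himg hxQ]
    rw [h2] at h1
    exact h1


end Cfsg.Agent.S5272
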