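import Cfsg.Statements.S5278
import Cfsg.Agent.Fus.FT12

set_option autoImplicit false
open Cfsg

namespace Cfsg.Agent.S5278

open Cfsg.FusionSystem Cfsg.Agent.Fus Cfsg.Agent.Fus.FT

/-- Let p be an odd prime, F a saturated fusion system over a finite p-group S, and T a subgroup of Z(S) such that the normalizer fusion system of J(S) in F is contained in the normalizer fusion system of T, J(S) being the subgroup generated by the abelian subgroups of S of largest order. Then either T is weakly closed in F, or Aut_F(T) has a nontrivial cyclic subgroup X of order prime to p that permutes transitively the non-identity elements of the commutator [T, X] (the subgroup of T generated by the elements ψ(t)·t⁻¹ with ψ in X and t in T). -/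
theorem result {Ω : Type*} [Group Ω] {S : Subgroup Ω} [Finite S] (p : ℕ) [Fact p.Prime] (hS : IsPGroup p ↥S) (F : Cfsg.FusionSystem S) (hF : F.IsSaturated p) (hp : p ≠ 2) (T : Subgroup Ω) (hT : T ≤ S ⊓ Subgroup.centralizer (S : Set Ω)) (hJT : ∀ NJ : Cfsg.FusionSystem (Cfsg.FusionSystem.normalizerIn S (Cfsg.thompsonSubgroupAOf S)), F.IsNormalizerSystem (Cfsg.thompsonSubgroupAOf S) NJ → ∀ NT : Cfsg.FusionSystem (Cfsg.FusionSystem.normalizerIn S T), F.IsNormalizerSystem T NT → NJ.IsSubsystemOf NT) : F.WeaklyClosed T ∨ ∃ X : Subgroup (MulAut ↥T), X ≤ F.autGroup T ∧ X ≠ ⊥ ∧ IsCyclic ↥X ∧ (Nat.card ↥X).Coprime p ∧ ∀ a b : ↥T, a ∈ Subgroup.closure {y : ↥T | ∃ ψ ∈ X, ∃ t : ↥T, y = ψ t * t⁻¹} → b ∈ Subgroup.closure {y : ↥T | ∃ ψ ∈ X, ∃ t : ↥T, y = ψ t * t⁻¹} → a ≠ 1 → b ≠ 1 → ∃ ψ ∈ X, ψ a = b := by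
  have hTS : T ≤ S := hT.trans inf_le_left
  have hTc : ∀ t ∈ T, ∀ s ∈ S, t * s = s * t := by
    intro t ht s hs
    exact (Subgroup.mem_centralizer_iff.mp (hT ht).2 s hs).symm
  have hn : S ≤ Subgroup.normalizer (T : Set Ω) := by
    intro s hs
    apply H85.centralizer_le_normalizer'
    rw [FT.mem_cent]
    intro t ht
    exact hTc t ht s hs
  have hWS : thompsonSubgroupAOf S ≤ S := Subgroup.map_subtype_le _
  have hTJ : T ≤ thompsonSubgroupAOf S := FT.central_le_J hTS hTc
  by_cases hX : FT.XConcl F p T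
  · exact Or.inr hX
  · left
    obtain ⟨E, hE1, hE2, -⟩ := FT.exists_normSys_self F hTS hn
    apply hE2
    refine FT.main_le hp hS hF hT ?_ hX hE1
    intro f hf himg x hx
    obtain ⟨NJ, hNJ⟩ := exists_isNormalizerSystem F hWS
    obtain ⟨NT, hNT⟩ := exists_isNormalizerSystem F hTS
    have hsub := hJT NJ hNJ NT hNT
    have h1 : IsMap NJ (thompsonSubgroupAOf S) f :=
      (isMap_normSys_of_le hNJ le_rfl).mpr ⟨le_normalizerIn hWS, hf, himg⟩
    have h2 : IsMap NT (thompsonSubgroupAOf S) f := by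
      obtain ⟨φ, hφ, hφf⟩ := h1
      exact ⟨φ, hsub _ hφ, hφf⟩
    obtain ⟨-, -, g, hg, hgf, hgi⟩ := (isMap_normSys hNT).mp h2
    rw [← hgf x (hTJ hx), ← hgi]
    exact subset_img hx

end Cfsg.Agent.S5278
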