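import Cfsg.Statements.S5284
import Cfsg.Agent.H72.SSol
import Cfsg.Agent.Fus.Abelian
import Cfsg.Agent.S5283
import Mathlib.GroupTheory.FiniteAbelian.Basic

set_option autoImplicit false
open Cfsg

namespace Cfsg.Agent.S5284

open Cfsg.Agent.Fus Cfsg.Agent.H72 Cfsg.FusionSystem
open scoped commutatorElement

set_option linter.style.haveILetI false
set_option linter.unusedSectionVars false

section Split

variable {ι : Type} [Fintype ι] (A : ι → Type) [∀ i, CommGroup (A i)]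

/-- splitting off two factors of a product -/
theorem split_two {i j : ι} (hij : i ≠ j) :
    Nonempty (((k : ι) → A k) ≃* (A i × A j) × ((k : {k : ι // k ≠ i ∧ k ≠ j}) → A k)) := by
  classical
  let φ : ((k : ι) → A k) →* (A i × A j) × ((k : {k : ι // k ≠ i ∧ k ≠ j}) → A k) :=
    { toFun := fun f => ((f i, f j), fun k => f k)
      map_one' := rfl
      map_mul' := fun _ _ => rfl }
  refine ⟨MulEquiv.ofBijective φ ⟨?_, ?_⟩⟩
  · intro f g hfg
    have h1 : f i = g i := congrArg (fun u => u.1.1) hfg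
    have h2 : f j = g j := congrArg (fun u => u.1.2) hfg
    have h3 : ∀ k : {k : ι // k ≠ i ∧ k ≠ j}, f k = g k := fun k => congrFun (congrArg Prod.snd hfg) k
    funext k
    by_cases hi : k = i
    · rw [hi, h1]
    by_cases hj : k = j
    · rw [hj, h2]
    exact h3 ⟨k, hi, hj⟩
  · rintro ⟨⟨a, b⟩, g⟩
    let g' : (k : ι) → A k := fun k => if h : k ≠ i ∧ k ≠ j then g ⟨k, h⟩ else 1
    refine ⟨Function.update (Function.update g' i a) j b, ?_⟩
    have h1 : Function.update (Function.update g' i a) j b i = a := by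
      rw [Function.update_of_ne hij, Function.update_self]
    have h2 : Function.update (Function.update g' i a) j b j = b := Function.update_self _ _ _
    have h3 : ∀ k : {k : ι // k ≠ i ∧ k ≠ j}, Function.update (Function.update g' i a) j b k = g k := by
      intro k
      rw [Function.update_of_ne k.2.2, Function.update_of_ne k.2.1]
      exact dif_pos k.2
    exact Prod.ext (Prod.ext h1 h2) (funext h3)

end Split

theorem zmod_div {p m t : ℕ} (hp : p.Prime) (hm : m ≠ t + 1) {u v : ZMod (p ^ m)} (hu : (p : ZMod (p ^ m)) * u = 0)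
    (huv : u = (p ^ t : ℕ) * v) : ∃ w : ZMod (p ^ m), u = (p ^ (t + 1) : ℕ) * w := by
  haveI : NeZero (p ^ m) := ⟨(pow_pos hp.pos m).ne'⟩
  rcases lt_or_ge t m with h | h
  · -- m ≥ t + 2
    have h1 : p ^ m ∣ p * u.val := by
      rw [← ZMod.natCast_eq_zero_iff]
      push_cast
      rw [ZMod.natCast_zmod_val]; exact hu
    obtain ⟨m', rfl⟩ : ∃ m', m = m' + 1 := ⟨m - 1, by omega⟩
    have h1' : p * p ^ m' ∣ p * u.val := by rw [← pow_succ']; exact h1
    have h2 : p ^ m' ∣ u.val := Nat.dvd_of_mul_dvd_mul_left hp.pos h1'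
    obtain ⟨c, hc⟩ := h2
    have h3 : m' = (t + 1) + (m' - (t + 1)) := by omega
    refine ⟨((p ^ (m' - (t + 1)) * c : ℕ) : ZMod (p ^ (m' + 1))), ?_⟩
    rw [← Nat.cast_mul, ← mul_assoc, ← pow_add, ← h3, ← hc, ZMod.natCast_zmod_val]
  · refine ⟨0, ?_⟩
    rw [mul_zero, huv]
    have : ((p ^ t : ℕ) : ZMod (p ^ m)) = 0 := by
      rw [ZMod.natCast_eq_zero_iff]; exact pow_dvd_pow _ h
    rw [this, zero_mul]

section Omega

variable {Ω : Type*} [Group Ω] {S : Subgroup Ω} {p : ℕ}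

/-- elements of order `p` that are `p ^ t`-th powers -/
def W (S : Subgroup Ω) (p : ℕ) (hab : ∀ x ∈ S, ∀ y ∈ S, x * y = y * x) (t : ℕ) : Subgroup Ω where
  carrier := {x | x ∈ S ∧ x ^ p = 1 ∧ ∃ y ∈ S, y ^ p ^ t = x}
  one_mem' := ⟨S.one_mem, one_pow _, 1, S.one_mem, one_pow _⟩
  mul_mem' := by
    rintro a b ⟨ha, ha1, u, hu, hua⟩ ⟨hb, hb1, v, hv, hvb⟩
    refine ⟨S.mul_mem ha hb, ?_, u * v, S.mul_mem hu hv, ?_⟩
    · rw [(show Commute a b from hab a ha b hb).mul_pow, ha1, hb1, one_mul]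
    · rw [(show Commute u v from hab u hu v hv).mul_pow, hua, hvb]
  inv_mem' := by
    rintro a ⟨ha, ha1, u, hu, hua⟩
    exact ⟨S.inv_mem ha, by rw [inv_pow, ha1, inv_one], u⁻¹, S.inv_mem hu, by rw [inv_pow, hua]⟩

theorem mem_W {hab : ∀ x ∈ S, ∀ y ∈ S, x * y = y * x} {t : ℕ} {x : Ω} :
    x ∈ W S p hab t ↔ x ∈ S ∧ x ^ p = 1 ∧ ∃ y ∈ S, y ^ p ^ t = x := Iff.rfl

theorem fix_of_omega [hp : Fact p.Prime] (hS : IsPGroup p S) (hab : ∀ x ∈ S, ∀ y ∈ S, x * y = y * x) {γ : MulAut S}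
    (hγ : (orderOf γ).Coprime p) (h : ∀ x ∈ S, x ^ p = 1 → ofAut γ x = x) : γ = 1 := by
  have key : ∀ (j : ℕ) (x : Ω), x ∈ S → x ^ p ^ j = 1 → ofAut γ x = x := by
    intro j
    induction j with
    | zero =>
      intro x hx h1
      rw [pow_zero, pow_one] at h1
      subst h1
      exact h 1 S.one_mem (one_pow _)
    | succ j ih =>
      intro x hx h1
      have h2 : ofAut γ (x ^ p) = x ^ p := ih _ (S.pow_mem hx _) (by rw [← pow_mul, ← pow_succ', h1])
      have h3 : (x⁻¹ * ofAut γ x) ^ p = 1 := by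
        rw [(show Commute x⁻¹ (ofAut γ x) from hab _ (S.inv_mem hx) _ (ofAut_mem γ hx)).mul_pow, inv_pow,
          ← ofAut_map_pow γ hx, h2, inv_mul_cancel]
      exact ofAut_fix_of_coprime hS hγ hx (h _ (S.mul_mem (S.inv_mem hx) (ofAut_mem γ hx)) h3)
  apply ofAut_injective
  intro x hx
  rw [ofAut_one hx]
  obtain ⟨k, hk⟩ := hS ⟨x, hx⟩
  exact key k x hx (congrArg Subtype.val hk)

/-- the factors of the series are cyclic when the invariants are distinct -/
theorem W_cyc [Finite S] [hp : Fact p.Prime] (hS : IsPGroup p S) (hab : ∀ x ∈ S, ∀ y ∈ S, x * y = y * x)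
    (hd : ¬ ∃ (n : ℕ) (H : Type) (_ : CommGroup H), 0 < n ∧ Nonempty (↥S ≃* (Multiplicative (ZMod (p ^ n)) × Multiplicative (ZMod (p ^ n))) × H))
    (t : ℕ) : ∃ x ∈ W S p hab t, ∀ z ∈ W S p hab t, ∃ k : ℤ, (x ^ k)⁻¹ * z ∈ W S p hab (t + 1) := by
  classical
  obtain ⟨N, hN⟩ := hS.exists_card_eq
  let _ : CommGroup S := { (inferInstance : Group S) with mul_comm := fun a b => Subtype.ext (hab a a.2 b b.2) }
  obtain ⟨ι, _, n, hn1, ⟨e⟩⟩ := CommGroup.equiv_prod_multiplicative_zmod_of_finite S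
  have hnp : ∀ i, n i ∣ p ^ N := by
    intro i
    have h1 : (e.symm (Pi.mulSingle i (Multiplicative.ofAdd 1))) ^ p ^ N = 1 := by
      rw [← hN]; exact pow_card_eq_one'
    rw [← map_pow, map_eq_one_iff _ e.symm.injective] at h1
    have h2 := congrFun h1 i
    rw [Pi.pow_apply, Pi.mulSingle_eq_same] at h2
    have h3 : p ^ N • (1 : ZMod (n i)) = 0 := congrArg Multiplicative.toAdd h2
    rw [nsmul_eq_mul, mul_one] at h3
    rwa [← ZMod.natCast_eq_zero_iff]
  have hm : ∀ i, ∃ m, n i = p ^ m := fun i => by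
    obtain ⟨m, -, hm⟩ := (Nat.dvd_prime_pow hp.out).1 (hnp i)
    exact ⟨m, hm⟩
  choose m hm using hm
  obtain rfl : n = fun i => p ^ m i := funext hm
  have hmpos : ∀ i, 0 < m i := by
    intro i
    rcases Nat.eq_zero_or_pos (m i) with h | h
    · have := hn1 i
      simp only [h, pow_zero, lt_irrefl] at this
    · exact h
  have hinj : ∀ i j, m i = m j → i = j := by
    intro i j hij
    by_contra hne
    apply hd
    obtain ⟨f⟩ := split_two (fun i => Multiplicative (ZMod (p ^ m i))) hne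
    refine ⟨m i, ((k : {k : ι // k ≠ i ∧ k ≠ j}) → Multiplicative (ZMod (p ^ m k))), inferInstance, hmpos i,
      ⟨(e.trans f).trans ?_⟩⟩
    refine MulEquiv.prodCongr (MulEquiv.prodCongr (MulEquiv.refl _) ?_) (MulEquiv.refl _)
    exact AddEquiv.toMultiplicative (ZMod.ringEquivCongr (by rw [hij])).toAddEquiv
  have hlift : ∀ z (hz : z ∈ W S p hab t), (∀ k, m k = t + 1 → e ⟨z, hz.1⟩ k = 1) → z ∈ W S p hab (t + 1) := by
    intro z hz hk
    obtain ⟨hzS, hzp, y, hy, hyz⟩ := hz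
    have hw : ∀ k, ∃ w : ZMod (p ^ m k), Multiplicative.toAdd (e ⟨z, hzS⟩ k) = (p ^ (t + 1) : ℕ) * w := by
      intro k
      by_cases hmk : m k = t + 1
      · exact ⟨0, by rw [hk k hmk, mul_zero]; rfl⟩
      · apply zmod_div hp.out hmk (v := Multiplicative.toAdd (e ⟨y, hy⟩ k))
        · have h1 : e ⟨z, hzS⟩ ^ p = 1 := by
            rw [← map_pow, ← map_one e]
            congr 1
            exact Subtype.ext hzp
          have h2 := congrFun h1 k
          have h3 : p • Multiplicative.toAdd (e ⟨z, hzS⟩ k) = 0 := congrArg Multiplicative.toAdd h2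
          rwa [nsmul_eq_mul] at h3
        · have h1 : e ⟨z, hzS⟩ = e ⟨y, hy⟩ ^ p ^ t := by
            rw [← map_pow]
            congr 1
            exact Subtype.ext hyz.symm
          have h2 := congrFun h1 k
          have h3 : Multiplicative.toAdd (e ⟨z, hzS⟩ k) = p ^ t • Multiplicative.toAdd (e ⟨y, hy⟩ k) :=
            congrArg Multiplicative.toAdd h2
          rwa [nsmul_eq_mul] at h3
    choose w hw using hw
    refine ⟨hzS, hzp, (e.symm fun k => Multiplicative.ofAdd (w k) : S), Subtype.coe_prop _, ?_⟩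
    have h1 : (e.symm fun k => Multiplicative.ofAdd (w k)) ^ p ^ (t + 1) = ⟨z, hzS⟩ := by
      apply e.injective
      rw [map_pow, MulEquiv.apply_symm_apply]
      funext k
      apply Multiplicative.toAdd.injective
      rw [hw k]
      show p ^ (t + 1) • w k = _
      rw [nsmul_eq_mul]
    exact congrArg Subtype.val h1
  by_cases hk0 : ∃ k, m k = t + 1
  · obtain ⟨k, hk⟩ := hk0
    let f : W S p hab t →* Multiplicative (ZMod (p ^ m k)) :=
      { toFun := fun z => e ⟨z, z.2.1⟩ k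
        map_one' := by
          show e 1 k = 1
          rw [map_one]; rfl
        map_mul' := fun a b => by
          show e (⟨a, a.2.1⟩ * ⟨b, b.2.1⟩) k = _
          rw [map_mul]; rfl }
    obtain ⟨⟨r, x, hxr⟩, hr⟩ := IsCyclic.exists_generator (α := f.range)
    refine ⟨x, x.2, fun z hz => ?_⟩
    obtain ⟨j, hj⟩ := hr ⟨f ⟨z, hz⟩, ⟨z, hz⟩, rfl⟩
    have hj' : f x ^ j = f ⟨z, hz⟩ := by
      rw [hxr]; exact congrArg Subtype.val hj
    refine ⟨j, ?_⟩
    have h1 : ((x : Ω) ^ j)⁻¹ * z ∈ W S p hab t := (W S p hab t).mul_mem ((W S p hab t).inv_mem ((W S p hab t).zpow_mem x.2 j)) hz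
    refine hlift _ h1 ?_
    intro k' hk'
    obtain rfl : k' = k := hinj _ _ (hk'.trans hk.symm)
    show f ((x ^ j)⁻¹ * ⟨z, hz⟩) = 1
    rw [map_mul, map_inv, map_zpow, hj', inv_mul_cancel]
  · push Not at hk0
    refine ⟨1, one_mem _, fun z hz => ⟨0, ?_⟩⟩
    rw [zpow_zero, inv_one, one_mul]
    exact hlift z hz fun k hk => absurd hk (hk0 k)

theorem auts_of_distinct [Finite S] [hp : Fact p.Prime] (hS : IsPGroup p S) (hab : ∀ x ∈ S, ∀ y ∈ S, x * y = y * x)
    (hd : ¬ ∃ (n : ℕ) (H : Type) (_ : CommGroup H), 0 < n ∧ Nonempty (↥S ≃* (Multiplicative (ZMod (p ^ n)) × Multiplicative (ZMod (p ^ n))) × H))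
    (H : Subgroup (MulAut S)) (hH : (Nat.card H).Coprime p) :
    (∀ a ∈ H, ∀ b ∈ H, a * b = b * a) ∧ ∀ a ∈ H, a ^ (p - 1) = 1 := by
  haveI : Finite (MulAut S) := finite_mulAut (P := S)
  obtain ⟨N, hN⟩ := hS.exists_card_eq
  have hexp : ∀ x ∈ S, x ^ p ^ N = 1 := by
    intro x hx
    have h1 : (⟨x, hx⟩ : S) ^ Nat.card S = 1 := pow_card_eq_one'
    rw [hN] at h1
    exact congrArg Subtype.val h1
  let C : ℕ → Subgroup Ω := fun i => W S p hab (N - i)
  have hCP : ∀ i, C i ≤ S := fun i x hx => hx.1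
  have hinv : ∀ α ∈ (⊤ : Subgroup (MulAut S)), ∀ i, ∀ x ∈ C i, ofAut α x ∈ C i := by
    rintro α - i x ⟨hx, hxp, y, hy, hyx⟩
    refine ⟨ofAut_mem α hx, ?_, ofAut α y, ofAut_mem α hy, ?_⟩
    · rw [← ofAut_map_pow α hx, hxp, ofAut_map_one]
    · rw [← ofAut_map_pow α hy, hyx]
  have h0 : C 0 = ⊥ := by
    rw [eq_bot_iff]
    rintro x ⟨hx, hxp, y, hy, hyx⟩
    rw [Nat.sub_zero, hexp y hy] at hyx
    rw [Subgroup.mem_bot, ← hyx]
  have hmono : ∀ i, C i ≤ C (i + 1) := by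
    rintro i x ⟨hx, hxp, y, hy, hyx⟩
    refine ⟨hx, hxp, y ^ p ^ ((N - i) - (N - (i + 1))), S.pow_mem hy _, ?_⟩
    rw [← pow_mul, ← pow_add, Nat.sub_add_cancel (by omega), hyx]
  have hnorm : ∀ i, ∀ g ∈ C (i + 1), ∀ x ∈ C i, g * x * g⁻¹ ∈ C i := by
    intro i g hg x hx
    rwa [hab g (hCP _ hg) x (hCP _ hx), mul_inv_cancel_right]
  have hcyc : ∀ i, ∃ x ∈ C (i + 1), ∀ z ∈ C (i + 1), ∃ k : ℤ, (x ^ k)⁻¹ * z ∈ C i := by
    intro i
    by_cases hi : i < N
    · have h1 := W_cyc hS hab hd (N - (i + 1))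
      rwa [show N - (i + 1) + 1 = N - i by omega] at h1
    · refine ⟨1, one_mem _, fun z hz => ⟨0, ?_⟩⟩
      rw [zpow_zero, inv_one, one_mul]
      have : N - (i + 1) = N - i := by omega
      show z ∈ W S p hab (N - i)
      rw [← this]; exact hz
  have hcop : ∀ a ∈ H, (orderOf a).Coprime p := by
    intro a ha
    have h1 := orderOf_dvd_natCard (⟨a, ha⟩ : H)
    rw [Subgroup.orderOf_mk] at h1
    exact Nat.Coprime.coprime_dvd_left h1 hH
  have hone : ∀ a ∈ H, a ∈ chainStab ⊤ C hCP hinv → a = 1 := by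
    intro a ha hac
    have h1 := chainStab_fix hS h0 hac (hcop a ha) N
    apply fix_of_omega hS hab (hcop a ha)
    intro x hx hxp
    refine h1 x ⟨hx, hxp, x, hx, ?_⟩
    rw [Nat.sub_self, pow_zero, pow_one]
  refine ⟨fun a ha b hb => ?_, fun a ha => ?_⟩
  · have h1 := hone ⁅a, b⁆ (by
      rw [commutatorElement_def]
      exact H.mul_mem (H.mul_mem (H.mul_mem ha hb) (H.inv_mem ha)) (H.inv_mem hb))
      (comm_mem_chainStab hCP hinv hmono hnorm hcyc (Subgroup.mem_top _) (Subgroup.mem_top _))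
    exact commutatorElement_eq_one_iff_mul_comm.1 h1
  · have h1 := hone ((a ^ (p - 1)) ^ p ^ N) (H.pow_mem (H.pow_mem ha _) _)
      (pow_mem_chainStab hexp hCP hinv hmono hnorm hcyc (Subgroup.mem_top _) (orderOf_pos a) (pow_orderOf_eq_one a))
    have h2 := orderOf_dvd_of_pow_eq_one h1
    have h3 := hcop _ (H.pow_mem ha (p - 1))
    exact orderOf_eq_one_iff.1 (Nat.Coprime.eq_one_of_dvd (h3.pow_right N) h2)

end Omega

section Homo

variable {A B : Type*} [CommGroup A] [CommGroup B]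

/-- swap on the first two factors -/
def sw (A B : Type*) [CommGroup A] [CommGroup B] : MulAut ((A × A) × B) := MulEquiv.prodCongr MulEquiv.prodComm (MulEquiv.refl B)

/-- rotation `(a, b) ↦ (b⁻¹, a)` -/
def rot (A B : Type*) [CommGroup A] [CommGroup B] : MulAut ((A × A) × B) where
  toFun x := ((x.1.2⁻¹, x.1.1), x.2)
  invFun x := ((x.1.2, x.1.1⁻¹), x.2)
  left_inv x := by simp
  right_inv x := by simp
  map_mul' x y := by simp [mul_comm]

/-- `(a, b) ↦ (b⁻¹, a b⁻¹)` of order `3` -/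
def tri (A B : Type*) [CommGroup A] [CommGroup B] : MulAut ((A × A) × B) where
  toFun x := ((x.1.2⁻¹, x.1.1 * x.1.2⁻¹), x.2)
  invFun x := ((x.1.2 * x.1.1⁻¹, x.1.1⁻¹), x.2)
  left_inv x := by simp
  right_inv x := by simp
  map_mul' x y := by
    simp only [Prod.fst_mul, Prod.snd_mul, Prod.mk_mul_mk, mul_inv_rev]
    congr 2
    · exact mul_comm _ _
    · rw [mul_comm y.1.2⁻¹, mul_mul_mul_comm]

theorem sw_sq : sw A B ^ 2 = 1 := by
  ext x <;> rfl

theorem rot_four : rot A B ^ 4 = 1 := by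
  ext x
  · show (x.1.1⁻¹)⁻¹ = x.1.1
    rw [inv_inv]
  · show (x.1.2⁻¹)⁻¹ = x.1.2
    rw [inv_inv]
  · rfl

theorem sw_rot : sw A B * rot A B * (sw A B)⁻¹ = (rot A B)⁻¹ := by
  rw [mul_inv_eq_iff_eq_mul, eq_inv_mul_iff_mul_eq]
  ext x
  · show (x.1.2⁻¹)⁻¹ = x.1.2
    rw [inv_inv]
  · rfl
  · rfl

theorem tri_cube : tri A B ^ 3 = 1 := by
  ext x
  · show (x.1.2⁻¹ * (x.1.1 * x.1.2⁻¹)⁻¹)⁻¹ = x.1.1
    group
  · show (x.1.1 * x.1.2⁻¹)⁻¹ * (x.1.2⁻¹ * (x.1.1 * x.1.2⁻¹)⁻¹)⁻¹ = x.1.2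
    group
  · rfl

theorem rot_sw_ne {a : A} (ha : a ^ 2 ≠ 1) : rot A B * sw A B ≠ sw A B * rot A B := by
  intro h
  have h1 := congrArg (fun f : MulAut ((A × A) × B) => (f ((a, 1), 1)).1.1) h
  have h2 : (a⁻¹ : A) = a := h1
  apply ha
  rw [sq, mul_eq_one_iff_inv_eq, h2]

theorem tri_ne {a : A} (ha : a ≠ 1) : tri A B ≠ 1 := by
  intro h
  have h1 := congrArg (fun f : MulAut ((A × A) × B) => (f ((a, 1), 1)).1.2) h
  have h2 : a * (1 : A)⁻¹ = 1 := h1
  rw [inv_one, mul_one] at h2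
  exact ha h2

/-- `(Z/p^n)^2 × B` has a `p'`-group of automorphisms violating the condition. -/
theorem exists_bad [Finite A] [Finite B] {p : ℕ} [hp : Fact p.Prime] {a : A} (ha : a ≠ 1) (hap : ∃ k, a ^ p ^ k = 1) :
    ¬ ∀ H : Subgroup (MulAut ((A × A) × B)), (Nat.card H).Coprime p →
      IsMulCommutative ↥H ∧ ∀ h ∈ H, h ^ (p - 1) = 1 := by
  intro hall
  by_cases hp2 : p = 2
  · subst hp2
    have h3 : orderOf (tri A B) = 3 := by
      haveI : Fact (Nat.Prime 3) := ⟨Nat.prime_three⟩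
      exact orderOf_eq_prime tri_cube (tri_ne ha)
    have h1 := (hall (Subgroup.zpowers (tri A B)) (by rw [Nat.card_zpowers, h3]; decide)).2 _ (Subgroup.mem_zpowers _)
    rw [show 2 - 1 = 1 from rfl, pow_one] at h1
    exact tri_ne ha h1
  · have h2 : IsPGroup 2 (Subgroup.zpowers (rot A B) ⊔ Subgroup.zpowers (sw A B) : Subgroup (MulAut ((A × A) × B))) := by
      haveI : Fact (Nat.Prime 2) := ⟨Nat.prime_two⟩
      apply IsPGroup.to_sup_of_normal_left'
      · rw [IsPGroup]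
        rintro ⟨x, k, rfl⟩
        refine ⟨2, Subtype.ext ?_⟩
        show ((rot A B) ^ k) ^ 2 ^ 2 = 1
        rw [← zpow_natCast, ← zpow_mul, mul_comm, zpow_mul, zpow_natCast]
        show (rot A B ^ 4) ^ k = 1
        rw [rot_four, one_zpow]
      · rw [IsPGroup]
        rintro ⟨x, k, rfl⟩
        refine ⟨1, Subtype.ext ?_⟩
        show ((sw A B) ^ k) ^ 2 ^ 1 = 1
        rw [← zpow_natCast, ← zpow_mul, mul_comm, zpow_mul, zpow_natCast]
        show (sw A B ^ 2) ^ k = 1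
        rw [sw_sq, one_zpow]
      · rw [Subgroup.zpowers_le, Subgroup.mem_normalizer_iff]
        intro h
        constructor
        · rintro ⟨k, rfl⟩
          show sw A B * rot A B ^ k * (sw A B)⁻¹ ∈ _
          rw [← conj_zpow, sw_rot, inv_zpow]
          exact inv_mem (Subgroup.zpow_mem_zpowers _ _)
        · rintro ⟨k, hk⟩
          have h1 : rot A B ^ k = sw A B * h * (sw A B)⁻¹ := hk
          have h3 : (sw A B)⁻¹ * rot A B * ((sw A B)⁻¹)⁻¹ = (rot A B)⁻¹ := by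
            have h4 := (sw_rot (A := A) (B := B))
            have h5 : rot A B = (sw A B)⁻¹ * (rot A B)⁻¹ * sw A B := by rw [← h4]; group
            rw [inv_inv]
            calc (sw A B)⁻¹ * rot A B * sw A B = ((sw A B)⁻¹ * (rot A B)⁻¹ * sw A B)⁻¹ := by group
              _ = (rot A B)⁻¹ := by rw [← h5]
          have h4 : h = (sw A B)⁻¹ * rot A B ^ k * ((sw A B)⁻¹)⁻¹ := by rw [h1]; group
          rw [h4, ← conj_zpow, h3, inv_zpow]
          exact inv_mem (Subgroup.zpow_mem_zpowers _ _)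
    obtain ⟨k, hk⟩ := h2.exists_card_eq
    have h3 := (hall _ (by
      rw [hk]
      exact Nat.Coprime.pow_left k ((Nat.coprime_primes Nat.prime_two hp.out).2 (Ne.symm hp2)))).1
    have h4 := h3.is_comm.comm ⟨rot A B, Subgroup.mem_sup_left (Subgroup.mem_zpowers _)⟩
      ⟨sw A B, Subgroup.mem_sup_right (Subgroup.mem_zpowers _)⟩
    refine rot_sw_ne (A := A) (B := B) (a := a) ?_ (congrArg Subtype.val h4)
    intro h5
    obtain ⟨k, hk⟩ := hap
    have h6 := Nat.dvd_gcd (orderOf_dvd_of_pow_eq_one h5) (orderOf_dvd_of_pow_eq_one hk)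
    have h7 : Nat.gcd 2 (p ^ k) = 1 := Nat.Coprime.pow_right k ((Nat.coprime_primes Nat.prime_two hp.out).2 (Ne.symm hp2))
    rw [h7, Nat.dvd_one, orderOf_eq_one_iff] at h6
    exact ha h6

end Homo

/-- transport of the condition on `p'`-subgroups of the automorphism group -/
theorem transport {G K : Type*} [Group G] [Group K] (e : G ≃* K) {p : ℕ}
    (h : ∀ H : Subgroup (MulAut G), (Nat.card H).Coprime p → IsMulCommutative ↥H ∧ ∀ h ∈ H, h ^ (p - 1) = 1) :
    ∀ H : Subgroup (MulAut K), (Nat.card H).Coprime p → IsMulCommutative ↥H ∧ ∀ h ∈ H, h ^ (p - 1) = 1 := by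
  intro H hH
  let f : MulAut K ≃* MulAut G := MulAut.congr e.symm
  obtain ⟨h1, h2⟩ := h (H.map f.toMonoidHom) (by
    rwa [← Nat.card_congr (Subgroup.equivMapOfInjective H f.toMonoidHom f.injective).toEquiv])
  refine ⟨⟨⟨fun a b => Subtype.ext (f.injective ?_)⟩⟩, fun a ha => f.injective ?_⟩
  · have h3 := h1.is_comm.comm ⟨f a, ⟨a, a.2, rfl⟩⟩ ⟨f b, ⟨b, b.2, rfl⟩⟩
    have h4 : f a * f b = f b * f a := congrArg Subtype.val h3
    show f (a * b) = f (b * a)
    rw [map_mul, map_mul, h4]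
  · rw [map_pow, map_one]
    exact h2 _ ⟨a, ha, rfl⟩


/-- Let S be a finite abelian p-group. Every saturated fusion system over S is supersoluble (S has a chain of F-strongly closed subgroups from 1 to S with cyclic steps) if and only if the invariants of S are pairwise distinct, that is, S is not isomorphic to a direct product (Z/p^n × Z/p^n) × H with n ≥ 1. -/
theorem result {Ω : Type*} [Group Ω] {S : Subgroup Ω} [Finite S] (p : ℕ) [Fact p.Prime] (hS : IsPGroup p ↥S) (hab : IsMulCommutative ↥S) : (∀ F : Cfsg.FusionSystem S, F.IsSaturated p → (∃ (m : ℕ) (c : Fin (m + 1) → Subgroup Ω), c 0 = ⊥ ∧ c (Fin.last m) = S ∧ (∀ i : Fin (m + 1), F.StronglyClosed (c i)) ∧ ∀ i : Fin m, c i.castSucc ≤ c i.succ ∧ ∃ x ∈ S, c i.succ = c i.castSucc ⊔ Subgroup.zpowers x)) ↔ ¬ ∃ (n : ℕ) (H : Type) (_ : CommGroup H), 0 < n ∧ Nonempty (↥S ≃* (Multiplicative (ZMod (p ^ n)) × Multiplicative (ZMod (p ^ n))) × H) := by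

  have hab' : ∀ x ∈ S, ∀ y ∈ S, x * y = y * x := fun x hx y hy =>
    congrArg Subtype.val (hab.is_comm.comm (⟨x, hx⟩ : S) ⟨y, hy⟩)
  haveI : Finite (MulAut S) := finite_mulAut (P := S)
  constructor
  · rintro hall ⟨n, H, _, hn, ⟨e⟩⟩
    have h1 := ((S5283.result p hS).1 hall).2
    have hp : p.Prime := Fact.out
    haveI : NeZero (p ^ n) := ⟨(pow_pos hp.pos n).ne'⟩
    haveI : Finite (Multiplicative (ZMod (p ^ n))) := inferInstanceAs (Finite (ZMod (p ^ n)))
    haveI : Finite H := Finite.of_injective (fun h : H => e.symm ((1, 1), h)) (fun a b h =>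
      congrArg Prod.snd (e.symm.injective h))
    have hone : (1 : ZMod (p ^ n)) ≠ 0 := by
      haveI : Fact (1 < p ^ n) := ⟨Nat.one_lt_pow hn.ne' hp.one_lt⟩
      exact one_ne_zero
    refine exists_bad (A := Multiplicative (ZMod (p ^ n))) (B := H) (p := p) (a := Multiplicative.ofAdd 1) ?_ ⟨n, ?_⟩ (transport e h1)
    · intro h
      exact hone (congrArg Multiplicative.toAdd h)
    · apply Multiplicative.toAdd.injective
      show p ^ n • (1 : ZMod (p ^ n)) = 0
      rw [nsmul_eq_mul, mul_one, ZMod.natCast_self]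
  · intro hd F hF
    obtain ⟨H, hHle, hHc, hA⟩ := exists_compl hS hF
    obtain ⟨h1, h2⟩ := auts_of_distinct hS hab' hd H hHc
    exact superSol_of_aut hS (isNormal_self_of_abelian hS hF hab') H h1 h2 hA.le

end Cfsg.Agent.S5284
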