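import Cfsg.Statements.S5292
import Cfsg.Agent.Fus.PSolvModel

set_option autoImplicit false
universe u
open Cfsg Cfsg.Agent.Fus

namespace Cfsg.Agent.S5292

/-- Let F be a saturated fusion system over a finite p-group S. Then F is the fusion system of some finite p-solvable group on a Sylow p-subgroup if and only if F is constrained (some subgroup normal in F is centric in F) and the group of automorphisms that F induces on its largest normal subgroup O_p(F) is p-solvable. -/
theorem result {Ω : Type u} [Group Ω] {S : Subgroup Ω} [Finite S] (p : ℕ) [Fact p.Prime] (hS : IsPGroup p S)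
    (F : Cfsg.FusionSystem S) (hF : F.IsSaturated p) :
    (∃ (G : Type u) (_ : Group G) (_ : Finite G) (ι : S →* G), Cfsg.IsPSolvable p G ∧ F.IsRealizedBy ι ∧
        ∃ T : Sylow p G, (T : Subgroup G) = ι.range) ↔
      (F.IsConstrained p ∧ Cfsg.IsPSolvable p ↥(F.autGroup F.core)) := by
  constructor
  · rintro ⟨G, hG, hfin, ι, hG1, hr, T, hT⟩
    have hcop : (Nat.card (pPrimeCore p G)).Coprime p := Cfsg.Agent.Solv.pPrimeCore_card_coprime p
    obtain ⟨hr', T', hT'⟩ := Cfsg.Agent.Fus.realizedBy_quot p ι hr T hT (pPrimeCore p G) hcop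
    have h1 : IsPSolvable p (G ⧸ pPrimeCore p G) := Cfsg.Agent.H76.isPSolvable_quotient _ hG1
    have h2 := Cfsg.Agent.H76.centralizer_pCore_le h1 (Cfsg.Agent.Solv.pPrimeCore_quotient_pPrimeCore p)
    have hM : F.IsModel p (G ⧸ pPrimeCore p G) ((QuotientGroup.mk' (pPrimeCore p G)).comp ι) :=
      ⟨inferInstance, hr', ⟨T', hT'⟩, h2⟩
    refine ⟨⟨hF, _, Cfsg.Agent.Fus.coreOf_normal hM, Cfsg.Agent.Fus.coreOf_centric hM⟩, ?_⟩
    exact (Cfsg.Agent.Fus.model_isPSolvable_iff hS hM).1 h1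
  · rintro ⟨hc, h⟩
    obtain ⟨G, hG, ι, hM⟩ := Cfsg.Agent.Fus.exists_model hS hc
    exact ⟨G, hG, hM.1, ι, (Cfsg.Agent.Fus.model_isPSolvable_iff hS hM).2 h, hM.2.1, hM.2.2.1⟩

end Cfsg.Agent.S5292
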