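import Cfsg.Statements.S5295
import Cfsg.Agent.S5193
import Cfsg.Agent.S5294
import Cfsg.Agent.S5098
import Cfsg.Agent.S5096
import Cfsg.Agent.Fus.ModelNorm
import Cfsg.Agent.ZJ.NPCThm

set_option autoImplicit false
universe u
open Cfsg

namespace Cfsg.Agent.S5295

/-- Let F be a saturated fusion system over a finite p-group S with p odd. Then the centre Z(F) of F is a direct factor of Z(S): there is a subgroup K of Z(S) with Z(F) ∩ K = 1 and Z(F)K = Z(S). (At the prime 2 this can fail.) -/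
theorem result {Ω : Type u} [Group Ω] {S : Subgroup Ω} [Finite S] (p : ℕ) [Fact p.Prime] (hp : p ≠ 2) (hS : IsPGroup p S)
    (F : Cfsg.FusionSystem S) (hF : F.IsSaturated p) :
    ∃ K : Subgroup Ω, K ≤ (S ⊓ Subgroup.centralizer (S : Set Ω)) ∧ F.center ⊓ K = ⊥ ∧ F.center ⊔ K = (S ⊓ Subgroup.centralizer (S : Set Ω)) := by
  have hJS : Cfsg.thompsonSubgroupAOf S ≤ S := Subgroup.map_subtype_le _
  have hnorm : S ≤ Subgroup.normalizer (Cfsg.thompsonSubgroupAOf S : Set Ω) :=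
    Subgroup.le_normalizer.trans
      (Cfsg.Agent.ZJ.normalizer_le_normalizer_rel Cfsg.Agent.ZJ.isNat_thompsonA S)
  have hNS : Cfsg.FusionSystem.normalizerIn S (Cfsg.thompsonSubgroupAOf S) = S := inf_eq_left.2 hnorm
  obtain ⟨N, hN⟩ := Cfsg.Agent.S5096.result F (Cfsg.thompsonSubgroupAOf S) hJS
  have hfn : F.IsFullyNormalized (Cfsg.thompsonSubgroupAOf S) := by
    refine ⟨hJS, fun Q _ => ?_⟩
    rw [hNS]
    exact Nat.card_le_card_of_injective _ (Subgroup.inclusion_injective (inf_le_left : Cfsg.FusionSystem.normalizerIn S Q ≤ S))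
  have hNsat := Cfsg.Agent.S5098.result p hS F hF _ hfn N hN
  have hcen : N.center = F.center := (Cfsg.Agent.S5193.result p hS F hF N hN).2 (Or.inl hp)
  have hJn : N.IsNormal (Cfsg.thompsonSubgroupAOf S) := Cfsg.Agent.Fus.isNormal_normSys hJS hN
  have hZJ : S ⊓ Subgroup.centralizer (S : Set Ω) ≤ Cfsg.thompsonSubgroupAOf S := by
    rintro z ⟨hzS, hzc⟩
    refine ⟨⟨z, hzS⟩, ?_, rfl⟩
    obtain ⟨A, hA⟩ := Cfsg.Agent.ZJ.maxAbelian_nonempty S
    refine (le_sSup hA) (Cfsg.Agent.ZJ.center_le_maxIn_comm ?_ hA)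
    rw [Subgroup.mem_center_iff]
    intro g
    exact Subtype.ext (Subgroup.mem_centralizer_iff.1 hzc g g.2)
  have hfin : Finite (Cfsg.FusionSystem.normalizerIn S (Cfsg.thompsonSubgroupAOf S)) := by
    rw [hNS]; infer_instance
  have hSp : IsPGroup p (Cfsg.FusionSystem.normalizerIn S (Cfsg.thompsonSubgroupAOf S)) := by
    rw [hNS]; exact hS
  have hle : Cfsg.FusionSystem.normalizerIn S (Cfsg.thompsonSubgroupAOf S) ⊓
      Subgroup.centralizer (Cfsg.FusionSystem.normalizerIn S (Cfsg.thompsonSubgroupAOf S) : Set Ω) ≤ N.core := by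
    refine le_trans (le_of_eq ?_) (hZJ.trans (le_sSup hJn))
    rw [hNS]
  obtain ⟨K, hK1, hK2, hK3⟩ := Cfsg.Agent.S5294.result p hSp N hNsat hle
  rw [hcen] at hK2 hK3
  rw [hNS] at hK1 hK3
  exact ⟨K, hK1, hK2, hK3⟩

end Cfsg.Agent.S5295
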