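import Cfsg.Statements.S5299
import Cfsg.Agent.H46.Involves
import Mathlib

set_option autoImplicit false
universe u
open Cfsg

namespace Cfsg.Agent.S5299

open Cfsg.Agent.H46

/-- Let F be a saturated fusion system over a finite p-group S, H a finite group and Q a p-subgroup of H. If Q is not involved in S (no section of S is isomorphic to Q), then F is H-free: H is involved in no model of the normalizer system of a fully normalized centric subgroup. -/
theorem result {Ω : Type u} [Group Ω] {S : Subgroup Ω} [Finite S] (p : ℕ) [Fact p.Prime] (hS : IsPGroup p S)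
    (F : Cfsg.FusionSystem S) (hF : F.IsSaturated p) (H : Type*) [Group H] [Finite H] (Q : Subgroup H) (hQ : IsPGroup p Q)
    (hfree : ¬ Cfsg.Involves (↥Q) (↥S)) : F.IsSectionFree p H := by
  intro R hR1 hR2 N hN L _ ι hmod hinv
  obtain ⟨hfin, ⟨hinj, -⟩, ⟨T, hT⟩, -⟩ := hmod
  have h1 : Involves (↥Q) L :=
    involves_trans (involves_of_subgroup (G := H) (K := Q) (involves_refl Q)) hinv
  rw [involves_iff] at h1
  obtain ⟨K, f, hf⟩ := h1
  obtain ⟨P⟩ : Nonempty (Sylow p K) := inferInstance
  have hP : ((P.mapSurjective hf : Sylow p Q) : Subgroup Q) = ⊤ :=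
    ((P.mapSurjective hf : Sylow p Q).is_maximal' (Q := ⊤) (hQ.to_subgroup ⊤) le_top).symm
  rw [Sylow.coe_mapSurjective] at hP
  have h2 : Involves (↥Q) (P : Subgroup K) := by
    refine involves_of_surjective (f.comp (P : Subgroup K).subtype) ?_
    intro q
    have hq : q ∈ (P : Subgroup K).map f := by rw [hP]; trivial
    obtain ⟨x, hx, rfl⟩ := hq
    exact ⟨⟨x, hx⟩, rfl⟩
  have hPL : IsPGroup p ((P : Subgroup K).map K.subtype) := P.isPGroup'.map _
  obtain ⟨P', hP'⟩ := hPL.exists_le_sylow
  have h3 : Involves (↥Q) (P' : Subgroup L) := by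
    refine involves_of_injective h2
      ((Subgroup.inclusion hP').comp
        ((P : Subgroup K).equivMapOfInjective K.subtype K.subtype_injective).toMonoidHom) ?_
    exact (Subgroup.inclusion_injective hP').comp (MulEquiv.injective _)
  have h4 : Involves (↥Q) (T : Subgroup L) :=
    involves_of_injective h3 (P'.equiv T).toMonoidHom (MulEquiv.injective _)
  rw [hT] at h4
  have h5 : Involves (↥Q) (Cfsg.FusionSystem.normalizerIn S R) :=
    involves_of_injective h4 (MonoidHom.ofInjective hinj).symm.toMonoidHom (MulEquiv.injective _)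
  have hle : Cfsg.FusionSystem.normalizerIn S R ≤ S := inf_le_left
  exact hfree (involves_of_injective h5 (Subgroup.inclusion hle) (Subgroup.inclusion_injective hle))

end Cfsg.Agent.S5299
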