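import Cfsg.Statements.S5316
import Cfsg.Agent.H80.TV8
import Cfsg.Agent.Fus.SL2Aut
import Cfsg.Agent.Fus.SmallEss

set_option autoImplicit false
open Cfsg

namespace Cfsg.Agent.S5316

/-- Let p ≥ 5 be a prime, S a finite p-group of maximal class of order p^n with n ≥ 5 (nilpotency class n − 1), F a saturated fusion system over S, and E an F-essential subgroup that is not a pearl (not elementary abelian of order p² and not extraspecial of order p³ and exponent p). Then E has order at least p⁴. -/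
theorem result {Ω : Type*} [Group Ω] {S : Subgroup Ω} [Finite S] (p : ℕ) [Fact p.Prime] (hp : 5 ≤ p) (hS : IsPGroup p ↥S) (n : ℕ) (hn : Nat.card S = p ^ n) (h5 : 5 ≤ n)
    (hmax : Subgroup.lowerCentralSeries S (n - 2) ≠ ⊥) (F : Cfsg.FusionSystem S) (hF : F.IsSaturated p)
    (E : Subgroup Ω) (hE : F.IsEssential p E)
    (hnp : ¬ ((Nat.card ↥E = p ^ 2 ∧ Cfsg.IsElementaryAbelian p E) ∨ (Nat.card ↥E = p ^ 3 ∧ Cfsg.IsExtraspecial p ↥E ∧ Monoid.exponent ↥E = p))) :
    p ^ 4 ≤ Nat.card ↥E := by
  have hpp : p.Prime := Fact.out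
  have hES := hE.1.1
  have hfE : Finite E := Cfsg.Agent.Fus.finite_of_le hES
  have hEp : IsPGroup p E := hS.to_le hES
  have hSE := Cfsg.Agent.Fus.seOut_of_essential hE
  have hmx : Cfsg.Agent.H72.MC.Max S p n := by
    refine ⟨hn, fun h => hmax ?_⟩
    have h1 := Subgroup.map_lowerCentralSeries (S := (⊤ : Subgroup S)) S.subtype (n - 2)
    have h2 : (⊤ : Subgroup S).lowerCentralSeries (n - 2) = ⊥ := h
    rw [h2, Subgroup.map_bot, ← MonoidHom.range_eq_map, Subgroup.range_subtype] at h1
    exact h1.symm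
  by_contra hcon
  obtain ⟨k, hk⟩ := IsPGroup.iff_card.mp hEp
  have hk3 : k ≤ 3 := by
    by_contra hk4
    apply hcon
    rw [hk]
    exact Nat.pow_le_pow_right hpp.pos (by omega)
  have hnc := hSE.not_isCyclic
  have hk3' : k = 2 ∨ k = 3 := by
    rcases Nat.lt_or_ge k 2 with h1 | h1
    · exfalso
      apply hnc
      interval_cases k
      · have : Subsingleton E := (Nat.card_eq_one_iff_unique.1 (by rw [hk, pow_zero])).1
        exact isCyclic_of_subsingleton
      · exact isCyclic_of_prime_card (p := p) (by rw [hk, pow_one])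
    · omega
  rcases hk3' with rfl | rfl
  · apply hnp
    left
    have hcomm := IsPGroup.isMulCommutative_of_card_eq_prime_sq hk
    refine ⟨hk, hcomm, fun a ha => ?_⟩
    have h1 := (not_isCyclic_iff_exponent_eq_prime hpp hk).1 hnc
    have h2 := Monoid.pow_exponent_eq_one (⟨a, ha⟩ : E)
    rw [h1] at h2
    exact congrArg Subtype.val h2
  · rcases Cfsg.Agent.FusSE.SEOut.order_cube hEp hSE hk with ⟨hc, -⟩ | ⟨-, hx, hexp⟩ | ⟨h2, -⟩
    · exact Cfsg.Agent.H80.TV.no_ess hp hS hmx h5 hF hE hk
        (fun a ha b hb => congrArg Subtype.val (hc.is_comm.comm (⟨a, ha⟩ : E) ⟨b, hb⟩))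
    · apply hnp
      right
      refine ⟨hk, hx, ?_⟩
      have hnt : Nontrivial E := by
        rw [← Finite.one_lt_card_iff_nontrivial, hk]
        exact Nat.one_lt_pow (by norm_num) hpp.one_lt
      exact (Monoid.exponent_eq_prime_iff hpp).2 fun g hg => orderOf_eq_prime (hexp g) hg
    · omega

end Cfsg.Agent.S5316
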