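import Cfsg.Statements.S5522
import Cfsg.Agent.M24X.M11cent

set_option autoImplicit false
open Cfsg

namespace Cfsg.Agent.S5522

open MulAction Cfsg.Agent.Golay Cfsg.Agent.Golay.Orb Cfsg.Agent.M24X
open scoped Pointwise

theorem sq_mem : Cfsg.Spor.squareDodecad ∈ dodecads := by
  constructor
  · exact ⟨qrWord 0, Submodule.subset_span (Or.inl ⟨0, rfl⟩), rfl⟩
  · decide

/-- fixed points outside for orders prime to 12 -/
theorem fix_of_mod {d : Finset Cfsg.GolayPt} (hd : d ∈ dodecads) {g : Cfsg.M24} (hg : g • d = d) {r : ℕ} (hr : r.Prime)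
    (h : g ^ r = 1) (hmod : ¬ 12 ≡ 0 [MOD r]) : ∃ x ∉ d, g • x = x := by
  have hst : ∀ g ∈ stabilizer Cfsg.M24 dᶜ, g • dᶜ = dᶜ := fun g hg => hg
  have hgc : g • dᶜ = dᶜ := by
    change (g : Equiv.Perm Cfsg.GolayPt) • dᶜ = dᶜ
    rw [smul_compl]; congr 1
  let σ : Equiv.Perm ↥dᶜ := resH (stabilizer Cfsg.M24 dᶜ) dᶜ hst ⟨g, hgc⟩
  have hσ : σ ^ r ^ 1 = 1 := by
    change (resH (stabilizer Cfsg.M24 dᶜ) dᶜ hst ⟨g, hgc⟩) ^ r ^ 1 = 1
    rw [pow_one, ← map_pow]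
    have : (⟨g, hgc⟩ : stabilizer Cfsg.M24 dᶜ) ^ r = 1 := Subtype.ext h
    rw [this, map_one]
  have : Fact r.Prime := ⟨hr⟩
  have h1 := Equiv.Perm.card_compl_support_modEq hσ
  rw [Fintype.card_coe, card_dodecad (M24X.compl_dodecad hd)] at h1
  have h2 : σ.supportᶜ.Nonempty := by
    rw [Finset.nonempty_iff_ne_empty]
    intro h3
    rw [h3, Finset.card_empty] at h1
    exact hmod h1.symm
  obtain ⟨x, hx⟩ := h2
  rw [Finset.mem_compl, Equiv.Perm.mem_support, not_not] at hx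
  exact ⟨x, Finset.mem_compl.1 x.2, congrArg Subtype.val hx⟩

theorem t0_out : ∃ y : Cfsg.GolayPt, y ∉ d0 ∧ papp t0T (idx y) = idx y := by decide +kernel

theorem n9_out : ∀ n ∈ m9N, ∃ y : Cfsg.GolayPt, y ∉ d0 ∧ papp n (idx y) = idx y := by decide +kernel

theorem fix_transport {d : Finset Cfsg.GolayPt} {g s : Cfsg.M24} (hs : s • d = d0)
    (h : ∃ y ∉ d0, (s * g * s⁻¹) • y = y) : ∃ x ∉ d, g • x = x := by
  obtain ⟨y, hy, h1⟩ := h
  refine ⟨s⁻¹ • y, fun hx => hy ?_, ?_⟩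
  · rw [← hs, ← Finset.smul_mem_smul_finset_iff s⁻¹, inv_smul_smul]; exact hx
  · rw [mul_smul, mul_smul] at h1
    rw [← smul_left_cancel_iff s, h1, smul_inv_smul]

theorem fix_two {d : Finset Cfsg.GolayPt} (hd : d ∈ dodecads) {p : Cfsg.GolayPt} (hp : p ∈ d) {x : Cfsg.M24}
    (hx : x ∈ H1 d p) (h2 : x * x = 1) (hne : x ≠ 1) : ∃ y ∉ d, x • y = y := by
  obtain ⟨a, b, c, ⟨e1, e2, e3⟩, hne', f1, f2, f3⟩ := invol_fix hd hx.1 h2 hp hx.2
  obtain ⟨ρ, hρ, h1⟩ := M24_dodecad_transitive hd d0_mem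
  have h1' : (⟨ρ, hρ⟩ : Cfsg.M24) • d = d0 := h1
  have hm : ∀ {y}, y ∈ d → (⟨ρ, hρ⟩ : Cfsg.M24) • y ∈ d0 := fun {y} hy => by
    rw [← h1']; exact Finset.smul_mem_smul_finset hy
  have hcan : ∀ {y z : Cfsg.GolayPt}, y ≠ z → (⟨ρ, hρ⟩ : Cfsg.M24) • y ≠ (⟨ρ, hρ⟩ : Cfsg.M24) • z :=
    fun h h' => h (smul_left_cancel _ h')
  obtain ⟨g, hg, k1, k2, k3, k4⟩ := dod_map4 d0_mem ⟨hm hp, hm e1, hm e2, hm e3⟩
    ⟨hcan hne'.1, hcan hne'.2.1, hcan hne'.2.2.1, hcan hne'.2.2.2.1, hcan hne'.2.2.2.2.1, hcan hne'.2.2.2.2.2⟩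
    (p' := pt 0) (a' := pt 1) (b' := pt 2) (c' := pt 3) (by decide) (by decide)
  have s1 : (g * ⟨ρ, hρ⟩ : Cfsg.M24) • d = d0 := by rw [mul_smul, h1']; exact hg
  have s2 : (g * ⟨ρ, hρ⟩ : Cfsg.M24) • p = pt 0 := by rw [mul_smul, k1]
  have s3 : (g * ⟨ρ, hρ⟩ : Cfsg.M24) • a = pt 1 := by rw [mul_smul, k2]
  have s4 : (g * ⟨ρ, hρ⟩ : Cfsg.M24) • b = pt 2 := by rw [mul_smul, k3]
  have s5 : (g * ⟨ρ, hρ⟩ : Cfsg.M24) • c = pt 3 := by rw [mul_smul, k4]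
  generalize (g * ⟨ρ, hρ⟩ : Cfsg.M24) = s at s1 s2 s3 s4 s5
  have hmem : s * x * s⁻¹ ∈ H4 := by
    refine ⟨⟨⟨⟨?_, ?_⟩, ?_⟩, ?_⟩, ?_⟩
    · exact (conj_mem_stab s _ s1).1 hx.1
    · exact (conj_mem_stab s _ s2).1 hx.2
    · exact (conj_mem_stab s _ s3).1 f1
    · exact (conj_mem_stab s _ s4).1 f2
    · exact (conj_mem_stab s _ s5).1 f3
  have hT := H4_invol hmem (by
    have : s * x * s⁻¹ * (s * x * s⁻¹) = s * (x * x) * s⁻¹ := by group
    rw [this, h2]; group) (by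
    intro h
    apply hne
    have : x = s⁻¹ * (s * x * s⁻¹) * s := by group
    rw [this, h]; group)
  apply fix_transport s1
  obtain ⟨y, hy, h3⟩ := t0_out
  refine ⟨y, hy, ?_⟩
  apply idx_injective
  rw [← h3]
  exact hT y

theorem fix_three {d : Finset Cfsg.GolayPt} (hd : d ∈ dodecads) {p : Cfsg.GolayPt} (hp : p ∈ d) {x : Cfsg.M24}
    (hx : x ∈ H1 d p) (h3 : x ^ 3 = 1) : ∃ y ∉ d, x • y = y := by
  -- two more fixed points in `d`
  have hst : ∀ g ∈ stabilizer Cfsg.M24 d, g • d = d := fun g hg => hg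
  let σ : Equiv.Perm ↥d := resH (stabilizer Cfsg.M24 d) d hst ⟨x, hx.1⟩
  have hσ : σ ^ 3 ^ 1 = 1 := by
    change (resH (stabilizer Cfsg.M24 d) d hst ⟨x, hx.1⟩) ^ 3 ^ 1 = 1
    rw [pow_one, ← map_pow]
    have : (⟨x, hx.1⟩ : stabilizer Cfsg.M24 d) ^ 3 = 1 := Subtype.ext h3
    rw [this, map_one]
  have : Fact (Nat.Prime 3) := ⟨by norm_num⟩
  have h1 := Equiv.Perm.card_compl_support_modEq hσ
  rw [Fintype.card_coe, card_dodecad hd] at h1
  have hpf : (⟨p, hp⟩ : ↥d) ∈ σ.supportᶜ := by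
    rw [Finset.mem_compl, Equiv.Perm.mem_support, not_not]
    exact Subtype.ext hx.2
  have h2 : 3 ≤ σ.supportᶜ.card := by
    have h4 := Finset.card_pos.2 ⟨_, hpf⟩
    have h5 : 3 ∣ σ.supportᶜ.card := (Nat.modEq_zero_iff_dvd).1 (h1.trans (by decide))
    exact Nat.le_of_dvd h4 h5
  have h3' : 2 ≤ (σ.supportᶜ.erase ⟨p, hp⟩).card := by rw [Finset.card_erase_of_mem hpf]; omega
  obtain ⟨a, b, ha, hb, hab⟩ := Finset.one_lt_card_iff.1 (show 1 < (σ.supportᶜ.erase ⟨p, hp⟩).card by omega)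
  rw [Finset.mem_erase, Finset.mem_compl, Equiv.Perm.mem_support, not_not] at ha hb
  have fa : x • (a : Cfsg.GolayPt) = a := congrArg Subtype.val ha.2
  have fb : x • (b : Cfsg.GolayPt) = b := congrArg Subtype.val hb.2
  obtain ⟨s, hs⟩ := dod_std3 hd hp a.2 b.2 (fun h => ha.1 (Subtype.ext h.symm)) (fun h => hb.1 (Subtype.ext h.symm))
    (fun h => hab (Subtype.ext h))
  have hmem : s * x * s⁻¹ ∈ H3 d0 (pt 0) (pt 1) (pt 2) :=
    ⟨⟨⟨(conj_mem_stab s x hs.1).1 hx.1, (conj_mem_stab s x hs.2.1).1 hx.2⟩, (conj_mem_stab s x hs.2.2.1).1 fa⟩,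
      (conj_mem_stab s x hs.2.2.2).1 fb⟩
  have h9 : (⟨s * x * s⁻¹, hmem⟩ : H3 d0 (pt 0) (pt 1) (pt 2)) ∈ N9 := by
    rw [mem_N9]
    apply Subtype.ext
    change (s * x * s⁻¹) ^ 3 = 1
    rw [conj_pow, h3]; group
  obtain ⟨n, hn, hT⟩ := h9
  apply fix_transport hs.1
  obtain ⟨y, hy, h4⟩ := n9_out n hn
  refine ⟨y, hy, ?_⟩
  apply idx_injective
  rw [← h4]
  exact hT y

theorem elusive {d : Finset Cfsg.GolayPt} (hd : d ∈ dodecads) {p : Cfsg.GolayPt} (hp : p ∈ d) {g : Cfsg.M24}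
    (hg : g ∈ H1 d p) (hord : (orderOf g).Prime) : ∃ y ∉ d, g • y = y := by
  have h1 : orderOf (⟨g, hg⟩ : H1 d p) ∣ Nat.card (H1 d p) := orderOf_dvd_natCard _
  rw [card_M11 hd hp, ← Subgroup.orderOf_coe] at h1
  have hpow : g ^ orderOf g = 1 := pow_orderOf_eq_one g
  have hne : g ≠ 1 := by
    rintro rfl
    rw [orderOf_one] at hord
    exact Nat.not_prime_one hord
  have h1' : orderOf g ∣ 7920 := h1
  clear h1
  generalize orderOf g = r at hord hpow h1'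
  have h2 : r ∣ 2 ^ 4 * (3 ^ 2 * (5 * 11)) := by norm_num; exact h1'
  have h3 : r = 2 ∨ r = 3 ∨ r = 5 ∨ r = 11 := by
    rcases (Nat.Prime.dvd_mul hord).1 h2 with h | h
    · left; exact (Nat.prime_dvd_prime_iff_eq hord (by norm_num)).1 (hord.dvd_of_dvd_pow h)
    · rcases (Nat.Prime.dvd_mul hord).1 h with h | h
      · right; left; exact (Nat.prime_dvd_prime_iff_eq hord (by norm_num)).1 (hord.dvd_of_dvd_pow h)
      · rcases (Nat.Prime.dvd_mul hord).1 h with h | h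
        · right; right; left; exact (Nat.prime_dvd_prime_iff_eq hord (by norm_num)).1 h
        · right; right; right; exact (Nat.prime_dvd_prime_iff_eq hord (by norm_num)).1 h
  rcases h3 with rfl | rfl | rfl | rfl
  · exact fix_two hd hp hg (by rw [← pow_two]; exact hpow) hne
  · exact fix_three hd hp hg hpow
  · exact fix_of_mod hd hg.1 (r := 5) (by norm_num) hpow (by decide)
  · exact fix_of_mod hd hg.1 (r := 11) (by norm_num) hpow (by decide)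



/-- The Mathieu group M₁₁, realised as the stabiliser of one point of the dodecad of squares inside the stabiliser M₁₂ of that dodecad in M₂₄, acts on the twelve coordinate positions outside the dodecad of squares (its 3-transitive action of degree 12); in this action every element of prime order fixes a point, i.e. the action is elusive. -/
theorem result (g : Equiv.Perm Cfsg.GolayPt) (hg : g ∈ Cfsg.Spor.M11) (hord : (orderOf g).Prime) :
    ∃ x : Cfsg.GolayPt, x ∉ Cfsg.Spor.squareDodecad ∧ g x = x := by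
  have hgM : g ∈ Cfsg.M24 := hg.1.1
  have hgd : (⟨g, hgM⟩ : Cfsg.M24) • Cfsg.Spor.squareDodecad = Cfsg.Spor.squareDodecad := hg.1.2
  have hgp : (⟨g, hgM⟩ : Cfsg.M24) • (some 0 : Cfsg.GolayPt) = some 0 := hg.2
  have h1 := elusive sq_mem (p := (some 0 : Cfsg.GolayPt)) (by decide) (g := ⟨g, hgM⟩) ⟨hgd, hgp⟩ (by
    rw [← Subgroup.orderOf_coe]; exact hord)
  obtain ⟨x, hx, h⟩ := h1
  exact ⟨x, hx, h⟩

end Cfsg.Agent.S5522
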