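import Cfsg.Statements.S5713
import Cfsg.Agent.S3681

set_option autoImplicit false
set_option linter.style.haveILetI false
open Cfsg

namespace Cfsg.Agent.S5713


section Uni

variable {G Ω : Type*} [Group G] [MulAction G Ω]

/-- `z` does not distinguish `x` and `y`. -/
def same (G : Type*) {Ω : Type*} [Group G] [MulAction G Ω] (z x y : Ω) : Prop :=
  ∃ g : G, g • z = z ∧ g • x = y

theorem same_smul (h : G) {z x y : Ω} (hs : same G z x y) : same G (h • z) (h • x) (h • y) := by
  obtain ⟨g, h1, h2⟩ := hs
  exact ⟨h * g * h⁻¹, by rw [mul_smul, mul_smul, inv_smul_smul, h1], by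
    rw [mul_smul, mul_smul, inv_smul_smul, h2]⟩

theorem same_smul_iff (h : G) {z x y : Ω} : same G (h • z) (h • x) (h • y) ↔ same G z x y := by
  refine ⟨fun hs => ?_, same_smul h⟩
  have := same_smul h⁻¹ hs
  simpa only [inv_smul_smul] using this

theorem same_symm {z x y : Ω} (hs : same G z x y) : same G z y x := by
  obtain ⟨g, h1, h2⟩ := hs
  exact ⟨g⁻¹, by rw [inv_smul_eq_iff, h1], by rw [inv_smul_eq_iff, h2]⟩

theorem same_trans {z x y w : Ω} (hs : same G z x y) (ht : same G z y w) : same G z x w := by
  obtain ⟨g, h1, h2⟩ := hs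
  obtain ⟨k, h3, h4⟩ := ht
  exact ⟨k * g, by rw [mul_smul, h1, h3], by rw [mul_smul, h2, h4]⟩

variable [Fintype Ω]

open Classical in
/-- number of points distinguishing `x` and `y` -/
noncomputable def dd (G : Type*) {Ω : Type*} [Group G] [MulAction G Ω] [Fintype Ω] (x y : Ω) : ℕ :=
  (Finset.univ.filter (fun z => ¬ same G z x y)).card

open Classical in
theorem dd_smul (h : G) (x y : Ω) : dd G (h • x) (h • y) = dd G x y := by
  unfold dd
  symm
  refine Finset.card_bij (fun z _ => h • z) ?_ ?_ ?_
  · intro z hz
    simp only [Finset.mem_filter, Finset.mem_univ, true_and] at hz ⊢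
    rwa [same_smul_iff]
  · intro a _ b _ hab
    exact MulAction.injective h hab
  · intro b hb
    simp only [Finset.mem_filter, Finset.mem_univ, true_and] at hb
    refine ⟨h⁻¹ • b, ?_, smul_inv_smul h b⟩
    simp only [Finset.mem_filter, Finset.mem_univ, true_and]
    rw [← same_smul_iff h, smul_inv_smul]
    exact hb

open Classical in
theorem dd_comm (x y : Ω) : dd G x y = dd G y x := by
  unfold dd
  congr 1
  ext z
  simp only [Finset.mem_filter, Finset.mem_univ, true_and]
  exact not_congr ⟨same_symm, same_symm⟩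

open Classical in
theorem dd_triangle (x w y : Ω) : dd G x y ≤ dd G x w + dd G w y := by
  unfold dd
  refine (Finset.card_le_card ?_).trans (Finset.card_union_le _ _)
  intro z
  simp only [Finset.mem_filter, Finset.mem_univ, true_and, Finset.mem_union]
  intro hz
  by_contra hcon
  push Not at hcon
  exact hz (same_trans hcon.1 hcon.2)

open Classical in
theorem dd_le_supp (g : G) (x : Ω) :
    dd G x (g • x) ≤ (Finset.univ.filter (fun z : Ω => g • z ≠ z)).card := by
  unfold dd
  apply Finset.card_le_card
  intro z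
  simp only [Finset.mem_filter, Finset.mem_univ, true_and]
  intro hz h
  exact hz ⟨g, h, rfl⟩

open Classical in
theorem dd_eq_sum (x y : Ω) : dd G x y = ∑ z : Ω, if same G z x y then 0 else 1 := by
  unfold dd
  rw [Finset.card_filter]
  refine Finset.sum_congr rfl fun z _ => ?_
  by_cases h : same G z x y <;> simp [h]

open scoped Pointwise in
/-- connectivity of invariant relations, from primitivity -/
theorem conn (hprim : MulAction.IsPreprimitive G Ω) (R : Ω → Ω → Prop)
    (hinv : ∀ (g : G) (u v : Ω), R u v → R (g • u) (g • v)) (hsymm : ∀ u v, R u v → R v u)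
    (x₀ y₀ : Ω) (hne : x₀ ≠ y₀) (h₀ : R x₀ y₀) (S : Set Ω) (hS : S.Nonempty) (hSu : S ≠ Set.univ) :
    ∃ u ∈ S, ∃ v, v ∉ S ∧ R u v := by
  by_contra hcon
  push Not at hcon
  obtain ⟨u, hu⟩ := hS
  let C : Ω → Set Ω := fun w => {v | Relation.ReflTransGen R w v}
  have hCS : C u ⊆ S := by
    intro v hv
    induction hv with
    | refl => exact hu
    | tail _ hbc ih =>
      by_contra hc
      exact hcon _ ih _ hc hbc
  have hCsm : ∀ (g : G) (w : Ω), g • C w = C (g • w) := by
    have h1 : ∀ (g : G) (w : Ω), g • C w ⊆ C (g • w) := by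
      rintro g w _ ⟨v, hv, rfl⟩
      change Relation.ReflTransGen R (g • w) (g • v)
      induction hv with
      | refl => exact Relation.ReflTransGen.refl
      | tail _ hbc ih => exact ih.tail (hinv g _ _ hbc)
    intro g w
    apply Set.Subset.antisymm (h1 g w)
    intro v hv
    have h2 := h1 g⁻¹ (g • w)
    rw [inv_smul_smul] at h2
    have h3 : g⁻¹ • v ∈ C w := h2 ⟨v, hv, rfl⟩
    exact ⟨g⁻¹ • v, h3, smul_inv_smul g v⟩
  have hCsymm : ∀ a b : Ω, b ∈ C a → C a = C b := by
    have hs : ∀ a b : Ω, Relation.ReflTransGen R a b → Relation.ReflTransGen R b a := by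
      intro a b h
      induction h with
      | refl => exact Relation.ReflTransGen.refl
      | tail _ hbc ih => exact Relation.ReflTransGen.head (hsymm _ _ hbc) ih
    intro a b hb
    ext v
    exact ⟨fun h => (hs a b hb).trans h, fun h => Relation.ReflTransGen.trans hb h⟩
  have hblock : MulAction.IsBlock G (C u) := by
    rw [MulAction.isBlock_iff_smul_eq_smul_of_nonempty]
    rintro g₁ g₂ ⟨w, hw1, hw2⟩
    rw [hCsm] at hw1 hw2 ⊢
    rw [hCsm, hCsymm _ _ hw1, hCsymm _ _ hw2]
  rcases hprim.isTrivialBlock_of_isBlock hblock with h | h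
  · obtain ⟨g, hg⟩ := hprim.exists_smul_eq x₀ u
    have h1 : R u (g • y₀) := by
      rw [← hg]
      exact hinv g _ _ h₀
    have h2 : u = g • y₀ := h (show u ∈ C u from Relation.ReflTransGen.refl)
      (show g • y₀ ∈ C u from Relation.ReflTransGen.single h1)
    apply hne
    apply MulAction.injective g
    change g • x₀ = g • y₀
    rw [hg]
    exact h2
  · apply hSu
    rw [Set.eq_univ_iff_forall]
    intro v
    apply hCS
    rw [h]
    exact Set.mem_univ v

open Classical in
/-- `n ≤ k δ` -/
theorem edge_count [Nontrivial Ω] (hprim : MulAction.IsPreprimitive G Ω) (R : Ω → Ω → Prop)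
    (hinv : ∀ (g : G) (u v : Ω), R u v → R (g • u) (g • v)) (hsymm : ∀ u v, R u v → R v u)
    (x₀ y₀ : Ω) (hne : x₀ ≠ y₀) (h₀ : R x₀ y₀) (k δ : ℕ)
    (hk : ∀ u, (Finset.univ.filter (fun v => R u v)).card ≤ k)
    (hδ : ∀ u v, R u v → dd G u v = δ) : Fintype.card Ω ≤ k * δ := by
  set n := Fintype.card Ω with hn
  have hnpos : 0 < n := Fintype.card_pos
  set P : Finset (Ω × Ω) := Finset.univ.filter (fun p => R p.1 p.2) with hP
  have hPc : P.card ≤ n * k := by
    have : P.card = ∑ u : Ω, (Finset.univ.filter (fun v => R u v)).card := by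
      rw [hP, Finset.card_filter, ← Finset.univ_product_univ, Finset.sum_product]
      refine Finset.sum_congr rfl fun u _ => ?_
      rw [Finset.card_filter]
    rw [this]
    calc ∑ u : Ω, (Finset.univ.filter (fun v => R u v)).card ≤ ∑ u : Ω, k :=
          Finset.sum_le_sum fun u _ => hk u
      _ = n * k := by simp [hn]
  have h1 : ∑ p ∈ P, dd G p.1 p.2 = P.card * δ := by
    rw [Finset.sum_congr rfl (fun p hp => hδ p.1 p.2 (Finset.mem_filter.1 hp).2)]
    rw [Finset.sum_const, smul_eq_mul]
  have h2 : n * n ≤ ∑ p ∈ P, dd G p.1 p.2 := by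
    have e1 : ∑ p ∈ P, dd G p.1 p.2 = ∑ z : Ω, ∑ p ∈ P, if same G z p.1 p.2 then 0 else 1 := by
      rw [Finset.sum_comm]
      exact Finset.sum_congr rfl fun p _ => dd_eq_sum _ _
    rw [e1]
    have e2 : n * n = ∑ z : Ω, n := by simp [hn]
    rw [e2]
    refine Finset.sum_le_sum fun z _ => ?_
    have e3 : (∑ p ∈ P, if same G z p.1 p.2 then 0 else 1) =
        (P.filter (fun p => ¬ same G z p.1 p.2)).card := by
      rw [Finset.card_filter]
      refine Finset.sum_congr rfl fun p _ => ?_
      by_cases h : same G z p.1 p.2 <;> simp [h]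
    rw [e3]
    have hex : ∀ u : Ω, ∃ v : Ω, R u v ∧ ¬ same G z u v := by
      intro u
      have hO : {w : Ω | same G z u w} ≠ Set.univ := by
        intro huniv
        obtain ⟨w, hw⟩ := exists_ne z
        by_cases huz : u = z
        · subst huz
          have hw2 : w ∈ {w : Ω | same G u u w} := by rw [huniv]; exact Set.mem_univ w
          obtain ⟨g, hg1, hg2⟩ := hw2
          exact hw (hg2.symm.trans hg1)
        · have hw2 : z ∈ {w : Ω | same G z u w} := by rw [huniv]; exact Set.mem_univ z
          obtain ⟨g, hg1, hg2⟩ := hw2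
          exact huz (MulAction.injective g (hg2.trans hg1.symm))
      obtain ⟨u', hu', v', hv', hR⟩ := conn hprim R hinv hsymm x₀ y₀ hne h₀ {w : Ω | same G z u w}
        ⟨u, ⟨1, one_smul _ _, one_smul _ _⟩⟩ hO
      obtain ⟨g, hg1, hg2⟩ := hu'
      have hgz : g⁻¹ • z = z := by rw [inv_smul_eq_iff, hg1]
      refine ⟨g⁻¹ • v', ?_, ?_⟩
      · have := hinv g⁻¹ _ _ hR
        rwa [← hg2, inv_smul_smul] at this
      · intro hs
        apply hv'
        change same G z u v'
        refine same_trans hs ⟨g, hg1, smul_inv_smul g v'⟩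
    choose f hf1 hf2 using hex
    have : (Finset.univ : Finset Ω).card ≤ (P.filter (fun p => ¬ same G z p.1 p.2)).card := by
      refine Finset.card_le_card_of_injOn (fun u => (u, f u)) ?_ ?_
      · intro u _
        simp only [Finset.coe_filter, Set.mem_setOf_eq, hP, Finset.mem_filter, Finset.mem_univ, true_and]
        exact ⟨hf1 u, hf2 u⟩
      · intro a _ b _ hab
        exact congrArg Prod.fst hab
    rw [Finset.card_univ] at this
    exact this
  rw [h1] at h2
  have h3 : n * n ≤ n * (k * δ) := by
    calc n * n ≤ P.card * δ := h2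
      _ ≤ (n * k) * δ := Nat.mul_le_mul_right _ hPc
      _ = n * (k * δ) := by ring
  exact Nat.le_of_mul_le_mul_left h3 hnpos

/-- the relation generated by a pair -/
def rel (G : Type*) {Ω : Type*} [Group G] [MulAction G Ω] (x y : Ω) (u v : Ω) : Prop :=
  ∃ g : G, (g • x = u ∧ g • y = v) ∨ (g • x = v ∧ g • y = u)

theorem rel_inv (x y : Ω) (g : G) (u v : Ω) (h : rel G x y u v) : rel G x y (g • u) (g • v) := by
  obtain ⟨k, hk⟩ := h
  refine ⟨g * k, ?_⟩
  rcases hk with ⟨h1, h2⟩ | ⟨h1, h2⟩
  · exact Or.inl ⟨by rw [mul_smul, h1], by rw [mul_smul, h2]⟩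
  · exact Or.inr ⟨by rw [mul_smul, h1], by rw [mul_smul, h2]⟩

theorem rel_symm (x y : Ω) (u v : Ω) (h : rel G x y u v) : rel G x y v u := by
  obtain ⟨k, hk⟩ := h
  exact ⟨k, hk.symm⟩

theorem rel_dd (x y : Ω) (u v : Ω) (h : rel G x y u v) : dd G u v = dd G x y := by
  obtain ⟨k, ⟨rfl, rfl⟩ | ⟨rfl, rfl⟩⟩ := h
  · exact dd_smul k x y
  · rw [dd_comm, dd_smul]

open Classical in
theorem nbr_card (hprim : MulAction.IsPreprimitive G Ω) (x y : Ω) (u w : Ω) :
    (Finset.univ.filter (fun v => rel G x y u v)).card =
      (Finset.univ.filter (fun v => rel G x y w v)).card := by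
  obtain ⟨g, rfl⟩ := hprim.exists_smul_eq u w
  refine Finset.card_bij (fun v _ => g • v) ?_ ?_ ?_
  · intro v hv
    simp only [Finset.mem_filter, Finset.mem_univ, true_and] at hv ⊢
    exact rel_inv x y g _ _ hv
  · intro a _ b _ hab
    exact MulAction.injective g hab
  · intro b hb
    simp only [Finset.mem_filter, Finset.mem_univ, true_and] at hb
    refine ⟨g⁻¹ • b, ?_, smul_inv_smul g b⟩
    simp only [Finset.mem_filter, Finset.mem_univ, true_and]
    have := rel_inv x y g⁻¹ _ _ hb
    rwa [inv_smul_smul] at this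

open Classical in
theorem uni_bound [Nontrivial Ω] (hprim : MulAction.IsPreprimitive G Ω)
    (h2 : ∃ z u w : Ω, u ≠ z ∧ w ≠ z ∧ ¬ same G z u w) (x₀ y₀ : Ω) (hne : x₀ ≠ y₀) :
    Real.sqrt (Fintype.card Ω) - 1 ≤ 2 * (dd G x₀ y₀ : ℝ) := by
  set n := Fintype.card Ω with hn
  have hnpos : 0 < n := Fintype.card_pos
  set s := Real.sqrt (n : ℝ) with hs
  have hs0 : 0 ≤ s := Real.sqrt_nonneg _
  have hss : s * s = n := Real.mul_self_sqrt (Nat.cast_nonneg n)
  have hn1 : (1 : ℝ) ≤ n := by exact_mod_cast hnpos
  -- edge count for a pair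
  have hedge : ∀ x y : Ω, x ≠ y → ∀ u : Ω,
      (n : ℝ) ≤ ((Finset.univ.filter (fun v => rel G x y u v)).card : ℝ) * (dd G x y : ℝ) := by
    intro x y hxy u
    have := edge_count hprim (rel G x y) (rel_inv x y) (rel_symm x y) x y hxy
      ⟨1, Or.inl ⟨one_smul _ _, one_smul _ _⟩⟩
      (Finset.univ.filter (fun v => rel G x y u v)).card (dd G x y)
      (fun w => (nbr_card hprim x y w u).le) (rel_dd x y)
    exact_mod_cast this
  by_cases hbig : ∃ z u : Ω, (n : ℝ) - s + 1 < ((Finset.univ.filter (fun v => same G z u v)).card : ℝ)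
  · -- a big suborbit
    obtain ⟨z₀, u₀, hB⟩ := hbig
    set B := (Finset.univ.filter (fun v => same G z₀ u₀ v)).card with hBdef
    let E : Ω → Ω → Prop := fun z v => ∃ g : G, g • z₀ = z ∧ g • u₀ = v
    have hEinv : ∀ (g : G) (z v : Ω), E z v → E (g • z) (g • v) := by
      rintro g z v ⟨k, rfl, rfl⟩
      exact ⟨g * k, mul_smul _ _ _, mul_smul _ _ _⟩
    have hEcard : ∀ z : Ω, (Finset.univ.filter (fun v => E z v)).card = B := by
      intro z
      obtain ⟨g, rfl⟩ := hprim.exists_smul_eq z₀ z
      symm
      refine Finset.card_bij (fun v _ => g • v) ?_ ?_ ?_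
      · intro v hv
        simp only [Finset.mem_filter, Finset.mem_univ, true_and] at hv ⊢
        obtain ⟨k, hk1, rfl⟩ := hv
        exact ⟨g * k, by rw [mul_smul, hk1], mul_smul _ _ _⟩
      · intro a _ b _ hab
        exact MulAction.injective g hab
      · intro b hb
        simp only [Finset.mem_filter, Finset.mem_univ, true_and] at hb
        obtain ⟨k, hk1, hk2⟩ := hb
        refine ⟨g⁻¹ • b, ?_, smul_inv_smul g b⟩
        simp only [Finset.mem_filter, Finset.mem_univ, true_and]
        exact ⟨g⁻¹ * k, by rw [mul_smul, hk1, inv_smul_smul], by rw [mul_smul, hk2]⟩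
    have hEdd : ∀ u v, E u v → dd G u v = dd G z₀ u₀ := by
      rintro _ _ ⟨g, rfl, rfl⟩
      exact dd_smul g z₀ u₀
    have hEne : ∀ u v, E u v → u ≠ v := by
      have h0 : u₀ ≠ z₀ := by
        intro h
        have hc : B = 1 := by
          rw [hBdef, Finset.card_eq_one]
          refine ⟨z₀, ?_⟩
          ext v
          simp only [Finset.mem_filter, Finset.mem_univ, true_and, Finset.mem_singleton]
          rw [h]
          constructor
          · rintro ⟨g, hg1, hg2⟩
            exact hg2.symm.trans hg1
          · rintro rfl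
            exact ⟨1, one_smul _ _, one_smul _ _⟩
        rw [hc] at hB
        push_cast at hB
        nlinarith
      rintro _ _ ⟨g, rfl, rfl⟩ h
      exact h0 (MulAction.injective g h).symm
    have hEsymm : ∀ u v, E u v → E v u := by
      intro u v huv
      by_contra hvu
      have hdis : ∀ a b, E a b → ¬ E b a := by
        rintro a b ⟨g, rfl, rfl⟩ hba
        apply hvu
        obtain ⟨k, rfl, rfl⟩ := huv
        have := hEinv (k * g⁻¹) _ _ hba
        rw [mul_smul, mul_smul, inv_smul_smul, inv_smul_smul] at this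
        exact this
      -- pick any point, in-neighbours and out-neighbours
      have hPc : ((Finset.univ : Finset (Ω × Ω)).filter (fun p => E p.1 p.2)).card = n * B := by
        rw [Finset.card_filter, ← Finset.univ_product_univ, Finset.sum_product]
        have : ∀ a ∈ (Finset.univ : Finset Ω), (∑ b : Ω, if E a b then 1 else 0) = B := by
          intro a _
          rw [← hEcard a, Finset.card_filter]
        rw [Finset.sum_congr rfl this]
        simp [hn]
      have hQc : ((Finset.univ : Finset (Ω × Ω)).filter (fun p => E p.2 p.1)).card = n * B := by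
        rw [Finset.card_filter, ← Finset.univ_product_univ, Finset.sum_product_right]
        have : ∀ a ∈ (Finset.univ : Finset Ω), (∑ b : Ω, if E a b then 1 else 0) = B := by
          intro a _
          rw [← hEcard a, Finset.card_filter]
        rw [Finset.sum_congr rfl this]
        simp [hn]
      have hdisj : Disjoint ((Finset.univ : Finset (Ω × Ω)).filter (fun p => E p.1 p.2))
          ((Finset.univ : Finset (Ω × Ω)).filter (fun p => E p.2 p.1)) := by
        rw [Finset.disjoint_left]
        intro p hp hq
        simp only [Finset.mem_filter, Finset.mem_univ, true_and] at hp hq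
        exact hdis _ _ hp hq
      have hle := Finset.card_le_univ (((Finset.univ : Finset (Ω × Ω)).filter (fun p => E p.1 p.2)) ∪
          ((Finset.univ : Finset (Ω × Ω)).filter (fun p => E p.2 p.1)))
      rw [Finset.card_union_of_disjoint hdisj, hPc, hQc, Fintype.card_prod, ← hn] at hle
      have hle2 : 2 * B ≤ n := by
        have : n * (2 * B) ≤ n * n := by linarith
        exact Nat.le_of_mul_le_mul_left this hnpos
      have hle3 : 2 * (B : ℝ) ≤ n := by exact_mod_cast hle2
      nlinarith [sq_nonneg (s - 1)]
    have hclaim : ∀ x y : Ω, x ≠ y → ¬ E x y → s ≤ dd G x y := by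
      intro x y hxy hE
      have h3 := hedge x y hxy x
      have hk : (Finset.univ.filter (fun v => rel G x y x v)).card + B + 1 ≤ n := by
        have hd1 : Disjoint (Finset.univ.filter (fun v => rel G x y x v))
            (Finset.univ.filter (fun v => E x v)) := by
          rw [Finset.disjoint_left]
          intro v hv hv'
          simp only [Finset.mem_filter, Finset.mem_univ, true_and] at hv hv'
          obtain ⟨g, ⟨h4, h5⟩ | ⟨h4, h5⟩⟩ := hv
          · apply hE
            have := hEinv g⁻¹ _ _ hv'
            rw [← h5, inv_smul_smul] at this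
            rwa [inv_smul_eq_iff.2 h4.symm] at this
          · apply hE
            have := hEinv g⁻¹ _ _ hv'
            rw [← h4, inv_smul_smul] at this
            rw [inv_smul_eq_iff.2 h5.symm] at this
            exact hEsymm _ _ this
        have hd2 : x ∉ (Finset.univ.filter (fun v => rel G x y x v)) ∪
            (Finset.univ.filter (fun v => E x v)) := by
          simp only [Finset.mem_union, Finset.mem_filter, Finset.mem_univ, true_and, not_or]
          refine ⟨?_, fun h => hEne _ _ h rfl⟩
          rintro ⟨g, ⟨h4, h5⟩ | ⟨h4, h5⟩⟩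
          · exact hxy (MulAction.injective g (h4.trans h5.symm))
          · exact hxy (MulAction.injective g (h4.trans h5.symm))
        have h6 := Finset.card_le_univ (insert x ((Finset.univ.filter (fun v => rel G x y x v)) ∪
            (Finset.univ.filter (fun v => E x v))))
        rw [Finset.card_insert_of_notMem hd2, Finset.card_union_of_disjoint hd1, hEcard x] at h6
        exact h6
      have hk' : ((Finset.univ.filter (fun v => rel G x y x v)).card : ℝ) + B + 1 ≤ n := by
        exact_mod_cast hk
      set k : ℝ := ((Finset.univ.filter (fun v => rel G x y x v)).card : ℝ)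
      have hk0 : 0 ≤ k := Nat.cast_nonneg _
      by_contra hlt
      push Not at hlt
      have hd0 : (0 : ℝ) ≤ dd G x y := Nat.cast_nonneg _
      have hks : k < s := by linarith
      have : k * (dd G x y : ℝ) ≤ k * s := by nlinarith
      nlinarith
    by_cases hE0 : E x₀ y₀
    · -- find a pair not in E
      obtain ⟨x, y, hxy, hnE⟩ : ∃ x y : Ω, x ≠ y ∧ ¬ E x y := by
        obtain ⟨z, u, w, hu, hw, hnot⟩ := h2
        by_contra hcon
        push Not at hcon
        obtain ⟨g, hg1, hg2⟩ := hcon z u hu.symm
        obtain ⟨k, hk1, hk2⟩ := hcon z w hw.symm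
        apply hnot
        refine ⟨k * g⁻¹, ?_, ?_⟩
        · rw [mul_smul, ← hg1, inv_smul_smul, hk1, hg1]
        · rw [mul_smul, ← hg2, inv_smul_smul, hk2]
      have h7 := hclaim x y hxy hnE
      obtain ⟨w, hw1, hw2⟩ : ∃ w, E x w ∧ E y w := by
        by_contra hcon
        push Not at hcon
        have hd : Disjoint (Finset.univ.filter (fun v => E x v)) (Finset.univ.filter (fun v => E y v)) := by
          rw [Finset.disjoint_left]
          intro v hv hv'
          simp only [Finset.mem_filter, Finset.mem_univ, true_and] at hv hv'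
          exact hcon v hv hv'
        have h8 := Finset.card_le_univ ((Finset.univ.filter (fun v => E x v)) ∪
          (Finset.univ.filter (fun v => E y v)))
        rw [Finset.card_union_of_disjoint hd, hEcard, hEcard] at h8
        have h9 : (B : ℝ) + B ≤ n := by exact_mod_cast h8
        nlinarith [sq_nonneg (s - 1)]
      have h10 : dd G x y ≤ dd G x₀ y₀ + dd G x₀ y₀ := by
        refine (dd_triangle x w y).trans ?_
        rw [hEdd _ _ hw1, dd_comm w y, hEdd _ _ hw2, ← hEdd _ _ hE0]
      have h11 : (dd G x y : ℝ) ≤ dd G x₀ y₀ + dd G x₀ y₀ := by exact_mod_cast h10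
      linarith
    · have := hclaim x₀ y₀ hne hE0
      have h12 : (0 : ℝ) ≤ dd G x₀ y₀ := Nat.cast_nonneg _
      linarith
  · push Not at hbig
    -- no big suborbit
    set δ := dd G x₀ y₀ with hδ
    have hδ0 : (0 : ℝ) ≤ δ := Nat.cast_nonneg _
    by_cases hdiam : ∀ u w : Ω, dd G u w ≤ 2 * δ
    · -- averaging
      by_contra hlt
      push Not at hlt
      have hall : ∀ u w : Ω, (dd G u w : ℝ) ≤ 2 * δ := fun u w => by exact_mod_cast hdiam u w
      have hsum : (∑ u : Ω, ∑ w : Ω, (dd G u w : ℝ)) =
          ∑ z : Ω, ∑ u : Ω, ((n : ℝ) - ((Finset.univ.filter (fun v => same G z u v)).card : ℝ)) := by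
        have e1 : ∀ u w : Ω, (dd G u w : ℝ) = ∑ z : Ω, if same G z u w then (0 : ℝ) else 1 := by
          intro u w
          rw [dd_eq_sum]
          push_cast
          rfl
        simp_rw [e1]
        have e2 : ∀ u : Ω, (∑ w : Ω, ∑ z : Ω, if same G z u w then (0 : ℝ) else 1) =
            ∑ z : Ω, ∑ w : Ω, if same G z u w then (0 : ℝ) else 1 := fun u => Finset.sum_comm
        simp_rw [e2]
        rw [Finset.sum_comm]
        refine Finset.sum_congr rfl fun z _ => Finset.sum_congr rfl fun u _ => ?_
        rw [Finset.card_filter]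
        push_cast
        rw [eq_sub_iff_add_eq, ← Finset.sum_add_distrib]
        have : ∀ w ∈ (Finset.univ : Finset Ω),
            ((if same G z u w then (0 : ℝ) else 1) + if same G z u w then 1 else 0) = 1 := by
          intro w _
          by_cases h : same G z u w <;> simp [h]
        rw [Finset.sum_congr rfl this]
        simp [hn]
      have hup : (∑ u : Ω, ∑ w : Ω, (dd G u w : ℝ)) ≤ n * (n * (2 * δ)) := by
        calc (∑ u : Ω, ∑ w : Ω, (dd G u w : ℝ)) ≤ ∑ u : Ω, ∑ w : Ω, (2 * (δ : ℝ)) :=
              Finset.sum_le_sum fun u _ => Finset.sum_le_sum fun w _ => hall u w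
          _ = n * (n * (2 * δ)) := by simp [hn]
      have hlo : (n : ℝ) * (n * (s - 1)) ≤
          ∑ z : Ω, ∑ u : Ω, ((n : ℝ) - ((Finset.univ.filter (fun v => same G z u v)).card : ℝ)) := by
        calc (n : ℝ) * (n * (s - 1)) = ∑ z : Ω, ∑ u : Ω, (s - 1) := by
              rw [Finset.sum_const, Finset.sum_const, Finset.card_univ, ← hn, nsmul_eq_mul, nsmul_eq_mul]
          _ ≤ _ := Finset.sum_le_sum fun z _ => Finset.sum_le_sum fun u _ => by
            have := hbig z u
            linarith
      rw [hsum] at hup
      have h13 := hlo.trans hup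
      have h14 : (0 : ℝ) < n * n := by positivity
      have h15 : (n : ℝ) * n * (2 * δ - (s - 1)) < 0 := by nlinarith
      nlinarith
    · push Not at hdiam
      obtain ⟨u, w, huw⟩ := hdiam
      -- S = ball of radius 2
      let S : Set Ω := {v | v = u ∨ rel G x₀ y₀ u v ∨ ∃ t, rel G x₀ y₀ u t ∧ rel G x₀ y₀ t v}
      have hSd : ∀ v ∈ S, dd G u v ≤ 2 * δ := by
        rintro v (rfl | h | ⟨t, h, h'⟩)
        · have : dd G v v = 0 := by
            unfold dd
            rw [Finset.card_eq_zero, Finset.filter_eq_empty_iff]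
            intro z _
            rw [not_not]
            exact ⟨1, one_smul _ _, one_smul _ _⟩
          rw [this]
          exact Nat.zero_le _
        · rw [rel_dd _ _ _ _ h]
          omega
        · refine (dd_triangle u t v).trans ?_
          rw [rel_dd _ _ _ _ h, rel_dd _ _ _ _ h']
          omega
      have hSu : S ≠ Set.univ := by
        intro h
        have : w ∈ S := by rw [h]; exact Set.mem_univ w
        have := hSd w this
        omega
      obtain ⟨v, hv, w', hw', hR⟩ := conn hprim (rel G x₀ y₀) (rel_inv x₀ y₀) (rel_symm x₀ y₀) x₀ y₀ hne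
        ⟨1, Or.inl ⟨one_smul _ _, one_smul _ _⟩⟩ S ⟨u, Or.inl rfl⟩ hSu
      have h16 : dd G u w' ≤ 3 * δ := by
        refine (dd_triangle u v w').trans ?_
        have := hSd v hv
        rw [rel_dd _ _ _ _ hR]
        omega
      have h17 : (Finset.univ.filter (fun v => rel G x₀ y₀ u v)).card +
          (Finset.univ.filter (fun v => rel G x₀ y₀ w' v)).card ≤ dd G u w' := by
        rw [← Finset.card_union_of_disjoint]
        · unfold dd
          apply Finset.card_le_card
          intro z hz
          simp only [Finset.mem_union, Finset.mem_filter, Finset.mem_univ, true_and] at hz ⊢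
          rintro ⟨g, hg1, hg2⟩
          rcases hz with hz | hz
          · have := rel_inv x₀ y₀ g _ _ hz
            rw [hg1, hg2] at this
            exact hw' (Or.inr (Or.inr ⟨z, hz, rel_symm _ _ _ _ this⟩))
          · have := rel_inv x₀ y₀ g⁻¹ _ _ hz
            rw [inv_smul_eq_iff.2 hg1.symm, inv_smul_eq_iff.2 hg2.symm] at this
            exact hw' (Or.inr (Or.inr ⟨z, this, rel_symm _ _ _ _ hz⟩))
        · rw [Finset.disjoint_left]
          intro z hz hz'
          simp only [Finset.mem_filter, Finset.mem_univ, true_and] at hz hz'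
          exact hw' (Or.inr (Or.inr ⟨z, hz, rel_symm _ _ _ _ hz'⟩))
      rw [nbr_card hprim x₀ y₀ w' u] at h17
      have h18 := hedge x₀ y₀ hne u
      set k := (Finset.univ.filter (fun v => rel G x₀ y₀ u v)).card with hk
      have h19 : (2 : ℝ) * k ≤ 3 * δ := by
        have : 2 * k ≤ 3 * δ := by omega
        exact_mod_cast this
      have h20 : (n : ℝ) ≤ k * δ := h18
      have h21 : s * s ≤ (2 * (δ : ℝ)) * (2 * δ) := by
        rw [hss]
        nlinarith
      have h22 : s ≤ 2 * δ := by
        by_contra hlt
        push Not at hlt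
        nlinarith
      linarith

end Uni

open Classical in
/-- separation -/
theorem sep {H X : Type*} [Group H] [Finite H] [MulAction H X] [Finite X] (A B : Finset X) (c : ℕ)
    (horb : ∀ a ∈ A, c ≤ Nat.card (MulAction.orbit H a)) (hAB : A.card * B.card < c) :
    ∃ h : H, ∀ a ∈ A, h • a ∉ B := by
  by_contra hcon
  push Not at hcon
  haveI := Fintype.ofFinite H
  have hst : ∀ a b : X, (Finset.univ.filter (fun h : H => h • a = b)).card ≤
      Nat.card (MulAction.stabilizer H a) := by
    intro a b
    by_cases hex : ∃ h₀ : H, h₀ • a = b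
    · obtain ⟨h₀, h₀b⟩ := hex
      have hsc : Nat.card (MulAction.stabilizer H a) =
          (Finset.univ.filter (fun h : H => h • a = a)).card := by
        rw [← Fintype.card_subtype, ← Nat.card_eq_fintype_card]
        rfl
      rw [hsc]
      refine Finset.card_le_card_of_injOn (fun h => h₀⁻¹ * h) ?_ ?_
      · intro h hh
        simp only [Finset.coe_filter, Finset.mem_univ, true_and, Set.mem_setOf_eq] at hh ⊢
        rw [mul_smul, hh, ← h₀b, inv_smul_smul]
      · intro x _ y _ hxy
        exact mul_left_cancel hxy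
    · have : Finset.univ.filter (fun h : H => h • a = b) = ∅ := by
        rw [Finset.filter_eq_empty_iff]
        intro h _ hh
        exact hex ⟨h, hh⟩
      rw [this]
      simp
  have h1 : Fintype.card H ≤ ∑ p ∈ A ×ˢ B, (Finset.univ.filter (fun h : H => h • p.1 = p.2)).card := by
    refine le_trans ?_ (Finset.card_biUnion_le)
    rw [← Finset.card_univ]
    apply Finset.card_le_card
    intro h _
    obtain ⟨a, ha, hb⟩ := hcon h
    simp only [Finset.mem_biUnion, Finset.mem_product, Finset.mem_filter, Finset.mem_univ, true_and]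
    exact ⟨(a, h • a), ⟨ha, hb⟩, rfl⟩
  have h2 : c * Fintype.card H ≤ (A.card * B.card) * Fintype.card H := by
    calc c * Fintype.card H ≤ c * ∑ p ∈ A ×ˢ B, (Finset.univ.filter (fun h : H => h • p.1 = p.2)).card :=
          Nat.mul_le_mul_left _ h1
      _ = ∑ p ∈ A ×ˢ B, c * (Finset.univ.filter (fun h : H => h • p.1 = p.2)).card := Finset.mul_sum _ _ _
      _ ≤ ∑ p ∈ A ×ˢ B, Fintype.card H := by
          refine Finset.sum_le_sum fun p hp => ?_
          have hp1 : p.1 ∈ A := (Finset.mem_product.1 hp).1
          have h3 : Nat.card (MulAction.orbit H p.1) * Nat.card (MulAction.stabilizer H p.1) =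
              Fintype.card H := by
            have e1 := Subgroup.index_mul_card (MulAction.stabilizer H p.1)
            rw [MulAction.index_stabilizer] at e1
            rw [← Nat.card_eq_fintype_card (α := H)]
            exact e1
          calc c * (Finset.univ.filter (fun h : H => h • p.1 = p.2)).card
              ≤ Nat.card (MulAction.orbit H p.1) * Nat.card (MulAction.stabilizer H p.1) :=
                Nat.mul_le_mul (horb _ hp1) (hst _ _)
            _ = Fintype.card H := h3
      _ = (A.card * B.card) * Fintype.card H := by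
          rw [Finset.sum_const, Finset.card_product, smul_eq_mul]
  have h3 : 0 < Fintype.card H := Fintype.card_pos
  have h4 : c ≤ A.card * B.card := Nat.le_of_mul_le_mul_right h2 h3
  omega

/-- A classification-free minimal-degree bound. Let G be a finite group acting faithfully and primitively on a finite set Ω with n elements, and suppose that the image of G in the symmetric group on Ω does not contain the alternating group on Ω. Then every non-identity element of G moves at least (√n − 1)/2 points of Ω, that is, it fixes at most n − (√n − 1)/2 points. -/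
theorem result {G Ω : Type*} [Group G] [Finite G] [MulAction G Ω] [FaithfulSMul G Ω] [Fintype Ω] [DecidableEq Ω]
    (hprim : MulAction.IsPreprimitive G Ω)
    (hA : ¬ alternatingGroup Ω ≤ (MulAction.toPermHom G Ω).range)
    (g : G) (hg : g ≠ 1) :
    (Real.sqrt (Fintype.card Ω) - 1) / 2 ≤ (Fintype.card Ω : ℝ) - Nat.card (MulAction.fixedBy Ω g) := by
  classical
  set n := Fintype.card Ω with hn
  -- the support
  set Γ : Finset Ω := Finset.univ.filter (fun z : Ω => g • z ≠ z) with hΓ
  have hfixc : (Fintype.card Ω : ℝ) - Nat.card (MulAction.fixedBy Ω g) = (Γ.card : ℝ) := by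
    have h1 : Nat.card (MulAction.fixedBy Ω g) = (Finset.univ.filter (fun z : Ω => g • z = z)).card := by
      rw [Nat.card_eq_card_toFinset]
      congr 1
      ext z
      simp [MulAction.mem_fixedBy]
    have h2 : (Finset.univ.filter (fun z : Ω => g • z = z)).card + Γ.card = n := by
      rw [hΓ, hn, ← Finset.card_univ]
      exact Finset.card_filter_add_card_filter_not _
    rw [h1, ← hn, ← h2]
    push_cast
    ring
  rw [hfixc]
  obtain ⟨α, hα⟩ : ∃ α : Ω, g • α ≠ α := by
    by_contra h
    push Not at h
    exact hg (FaithfulSMul.eq_of_smul_eq_smul (α := Ω) (fun c => by rw [h c, one_smul]))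
  haveI : Nontrivial Ω := ⟨g • α, α, hα⟩
  by_cases h2 : ∃ z u w : Ω, u ≠ z ∧ w ≠ z ∧ ¬ same G z u w
  · have h3 := uni_bound hprim h2 α (g • α) hα.symm
    have h4 : (dd G α (g • α) : ℝ) ≤ Γ.card := by exact_mod_cast dd_le_supp g α
    linarith
  · push Not at h2
    by_contra hlt
    push Not at hlt
    have hαΓ : α ∈ Γ := by
      rw [hΓ, Finset.mem_filter]
      exact ⟨Finset.mem_univ _, hα⟩
    have hcard : (Γ.erase α).card * (Γ.erase α).card < n - 1 := by
      rw [Finset.card_erase_of_mem hαΓ]
      have h5 : 0 < Γ.card := Finset.card_pos.2 ⟨α, hαΓ⟩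
      obtain ⟨m, hm⟩ : ∃ m, Γ.card = m + 1 := ⟨Γ.card - 1, by omega⟩
      rw [hm] at hlt ⊢
      have hss : Real.sqrt (n : ℝ) * Real.sqrt (n : ℝ) = n := Real.mul_self_sqrt (Nat.cast_nonneg n)
      have hs0 : 0 ≤ Real.sqrt (n : ℝ) := Real.sqrt_nonneg _
      push_cast at hlt
      have hm0 : (0 : ℝ) ≤ m := Nat.cast_nonneg m
      have h6 : (m : ℝ) * m + 1 < n := by nlinarith
      have h7 : m * m + 1 < n := by exact_mod_cast h6
      simp only [Nat.add_sub_cancel]
      omega
    obtain ⟨h, hh⟩ := sep (H := MulAction.stabilizer G α) (Γ.erase α) (Γ.erase α) (n - 1) (by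
      intro a ha
      have haα : a ≠ α := (Finset.mem_erase.1 ha).1
      have h8 : Finset.univ.erase α ⊆
          (Finset.univ.filter (fun z => z ∈ MulAction.orbit (MulAction.stabilizer G α) a)) := by
        intro z hz
        have hz' : z ≠ α := (Finset.mem_erase.1 hz).1
        rw [Finset.mem_filter]
        refine ⟨Finset.mem_univ _, ?_⟩
        obtain ⟨k, hk1, hk2⟩ := h2 α a z haα hz'
        exact ⟨⟨k, hk1⟩, hk2⟩
      have h9 := Finset.card_le_card h8
      rw [Finset.card_erase_of_mem (Finset.mem_univ α), Finset.card_univ] at h9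
      have h10 : Nat.card (MulAction.orbit (MulAction.stabilizer G α) a) =
          (Finset.univ.filter (fun z => z ∈ MulAction.orbit (MulAction.stabilizer G α) a)).card := by
        rw [Nat.card_eq_card_toFinset]
        congr 1
        ext z
        simp
      rw [h10]
      exact h9) hcard
    have hhα : (h : G) • α = α := h.2
    have hhα' : (h : G)⁻¹ • α = α := by rw [inv_smul_eq_iff, hhα]
    have hY : ∀ ω : Ω, ((h : G) * g * (h : G)⁻¹) • ω = ω ↔ g • ((h : G)⁻¹ • ω) = (h : G)⁻¹ • ω := by
      intro ω
      rw [mul_smul, mul_smul]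
      constructor
      · intro e
        rw [eq_inv_smul_iff]
        exact e
      · intro e
        rw [e, smul_inv_smul]
    have h3 := Cfsg.Agent.S3681.commutator_isThreeCycle (MulAction.toPermHom G Ω g)
      (MulAction.toPermHom G Ω ((h : G) * g * (h : G)⁻¹)) Γ α hαΓ
      (fun ω hω => by
        rw [hΓ, Finset.mem_filter] at hω
        by_contra hc
        exact hω ⟨Finset.mem_univ _, hc⟩)
      (fun ω hω hωα => by
        change ((h : G) * g * (h : G)⁻¹) • ω = ω
        rw [hY]
        by_contra hc
        have h11 : (h : G)⁻¹ • ω ∈ Γ.erase α := by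
          rw [Finset.mem_erase, hΓ, Finset.mem_filter]
          refine ⟨fun e => hωα ?_, Finset.mem_univ _, hc⟩
          rw [inv_smul_eq_iff, hhα] at e
          exact e
        have h12 := hh _ h11
        apply h12
        rw [Finset.mem_erase]
        have h13 : h • ((h : G)⁻¹ • ω) = ω := smul_inv_smul (h : G) ω
        rw [h13]
        exact ⟨hωα, hω⟩) hα
      (by
        change ((h : G) * g * (h : G)⁻¹) • α ≠ α
        intro e
        rw [hY, hhα'] at e
        exact hα e)
    have hprim' : MulAction.IsPreprimitive (MulAction.toPermHom G Ω).range Ω := by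
      let f : Ω →ₑ[(MulAction.toPermHom G Ω).rangeRestrict] Ω :=
        { toFun := id
          map_smul' := fun m x => rfl }
      exact MulAction.IsPreprimitive.of_surjective (f := f) Function.surjective_id
    apply hA
    apply Equiv.Perm.alternatingGroup_le_of_isPreprimitive_of_isThreeCycle_mem hprim' h3
    refine ⟨g * ((h : G) * g * (h : G)⁻¹) * g⁻¹ * ((h : G) * g * (h : G)⁻¹)⁻¹, ?_⟩
    rw [map_mul, map_mul, map_mul, map_inv, map_inv]


end Cfsg.Agent.S5713
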