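import Cfsg.Statements.S5726
import Cfsg.Agent.H95.SylowOrbit

set_option autoImplicit false
open Cfsg

namespace Cfsg.Agent.S5726

/-- If a finite group acts faithfully and transitively on a set with p^k elements, p a prime and k ≥ 1, then some element of order p fixes no point. -/
theorem result {G Ω : Type*} [Group G] [Finite G] [MulAction G Ω] [FaithfulSMul G Ω] [Fintype Ω] (htr : MulAction.IsPretransitive G Ω)
    (p k : ℕ) (hp : p.Prime) (hk : 1 ≤ k) (hΩ : Fintype.card Ω = p ^ k) :
    ∃ g : G, orderOf g = p ∧ ∀ ω : Ω, g • ω ≠ ω := by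
  have : Fact p.Prime := ⟨hp⟩
  obtain ⟨P⟩ : Nonempty (Sylow p G) := inferInstance
  set S : Subgroup G := (P : Subgroup G) with hS
  have hcard : Nat.card Ω = p ^ k := by rw [Nat.card_eq_fintype_card, hΩ]
  have hpos : 0 < Fintype.card Ω := by rw [hΩ]; exact pow_pos hp.pos k
  obtain ⟨ω₀⟩ : Nonempty Ω := Fintype.card_pos_iff.mp hpos
  have horb : ∀ ω : Ω, MulAction.orbit S ω = Set.univ := by
    intro ω
    have h := Cfsg.Agent.H95.pow_dvd_ncard_sylow_orbit p P ω k (by rw [hcard])
    have hne : (MulAction.orbit S ω).ncard ≠ 0 :=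
      Set.ncard_ne_zero_of_mem (MulAction.mem_orbit_self ω)
    apply Set.eq_univ_of_univ_subset
    have hle : (Set.univ : Set Ω).ncard ≤ (MulAction.orbit S ω).ncard := by
      rw [Set.ncard_univ, hcard]
      exact Nat.le_of_dvd (Nat.pos_of_ne_zero hne) h
    have := Set.eq_of_subset_of_ncard_le (Set.subset_univ (MulAction.orbit S ω)) hle
    rw [this]
  have hpG : IsPGroup p S := P.isPGroup'
  have hnt : Nontrivial S := by
    by_contra hcon
    rw [not_nontrivial_iff_subsingleton] at hcon
    have : (MulAction.orbit S ω₀).ncard = 1 := by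
      rw [Set.ncard_eq_one]
      refine ⟨ω₀, ?_⟩
      ext x
      constructor
      · rintro ⟨s, rfl⟩
        have : s = 1 := Subsingleton.elim _ _
        simp [this]
      · rintro rfl
        exact MulAction.mem_orbit_self _
    rw [horb, Set.ncard_univ, hcard] at this
    have h1 : 1 < p ^ k := Nat.one_lt_pow (by omega) hp.one_lt
    omega
  have hZ : Nontrivial (Subgroup.center S) := hpG.center_nontrivial
  have hZp : IsPGroup p (Subgroup.center S) := hpG.to_subgroup _
  obtain ⟨z, hz⟩ : ∃ z : Subgroup.center S, orderOf z = p := by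
    apply exists_prime_orderOf_dvd_card' p
    obtain ⟨m, hm0, hm⟩ := hZp.exists_card_eq.imp (fun m hm => (⟨by
      rintro rfl
      rw [pow_zero] at hm
      have := Finite.one_lt_card_iff_nontrivial.mpr hZ
      omega, hm⟩ : m ≠ 0 ∧ _))
    rw [hm]
    exact dvd_pow_self p hm0
  refine ⟨((z : S) : G), ?_, ?_⟩
  · rw [Subgroup.orderOf_coe, Subgroup.orderOf_coe, hz]
  · intro ω hω
    have hall : ∀ ω' : Ω, ((z : S) : G) • ω' = ω' := by
      intro ω'
      have : ω' ∈ MulAction.orbit S ω := by rw [horb]; trivial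
      obtain ⟨s, rfl⟩ := this
      have hc : (s : S) * (z : S) = (z : S) * s := (Subgroup.mem_center_iff.mp z.2) s
      have hc' : ((z : S) : G) * (s : G) = (s : G) * ((z : S) : G) := by
        have := congrArg (fun x : S => (x : G)) hc
        simpa using this.symm
      show ((z : S) : G) • ((s : G) • ω) = (s : G) • ω
      rw [← mul_smul, hc', mul_smul, hω]
    have h1 : ((z : S) : G) = 1 := by
      apply FaithfulSMul.eq_of_smul_eq_smul (α := Ω)
      intro a
      rw [hall, one_smul]
    have : orderOf z = 1 := by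
      rw [← Subgroup.orderOf_coe, ← Subgroup.orderOf_coe, h1, orderOf_one]
    rw [hz] at this
    exact hp.one_lt.ne' this

end Cfsg.Agent.S5726
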