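import Cfsg.Statements.S5727
import Cfsg.Agent.H95.SylowOrbit
import Cfsg.Agent.S5726

set_option autoImplicit false
open Cfsg

namespace Cfsg.Agent.S5727

/-- If a finite group acts faithfully and transitively on a set with m·p elements, where p is a prime and 1 ≤ m ≤ p, then some element of order p fixes no point. -/
theorem result {G Ω : Type*} [Group G] [Finite G] [MulAction G Ω] [FaithfulSMul G Ω] [Fintype Ω] (htr : MulAction.IsPretransitive G Ω)
    (p m : ℕ) (hp : p.Prime) (hm : 1 ≤ m) (hmp : m ≤ p) (hΩ : Fintype.card Ω = m * p) :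
    ∃ g : G, orderOf g = p ∧ ∀ ω : Ω, g • ω ≠ ω := by
  classical
  rcases eq_or_lt_of_le hmp with rfl | hlt
  · exact Cfsg.Agent.S5726.result htr m 2 hp (by norm_num) (by rw [hΩ, sq])
  have : Fact p.Prime := ⟨hp⟩
  obtain ⟨P⟩ : Nonempty (Sylow p G) := inferInstance
  set S : Subgroup G := (P : Subgroup G) with hS
  have hpG : IsPGroup p S := P.isPGroup'
  have hcard : Nat.card Ω = m * p := by rw [Nat.card_eq_fintype_card, hΩ]
  -- all orbits have length `p`
  have horb : ∀ ω : Ω, (MulAction.orbit S ω).ncard = p := by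
    intro ω
    have h := Cfsg.Agent.H95.pow_dvd_ncard_sylow_orbit p P ω 1 (by rw [hcard, pow_one]; exact dvd_mul_left _ _)
    obtain ⟨c, hc⟩ := hpG.card_orbit ω
    have hc' : (MulAction.orbit S ω).ncard = p ^ c := hc
    have hle : (MulAction.orbit S ω).ncard ≤ m * p := by
      rw [← hcard, ← Set.ncard_univ]
      exact Set.ncard_le_ncard (Set.subset_univ _)
    have hlt2 : p ^ c < p ^ 2 := by
      rw [← hc']
      calc (MulAction.orbit S ω).ncard ≤ m * p := hle
        _ < p * p := Nat.mul_lt_mul_of_pos_right hlt hp.pos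
        _ = p ^ 2 := (sq p).symm
    have hc2 : c < 2 := (Nat.pow_lt_pow_iff_right hp.one_lt).mp hlt2
    have hc1 : 1 ≤ c := by
      have : p ^ 1 ∣ p ^ c := by rw [← hc']; exact h
      exact (Nat.pow_dvd_pow_iff_le_right hp.one_lt).mp this
    have : c = 1 := by omega
    rw [hc', this, pow_one]
  have hidx : ∀ ω : Ω, (MulAction.stabilizer S ω).index = p := by
    intro ω; rw [MulAction.index_stabilizer, horb]
  obtain ⟨N, hN⟩ := hpG.exists_card_eq
  have hne : Nonempty Ω := by
    rw [← Fintype.card_pos_iff, hΩ]
    exact Nat.mul_pos (by omega) hp.pos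
  have hmin : (Nat.card S).minFac = p := by
    obtain ⟨ω⟩ := hne
    have hd : p ∣ Nat.card S := by
      rw [← hidx ω]; exact Subgroup.index_dvd_card _
    rw [hN] at hd ⊢
    have hN0 : N ≠ 0 := by
      rintro rfl
      rw [pow_zero] at hd
      exact hp.one_lt.ne' (Nat.dvd_one.mp hd)
    exact hp.pow_minFac hN0
  have hnorm : ∀ ω : Ω, (MulAction.stabilizer S ω).Normal := by
    intro ω
    apply Subgroup.normal_of_index_eq_minFac_card
    rw [hidx, hmin]
  -- a element fixing a point of an orbit fixes the orbit
  have hfix : ∀ (g : S) (ω : Ω), g • ω = ω → MulAction.orbit S ω ⊆ MulAction.fixedBy Ω g := by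
    rintro g ω hg _ ⟨s, rfl⟩
    have h1 : s⁻¹ * g * s ∈ MulAction.stabilizer S ω := by
      have := (hnorm ω).conj_mem g hg s⁻¹
      simpa using this
    have h2 : (s⁻¹ * g * s) • ω = ω := h1
    show g • (s • ω) = s • ω
    rw [mul_smul, mul_smul] at h2
    calc g • (s • ω) = s • (s⁻¹ • g • s • ω) := by rw [smul_inv_smul]
      _ = s • ω := by rw [h2]
  -- the `p`-th power of every element is trivial
  have hpow : ∀ g : S, g ^ p = 1 := by
    intro g
    have hall : ∀ ω : Ω, (g ^ p) • ω = ω := by
      intro ω
      have := hnorm ω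
      have hc : Nat.card (S ⧸ MulAction.stabilizer S ω) = p := by
        rw [← Subgroup.index_eq_card]; exact hidx ω
      have h1 : ((g : S ⧸ MulAction.stabilizer S ω)) ^ p = 1 := by
        rw [← hc]; exact pow_card_eq_one'
      rw [← QuotientGroup.mk_pow, QuotientGroup.eq_one_iff] at h1
      exact h1
    apply Subtype.ext
    apply FaithfulSMul.eq_of_smul_eq_smul (α := Ω)
    intro a
    have := hall a
    rw [Subgroup.smul_def] at this
    rw [this, OneMemClass.coe_one, one_smul]
  -- find an element without fixed points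
  have hex : ∃ g : S, ∀ ω : Ω, g • ω ≠ ω := by
    by_contra hcon
    push Not at hcon
    have hFin : Fintype S := Fintype.ofFinite S
    -- double counting
    have hcount : ∑ g : S, Nat.card (MulAction.fixedBy Ω g) = ∑ ω : Ω, Nat.card (MulAction.stabilizer S ω) := by
      have e1 : ∀ g : S, Nat.card (MulAction.fixedBy Ω g) = ∑ ω : Ω, if g • ω = ω then 1 else 0 := by
        intro g
        rw [Finset.sum_boole, Nat.card_eq_fintype_card, Fintype.card_subtype]
        simp [MulAction.mem_fixedBy]
      have e2 : ∀ ω : Ω, Nat.card (MulAction.stabilizer S ω) = ∑ g : S, if g • ω = ω then 1 else 0 := by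
        intro ω
        rw [Finset.sum_boole, Nat.card_eq_fintype_card]
        simp only [Nat.cast_id]
        rw [← Fintype.card_subtype]
        exact Fintype.card_congr (Equiv.refl _)
      simp_rw [e1, e2]
      rw [Finset.sum_comm]
    have hstab : ∀ ω : Ω, Nat.card (MulAction.stabilizer S ω) * p = Nat.card S := by
      intro ω
      rw [← hidx ω]; exact Subgroup.card_mul_index _
    have hL : p * Nat.card S ≤ ∑ g : S, Nat.card (MulAction.fixedBy Ω g) := by
      calc p * Nat.card S = ∑ g : S, p := by
            rw [Finset.sum_const, Finset.card_univ, ← Nat.card_eq_fintype_card, smul_eq_mul, mul_comm]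
        _ ≤ _ := by
            apply Finset.sum_le_sum
            intro g _
            obtain ⟨ω, hω⟩ := hcon g
            have := Set.ncard_le_ncard (hfix g ω hω) (Set.toFinite _)
            rw [horb] at this
            exact this
    have hR : (∑ ω : Ω, Nat.card (MulAction.stabilizer S ω)) * p = (m * p) * Nat.card S := by
      rw [Finset.sum_mul]
      simp_rw [hstab]
      rw [Finset.sum_const, Finset.card_univ, hΩ, smul_eq_mul]
    rw [← hcount] at hR
    have hSpos : 0 < Nat.card S := Nat.card_pos
    have h3 : (p * Nat.card S) * p ≤ (m * p) * Nat.card S := by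
      rw [← hR]; exact Nat.mul_le_mul_right _ hL
    have h4 : p * (Nat.card S * p) ≤ m * (Nat.card S * p) := by
      calc p * (Nat.card S * p) = (p * Nat.card S) * p := by ring
        _ ≤ (m * p) * Nat.card S := h3
        _ = m * (Nat.card S * p) := by ring
    have h5 : p ≤ m := Nat.le_of_mul_le_mul_right h4 (Nat.mul_pos hSpos hp.pos)
    omega
  obtain ⟨g, hg⟩ := hex
  refine ⟨(g : G), ?_, fun ω => hg ω⟩
  have hg1 : g ≠ 1 := by
    rintro rfl
    obtain ⟨ω⟩ := hne
    exact hg ω (one_smul _ _)
  rw [Subgroup.orderOf_coe]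
  exact orderOf_eq_prime (hpow g) hg1

end Cfsg.Agent.S5727
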