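import Cfsg.Statements.S5728

set_option autoImplicit false
open Cfsg

namespace Cfsg.Agent.S5728

lemma pow_apply {F : Type*} [Field F] (g : Equiv.Perm F) (a b : F) (h : ∀ x, g x = a * x + b) (k : ℕ) :
    ∃ c : F, ∀ x, (g ^ k) x = a ^ k * x + c := by
  induction k with
  | zero => exact ⟨0, fun x => by simp⟩
  | succ k ih =>
    obtain ⟨c, hc⟩ := ih
    refine ⟨a * c + b, fun x => ?_⟩
    rw [pow_succ', Equiv.Perm.mul_apply, hc, h, pow_succ']
    ring

/-- The affine map `x ↦ a x + b` as a permutation. -/
def aff {F : Type*} [Field F] (a : Fˣ) (b : F) : Equiv.Perm F where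
  toFun x := a * x + b
  invFun x := (a⁻¹ : Fˣ) * (x - b)
  left_inv x := by simp
  right_inv x := by simp

lemma aff_apply {F : Type*} [Field F] (a : Fˣ) (b x : F) : aff a b x = a * x + b := rfl
lemma aff_inv_apply {F : Type*} [Field F] (a : Fˣ) (b x : F) : (aff a b)⁻¹ x = (a⁻¹ : Fˣ) * (x - b) := rfl

/-- An elusive transitive action. Let p = 2^s − 1 be a prime and let F be the field with p² elements. Inside the group of affine maps x ↦ a·x + b of F (a ≠ 0), consider the subgroup of maps with both coefficients in the prime field. Then every element of prime order of the affine group is conjugate, within the affine group, to an element of that subgroup; equivalently, in the transitive action of the affine group on the cosets of that subgroup (of degree p(p + 1)) every element of prime order fixes a point. -/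
theorem result (p s : ℕ) [Fact p.Prime] (hs : p = 2 ^ s - 1)
    (g : Equiv.Perm (GaloisField p 2)) (hg : g ∈ Cfsg.affineGroup (GaloisField p 2)) (hord : (orderOf g).Prime) :
    ∃ x ∈ Cfsg.affineGroup (GaloisField p 2), ∃ a b : ZMod p, a ≠ 0 ∧
      ∀ y : GaloisField p 2, (x * g * x⁻¹) y = algebraMap (ZMod p) (GaloisField p 2) a * y + algebraMap (ZMod p) (GaloisField p 2) b := by
  have hp : p.Prime := Fact.out
  obtain ⟨a, b, hab⟩ := hg
  by_cases ha1 : (a : GaloisField p 2) = 1
  · have hb0 : b ≠ 0 := by
      rintro rfl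
      have : g = 1 := by
        ext x
        rw [hab, ha1]; simp
      rw [this, orderOf_one] at hord
      exact Nat.not_prime_one hord
    refine ⟨aff (Units.mk0 b hb0)⁻¹ 0, ⟨_, _, fun x => rfl⟩, 1, 1, one_ne_zero, fun y => ?_⟩
    rw [Equiv.Perm.mul_apply, Equiv.Perm.mul_apply, aff_inv_apply, hab, aff_apply, ha1]
    simp only [map_one, one_mul, inv_inv, sub_zero, add_zero, Units.val_inv_eq_inv_val, Units.val_mk0]
    rw [mul_add, inv_mul_cancel_left₀ hb0, inv_mul_cancel₀ hb0]
  · have h1a : (1 : GaloisField p 2) - a ≠ 0 := sub_ne_zero.mpr (Ne.symm ha1)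
    -- the order of `a` is the prime `r`
    set r := orderOf g with hr
    have har : (a : GaloisField p 2) ^ r = 1 := by
      obtain ⟨c, hc⟩ := pow_apply g a b hab r
      rw [hr, pow_orderOf_eq_one] at hc
      have h0 := hc 0
      have h1 := hc 1
      simp only [Equiv.Perm.one_apply, mul_zero, zero_add, mul_one] at h0 h1
      rw [← h0, add_zero] at h1
      exact h1.symm
    have har' : a ^ r = 1 := Units.ext (by rw [Units.val_pow_eq_pow_val, har]; rfl)
    have hoa : orderOf a = r := by
      have hdvd := orderOf_dvd_of_pow_eq_one har'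
      rcases (Nat.dvd_prime hord).mp hdvd with h | h
      · exfalso
        rw [orderOf_eq_one_iff] at h
        exact ha1 (by rw [h]; rfl)
      · exact h
    have hcardF : Nat.card (GaloisField p 2) = p ^ 2 := GaloisField.card p 2 (by norm_num)
    have : Fintype (GaloisField p 2) := Fintype.ofFinite _
    have hcu : Nat.card (GaloisField p 2)ˣ = p ^ 2 - 1 := by
      classical
      rw [Nat.card_eq_fintype_card, Fintype.card_units, ← Nat.card_eq_fintype_card, hcardF]
    have hs1 : 1 ≤ s := by
      by_contra h
      have : s = 0 := by omega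
      rw [this] at hs
      simp at hs
      exact hp.ne_zero hs
    have hp1 : p + 1 = 2 ^ s := by
      have : 1 ≤ 2 ^ s := Nat.one_le_two_pow
      omega
    have hdiv : r ∣ (p - 1) * 2 ^ s := by
      rw [← hp1, ← hoa]
      have : (p - 1) * (p + 1) = p ^ 2 - 1 := by
        obtain ⟨k, hk⟩ : ∃ k, p = k + 1 := ⟨p - 1, by have := hp.pos; omega⟩
        rw [hk]; simp only [Nat.add_sub_cancel]
        have : (k + 1) ^ 2 = k * (k + 1 + 1) + 1 := by ring
        omega
      rw [this, ← hcu]
      exact orderOf_dvd_natCard a
    have heven : 2 ∣ p - 1 := by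
      obtain ⟨t, ht⟩ : ∃ t, s = t + 1 := ⟨s - 1, by omega⟩
      have : 2 ^ s = 2 * 2 ^ t := by rw [ht, pow_succ']
      have := Nat.one_le_two_pow (n := t)
      omega
    have hdiv2 : r ∣ p - 1 := by
      rcases (Nat.Prime.dvd_mul hord).mp hdiv with h | h
      · exact h
      · have : r = 2 := (Nat.prime_dvd_prime_iff_eq hord Nat.prime_two).mp (hord.dvd_of_dvd_pow h)
        rw [this]; exact heven
    have hpow : (a : GaloisField p 2) ^ p = a := by
      obtain ⟨k, hk⟩ := hdiv2
      have h1 : p = r * k + 1 := by
        have := hp.pos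
        omega
      calc (a : GaloisField p 2) ^ p = (a : GaloisField p 2) ^ (r * k + 1) := by rw [← h1]
        _ = a := by rw [pow_succ, pow_mul, har, one_pow, one_mul]
    have hmem := (Subfield.mem_bot_iff_pow_eq_self (GaloisField p 2) p).mpr hpow
    rw [mem_bot_iff_intCast p] at hmem
    obtain ⟨z, hz⟩ := hmem
    refine ⟨aff 1 (-(b / (1 - a))), ⟨_, _, fun x => rfl⟩, (z : ZMod p), 0, ?_, fun y => ?_⟩
    · intro h0
      have : (algebraMap (ZMod p) (GaloisField p 2)) (z : ZMod p) = 0 := by rw [h0, map_zero]
      rw [map_intCast, hz] at this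
      exact a.ne_zero this
    · rw [Equiv.Perm.mul_apply, Equiv.Perm.mul_apply, aff_inv_apply, hab, aff_apply, map_intCast, hz]
      simp only [inv_one, Units.val_one, one_mul, map_zero, add_zero]
      field_simp
      ring

end Cfsg.Agent.S5728
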