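import Cfsg.Statements.S5735
import Cfsg.Agent.BinInv.Fin3
import Cfsg.Agent.BS.Final
import Cfsg.Agent.BS.List
import Cfsg.Agent.S5736
import Cfsg.Agent.S5737

set_option autoImplicit false
open Cfsg

namespace Cfsg.Agent.S5735

/-- Let G be a finite simple group with exactly one conjugacy class of involutions, and let H be a proper subgroup of even order. Then the action of G on the cosets of H is binary if and only if one of the following holds: G ≅ SL₂(2^a) with a ≥ 2 and H is a Sylow 2-subgroup; G is a Suzuki group Sz(2^(2a+1)) with a ≥ 1 and H is the centre of a Sylow 2-subgroup; G ≅ PSU₃(2^a) with a ≥ 2 and H is the centre of a Sylow 2-subgroup. Here an action is binary (relational complexity 2) when, for every n ≥ 2 and all n-tuples I, J of points, if for every pair of positions some group element carries the corresponding pair of entries of I to those of J, then a single group element carries I to J. -/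
theorem result {G : Type*} [Group G] [Finite G] [IsSimpleGroup G] (hinv : ∃ s : G, orderOf s = 2)
    (hone : ∀ s t : G, orderOf s = 2 → orderOf t = 2 → IsConj s t)
    (H : Subgroup G) (hH : H ≠ ⊤) (heven : Even (Nat.card H)) :
    (∀ (n : ℕ) (I J : Fin n → G ⧸ H), 2 ≤ n →
        (∀ i j : Fin n, i ≠ j → ∃ g : G, g • I i = J i ∧ g • I j = J j) → ∃ g : G, ∀ i, g • I i = J i) ↔
      (((∃ (F : Type) (_ : Field F) (_ : Fintype F) (a : ℕ), 2 ≤ a ∧ Fintype.card F = 2 ^ a ∧ Nonempty (G ≃* Matrix.SpecialLinearGroup (Fin 2) F)) ∧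
          ∃ P : Sylow 2 G, H = P) ∨
        (Cfsg.Lie.IsoSuzuki G ∧ ∃ P : Sylow 2 G, H = (Subgroup.center (P : Subgroup G)).map (P : Subgroup G).subtype) ∨
        ((∃ (F : Type) (_ : Field F) (_ : Fintype F) (a : ℕ), 2 ≤ a ∧ Fintype.card F = (2 ^ a) ^ 2 ∧ Nonempty (G ≃* Cfsg.PSU 3 F (2 ^ a))) ∧
          ∃ P : Sylow 2 G, H = (Subgroup.center (P : Subgroup G)).map (P : Subgroup G).subtype)) := by
  classical
  have hone' : ∀ s s' : G, s ≠ 1 → s * s = 1 → s' ≠ 1 → s' * s' = 1 → ∃ c : G, c * s * c⁻¹ = s' := by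
    intro s s' h1 h2 h3 h4
    exact isConj_iff.1 (hone s s' (Cfsg.Agent.BinInv.orderOf_two h1 h2) (Cfsg.Agent.BinInv.orderOf_two h3 h4))
  have hcharP : ∀ (F : Type) (_ : Field F) (_ : Fintype F) (n : ℕ), 1 ≤ n → Fintype.card F = 2 ^ n → CharP F 2 := by
    intro F _ _ n hn hc
    have h1 : ringChar F = 2 := by
      have hp := CharP.char_is_prime F (ringChar F)
      obtain ⟨k, hk⟩ := FiniteField.card F (ringChar F)
      have h2 : ringChar F ∣ 2 ^ n := by
        rw [← hc, hk.2]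
        exact dvd_pow_self _ k.ne_zero
      exact (Nat.prime_dvd_prime_iff_eq hk.1 Nat.prime_two).1 (hk.1.dvd_of_dvd_pow h2)
    rw [← h1]
    exact ringChar.charP F
  have hbot : H ≠ ⊥ := by
    rintro rfl
    rw [Subgroup.card_bot] at heven
    exact absurd heven (by decide)
  -- the three cases
  have case1 : ∀ (F : Type) (_ : Field F) (_ : Fintype F) (n : ℕ), 2 ≤ n → Fintype.card F = 2 ^ n →
      (G ≃* Matrix.ProjectiveSpecialLinearGroup (Fin 2) F) →
      (Cfsg.Agent.Suz.Bin G (G ⧸ H) ↔ ∃ P : Sylow 2 G, H = P) := by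
    intro F i1 i2 n hn hc e
    have : Finite (Matrix.ProjectiveSpecialLinearGroup (Fin 2) F) := Finite.of_equiv G e.toEquiv
    have h4 : 4 ≤ Fintype.card F := by
      rw [hc]
      calc 4 = 2 ^ 2 := by norm_num
        _ ≤ 2 ^ n := Nat.pow_le_pow_right (by norm_num) hn
    have h5 : Fintype.card F ≠ 5 := by
      intro h
      have : 2 ∣ 5 := by
        rw [← h, hc]
        exact dvd_pow_self 2 (by omega)
      omega
    have h6 := Cfsg.Agent.S5736.result h4 h5 (H.comap e.symm.toMonoidHom) (Cfsg.Agent.BinInv.comap_ne_top e hH)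
    have h7 := Cfsg.Agent.BinInv.bin_equiv e.symm H
    have h8 := Cfsg.Agent.BinInv.isSy_iff e H
    have h9 := Cfsg.Agent.BinInv.card_comap e H
    constructor
    · intro hB
      rcases h6.1 (h7.2 hB) with h | ⟨-, h⟩ | ⟨-, h⟩
      · exfalso
        apply hbot
        rw [← Cfsg.Agent.BinInv.comap_symm_comap e H, h, eq_bot_iff]
        intro x hx
        have hx : e x = 1 := hx
        rw [Subgroup.mem_bot, ← map_eq_one_iff e e.injective]
        exact hx
      · exact h8.1 h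
      · exfalso
        rw [h9] at h
        rw [h] at heven
        exact absurd heven (by decide)
    · intro hP
      exact h7.1 (h6.2 (Or.inr (Or.inl ⟨⟨n, hc⟩, h8.2 hP⟩)))
  have case2 : Cfsg.Lie.IsoSuzuki G →
      (Cfsg.Agent.Suz.Bin G (G ⧸ H) ↔
        ∃ P : Sylow 2 G, H = (Subgroup.center (P : Subgroup G)).map (P : Subgroup G).subtype) := by
    rintro ⟨F, i1, i2, m, hm, hc, ⟨e⟩⟩
    have := hcharP F i1 i2 (2 * m + 1) (by omega) hc
    have h1 := Cfsg.Agent.Suz.binary_transport hm hc ((Cfsg.Agent.Suz.lieEquiv hm hc).trans e.symm) H hH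
    rw [h1]
    constructor
    · rintro (h | h)
      · exact absurd h hbot
      · exact h
    · exact Or.inr
  have case3 : ∀ (F : Type) (_ : Field F) (_ : Fintype F) (n : ℕ), 2 ≤ n → Fintype.card F = (2 ^ n) ^ 2 →
      (G ≃* Cfsg.PSU 3 F (2 ^ n)) →
      (Cfsg.Agent.Suz.Bin G (G ⧸ H) ↔
        ∃ P : Sylow 2 G, H = (Subgroup.center (P : Subgroup G)).map (P : Subgroup G).subtype) := by
    intro F i1 i2 n hn hc e
    have := hcharP F i1 i2 (n * 2) (by omega) (by rw [hc, pow_mul])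
    exact Cfsg.Agent.BinInv.psu_final hc hn rfl hone' e H hH heven
  constructor
  · intro hB
    have hB' : Cfsg.Agent.Suz.Bin G (G ⧸ H) := hB
    obtain ⟨M, hM⟩ := Cfsg.Agent.BinInv.exists_se hH heven (Cfsg.Agent.BinInv.CP_of_bin hone' hB')
    have hna : ∃ a b : G, a * b ≠ b * a := by
      by_contra hcon
      push Not at hcon
      have hn : H.Normal := ⟨fun x hx g => by
        rw [hcon g x, mul_inv_cancel_right]; exact hx⟩
      rcases hn.eq_bot_or_eq_top with h | h
      · exact hbot h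
      · exact hH h
    rcases Cfsg.Agent.BS.bender hna hM with ⟨F, i1, i2, n, hn, hc, ⟨e⟩⟩ | h | ⟨F, i1, i2, n, hn, hc, ⟨e⟩⟩
    · have := hcharP F i1 i2 n (by omega) hc
      obtain ⟨f⟩ := Cfsg.Agent.BS.sl2_equiv_psl2 F
      exact Or.inl ⟨⟨F, i1, i2, n, hn, hc, ⟨e.trans f.symm⟩⟩, (case1 F i1 i2 n hn hc e).1 hB'⟩
    · exact Or.inr (Or.inl ⟨h, (case2 h).1 hB'⟩)
    · exact Or.inr (Or.inr ⟨⟨F, i1, i2, n, hn, hc, ⟨e⟩⟩, (case3 F i1 i2 n hn hc e).1 hB'⟩)
  · rintro (⟨⟨F, i1, i2, n, hn, hc, ⟨e⟩⟩, hP⟩ | ⟨h, hP⟩ | ⟨⟨F, i1, i2, n, hn, hc, ⟨e⟩⟩, hP⟩)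
    · have := hcharP F i1 i2 n (by omega) hc
      obtain ⟨f⟩ := Cfsg.Agent.BS.sl2_equiv_psl2 F
      exact (case1 F i1 i2 n hn hc (e.trans f)).2 hP
    · exact (case2 h).2 hP
    · exact (case3 F i1 i2 n hn hc e).2 hP

end Cfsg.Agent.S5735
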