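import Cfsg.Statements.S5825
import Cfsg.Agent.H94.OmMinus
import Cfsg.Agent.H94.ND8d
import Cfsg.Agent.H98.Or2C
import Cfsg.Agent.H98.SFE

set_option autoImplicit false
open Cfsg

namespace Cfsg.Agent.S5825

/-- Maximal subgroups of Ω_8^-(q) of geometric type (any q). Let F be a finite field with q elements, Q a non-degenerate quadratic form on F^8 (non-degenerate polar form) of minus type (Witt index 3: no totally singular 4-space), and Ω = Ω_8^-(q) the commutator subgroup of the isometry group of Q, inside GL_8(F). Each of the following, intersected with Ω, is a maximal subgroup of Ω: (1) the stabiliser of any non-zero subspace on which Q vanishes identically (totally singular 1-, 2- and 3-spaces); (2) for q odd, the stabiliser of any proper subspace of odd dimension (1, 3, 5 or 7) on which the polar form of Q is non-degenerate; (3) the stabiliser of any non-degenerate 2-space of minus type (containing no non-zero singular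 vector); (4) for q ≥ 4, the stabiliser of any non-degenerate 2-space of plus type (containing a non-zero singular vector); (5) the stabiliser of any non-degenerate 4-space (its orthogonal complement is then a non-degenerate 4-space of the opposite type); (6) for q even, the stabiliser of the 1-space spanned by any non-singular vector v (Q(v) ≠ 0); (7) for q odd, the normaliser of any degree-2 subfield K of the matrix algebra whose elements are self-adjoint for the polar form of Q (Q is then the trace of a quadratic form over K); (8) every subfield group for a subfield F₀ of odd prime index r in F whose F₀-structure carries a non-zero scalar multiple of Q. -/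
theorem result {F : Type*} [Field F] [Fintype F] (Q : (Fin 8 → F) → F) (hQ : Cfsg.Geo.IsNondegenerateQuadraticForm Q) (hminus : ¬ Cfsg.Geo.IsPlusTypeOn Q ⊤) :
    (∀ W : Submodule F (Fin 8 → F), W ≠ ⊥ → Cfsg.Geo.IsTotallySingularQuad Q W → Cfsg.Geo.IsMaximalIn (Cfsg.Geo.omegaGL Q) (Cfsg.Geo.subspaceStabilizer W ⊓ Cfsg.Geo.omegaGL Q)) ∧
    (Odd (Fintype.card F) → ∀ W : Submodule F (Fin 8 → F), W ≠ ⊥ → W ≠ ⊤ → Odd (Module.finrank F W) → Cfsg.Geo.IsNondegenerateOn (QuadraticMap.polar Q) W → Cfsg.Geo.IsMaximalIn (Cfsg.Geo.omegaGL Q) (Cfsg.Geo.subspaceStabilizer W ⊓ Cfsg.Geo.omegaGL Q)) ∧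
    (∀ W : Submodule F (Fin 8 → F), Module.finrank F W = 2 → Cfsg.Geo.IsNondegenerateOn (QuadraticMap.polar Q) W → ¬ Cfsg.Geo.IsPlusTypeOn Q W → Cfsg.Geo.IsMaximalIn (Cfsg.Geo.omegaGL Q) (Cfsg.Geo.subspaceStabilizer W ⊓ Cfsg.Geo.omegaGL Q)) ∧
    (4 ≤ Fintype.card F → ∀ W : Submodule F (Fin 8 → F), Module.finrank F W = 2 → Cfsg.Geo.IsNondegenerateOn (QuadraticMap.polar Q) W → Cfsg.Geo.IsPlusTypeOn Q W → Cfsg.Geo.IsMaximalIn (Cfsg.Geo.omegaGL Q) (Cfsg.Geo.subspaceStabilizer W ⊓ Cfsg.Geo.omegaGL Q)) ∧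
    (∀ W : Submodule F (Fin 8 → F), Module.finrank F W = 4 → Cfsg.Geo.IsNondegenerateOn (QuadraticMap.polar Q) W → Cfsg.Geo.IsMaximalIn (Cfsg.Geo.omegaGL Q) (Cfsg.Geo.subspaceStabilizer W ⊓ Cfsg.Geo.omegaGL Q)) ∧
    (¬ Odd (Fintype.card F) → ∀ v : (Fin 8 → F), Q v ≠ 0 → Cfsg.Geo.IsMaximalIn (Cfsg.Geo.omegaGL Q) (Cfsg.Geo.subspaceStabilizer (Submodule.span F {v}) ⊓ Cfsg.Geo.omegaGL Q)) ∧
    (Odd (Fintype.card F) → ∀ K : Subalgebra F (Matrix (Fin 8) (Fin 8) F), Cfsg.Geo.IsFieldSubalgebra 2 K → Cfsg.Geo.IsSelfAdjointFor (QuadraticMap.polar Q) K → Cfsg.Geo.IsMaximalIn (Cfsg.Geo.omegaGL Q) (Cfsg.Geo.subalgebraNormalizer K ⊓ Cfsg.Geo.omegaGL Q)) ∧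
    (∀ (F₀ : Subfield F) (r : ℕ) (P : Matrix.GeneralLinearGroup (Fin 8) F) (ζ : F), r.Prime → Odd r → Fintype.card F = Nat.card F₀ ^ r → ζ ≠ 0 → Cfsg.Geo.IsQuadFormRationalStructure (fun v : Fin 8 → F => ζ * Q v) F₀ P → Cfsg.Geo.IsMaximalIn (Cfsg.Geo.omegaGL Q) (Cfsg.Geo.subfieldSubgroup F₀ P ⊓ Cfsg.Geo.omegaGL Q)) := by
  have h8 : Even 8 := ⟨4, rfl⟩
  refine ⟨fun W hW0 hW => Cfsg.Agent.H94.OmMinus.par_minus (by norm_num) h8 Q hQ hminus W hW0 hW,
    fun hodd W hW0 hW1 hWo hW => Cfsg.Agent.H94.ND8.nd_minus le_rfl h8 Q hQ hminus W hW0 hW1 ?_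
      (fun _ => hodd) hW ?_,
    fun W hW2 hW hWn => Cfsg.Agent.H94.ND8.nd_minus le_rfl h8 Q hQ hminus W ?_ ?_ ?_ ?_ hW ?_,
    fun h4 W hW2 hW _ => Cfsg.Agent.H94.ND8.nd_minus le_rfl h8 Q hQ hminus W ?_ ?_ ?_ ?_ hW ?_,
    fun W hW4 hW => Cfsg.Agent.H94.ND8.nd_minus le_rfl h8 Q hQ hminus W ?_ ?_ ?_ ?_ hW ?_,
    fun _ v hv => Cfsg.Agent.H94.ND8.point_minus (by norm_num) Q hQ v hv, ?_,
    fun F₀ r P ζ hr _ hcard hζ hP => Cfsg.Agent.H98.SF.sub_geo7 (by norm_num) Q hQ F₀ r hr hcard P ζ hζ hP⟩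
  · rintro ⟨h, h'⟩
    obtain ⟨k, hk⟩ := h'
    omega
  · rintro ⟨-, U, hU2, -, -, rfl | ⟨-, hUW⟩⟩
    · obtain ⟨k, hk⟩ := hWo
      omega
    · obtain ⟨k, hk⟩ := hWo
      omega
  · rintro rfl
    rw [finrank_bot] at hW2
    omega
  · rintro rfl
    rw [finrank_top, Module.finrank_fintype_fun_eq_card, Fintype.card_fin] at hW2
    omega
  · rintro ⟨h, -⟩
    omega
  · rintro ⟨k, hk⟩
    omega
  · rintro ⟨-, U, hU2, -, hUp, rfl | ⟨-, hUW⟩⟩
    · exact hWn hUp
    · omega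
  · rintro rfl
    rw [finrank_bot] at hW2
    omega
  · rintro rfl
    rw [finrank_top, Module.finrank_fintype_fun_eq_card, Fintype.card_fin] at hW2
    omega
  · rintro ⟨h, -⟩
    omega
  · rintro ⟨k, hk⟩
    omega
  · rintro ⟨h, -⟩
    omega
  · rintro rfl
    rw [finrank_bot] at hW4
    omega
  · rintro rfl
    rw [finrank_top, Module.finrank_fintype_fun_eq_card, Fintype.card_fin] at hW4
    omega
  · rintro ⟨-, k, hk⟩
    omega
  · rintro ⟨k, hk⟩
    omega
  · rintro ⟨-, U, hU2, -, -, rfl | ⟨-, hUW⟩⟩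
    · omega
    · omega
  · intro hodd K hK hsa
    have h2 := Cfsg.Agent.GeoMax.Ort.two_ne_zero_of_odd hodd
    have key := Cfsg.Agent.H98.Or.or_maximal_low (Q := Cfsg.Agent.GeoMax.Ort.toQF hQ)
      (Cfsg.Agent.GeoMax.Ort.toQF_nondeg hQ) K hK hsa h2 Nat.prime_two
      (by simp) (by simp) (fun _ => by simp)
    exact key

end Cfsg.Agent.S5825
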