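import Cfsg.Statements.S5834
import Cfsg.Agent.H94.T33l
import Cfsg.Agent.H30.OS7b
import Cfsg.Agent.H98.Or2C
import Cfsg.Agent.H98.SFE
import Cfsg.Agent.H94.OmMinus
import Cfsg.Agent.Orth.Arith
import Cfsg.Agent.SmallDim.Fr.DichOdd
import Cfsg.Agent.Asch.OrthStd

set_option autoImplicit false
open Cfsg

namespace Cfsg.Agent.S5834

/-- Maximal subgroups of Ω_9(q) of geometric type, q odd. Let F be a finite field of odd order q, Q the standard quadratic form x₀² + Σ x_i y_i on F^9 (coordinates Unit ⊕ (Fin 4 ⊕ Fin 4)), and Ω = Ω_9(q) the commutator subgroup of its isometry group, inside GL_9(F). Each of the following, intersected with Ω, is a maximal subgroup of Ω: (1) the stabiliser of any non-zero subspace on which Q vanishes identically (totally singular 1- to 4-spaces); (2) the stabiliser of any non-zero even-dimensional subspace W (dimension 2, 4, 6 or 8) on which the polar form of Q is non-degenerate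 (equivalently of its odd-dimensional orthogonal complement), except when q = 3 and W is a 2-space containing a non-zero singular vector (a plus-type plane); (3) for q = p prime, the stabiliser of any decomposition of F^9 into nine pairwise orthogonal, pairwise Q-isometric non-degenerate 1-spaces; (4) for q ≥ 5, the stabiliser of any decomposition of F^9 into three pairwise orthogonal, pairwise Q-isometric non-degenerate 3-spaces; (5) the normaliser of any degree-3 subfield K of the matrix algebra whose elements are self-adjoint for the polar form of Q (Q is then the trace of a quadratic form over K); (6) every subfield group for a subfield F₀ with |F| = |F₀|^r, r prime, whose F₀-structure carries Q; (7) for q ≥ 5, the stabiliser of any decomposition of the polar form of Q as the tensor square of a non-degenerate symmetric bilinear form on F^3 up to a scalar (tensor-wreath subgroup). -/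
theorem result {F : Type*} [Field F] [Fintype F] (hodd : Odd (Fintype.card F)) :
    (∀ W : Submodule F (Unit ⊕ (Fin 4 ⊕ Fin 4) → F), W ≠ ⊥ → Cfsg.Geo.IsTotallySingularQuad (Cfsg.quadFormOdd 4 F) W → Cfsg.Geo.IsMaximalIn (Cfsg.Geo.omegaGL (Cfsg.quadFormOdd 4 F)) (Cfsg.Geo.subspaceStabilizer W ⊓ Cfsg.Geo.omegaGL (Cfsg.quadFormOdd 4 F))) ∧
    (∀ W : Submodule F (Unit ⊕ (Fin 4 ⊕ Fin 4) → F), W ≠ ⊥ → Even (Module.finrank F W) → Cfsg.Geo.IsNondegenerateOn (QuadraticMap.polar (Cfsg.quadFormOdd 4 F)) W → ¬ (Fintype.card F = 3 ∧ Module.finrank F W = 2 ∧ Cfsg.Geo.IsPlusTypeOn (Cfsg.quadFormOdd 4 F) W) → Cfsg.Geo.IsMaximalIn (Cfsg.Geo.omegaGL (Cfsg.quadFormOdd 4 F)) (Cfsg.Geo.subspaceStabilizer W ⊓ Cfsg.Geo.omegaGL (Cfsg.quadFormOdd 4 F))) ∧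
    ((Fintype.card F).Prime → ∀ D : Fin 9 → Submodule F (Unit ⊕ (Fin 4 ⊕ Fin 4) → F), Cfsg.Geo.IsOrthogonalMDecomposition (Cfsg.quadFormOdd 4 F) 1 D → Cfsg.Geo.IsMaximalIn (Cfsg.Geo.omegaGL (Cfsg.quadFormOdd 4 F)) (Cfsg.Geo.decompositionStabilizer D ⊓ Cfsg.Geo.omegaGL (Cfsg.quadFormOdd 4 F))) ∧
    (5 ≤ Fintype.card F → ∀ D : Fin 3 → Submodule F (Unit ⊕ (Fin 4 ⊕ Fin 4) → F), Cfsg.Geo.IsOrthogonalMDecomposition (Cfsg.quadFormOdd 4 F) 3 D → Cfsg.Geo.IsMaximalIn (Cfsg.Geo.omegaGL (Cfsg.quadFormOdd 4 F)) (Cfsg.Geo.decompositionStabilizer D ⊓ Cfsg.Geo.omegaGL (Cfsg.quadFormOdd 4 F))) ∧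
    (∀ K : Subalgebra F (Matrix (Unit ⊕ (Fin 4 ⊕ Fin 4)) (Unit ⊕ (Fin 4 ⊕ Fin 4)) F), Cfsg.Geo.IsFieldSubalgebra 3 K → Cfsg.Geo.IsSelfAdjointFor (QuadraticMap.polar (Cfsg.quadFormOdd 4 F)) K → Cfsg.Geo.IsMaximalIn (Cfsg.Geo.omegaGL (Cfsg.quadFormOdd 4 F)) (Cfsg.Geo.subalgebraNormalizer K ⊓ Cfsg.Geo.omegaGL (Cfsg.quadFormOdd 4 F))) ∧
    (∀ (F₀ : Subfield F) (r : ℕ) (P : Matrix.GeneralLinearGroup (Unit ⊕ (Fin 4 ⊕ Fin 4)) F), r.Prime → Fintype.card F = Nat.card F₀ ^ r → Cfsg.Geo.IsQuadFormRationalStructure (Cfsg.quadFormOdd 4 F) F₀ P → Cfsg.Geo.IsMaximalIn (Cfsg.Geo.omegaGL (Cfsg.quadFormOdd 4 F)) (Cfsg.Geo.subfieldSubgroup F₀ P ⊓ Cfsg.Geo.omegaGL (Cfsg.quadFormOdd 4 F))) ∧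
    (5 ≤ Fintype.card F → ∀ (e : (Unit ⊕ (Fin 4 ⊕ Fin 4)) ≃ (Fin 2 → Fin 3)) (P : Matrix.GeneralLinearGroup (Unit ⊕ (Fin 4 ⊕ Fin 4)) F) (f₁ : (Fin 3 → F) → (Fin 3 → F) → F), Cfsg.Geo.IsSymmetricForm f₁ → Cfsg.Geo.IsTensorPowerFormStructure id (QuadraticMap.polar (Cfsg.quadFormOdd 4 F)) f₁ e P → Cfsg.Geo.IsMaximalIn (Cfsg.Geo.omegaGL (Cfsg.quadFormOdd 4 F)) (Cfsg.Geo.tensorWreathSubgroup 3 2 e P ⊓ Cfsg.Geo.omegaGL (Cfsg.quadFormOdd 4 F))) := by
  classical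
  have h2 : (2 : F) ≠ 0 := Cfsg.Agent.GeoMax.Ort.two_ne_zero_of_odd hodd
  have hnd := Cfsg.Agent.Orth.qfOdd_nondegenerate 4 F h2
  have hfr : Module.finrank F (Unit ⊕ (Fin 4 ⊕ Fin 4) → F) = 9 := by
    rw [Module.finrank_fintype_fun_eq_card]; simp
  have hcard : Fintype.card (Unit ⊕ (Fin 4 ⊕ Fin 4)) = 9 := by simp
  refine ⟨?_, ?_, ?_, ?_, ?_, ?_, ?_⟩
  · intro W hW0 hW
    refine Cfsg.Agent.GeoMax.Ort.isMaximalIn_omegaGL (Cfsg.Agent.Orth.qfOdd 4 F)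
      (Cfsg.Agent.GeoMax.Ort.mem_stabO_iff_emGL _ W) ?_
    refine Cfsg.Agent.GeoMax.Ort.parabolic_maximal hnd (by omega) W hW0 hW ?_
    intro h
    omega
  · exact fun W hW0 hev hW hex => Cfsg.Agent.H30.OS7.nd_odd_geo hodd (by norm_num) W hW0 hev hW hex
  · intro hprime D hD
    exact Cfsg.Agent.SmallDim.Fr.frame_geo_odd hprime hodd (by rw [hcard]; norm_num) (by rw [hcard]; decide)
      (Cfsg.quadFormOdd 4 F) (Cfsg.Agent.Asch.isNondegenerateQuadraticForm_of hnd) D hD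
  · intro hq D hD
    have hD' : Cfsg.Geo.IsOrthogonalMDecomposition (⇑(Cfsg.Agent.Orth.qfOdd 4 F)) 3 D := hD
    have hF : Cfsg.Agent.OMax.IsFrame (Cfsg.Agent.Orth.qfOdd 4 F) 3 D := Cfsg.Agent.OMax.isFrame_of_decomp hD'
    refine Cfsg.Agent.OMax.isMaximalIn_of_abstract (Cfsg.Agent.Orth.qfOdd 4 F) (Cfsg.Geo.decompositionStabilizer D)
      (fun g => ∃ σ : Equiv.Perm (Fin 3), ∀ i, Cfsg.Agent.OMax.act g (D i) = D (σ i))
      (Cfsg.Agent.OMax.mem_decompStab_iff _ D) ?_ ?_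
    · exact Cfsg.Agent.OMax.not_preserved hnd (by rw [hfr]; omega) hF (by norm_num) (by norm_num)
    · intro M _ hHM hM
      exact Cfsg.Agent.OMax.frame_maximal ⟨hnd, h2, by rw [hfr]; omega, by norm_num, Or.inr (by
        rw [Nat.card_eq_fintype_card]; exact hq), hF, hHM⟩
        (Cfsg.Agent.OMax.isom_of_decomp hD') hM
  · intro K hK hsa
    exact Cfsg.Agent.H98.Or.or_maximal_low (Q := Cfsg.Agent.Orth.qfOdd 4 F) hnd K hK hsa h2 (by norm_num)
      (by rw [hcard]; norm_num) (by rw [hcard]) (fun h => absurd h (by norm_num))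
  · intro F₀ r P hr hc hP
    exact Cfsg.Agent.H98.SF.sub_isMaximalIn (Cfsg.Agent.Orth.qfOdd 4 F) hnd (by rw [hcard]; norm_num) F₀ r hr hc P
      (fun u => hP _ fun i => (u i).2)
  · intro h5 e P f₁ hf₁ hT
    exact Cfsg.Agent.H94.T33.isMaximalIn_wreath33 (Q := Cfsg.Agent.Orth.qfOdd 4 F) h2 h5 hnd e P hf₁ hT

end Cfsg.Agent.S5834
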