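import Cfsg.Statements.S5873
import Cfsg.Agent.H94.OmMinus
import Cfsg.Agent.H98.Or2C
import Cfsg.Agent.H94.T34h

set_option autoImplicit false
open Cfsg

namespace Cfsg.Agent.S5873

/-- Maximal subgroups of Ω_12^-(q) of geometric type (any q). Let F be a finite field with q elements (characteristic p), Q a non-degenerate quadratic form on F^12 (non-degenerate polar form) of minus type (Witt index 5: no totally singular 6-space), and Ω = Ω_12^-(q) the commutator subgroup of the isometry group of Q, inside GL_12(F). Each of the following, intersected with Ω, is a maximal subgroup of Ω: (1) the stabiliser of any non-zero subspace on which Q vanishes identically (totally singular subspaces, dimensions 1 to 5); (2) for q odd, the stabiliser of any subspace of odd dimension on which the polar form of Q is non-degenerate; (3) the stabiliser of any non-degenerate 2-space of minus type (containing no non-zero singular vector); (4) for q ≥ 4, the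 stabiliser of any non-degenerate 2-space of plus type (containing a non-zero singular vector); (5) the stabiliser of any non-degenerate 4-space (either type); (6) the stabiliser of any non-degenerate 6-space (either type); (7) for q even, the stabiliser of the 1-space spanned by any non-singular vector v (Q(v) ≠ 0); (8) the stabiliser of any decomposition of F^12 into 3 pairwise orthogonal, pairwise Q-isometric non-degenerate 4-spaces of minus type; (9) for q odd, the normaliser of any degree-2 subfield K of the matrix algebra whose elements are self-adjoint for the polar form of Q (Q is then the trace of a quadratic form over K); (10) for q odd, the normaliser of any degree-3 subfield K of the matrix algebra whose elements are self-adjoint for the polar form of Q (Q is then the trace of a quadratic form over K); (11) for q odd with q ≥ 5, the stabiliser of any tensor decomposition F^12 = F^3 ⊗ F^4 in which the polar form of Q is the product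 of non-degenerate symmetric bilinear forms, the second of minus type, up to a scalar; (12) every subfield group for a subfield F₀ with |F| = |F₀|^r, r an odd prime, whose F₀-structure carries a non-zero scalar multiple of Q. -/
theorem result {F : Type*} [Field F] [Fintype F] (Q : (Fin 12 → F) → F) (hQ : Cfsg.Geo.IsNondegenerateQuadraticForm Q) (hminus : ¬ Cfsg.Geo.IsPlusTypeOn Q ⊤) :
    (∀ W : Submodule F (Fin 12 → F), W ≠ ⊥ → Cfsg.Geo.IsTotallySingularQuad Q W → Cfsg.Geo.IsMaximalIn (Cfsg.Geo.omegaGL Q) (Cfsg.Geo.subspaceStabilizer W ⊓ Cfsg.Geo.omegaGL Q)) ∧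
    (Odd (Fintype.card F) → ∀ W : Submodule F (Fin 12 → F), W ≠ ⊥ → W ≠ ⊤ → Odd (Module.finrank F W) → 2 * Module.finrank F W ≠ 12 → Cfsg.Geo.IsNondegenerateOn (QuadraticMap.polar Q) W → Cfsg.Geo.IsMaximalIn (Cfsg.Geo.omegaGL Q) (Cfsg.Geo.subspaceStabilizer W ⊓ Cfsg.Geo.omegaGL Q)) ∧
    (∀ W : Submodule F (Fin 12 → F), Module.finrank F W = 2 → Cfsg.Geo.IsNondegenerateOn (QuadraticMap.polar Q) W → ¬ Cfsg.Geo.IsPlusTypeOn Q W → Cfsg.Geo.IsMaximalIn (Cfsg.Geo.omegaGL Q) (Cfsg.Geo.subspaceStabilizer W ⊓ Cfsg.Geo.omegaGL Q)) ∧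
    (4 ≤ Fintype.card F → ∀ W : Submodule F (Fin 12 → F), Module.finrank F W = 2 → Cfsg.Geo.IsNondegenerateOn (QuadraticMap.polar Q) W → Cfsg.Geo.IsPlusTypeOn Q W → Cfsg.Geo.IsMaximalIn (Cfsg.Geo.omegaGL Q) (Cfsg.Geo.subspaceStabilizer W ⊓ Cfsg.Geo.omegaGL Q)) ∧
    (∀ W : Submodule F (Fin 12 → F), Module.finrank F W = 4 → Cfsg.Geo.IsNondegenerateOn (QuadraticMap.polar Q) W → Cfsg.Geo.IsMaximalIn (Cfsg.Geo.omegaGL Q) (Cfsg.Geo.subspaceStabilizer W ⊓ Cfsg.Geo.omegaGL Q)) ∧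
    (∀ W : Submodule F (Fin 12 → F), Module.finrank F W = 6 → Cfsg.Geo.IsNondegenerateOn (QuadraticMap.polar Q) W → Cfsg.Geo.IsMaximalIn (Cfsg.Geo.omegaGL Q) (Cfsg.Geo.subspaceStabilizer W ⊓ Cfsg.Geo.omegaGL Q)) ∧
    (¬ Odd (Fintype.card F) → ∀ v : (Fin 12 → F), Q v ≠ 0 → Cfsg.Geo.IsMaximalIn (Cfsg.Geo.omegaGL Q) (Cfsg.Geo.subspaceStabilizer (Submodule.span F {v}) ⊓ Cfsg.Geo.omegaGL Q)) ∧
    (∀ D : Fin 3 → Submodule F (Fin 12 → F), Cfsg.Geo.IsOrthogonalMDecomposition Q 4 D → (∀ i, ¬ Cfsg.Geo.IsPlusTypeOn Q (D i)) → Cfsg.Geo.IsMaximalIn (Cfsg.Geo.omegaGL Q) (Cfsg.Geo.decompositionStabilizer D ⊓ Cfsg.Geo.omegaGL Q)) ∧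
    (Odd (Fintype.card F) → ∀ K : Subalgebra F (Matrix (Fin 12) (Fin 12) F), Cfsg.Geo.IsFieldSubalgebra 2 K → Cfsg.Geo.IsSelfAdjointFor (QuadraticMap.polar Q) K → Cfsg.Geo.IsMaximalIn (Cfsg.Geo.omegaGL Q) (Cfsg.Geo.subalgebraNormalizer K ⊓ Cfsg.Geo.omegaGL Q)) ∧
    (Odd (Fintype.card F) → ∀ K : Subalgebra F (Matrix (Fin 12) (Fin 12) F), Cfsg.Geo.IsFieldSubalgebra 3 K → Cfsg.Geo.IsSelfAdjointFor (QuadraticMap.polar Q) K → Cfsg.Geo.IsMaximalIn (Cfsg.Geo.omegaGL Q) (Cfsg.Geo.subalgebraNormalizer K ⊓ Cfsg.Geo.omegaGL Q)) ∧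
    (Odd (Fintype.card F) ∧ 5 ≤ Fintype.card F → ∀ (e : Fin 12 ≃ Fin 3 × Fin 4) (P : Matrix.GeneralLinearGroup (Fin 12) F) (f₁ : (Fin 3 → F) → (Fin 3 → F) → F) (f₂ : (Fin 4 → F) → (Fin 4 → F) → F), Cfsg.Geo.IsSymmetricForm f₁ → Cfsg.Geo.IsSymmetricForm f₂ → ¬ Cfsg.Geo.IsPlusTypeOn (fun v : Fin 4 → F => f₂ v v) ⊤ → Cfsg.Geo.IsTensorFormStructure id (QuadraticMap.polar Q) f₁ f₂ e P → Cfsg.Geo.IsMaximalIn (Cfsg.Geo.omegaGL Q) (Cfsg.Geo.tensorProductSubgroup 3 4 e P ⊓ Cfsg.Geo.omegaGL Q)) ∧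
    (∀ (F₀ : Subfield F) (r : ℕ) (P : Matrix.GeneralLinearGroup (Fin 12) F) (ζ : F), r.Prime → Odd r → Fintype.card F = Nat.card F₀ ^ r → ζ ≠ 0 → Cfsg.Geo.IsQuadFormRationalStructure (fun v : Fin 12 → F => ζ * Q v) F₀ P → Cfsg.Geo.IsMaximalIn (Cfsg.Geo.omegaGL Q) (Cfsg.Geo.subfieldSubgroup F₀ P ⊓ Cfsg.Geo.omegaGL Q)) := by
  have hex2 : ∀ W : Submodule F (Fin 12 → F), (Fintype.card F ≤ 3 → Module.finrank F W = 2 → ¬ Cfsg.Geo.IsPlusTypeOn Q W) →
      Module.finrank F W ≠ 10 →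
      ¬ (Fintype.card F ≤ 3 ∧ (∃ U : Submodule F (Fin 12 → F), Module.finrank F U = 2 ∧
      Cfsg.Geo.IsNondegenerateOn (QuadraticMap.polar Q) U ∧ Cfsg.Geo.IsPlusTypeOn Q U ∧
      (U = W ∨ (Cfsg.Geo.AreOrthogonalFor (QuadraticMap.polar Q) U W ∧ Module.finrank F U + Module.finrank F W = 12)))) := by
    rintro W h1 h2 ⟨hc, U, hU2, -, hUp, rfl | ⟨-, h3⟩⟩
    · exact h1 hc hU2 hUp
    · omega
  have nd : ∀ W : Submodule F (Fin 12 → F), W ≠ ⊥ → W ≠ ⊤ → ¬ (2 * Module.finrank F W = 12 ∧ Odd (Module.finrank F W)) →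
      (Odd (Module.finrank F W) → Odd (Fintype.card F)) → Cfsg.Geo.IsNondegenerateOn (QuadraticMap.polar Q) W →
      (Fintype.card F ≤ 3 → Module.finrank F W = 2 → ¬ Cfsg.Geo.IsPlusTypeOn Q W) → Module.finrank F W ≠ 10 →
      Cfsg.Geo.IsMaximalIn (Cfsg.Geo.omegaGL Q) (Cfsg.Geo.subspaceStabilizer W ⊓ Cfsg.Geo.omegaGL Q) :=
    fun W h0 h1 h2 h3 h4 h5 h6 => Cfsg.Agent.H94.ND8.nd_minus (by norm_num) (by decide) Q hQ hminus W h0 h1 h2 h3 h4 (hex2 W h5 h6)
  have nebot : ∀ W : Submodule F (Fin 12 → F), Module.finrank F W ≠ 0 → W ≠ ⊥ := by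
    rintro W h rfl
    exact h (finrank_bot F _)
  have netop : ∀ W : Submodule F (Fin 12 → F), Module.finrank F W ≠ 12 → W ≠ ⊤ := by
    rintro W h rfl
    exact h (by rw [finrank_top, Module.finrank_fintype_fun_eq_card]; simp)
  refine ⟨?_, ?_, ?_, ?_, ?_, ?_, ?_, ?_, ?_, ?_, ?_, ?_⟩
  · exact fun W h0 h1 => Cfsg.Agent.H94.OmMinus.par_minus (by norm_num) (by decide) Q hQ hminus W h0 h1
  · intro ho W h0 h1 h2 h3 h4
    refine nd W h0 h1 (fun h => h3 h.1) (fun _ => ho) h4 (fun _ h => ?_) (fun h => ?_)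
    · rw [h] at h2; exact absurd h2 (by decide)
    · rw [h] at h2; exact absurd h2 (by decide)
  · intro W h2 h4 h5
    exact nd W (nebot W (by omega)) (netop W (by omega)) (by omega) (fun h => by rw [h2] at h; exact absurd h (by decide)) h4
      (fun _ _ => h5) (by omega)
  · intro h4' W h2 h4 h5
    exact nd W (nebot W (by omega)) (netop W (by omega)) (by omega) (fun h => by rw [h2] at h; exact absurd h (by decide)) h4
      (fun h _ => by omega) (by omega)
  · intro W h2 h4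
    exact nd W (nebot W (by omega)) (netop W (by omega)) (by omega) (fun h => by rw [h2] at h; exact absurd h (by decide)) h4
      (fun _ h => by omega) (by omega)
  · intro W h2 h4
    exact nd W (nebot W (by omega)) (netop W (by omega)) (fun h => by rw [h2] at h; exact absurd h.2 (by decide))
      (fun h => by rw [h2] at h; exact absurd h (by decide)) h4 (fun _ h => by omega) (by omega)
  · exact fun _ v hv => Cfsg.Agent.H94.ND8.point_minus (by norm_num) Q hQ v hv
  · exact fun D hD hm => Cfsg.Agent.H94.OmMinus.dec_geo (by norm_num) Q hQ 4 (by norm_num) D hD (fun h => absurd h (by decide))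
      (fun h => absurd h (by norm_num)) (fun _ _ => hm)
  · intro hodd K hK hsa
    exact Cfsg.Agent.H98.Or.or_maximal_low (Q := GeoMax.Ort.toQF hQ) (GeoMax.Ort.toQF_nondeg hQ) K hK hsa
      (GeoMax.Ort.two_ne_zero_of_odd hodd) Nat.prime_two (by simp) (by simp) (fun _ => by simp)
  · intro hodd K hK hsa
    exact Cfsg.Agent.H98.Or.or_maximal_low (Q := GeoMax.Ort.toQF hQ) (GeoMax.Ort.toQF_nondeg hQ) K hK hsa
      (GeoMax.Ort.two_ne_zero_of_odd hodd) Nat.prime_three (by simp) (by simp) (fun h => absurd h (by norm_num))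
  · rintro ⟨hodd, hq⟩ e P f₁ f₂ hf₁ hf₂ hm2 hT
    exact Cfsg.Agent.H94.T34.isMaximalIn_tensor34 (Q := GeoMax.Ort.toQF hQ) (GeoMax.Ort.two_ne_zero_of_odd hodd) hq
      (GeoMax.Ort.toQF_nondeg hQ) e P hf₁ hf₂ hm2 hT
  · exact fun F₀ r P ζ hr _ hc hζ hP => Cfsg.Agent.H94.OmMinus.sub_geo (by norm_num) Q hQ F₀ r hr hc P ζ hζ hP

end Cfsg.Agent.S5873
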