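import Cfsg.Statements.S5947
import Cfsg.Agent.H41.ZsigElt
import Cfsg.Agent.S2904

set_option autoImplicit false
open Cfsg

namespace Cfsg.Agent.S5947

open Cfsg.Agent.H41

/-- a prime power `q` with `q + 1 = 2 ^ a` is prime -/
theorem prime_of_mersenne {p k a : ℕ} (hp : p.Prime) (hk : 0 < k) (h : p ^ k + 1 = 2 ^ a) : (p ^ k).Prime := by
  -- `k = 1`
  have hk1 : k = 1 := by
    by_contra hk1
    have hp2 : p ≠ 2 := by
      rintro rfl
      have h1 : 2 ∣ 2 ^ k := dvd_pow_self 2 hk.ne'
      have ha : a ≠ 0 := by rintro rfl; have : 0 < 2 ^ k := by positivity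
                            omega
      have h2 : 2 ∣ 2 ^ a := dvd_pow_self 2 ha
      omega
    have hodd : Odd p := hp.odd_of_ne_two hp2
    have hp3 : 3 ≤ p := by
      have := hp.two_le
      omega
    rcases Nat.even_or_odd k with he | ho
    · obtain ⟨m, hm⟩ := he
      have h4 : p ^ k % 4 = 1 := by
        rw [hm, ← two_mul, pow_mul, Nat.pow_mod]
        have : p ^ 2 % 4 = 1 := by
          rcases (by have := Nat.odd_iff.mp hodd; omega : p % 4 = 1 ∨ p % 4 = 3) with h | h <;> rw [Nat.pow_mod, h]
        rw [this, one_pow]; rfl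
      have h9 : 9 ≤ p ^ k := by
        calc 9 = 3 ^ 2 := by norm_num
          _ ≤ p ^ 2 := Nat.pow_le_pow_left hp3 2
          _ ≤ p ^ k := Nat.pow_le_pow_right (by omega) (by omega)
      have ha : 2 ≤ a := by
        by_contra hcon
        have : a = 0 ∨ a = 1 := by omega
        rcases this with rfl | rfl <;> omega
      have : 4 ∣ 2 ^ a := by
        have := pow_dvd_pow 2 ha
        simpa using this
      omega
    · -- `p + 1 ∣ p ^ k + 1` with odd cofactor
      have hmul : (p : ℤ) + 1 ∣ (p : ℤ) ^ k + 1 := by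
        have := Odd.add_dvd_pow_add_pow (p : ℤ) 1 ho
        simpa using this
      have hdvd : p + 1 ∣ 2 ^ a := by
        rw [← h]
        exact_mod_cast hmul
      obtain ⟨b, hb, hb'⟩ := (Nat.dvd_prime_pow Nat.prime_two).mp hdvd
      -- p = 2^b - 1
      have hk3 : 3 ≤ k := by
        have := Nat.odd_iff.mp ho
        omega
      have hba : b < a := by
        apply (Nat.pow_lt_pow_iff_right (show 1 < 2 by norm_num)).mp
        rw [← hb', ← h]
        have : p ^ 1 < p ^ k := Nat.pow_lt_pow_right (by omega) (by omega)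
        rw [pow_one] at this
        omega
      have hb2 : 2 ≤ b := by
        by_contra hcon
        have : b = 0 ∨ b = 1 := by omega
        rcases this with rfl | rfl <;> omega
      -- modulo `2^(b+1)`: `p^k ≡ p` since `p^2 ≡ 1`
      have hmod : p ^ k + 1 ≡ p + 1 [MOD 2 ^ (b + 1)] := by
        have h2 : p ^ 2 ≡ 1 [MOD 2 ^ (b + 1)] := by
          have hz : (2 : ℤ) ^ (b + 1) ∣ (p : ℤ) ^ 2 - 1 := by
            have e : (p : ℤ) = 2 ^ b - 1 := by
              have : ((p + 1 : ℕ) : ℤ) = ((2 ^ b : ℕ) : ℤ) := by rw [hb']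
              push_cast at this
              linarith
            refine ⟨2 ^ (b - 1) - 1, ?_⟩
            obtain ⟨c, rfl⟩ : ∃ c, b = c + 1 := ⟨b - 1, by omega⟩
            rw [e]
            simp only [Nat.add_sub_cancel]
            ring
          rw [Nat.modEq_iff_dvd]
          have h5 : ((1 : ℕ) : ℤ) - ((p ^ 2 : ℕ) : ℤ) = -((p : ℤ) ^ 2 - 1) := by push_cast; ring
          rw [h5, dvd_neg]
          exact_mod_cast hz
        obtain ⟨m, hm⟩ := ho
        have h3 : p ^ k ≡ p [MOD 2 ^ (b + 1)] := by
          rw [hm, pow_succ p (2 * m), pow_mul]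
          have := (h2.pow m).mul_right p
          simpa using this
        exact h3.add_right 1
      rw [h, hb'] at hmod
      have h6 : 2 ^ a ≡ 0 [MOD 2 ^ (b + 1)] := by
        rw [Nat.modEq_zero_iff_dvd]
        exact pow_dvd_pow 2 (by omega)
      have h7 := (h6.symm.trans hmod).symm
      rw [Nat.modEq_zero_iff_dvd] at h7
      have := Nat.le_of_dvd (by positivity) h7
      have h8 : 2 ^ b < 2 ^ (b + 1) := Nat.pow_lt_pow_right (by norm_num) (by omega)
      omega
  rw [hk1, pow_one]; exact hp

/-- Let F ⊆ K be finite fields with |F| = q and [K : F] = n ≥ 2, regard K as an n-dimensional F-vector space, and let M ≤ GL_F(K) be the Singer group of multiplications by non-zero elements of K (cyclic of order q^n − 1). Assume (n, q) ≠ (6, 2), and that it is not the case that n = 2 with q a prime such that q + 1 is a power of 2. Then every abelian subgroup of GL_F(K) of order q^n − 1 is conjugate to M. -/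
theorem result {F K : Type*} [Field F] [Fintype F] [Field K] [Fintype K] [Algebra F K] (n : ℕ) (hn : 2 ≤ n) (hdim : Module.finrank F K = n)
    (hex1 : ¬ (n = 6 ∧ Fintype.card F = 2))
    (hex2 : ¬ (n = 2 ∧ (Fintype.card F).Prime ∧ ∃ a : ℕ, Fintype.card F + 1 = 2 ^ a))
    (U : Subgroup (Module.End F K)ˣ) (hU : IsMulCommutative U) (hcard : Nat.card U = Fintype.card K - 1) :
    ∃ g : (Module.End F K)ˣ, U.map (MulAut.conj g).toMonoidHom = (Units.map ((Algebra.lmul F K : K →ₐ[F] Module.End F K) : K →* Module.End F K)).range := by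
  classical
  have hq1 : 1 < Fintype.card F := Fintype.one_lt_card
  have hFK : Fintype.card K = Fintype.card F ^ n := by
    rw [← hdim]; exact Module.card_eq_pow_finrank
  obtain ⟨p, hp⟩ := CharP.exists F
  obtain ⟨k, hpp, hcardF⟩ := FiniteField.card F p
  obtain ⟨r, hr, hrd, hrk⟩ := Cfsg.Agent.S2904.result (Fintype.card F) n hq1 (by omega) (fun h => hex1 ⟨h.2, h.1⟩) (by
    rintro ⟨h2, m, hm⟩
    refine hex2 ⟨h2, ?_, m, hm⟩
    rw [hcardF] at hm ⊢
    exact prime_of_mersenne hpp k.pos hm)
  have hrF : (r : F) ≠ 0 := by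
    intro h
    have h1 : p ∣ r := (CharP.cast_eq_zero_iff F p r).mp h
    have h2 : p = r := (Nat.prime_dvd_prime_iff_eq hpp hr).mp h1
    have h3 : r ∣ Fintype.card F ^ n := by
      rw [← h2, hcardF, ← pow_mul]
      exact dvd_pow_self p (Nat.mul_ne_zero k.ne_zero (by omega))
    have h4 : r ∣ 1 := by
      have h5 := Nat.dvd_sub h3 hrd
      have h6 : 0 < Fintype.card F ^ n := by positivity
      have h7 : Fintype.card F ^ n - (Fintype.card F ^ n - 1) = 1 := by omega
      rwa [h7] at h5
    exact hr.one_lt.ne' (Nat.dvd_one.mp h4)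
  have hfact : Fact r.Prime := ⟨hr⟩
  have hUfin : Finite U := Nat.finite_of_card_ne_zero (by
    rw [hcard, hFK]
    have : 1 < Fintype.card F ^ n := Nat.one_lt_pow (by omega) hq1
    omega)
  obtain ⟨x, hx⟩ := exists_prime_orderOf_dvd_card' (G := U) r (by rw [hcard, hFK]; exact hrd)
  obtain ⟨X, hX⟩ : ∃ X : Module.End F K, X = ((x : (Module.End F K)ˣ) : Module.End F K) := ⟨_, rfl⟩
  have hXr : X ^ r = 1 := by
    have h1 : x ^ r = 1 := by rw [← hx]; exact pow_orderOf_eq_one x
    have h2 := congrArg (fun y : U => ((y : (Module.End F K)ˣ) : Module.End F K)) h1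
    simp only [SubmonoidClass.coe_pow, Units.val_pow_eq_pow_val, OneMemClass.coe_one, Units.val_one] at h2
    rw [hX, h2]
  have hX1 : X ≠ 1 := by
    intro h
    have h1 : x = 1 := by
      apply Subtype.ext
      apply Units.ext
      rw [← hX, h]; simp
    rw [h1, orderOf_one] at hx
    exact hr.one_lt.ne hx
  obtain ⟨hirr, hdeg⟩ := minpoly_of_ppd X r hr hXr hX1 (by
    intro j hj hj'
    rw [Nat.card_eq_fintype_card]
    exact hrk j hj (by omega)) hrF
  obtain ⟨e, he⟩ := exists_field_str X hirr hdeg K rfl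
  obtain ⟨g, hg1, hg2⟩ : ∃ g : (Module.End F K)ˣ, (∀ v, (g : Module.End F K) v = e.symm v) ∧
      (∀ v, ((g⁻¹ : (Module.End F K)ˣ) : Module.End F K) v = e v) := by
    refine ⟨⟨(e.symm : K →ₗ[F] K), (e : K →ₗ[F] K), ?_, ?_⟩, fun v => rfl, fun v => rfl⟩
    · ext v; simp
    · ext v; simp
  refine ⟨g, ?_⟩
  apply Subgroup.eq_of_le_of_card_ge
  · rintro _ ⟨u, hu, rfl⟩
    have hux : ((u : (Module.End F K)ˣ) : Module.End F K) * X = X * (u : Module.End F K) := by
      have h1 : (⟨u, hu⟩ : U) * x = x * ⟨u, hu⟩ := hU.is_comm.comm _ _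
      have h2 := congrArg (fun y : U => ((y : (Module.End F K)ˣ) : Module.End F K)) h1
      simp only [Subgroup.coe_mul, Units.val_mul] at h2
      rw [hX]; exact h2
    obtain ⟨k, hk⟩ := he _ hux
    have hk0 : k ≠ 0 := by
      rintro rfl
      have h1 := hk 1
      rw [zero_mul, map_zero] at h1
      have h2 : e 1 = 0 := by
        have h3 := congrArg (((u⁻¹ : (Module.End F K)ˣ) : Module.End F K)) h1
        rw [← Module.End.mul_apply, ← Units.val_mul, inv_mul_cancel, Units.val_one, Module.End.one_apply, map_zero] at h3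
        exact h3
      rw [LinearEquiv.map_eq_zero_iff] at h2
      exact one_ne_zero h2
    refine ⟨Units.mk0 k hk0, ?_⟩
    apply Units.ext
    ext v
    show k * v = (g * u * g⁻¹ : (Module.End F K)ˣ).val v
    rw [Units.val_mul, Units.val_mul, Module.End.mul_apply, Module.End.mul_apply, hg2, hk, hg1, LinearEquiv.symm_apply_apply]
  · have h1 : Nat.card (U.map (MulAut.conj g).toMonoidHom) = Nat.card U :=
      Nat.card_congr (U.equivMapOfInjective _ (MulAut.conj g).injective).toEquiv.symm
    rw [h1, hcard]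
    have h2 : Nat.card (Units.map ((Algebra.lmul F K : K →ₐ[F] Module.End F K) : K →* Module.End F K)).range ≤ Nat.card Kˣ :=
      Nat.card_le_card_of_surjective _ (MonoidHom.rangeRestrict_surjective _)
    rw [Nat.card_units, Nat.card_eq_fintype_card (α := K)] at h2
    exact h2

end Cfsg.Agent.S5947
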